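import Mathlib.GroupTheory.Abelianization.Defs
import Mathlib.Algebra.Group.TypeTags.Basic
import Cfsg.Agent.Lib.Core.Coprime
import Cfsg.Agent.Lib.Core.MinNormal
import Mathlib.Data.ZMod.Basic
import Mathlib.Tactic

/-! A noncyclic elementary abelian operator group and coprime generation by centralizers. -/

namespace CfsgLib.LocalEven

open Subgroup
open scoped IsMulCommutative

section Trick

variable {V : Type*} [CommGroup V] {p : ℕ} [hp : Fact p.Prime]

private theorem pow_val {A : Type*} [Monoid A] (c : A) (hc : c ^ p = 1) (n : ℕ) :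
    c ^ (n : ZMod p).val = c ^ n := by
  rw [ZMod.val_natCast]
  conv_rhs => rw [← Nat.mod_add_div n p, pow_add, pow_mul, hc, one_pow, mul_one]

private theorem norm_fixed {A : Type*} [CommGroup A] (f : A →* Monoid.End V) (c : A) (hc : c ^ p = 1)
    (v : V) : f c (∏ i : ZMod p, f (c ^ i.val) v) = ∏ i : ZMod p, f (c ^ i.val) v := by
  rw [map_prod]
  refine Fintype.prod_equiv (Equiv.addRight 1) _ _ fun i => ?_
  show (f c * f (c ^ i.val)) v = f (c ^ (i + 1).val) v
  rw [← map_mul, ← pow_succ', ← pow_val c hc (i.val + 1)]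
  simp

/-- In an abelian group with an action of a group containing a four-group analogue, every `p`-th power
is a product of elements fixed by nontrivial operators. -/
theorem pow_mem_of_fixed_mem {A : Type*} [CommGroup A] (f : A →* Monoid.End V) {a b : A}
    (ha : a ^ p = 1) (hb : b ^ p = 1) (hb1 : b ≠ 1) (hab : ∀ k : ℕ, a * b ^ k ≠ 1) (W : Subgroup V)
    (hW : ∀ c : A, c ≠ 1 → ∀ v, f c v = v → v ∈ W) (v : V) : v ^ p ∈ W := by
  let g : ZMod p → ZMod p → V := fun i j => f (a ^ i.val * b ^ j.val) v
  have hline : ∀ k : ZMod p, (∏ i, g i (i * k)) ∈ W := by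
    intro k
    have hc : (a * b ^ k.val) ^ p = 1 := by rw [mul_pow, ha, one_mul, ← pow_mul, mul_comm, pow_mul, hb, one_pow]
    have : ∀ i : ZMod p, g i (i * k) = f ((a * b ^ k.val) ^ i.val) v := fun i => by
      simp only [g]
      rw [mul_pow, ← pow_mul b, ← pow_val b hb (k.val * i.val)]
      simp [mul_comm]
    rw [Finset.prod_congr rfl fun i _ => this i]
    exact hW _ (hab _) _ (norm_fixed f _ hc v)
  have h0 : (∏ j, g 0 j) ∈ W := by
    have : ∀ j : ZMod p, g 0 j = f (b ^ j.val) v := fun j => by simp [g]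
    rw [Finset.prod_congr rfl fun j _ => this j]
    exact hW _ hb1 _ (norm_fixed f _ hb v)
  have hall : (∏ i, ∏ j, g i j) ∈ W := by
    refine hW a ?_ _ ?_
    · simpa using hab 0
    · rw [map_prod]
      refine Fintype.prod_equiv (Equiv.addRight 1) _ _ fun i => ?_
      rw [map_prod]
      refine Finset.prod_congr rfl fun j _ => ?_
      show (f a * f (a ^ i.val * b ^ j.val)) v = f (a ^ (i + 1).val * b ^ j.val) v
      rw [← map_mul, ← mul_assoc, ← pow_succ', ← pow_val a ha (i.val + 1)]
      simp
  have key : (∏ k, ∏ i, g i (i * k)) * ∏ j, g 0 j = v ^ p * ∏ i, ∏ j, g i j := by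
    rw [Finset.prod_comm, ← Finset.mul_prod_erase _ _ (Finset.mem_univ (0 : ZMod p)),
      ← Finset.mul_prod_erase _ (fun i => ∏ j, g i j) (Finset.mem_univ (0 : ZMod p))]
    have e1 : (∏ k : ZMod p, g 0 (0 * k)) = v ^ p := by
      simp [g]
    have e2 : ∏ i ∈ Finset.univ.erase 0, ∏ k, g i (i * k) = ∏ i ∈ Finset.univ.erase 0, ∏ j, g i j :=
      Finset.prod_congr rfl fun i hi =>
        Fintype.prod_equiv (Equiv.mulLeft₀ i (Finset.ne_of_mem_erase hi)) _ _ fun k => rfl
    rw [e1, e2]
    rw [mul_assoc, mul_comm (∏ i ∈ Finset.univ.erase (0 : ZMod p), ∏ j, g i j)]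
  have h1 : v ^ p * ∏ i, ∏ j, g i j ∈ W := key ▸ mul_mem (prod_mem fun k _ => hline k) h0
  simpa using mul_mem h1 (inv_mem hall)

end Trick

variable {G : Type*} [Group G] [Finite G] {p : ℕ} [hp : Fact p.Prime]

private theorem le_of_centralizers_le_solvable {A Y : Subgroup G} [IsMulCommutative A]
    (hexp : ∀ a ∈ A, a ^ p = 1) (hnc : p ^ 2 ≤ Nat.card A) (N : Subgroup G)
    (hs : Group.IsSolvable N) (hAN : A ≤ normalizer (N : Set G)) (hN : ¬ p ∣ Nat.card N)
    (h : ∀ a ∈ A, a ≠ 1 → N ⊓ centralizer ({a} : Set G) ≤ Y) : N ≤ Y := by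
  induction hn : Nat.card N using Nat.strong_induction_on generalizing N with
  | _ n ih =>
    by_cases hbot : N = ⊥
    · simp [hbot]
    subst hn
    set M : Subgroup G := ⁅N, N⁆ with hMdef
    have hMlt : M < N := CfsgLib.Core.commutator_self_lt hs hbot
    have hAM : A ≤ normalizer (M : Set G) := by
      intro a ha
      rw [CfsgLib.Core.mem_normalizer_iff_conj_smul_eq, CfsgLib.Core.conj_smul_eq_map, hMdef,
        Subgroup.map_commutator, ← CfsgLib.Core.conj_smul_eq_map,
        CfsgLib.Core.mem_normalizer_iff_conj_smul_eq.mp (hAN ha)]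
    have hMY : M ≤ Y := by
      have hlt : Nat.card M < Nat.card N :=
        lt_of_le_of_ne (card_le_of_le hMlt.le) fun e => hMlt.ne (eq_of_le_of_card_ge hMlt.le e.ge)
      exact ih _ hlt M (Group.isSolvable_of_isSolvable_injective (f := inclusion hMlt.le)
        (inclusion_injective _)) hAM
        (fun hd => hN (hd.trans (card_dvd_of_le hMlt.le)))
        (fun a ha ha1 => le_trans (inf_le_inf_right _ hMlt.le) (h a ha ha1)) rfl
    -- the action on the abelianization
    let π : ↥N →* Abelianization ↥N := Abelianization.of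
    let c : ↥A → (↥N →* ↥N) := fun a =>
      ((MulAut.conj (a : G)).toMonoidHom.comp N.subtype).codRestrict N fun x => by
        simpa using CfsgLib.Core.conj_mem_of_le_normalizer hAN a.2 x.2
    let f : ↥A →* Monoid.End (Abelianization ↥N) :=
      { toFun := fun a => Abelianization.lift (π.comp (c a))
        map_one' := by
          apply Abelianization.hom_ext
          ext x
          show Abelianization.lift (π.comp (c 1)) (π x) = π x
          rw [Abelianization.lift_apply_of]
          exact congrArg π (Subtype.ext (by simp [c]))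
        map_mul' := fun a b => by
          apply Abelianization.hom_ext
          ext x
          show Abelianization.lift (π.comp (c (a * b))) (π x) =
            Abelianization.lift (π.comp (c a)) (Abelianization.lift (π.comp (c b)) (π x))
          rw [Abelianization.lift_apply_of, Abelianization.lift_apply_of, MonoidHom.comp_apply,
            MonoidHom.comp_apply, Abelianization.lift_apply_of]
          exact congrArg π (Subtype.ext (by simp [c, mul_assoc])) }
    let W : Subgroup (Abelianization ↥N) := (Y.subgroupOf N).map π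
    have hker : π.ker ≤ Y.subgroupOf N := by
      rw [show π.ker = commutator ↥N from Abelianization.ker_of ↥N]
      intro x hx
      apply hMY
      have := mem_map_of_mem N.subtype hx
      rwa [_root_.commutator_def, map_commutator, ← MonoidHom.range_eq_map, range_subtype] at this
    have hW : ∀ a : ↥A, a ≠ 1 → ∀ v, f a v = v → v ∈ W := by
      intro a ha v hv
      obtain ⟨x, rfl⟩ : ∃ x, π x = v := QuotientGroup.mk_surjective v
      have hpows : ∀ n : ℕ, π (c (a ^ n) x) = π x := fun n => by
        have : f (a ^ n) (π x) = π x := by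
          induction n with
          | zero => rw [pow_zero, map_one]; rfl
          | succ n ihn => rw [pow_succ, map_mul]; show f (a ^ n) (f a (π x)) = π x; rw [hv, ihn]
        exact (Abelianization.lift_apply_of (π.comp (c (a ^ n))) x).symm.trans this
      have hAZ : zpowers (a : G) ≤ A := zpowers_le.mpr a.2
      obtain ⟨m, hm, hfix⟩ := CfsgLib.Core.exists_centralizing_in_coset (A := zpowers (a : G)) (N := M)
        (hAZ.trans hAM) (by
          refine Nat.Coprime.coprime_dvd_left (?_ : Nat.card (zpowers (a : G)) ∣ p) ?_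
          · rw [Nat.card_zpowers]; exact orderOf_dvd_of_pow_eq_one (hexp _ a.2)
          · exact hp.out.coprime_iff_not_dvd.mpr fun hd => hN (hd.trans (card_dvd_of_le hMlt.le)))
        (Or.inl inferInstance) (k := (x : G)) (by
          intro z hz
          obtain ⟨n, rfl⟩ := (isOfFinOrder_of_finite (a : G)).mem_powers_iff_mem_zpowers.mpr hz
          have hk : x⁻¹ * c (a ^ n) x ∈ π.ker := by
            rw [MonoidHom.mem_ker, map_mul, map_inv, hpows, inv_mul_cancel]
          rw [show π.ker = commutator ↥N from Abelianization.ker_of ↥N] at hk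
          have := mem_map_of_mem N.subtype hk
          rw [_root_.commutator_def, map_commutator, ← MonoidHom.range_eq_map, range_subtype] at this
          simpa [c, ← map_pow, hMdef] using this)
      have hxmN : (x : G) * m ∈ N := N.mul_mem x.2 (hMlt.le hm)
      have hy : (⟨_, hxmN⟩ : ↥N) ∈ Y.subgroupOf N := by
        refine h a a.2 (fun e => ha (Subtype.ext e)) ⟨hxmN, ?_⟩
        exact mem_centralizer_singleton_iff.mpr
          ((mem_centralizer_iff.mp hfix _ (mem_zpowers _)).symm)
      have hx : x ∈ Y.subgroupOf N := by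
        have h2 := mul_mem hy (inv_mem (show (⟨m, hMlt.le hm⟩ : ↥N) ∈ Y.subgroupOf N from hMY hm))
        have e : (⟨_, hxmN⟩ : ↥N) * (⟨m, hMlt.le hm⟩ : ↥N)⁻¹ = x := Subtype.ext (by simp)
        rwa [e] at h2
      exact mem_map_of_mem π hx
    -- two independent elements
    obtain ⟨b, hb, hb1⟩ : ∃ b ∈ A, b ≠ 1 := by
      by_contra hc
      push Not at hc
      have : A = ⊥ := (eq_bot_iff_forall A).mpr hc
      rw [this, card_bot] at hnc
      nlinarith [hp.out.two_le]
    obtain ⟨a, ha, hab⟩ : ∃ a ∈ A, a ∉ zpowers b := by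
      by_contra hc
      push Not at hc
      have h1 : Nat.card A ≤ Nat.card (zpowers b) := card_le_of_le hc
      rw [Nat.card_zpowers] at h1
      have := Nat.le_of_dvd hp.out.pos (orderOf_dvd_of_pow_eq_one (hexp b hb))
      nlinarith [hp.out.two_le]
    intro x hx
    have hpw := pow_mem_of_fixed_mem (A := ↥A) f (a := ⟨a, ha⟩) (b := ⟨b, hb⟩)
      (Subtype.ext (hexp a ha)) (Subtype.ext (hexp b hb)) (fun e => hb1 (congrArg Subtype.val e))
      (fun k e => hab (by
        have e' : a * b ^ k = 1 := by simpa using congrArg Subtype.val e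
        rw [eq_inv_of_mul_eq_one_left e']
        exact inv_mem (pow_mem (mem_zpowers b) k))) W hW (π ⟨x, hx⟩)
    rw [← map_pow] at hpw
    obtain ⟨y, hy, hyx⟩ := hpw
    have hxp : (⟨x, hx⟩ : ↥N) ^ p ∈ Y.subgroupOf N := by
      have h2 := mul_mem hy (hker (show y⁻¹ * (⟨x, hx⟩ : ↥N) ^ p ∈ π.ker by
        rw [MonoidHom.mem_ker, map_mul, map_inv, hyx, inv_mul_cancel]))
      simpa using h2
    have hcop : Nat.Coprime p (orderOf x) :=
      hp.out.coprime_iff_not_dvd.mpr fun hd => hN (hd.trans (N.orderOf_dvd_natCard hx))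
    obtain ⟨k, hk⟩ := exists_pow_eq_self_of_coprime (x := x) (n := p) hcop
    rw [← hk]
    exact Y.pow_mem hxp k

/-- Coprime generation: `N` is generated by the centralizers of the nontrivial elements of a
noncyclic elementary abelian `p`-group of operators. -/
theorem le_of_centralizers_le {A N Y : Subgroup G} [IsMulCommutative A]
    (hexp : ∀ a ∈ A, a ^ p = 1) (hnc : p ^ 2 ≤ Nat.card A)
    (hAN : A ≤ normalizer (N : Set G)) (hN : ¬ p ∣ Nat.card N)
    (h : ∀ a ∈ A, a ≠ 1 → N ⊓ centralizer ({a} : Set G) ≤ Y) : N ≤ Y := by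
  have hcop : (Nat.card A).Coprime (Nat.card N) := by
    have hA : IsPGroup p A := fun a => ⟨1, Subtype.ext (by simpa using hexp _ a.2)⟩
    obtain ⟨k, hk⟩ := hA.exists_card_eq
    rw [hk]
    exact Nat.Coprime.pow_left _ (hp.out.coprime_iff_not_dvd.mpr hN)
  have hsol : Group.IsSolvable A := inferInstance
  rw [← subgroupOf_eq_top]
  refine CfsgLib.Core.eq_top_of_forall_exists_sylow_le _ fun q hq => ?_
  haveI := Fact.mk hq
  obtain ⟨P, hP⟩ := CfsgLib.Core.exists_invariant_sylow hAN hcop (Or.inl hsol) q
  intro _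
  refine ⟨P, ?_⟩
  have hPN : (P : Subgroup N).map N.subtype ≤ N := map_subtype_le _
  haveI : Group.IsNilpotent ↥((P : Subgroup N).map N.subtype) := (P.2.map _).isNilpotent
  have := le_of_centralizers_le_solvable hexp hnc _ inferInstance hP
    (fun hd => hN (hd.trans (card_dvd_of_le hPN)))
    (fun a ha ha1 => le_trans (inf_le_inf_right _ hPN) (h a ha ha1))
  exact fun x hx => this (mem_map_of_mem _ hx)

end CfsgLib.LocalEven
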