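import Mathlib.GroupTheory.Sylow
import Mathlib.GroupTheory.Nilpotent
import Mathlib.GroupTheory.PGroup

/-! Small general lemmas for the LocalEven area. -/

namespace CfsgLib.LocalEven

variable {G : Type*} [Group G]

lemma mem_conj {g x : G} {H : Subgroup G} :
    x ∈ H.map (MulAut.conj g).toMonoidHom ↔ g⁻¹ * x * g ∈ H := by
  constructor
  · rintro ⟨y, hy, rfl⟩; simpa [mul_assoc] using hy
  · intro h; exact ⟨g⁻¹ * x * g, h, by simp [mul_assoc]⟩

lemma conj_mem_conj {g x : G} {H : Subgroup G} (hx : x ∈ H) :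
    g * x * g⁻¹ ∈ H.map (MulAut.conj g).toMonoidHom := by
  simpa [mem_conj, mul_assoc] using hx

lemma conj_one (H : Subgroup G) : H.map (MulAut.conj (1 : G)).toMonoidHom = H := by
  ext x; simp [mem_conj]

lemma conj_conj (a b : G) (H : Subgroup G) :
    (H.map (MulAut.conj b).toMonoidHom).map (MulAut.conj a).toMonoidHom
      = H.map (MulAut.conj (a * b)).toMonoidHom := by
  ext x; simp only [mem_conj, mul_inv_rev, mul_assoc]

lemma conj_ne_bot {g : G} {H : Subgroup G} (h : H ≠ ⊥) :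
    H.map (MulAut.conj g).toMonoidHom ≠ ⊥ := by
  rwa [Ne, Subgroup.map_eq_bot_iff_of_injective _ (f := (MulAut.conj g).toMonoidHom) (MulAut.conj g).injective]

lemma mem_normalizer_conj_iff {g : G} {H : Subgroup G} :
    g ∈ Subgroup.normalizer (H : Set G) ↔ H.map (MulAut.conj g).toMonoidHom = H := by
  constructor
  · intro h
    ext x
    rw [mem_conj]
    exact ((Subgroup.mem_normalizer_iff''.mp h) x).symm
  · intro h
    rw [Subgroup.mem_normalizer_iff'']
    intro x
    rw [← mem_conj, h]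

lemma normalizer_conj (g : G) (H : Subgroup G) :
    Subgroup.normalizer ((H.map (MulAut.conj g).toMonoidHom : Subgroup G) : Set G)
      = (Subgroup.normalizer (H : Set G)).map (MulAut.conj g).toMonoidHom := by
  ext x
  rw [mem_conj (g := g), mem_normalizer_conj_iff, mem_normalizer_conj_iff, conj_conj]
  constructor
  · intro h
    rw [mul_assoc, ← conj_conj g⁻¹ (x * g), h, conj_conj, inv_mul_cancel, conj_one]
  · intro h
    have := congrArg (fun K : Subgroup G => K.map (MulAut.conj g).toMonoidHom) h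
    simpa only [conj_conj, mul_assoc, mul_inv_cancel_left] using this

lemma sylow_conj {p : ℕ} [Fact p.Prime] [Finite G] (P Q : Sylow p G) :
    ∃ g : G, (P : Subgroup G).map (MulAut.conj g).toMonoidHom = Q := by
  obtain ⟨g, rfl⟩ := MulAction.exists_smul_eq G P Q
  refine ⟨g, ?_⟩
  rw [Sylow.coe_subgroup_smul]
  rfl

lemma exists_sylow_conj_le {p : ℕ} [Fact p.Prime] [Finite G] (P : Sylow p G) {A : Subgroup G}
    (hA : IsPGroup p A) : ∃ g : G, A.map (MulAut.conj g).toMonoidHom ≤ P := by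
  obtain ⟨Q, hQ⟩ := hA.exists_le_sylow
  obtain ⟨g, hg⟩ := sylow_conj Q P
  exact ⟨g, hg ▸ Subgroup.map_mono hQ⟩

lemma exists_order_p {p : ℕ} [hp : Fact p.Prime] [Finite G] {A : Subgroup G}
    (hA : IsPGroup p A) (h : A ≠ ⊥) : ∃ x ∈ A, orderOf x = p := by
  haveI : Nontrivial A := (Subgroup.nontrivial_iff_ne_bot A).mpr h
  obtain ⟨n, hn0, hn⟩ := hA.nontrivial_iff_card.mp this
  have : p ∣ Nat.card A := hn ▸ dvd_pow_self p hn0.ne'
  obtain ⟨x, hx⟩ := exists_prime_orderOf_dvd_card' p this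
  exact ⟨x, x.2, by rw [Subgroup.orderOf_coe, hx]⟩

lemma isPGroup_zpowers {p : ℕ} [Fact p.Prime] {x : G} (hx : orderOf x = p) :
    IsPGroup p (Subgroup.zpowers x) :=
  IsPGroup.of_card (n := 1) (by rw [Nat.card_zpowers, hx, pow_one])

lemma zpowers_ne_bot {p : ℕ} [hp : Fact p.Prime] {x : G} (hx : orderOf x = p) :
    Subgroup.zpowers x ≠ ⊥ := by
  rw [Ne, Subgroup.zpowers_eq_bot, ← orderOf_eq_one_iff, hx]
  exact hp.out.ne_one

/-- In a finite p-group `Q` a proper subgroup is proper in its normalizer. -/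
lemma eq_of_normalizer_inf_le {p : ℕ} [Fact p.Prime] [Finite G] {A Q : Subgroup G}
    (hQ : IsPGroup p Q) (hA : A ≤ Q)
    (h : Q ⊓ Subgroup.normalizer (A : Set G) ≤ A) : A = Q := by
  by_contra hne
  have hnc : NormalizerCondition Q :=
    haveI := IsPGroup.isNilpotent hQ
    Group.normalizerCondition_of_isNilpotent
  have hlt : A.subgroupOf Q < ⊤ := by
    rw [lt_top_iff_ne_top, Ne, Subgroup.subgroupOf_eq_top]
    exact fun h' => hne (le_antisymm hA h')
  obtain ⟨x, hx, hxA⟩ := SetLike.exists_of_lt (hnc _ hlt)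
  apply hxA
  rw [← Subgroup.subgroupOf_normalizer_eq hA] at hx
  rw [Subgroup.mem_subgroupOf] at hx ⊢
  exact h ⟨x.2, hx⟩

end CfsgLib.LocalEven

namespace CfsgLib.LocalEven

variable {G : Type*} [Group G]

lemma dvd_card_of_mem {p : ℕ} {H : Subgroup G} {x : G} (hxH : x ∈ H) (hx : orderOf x = p) :
    p ∣ Nat.card H := by
  subst hx; exact Subgroup.orderOf_dvd_natCard _ hxH

/-- `[R N : R]` divides `|N|` when `N` is normal. -/
lemma relIndex_sup_dvd_card [Finite G] (R N : Subgroup G) [N.Normal] :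
    R.relIndex (R ⊔ N) ∣ Nat.card N := by
  have h1 : Nat.card R * R.relIndex (R ⊔ N) = Nat.card N * N.relIndex R := by
    rw [← Subgroup.relIndex_bot_left R, ← Subgroup.relIndex_bot_left N,
      ← Subgroup.relIndex_sup_right R N,
      Subgroup.relIndex_mul_relIndex _ _ _ bot_le le_sup_left,
      Subgroup.relIndex_mul_relIndex _ _ _ bot_le le_sup_right]
  obtain ⟨k, hk⟩ := Subgroup.relIndex_dvd_card N R
  refine ⟨k, Nat.eq_of_mul_eq_mul_left (Nat.card_pos (α := R)) ?_⟩
  calc Nat.card R * Nat.card N = Nat.card N * (N.relIndex R * k) := by rw [← hk, mul_comm]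
    _ = _ := by rw [← mul_assoc, ← h1, mul_assoc]

end CfsgLib.LocalEven
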