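import Cfsg.Prelude.Def_EvenType
import Cfsg.Agent.Lib.LocalEven.Basic

/-! Equivalent forms of `Cfsg.IsStronglyPEmbedded`. -/

namespace CfsgLib.LocalEven

variable {G : Type*} [Group G] [Finite G] {p : ℕ} [hp : Fact p.Prime]

lemma not_pRankLE_zero_iff {Q : Subgroup G} (hQ : IsPGroup p Q) :
    ¬ Cfsg.PRankLE p 0 Q ↔ Q ≠ ⊥ := by
  constructor
  · intro h hb
    apply h
    intro A _ _
    subst hb
    have : Nat.card A ≤ Nat.card (⊥ : Subgroup G) :=
      Nat.card_le_card_of_injective A.subtype A.subtype_injective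
    simpa using this
  · intro hne h
    obtain ⟨x, hxQ, hx⟩ := exists_order_p hQ hne
    have h' := h (Subgroup.zpowers (⟨x, hxQ⟩ : Q)) inferInstance (by
      intro a ha
      obtain ⟨n, rfl⟩ := Subgroup.mem_zpowers_iff.mp ha
      have : (⟨x, hxQ⟩ : Q) ^ p = 1 := Subtype.ext (by simpa [← hx] using pow_orderOf_eq_one x)
      rw [← zpow_natCast, ← zpow_mul, mul_comm, zpow_mul, zpow_natCast, this, one_zpow])
    rw [Nat.card_zpowers, pow_zero, Subgroup.orderOf_mk, hx] at h'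
    exact absurd hp.out.two_le (by omega)

lemma kCore_le_iff {P : Subgroup G} (hP : IsPGroup p P) {Y : Subgroup G} :
    Cfsg.kGeneratedCore p 1 P ≤ Y ↔
      ∀ Q : Subgroup G, Q ≤ P → Q ≠ ⊥ → Subgroup.normalizer (Q : Set G) ≤ Y := by
  unfold Cfsg.kGeneratedCore
  rw [iSup_le_iff]
  constructor
  · intro h Q hQ hne
    exact h ⟨Q, hQ, (not_pRankLE_zero_iff (hP.to_le hQ)).mpr hne⟩
  · rintro h ⟨Q, hQ, hne⟩
    exact h Q hQ ((not_pRankLE_zero_iff (hP.to_le hQ)).mp hne)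

/-- The normalizer form: normalizers of the nontrivial `p`-subgroups of `Y` lie in `Y`. -/
def ContainsPNormalizers (p : ℕ) (Y : Subgroup G) : Prop :=
  ∀ A : Subgroup G, A ≤ Y → IsPGroup p A → A ≠ ⊥ → Subgroup.normalizer (A : Set G) ≤ Y

lemma sylow_ne_bot (hdvd : p ∣ Nat.card G) (P : Sylow p G) : (P : Subgroup G) ≠ ⊥ :=
  P.ne_bot_of_dvd_card hdvd

lemma le_of_meet_ne_bot {Y : Subgroup G} (h : ContainsPNormalizers p Y) {Q : Subgroup G}
    (hQ : IsPGroup p Q) (hne : Q ⊓ Y ≠ ⊥) : Q ≤ Y := by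
  have : Q ⊓ Y = Q := eq_of_normalizer_inf_le hQ inf_le_left
    (le_inf inf_le_left (inf_le_right.trans (h _ inf_le_right (hQ.to_le inf_le_left) hne)))
  exact this ▸ inf_le_right

lemma exists_order_p_mem {Y : Subgroup G} (hY : p ∣ Nat.card Y) : ∃ x ∈ Y, orderOf x = p := by
  obtain ⟨x, hx⟩ := exists_prime_orderOf_dvd_card' p hY
  exact ⟨x, x.2, by rw [Subgroup.orderOf_coe, hx]⟩

lemma exists_sylow_le {Y : Subgroup G} (h : ContainsPNormalizers p Y) (hY : p ∣ Nat.card Y) :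
    ∃ P : Sylow p G, (P : Subgroup G) ≤ Y ∧ (P : Subgroup G) ≠ ⊥ := by
  obtain ⟨x, hxY, hx⟩ := exists_order_p_mem hY
  obtain ⟨P, hP⟩ := (isPGroup_zpowers hx).exists_le_sylow
  have hne : (P : Subgroup G) ⊓ Y ≠ ⊥ := fun hb => zpowers_ne_bot hx
    (le_bot_iff.mp (hb ▸ le_inf hP (Subgroup.zpowers_le.mpr hxY)))
  exact ⟨P, le_of_meet_ne_bot h P.2 hne, fun hb => hne (by rw [hb, bot_inf_eq])⟩

lemma mem_of_sylow_conj_le {Y : Subgroup G} (h : ContainsPNormalizers p Y) (P : Sylow p G)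
    (hP1 : (P : Subgroup G) ≠ ⊥) (hP : (P : Subgroup G) ≤ Y) {g : G}
    (hg : (P : Subgroup G).map (MulAut.conj g).toMonoidHom ≤ Y) : g ∈ Y := by
  obtain ⟨y, hy⟩ := sylow_conj (P.subtype hP) ((g • P).subtype (by rwa [Sylow.coe_subgroup_smul]))
  have hN : (y : G)⁻¹ * g ∈ Subgroup.normalizer ((P : Subgroup G) : Set G) := by
    rw [mem_normalizer_conj_iff, ← conj_conj]
    have hy' := congrArg (fun K : Subgroup Y => K.map Y.subtype) hy
    have e : ∀ K : Subgroup Y, (K.map (MulAut.conj y).toMonoidHom).map Y.subtype =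
        (K.map Y.subtype).map (MulAut.conj (y : G)).toMonoidHom := fun K => by
      rw [Subgroup.map_map, Subgroup.map_map]; rfl
    simp only [e, Sylow.coe_subtype, Subgroup.map_subgroupOf_eq_of_le hP] at hy'
    rw [Subgroup.map_subgroupOf_eq_of_le (by rwa [Sylow.coe_subgroup_smul]),
      Sylow.coe_subgroup_smul] at hy'
    change _ = (P : Subgroup G).map (MulAut.conj g).toMonoidHom at hy'
    rw [← hy', conj_conj, inv_mul_cancel, conj_one]
  have := mul_mem y.2 (h _ hP P.2 hP1 hN)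
  simpa using this

lemma mem_of_conj_mem {Y : Subgroup G} (h : ContainsPNormalizers p Y) {x : G}
    (hx : orderOf x = p) (hxY : x ∈ Y) {g : G} (hg : g * x * g⁻¹ ∈ Y) : g ∈ Y := by
  obtain ⟨P, hP⟩ := (isPGroup_zpowers hx).exists_le_sylow
  have hxP : x ∈ (P : Subgroup G) := hP (Subgroup.mem_zpowers x)
  have hx1 : x ≠ 1 := fun e => by rw [e, orderOf_one] at hx; exact hp.out.one_lt.ne hx
  have hPY : (P : Subgroup G) ≤ Y := le_of_meet_ne_bot h P.2
    (fun hb => hx1 (Subgroup.mem_bot.mp (hb ▸ ⟨hxP, hxY⟩)))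
  refine mem_of_sylow_conj_le h P (fun hb => hx1 (Subgroup.mem_bot.mp (hb ▸ hxP))) hPY ?_
  refine le_of_meet_ne_bot h (P.2.map _) fun hb => hx1 ?_
  have : g * x * g⁻¹ = 1 := Subgroup.mem_bot.mp (hb ▸ ⟨conj_mem_conj hxP, hg⟩)
  simpa using this

lemma containsPNormalizers_of_disjoint {Y : Subgroup G}
    (h : ∀ g : G, g ∉ Y → ¬ p ∣ Nat.card ↥(Y ⊓ Y.map (MulAut.conj g).toMonoidHom)) :
    ContainsPNormalizers p Y := by
  intro A hA hAp hA1 g hg
  by_contra hgY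
  obtain ⟨x, hxA, hx⟩ := exists_order_p hAp hA1
  apply h g hgY
  have hmem : x ∈ Y ⊓ Y.map (MulAut.conj g).toMonoidHom := by
    refine ⟨hA hxA, Subgroup.map_mono hA ?_⟩
    rwa [mem_normalizer_conj_iff.mp hg]
  exact hx ▸ Subgroup.orderOf_dvd_natCard _ hmem

lemma disjoint_of_containsPNormalizers {Y : Subgroup G} (h : ContainsPNormalizers p Y) :
    ∀ g : G, g ∉ Y → ¬ p ∣ Nat.card ↥(Y ⊓ Y.map (MulAut.conj g).toMonoidHom) := by
  intro g hg hd
  obtain ⟨x, ⟨hxY, hxg⟩, hx⟩ := exists_order_p_mem hd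
  refine hg (inv_mem_iff.mp (mem_of_conj_mem h hx hxY (g := g⁻¹) ?_))
  simpa using mem_conj.mp hxg

lemma stronglyPEmbedded_iff {Y : Subgroup G} :
    Cfsg.IsStronglyPEmbedded p Y ↔ Y ≠ ⊤ ∧ p ∣ Nat.card Y ∧ ContainsPNormalizers p Y := by
  constructor
  · rintro ⟨hd, hne, P, hP⟩
    rw [kCore_le_iff P.2] at hP
    have hP1 := sylow_ne_bot hd P
    have hPY : (P : Subgroup G) ≤ Y := Subgroup.le_normalizer.trans (hP _ le_rfl hP1)
    obtain ⟨x, hxP, hx⟩ := exists_order_p P.2 hP1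
    refine ⟨hne, hx ▸ Subgroup.orderOf_dvd_natCard _ (hPY hxP), fun A hA hAp hA1 => ?_⟩
    obtain ⟨Q, hQ⟩ := (hAp.of_equiv (Subgroup.subgroupOfEquivOfLe hA).symm).exists_le_sylow
    obtain ⟨y, hy⟩ := sylow_conj Q (P.subtype hPY)
    have hAy : A.map (MulAut.conj (y : G)).toMonoidHom ≤ (P : Subgroup G) := by
      rintro _ ⟨a, ha, rfl⟩
      have : y * ⟨a, hA ha⟩ * y⁻¹ ∈ ((P.subtype hPY : Sylow p Y) : Subgroup Y) :=
        hy ▸ conj_mem_conj (hQ (Subgroup.mem_subgroupOf.mpr ha))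
      simpa [Sylow.coe_subtype, Subgroup.mem_subgroupOf] using this
    have := hP _ hAy (conj_ne_bot hA1)
    rw [normalizer_conj] at this
    intro n hn
    have hn' := this (conj_mem_conj (g := (y : G)) hn)
    simpa [mul_assoc] using mul_mem (mul_mem (inv_mem y.2) hn') y.2
  · rintro ⟨hne, hd, h⟩
    obtain ⟨P, hP, hP1⟩ := exists_sylow_le h hd
    exact ⟨hd.trans (Subgroup.card_subgroup_dvd_card Y), hne, P, (kCore_le_iff P.2).mpr
      fun Q hQ hQ1 => h Q (hQ.trans hP) (P.2.to_le hQ) hQ1⟩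

lemma stronglyPEmbedded_iff_disjoint {Y : Subgroup G} :
    Cfsg.IsStronglyPEmbedded p Y ↔ Y ≠ ⊤ ∧ p ∣ Nat.card Y ∧
      ∀ g : G, g ∉ Y → ¬ p ∣ Nat.card ↥(Y ⊓ Y.map (MulAut.conj g).toMonoidHom) := by
  rw [stronglyPEmbedded_iff]
  exact and_congr_right fun _ => and_congr_right fun _ =>
    ⟨disjoint_of_containsPNormalizers, containsPNormalizers_of_disjoint⟩

lemma containsPNormalizers {Y : Subgroup G} (h : Cfsg.IsStronglyPEmbedded p Y) :
    ContainsPNormalizers p Y := (stronglyPEmbedded_iff.mp h).2.2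

lemma dvd_card_of_spe {Y : Subgroup G} (h : Cfsg.IsStronglyPEmbedded p Y) : p ∣ Nat.card Y :=
  (stronglyPEmbedded_iff.mp h).2.1

end CfsgLib.LocalEven
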