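import Mathlib.RingTheory.Polynomial.Cyclotomic.Eval
import Mathlib.RingTheory.Polynomial.Cyclotomic.Expand
import Mathlib.NumberTheory.Multiplicity
import Mathlib.Tactic

/-! Zsigmondy's theorem: existence of primitive prime divisors of `a ^ n - 1`. -/

namespace CfsgLib.Zsigmondy

open Polynomial

/-- `Φ_n(a)` as an integer. -/
noncomputable def cycVal (n a : ℕ) : ℤ := (cyclotomic n ℤ).eval (a : ℤ)

theorem cycVal_pos (n : ℕ) {a : ℕ} (ha : 1 < a) : 0 < cycVal n a :=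
  cyclotomic_pos' n (by exact_mod_cast ha)

theorem cycVal_cast (n a : ℕ) : ((cycVal n a : ℤ) : ℝ) = (cyclotomic n ℝ).eval (a : ℝ) := by
  rw [cycVal, ← map_cyclotomic_int n ℝ, ← Int.cast_natCast (R := ℝ) a, Polynomial.eval_intCast_map]
  rfl

theorem isRoot_zmod {n a r : ℕ} (h : (r : ℤ) ∣ cycVal n a) :
    (cyclotomic n (ZMod r)).IsRoot (a : ZMod r) := by
  rw [IsRoot, ← map_cyclotomic_int n (ZMod r), ← Int.cast_natCast (R := ZMod r) a,
    Polynomial.eval_intCast_map]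
  exact (ZMod.intCast_zmod_eq_zero_iff_dvd _ r).mpr h

theorem cycVal_mul_dvd {r n a : ℕ} (hr : r.Prime) (h : r ∣ n) :
    cycVal (n * r) a = cycVal n (a ^ r) := by
  have := congrArg (eval (a : ℤ)) (cyclotomic_expand_eq_cyclotomic hr h ℤ)
  rw [expand_eval] at this
  rw [cycVal, cycVal, ← this, Nat.cast_pow]

theorem cycVal_mul_not_dvd {r n a : ℕ} (hr : r.Prime) (h : ¬ r ∣ n) :
    cycVal (n * r) a * cycVal n a = cycVal n (a ^ r) := by
  have := congrArg (eval (a : ℤ)) (cyclotomic_expand_eq_cyclotomic_mul hr h ℤ)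
  rw [expand_eval, eval_mul] at this
  rw [cycVal, cycVal, cycVal, ← this, Nat.cast_pow]

theorem cycVal_prime_pow_mul {r m : ℕ} (hr : r.Prime) (k a : ℕ) :
    cycVal (r ^ (k + 1) * m) a = cycVal (r * m) (a ^ r ^ k) := by
  induction k generalizing a with
  | zero => simp
  | succ k ih =>
    rw [show r ^ (k + 1 + 1) * m = r ^ (k + 1) * m * r by ring,
      cycVal_mul_dvd hr (dvd_mul_of_dvd_left (dvd_pow_self r k.succ_ne_zero) m), ih, ← pow_mul,
      ← pow_succ']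

theorem orderOf_of_dvd {n a r : ℕ} [hr : Fact r.Prime] {k m : ℕ} (hn : n = r ^ k * m)
    (hm : ¬ r ∣ m) (h : (r : ℤ) ∣ cycVal n a) : IsPrimitiveRoot (a : ZMod r) m := by
  haveI : NeZero (m : ZMod r) := ⟨by rwa [Ne, ZMod.natCast_eq_zero_iff]⟩
  rw [← isRoot_cyclotomic_prime_pow_mul_iff_of_charP (k := k) (p := r), ← hn]
  exact isRoot_zmod h

theorem sq_not_dvd {r m b : ℕ} (hr : r.Prime) (hodd : Odd r) (hm : 0 < m)
    (hb : (r : ℤ) ∣ (b : ℤ) ^ m - 1) : ¬ (r : ℤ) ^ 2 ∣ cycVal (r * m) b ∨ (b : ℤ) ^ m = 1 := by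
  by_cases hb1 : (b : ℤ) ^ m = 1
  · exact Or.inr hb1
  refine Or.inl fun h => ?_
  obtain ⟨q, hq⟩ := hb
  have hd : ((b : ℤ) ^ m - 1) * cycVal (r * m) b ∣ ((b : ℤ) ^ m) ^ r - 1 := by
    have hmem : m ∈ (r * m).properDivisors :=
      Nat.mem_properDivisors.mpr ⟨dvd_mul_left m r, lt_mul_left hm hr.one_lt⟩
    have := (Polynomial.evalRingHom (b : ℤ)).map_dvd
      (X_pow_sub_one_mul_cyclotomic_dvd_X_pow_sub_one_of_dvd ℤ hmem)
    simpa [cycVal, ← pow_mul, mul_comm r m] using this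
  rw [← geom_sum_mul ((b : ℤ) ^ m) r, mul_comm (∑ i ∈ Finset.range r, ((b : ℤ) ^ m) ^ i)] at hd
  have hdvd := (h.trans ((mul_dvd_mul_iff_left (sub_ne_zero.mpr hb1)).mp hd))
  have h2 := odd_sq_dvd_geom_sum₂_sub (R := ℤ) (a := 1) (b := q) hodd
  have e : (∑ i ∈ Finset.range r, (1 + (r : ℤ) * q) ^ i * 1 ^ (r - 1 - i)) =
      ∑ i ∈ Finset.range r, ((b : ℤ) ^ m) ^ i :=
    Finset.sum_congr rfl fun i _ => by rw [one_pow, mul_one, ← hq, add_sub_cancel]
  rw [e, one_pow, mul_one] at h2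
  have h3 := (dvd_sub_right hdvd).mp h2
  have h4 : r ^ 2 ∣ r := by exact_mod_cast h3
  have := Nat.le_of_dvd hr.pos h4
  nlinarith [hr.two_le]

theorem exists_primitive_prime_divisor {a n : ℕ} (ha : 1 < a) (hn : 1 < n)
    (h6 : ¬ (a = 2 ∧ n = 6)) (h2 : ¬ (n = 2 ∧ ∃ m : ℕ, a + 1 = 2 ^ m)) :
    ∃ r : ℕ, r.Prime ∧ r ∣ a ^ n - 1 ∧ ∀ k : ℕ, 0 < k → k < n → ¬ r ∣ a ^ k - 1 := by
  by_contra hno
  -- every prime divisor of `Φ_n(a)` is the largest prime divisor of `n`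
  have key : ∀ r : ℕ, r.Prime → (r : ℤ) ∣ cycVal n a → ∃ k m : ℕ, n = r ^ (k + 1) * m ∧ ¬ r ∣ m ∧
      0 < m ∧ m ∣ r - 1 ∧ IsPrimitiveRoot (a : ZMod r) m := by
    intro r hr hd
    haveI := Fact.mk hr
    obtain ⟨k, m, hm, hnm⟩ := Nat.exists_eq_pow_mul_and_not_dvd (by omega : n ≠ 0) r hr.ne_one
    have hmpos : 0 < m := Nat.pos_of_ne_zero fun h => by subst h; simp at hm
    have hprim := orderOf_of_dvd hnm hm hd
    have hsub : ∀ j : ℕ, r ∣ a ^ j - 1 ↔ m ∣ j := fun j => by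
      rw [← ZMod.natCast_eq_zero_iff, Nat.cast_sub (Nat.one_le_pow _ _ (by omega)), Nat.cast_pow,
        Nat.cast_one, sub_eq_zero, hprim.pow_eq_one_iff_dvd]
    cases k with
    | zero =>
      rw [pow_zero, one_mul] at hnm
      subst hnm
      exact absurd ⟨r, hr, (hsub n).mpr dvd_rfl, fun j hj hjn hd' =>
        absurd (Nat.le_of_dvd hj ((hsub j).mp hd')) (by omega)⟩ hno
    | succ k =>
      have ha0 : (a : ZMod r) ≠ 0 := hprim.ne_zero hmpos.ne'
      exact ⟨k, m, hnm, hm, hmpos, hprim.eq_orderOf ▸ ZMod.orderOf_dvd_card_sub_one ha0, hprim⟩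
  have huniq : ∀ r s : ℕ, r.Prime → s.Prime → (r : ℤ) ∣ cycVal n a → (s : ℤ) ∣ cycVal n a → r = s := by
    intro r s hr hs hdr hds
    by_contra hne
    have hlt : ∀ r s : ℕ, r.Prime → s.Prime → (r : ℤ) ∣ cycVal n a → s ∣ n → r ≠ s → s < r := by
      intro r s hr hs hd hsn hne
      obtain ⟨k, m, hnm, -, -, hm1, -⟩ := key r hr hd
      have hsm : s ∣ m := by
        rcases hs.dvd_mul.mp (hnm ▸ hsn) with h | h
        · exact absurd ((Nat.prime_dvd_prime_iff_eq hs hr).mp (hs.dvd_of_dvd_pow h)) (Ne.symm hne)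
        · exact h
      have := Nat.le_of_dvd (by have := hr.two_le; omega) (hsm.trans hm1)
      omega
    obtain ⟨k, m, hk, -, -, -, -⟩ := key r hr hdr
    obtain ⟨l, m', hl, -, -, -, -⟩ := key s hs hds
    have h1 := hlt r s hr hs hdr (hl ▸ dvd_mul_of_dvd_left (dvd_pow_self s l.succ_ne_zero) _) hne
    have h1' := hlt s r hs hr hds (hk ▸ dvd_mul_of_dvd_left (dvd_pow_self r k.succ_ne_zero) _) (Ne.symm hne)
    omega
  have hpos := cycVal_pos n ha
  obtain ⟨Φ, hΦ⟩ : ∃ Φ : ℕ, cycVal n a = (Φ : ℤ) := ⟨_, (Int.natAbs_of_nonneg hpos.le).symm⟩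
  have hΦ1 : Φ ≠ 1 := fun h => by
    have h1 := sub_one_lt_natAbs_cyclotomic_eval (n := n) (q := a) hn (by omega)
    have h2 : ((cyclotomic n ℤ).eval (a : ℤ)).natAbs = 1 := by
      rw [show (cyclotomic n ℤ).eval (a : ℤ) = cycVal n a from rfl, hΦ, h]; rfl
    omega
  obtain ⟨r, hr, hrd⟩ := Nat.exists_prime_and_dvd hΦ1
  have hrd' : (r : ℤ) ∣ cycVal n a := hΦ ▸ Int.natCast_dvd_natCast.mpr hrd
  have hΦ0 : Φ ≠ 0 := fun h => by rw [hΦ, h] at hpos; simp at hpos
  obtain ⟨j, hj⟩ : ∃ j, Φ = r ^ j :=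
    ⟨_, Nat.eq_prime_pow_of_unique_prime_dvd hΦ0 fun {d} hd hdd =>
      huniq d r hd hr (hΦ ▸ Int.natCast_dvd_natCast.mpr hdd) hrd'⟩
  obtain ⟨k, m, hnm, hrm, hm0, hm1, hprim⟩ := key r hr hrd'
  haveI := Fact.mk hr
  set b := a ^ r ^ k with hb
  have hb2 : 1 < b := Nat.one_lt_pow (pow_pos hr.pos k).ne' ha
  have hval : cycVal n a = cycVal (r * m) b := by rw [hnm, cycVal_prime_pow_mul hr k a]
  rcases hr.eq_two_or_odd' with rfl | hodd
  · -- `n` is a power of two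
    have hm : m = 1 := Nat.dvd_one.mp hm1
    subst hm
    rw [mul_one, show cycVal 2 b = (b : ℤ) + 1 by simp [cycVal, cyclotomic_two]] at hval
    have hΦb : Φ = b + 1 := by
      have : ((Φ : ℤ)) = (b : ℤ) + 1 := by rw [← hΦ, hval]
      exact_mod_cast this
    cases k with
    | zero => exact h2 ⟨by simpa using hnm, j, by simp [hb] at hΦb; omega⟩
    | succ k =>
      have hodd : Odd a := by
        rcases Nat.even_or_odd a with h | h
        · exfalso
          have : Even b := h.pow_of_ne_zero (pow_pos (by norm_num) _).ne'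
          obtain ⟨t, ht⟩ := this
          obtain ⟨u, hu⟩ := hrd
          omega
        · exact h
      obtain ⟨c, hc, hcb⟩ : ∃ c, Odd c ∧ b = c ^ 2 :=
        ⟨a ^ 2 ^ k, hodd.pow, by rw [hb, ← pow_mul, ← pow_succ]⟩
      obtain ⟨t, ht⟩ := hc
      rcases j with _ | _ | j
      · simp at hj; omega
      · simp at hj; omega
      · have : Φ = 4 * 2 ^ j := by rw [hj]; ring
        have h5 : b = 4 * (t * t + t) + 1 := by rw [hcb, ht]; ring
        omega
  · -- `r` is odd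
    have hbm : (r : ℤ) ∣ (b : ℤ) ^ m - 1 := by
      rw [← ZMod.intCast_zmod_eq_zero_iff_dvd]
      push_cast [hb]
      rw [← pow_mul, mul_comm, pow_mul, hprim.pow_eq_one, one_pow, sub_self]
    have hbm1 : (b : ℤ) ^ m ≠ 1 := by
      have : 1 < b ^ m := Nat.one_lt_pow hm0.ne' hb2
      exact_mod_cast this.ne'
    have hj1 : j = 1 := by
      rcases j with _ | _ | j
      · simp at hj; omega
      · rfl
      · exfalso
        refine (sq_not_dvd hr hodd hm0 hbm).elim (fun h => h ?_) hbm1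
        rw [← hval, hΦ, hj]
        push_cast
        exact pow_dvd_pow _ (by omega)
    have hprod := cycVal_mul_not_dvd (a := b) hr hrm
    rw [mul_comm m r, ← hval, hΦ, hj, hj1, pow_one] at hprod
    -- compare the bounds on `Φ_m`
    have hR : ((r : ℕ) : ℝ) * (cyclotomic m ℝ).eval (b : ℝ) = (cyclotomic m ℝ).eval ((b ^ r : ℕ) : ℝ) := by
      rw [← cycVal_cast, ← cycVal_cast, ← hprod]; push_cast; ring
    have hbR : (1 : ℝ) < (b : ℝ) := by exact_mod_cast hb2
    have hbrR : (1 : ℝ) < ((b ^ r : ℕ) : ℝ) := by exact_mod_cast Nat.one_lt_pow hr.ne_zero hb2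
    have hmain : b ^ r ≤ r * b + r + 1 := by
      by_contra hlt
      push Not at hlt
      have hlt' : (r : ℝ) * ((b : ℝ) + 1) < ((b ^ r : ℕ) : ℝ) - 1 := by
        have : ((r * b + r + 1 : ℕ) : ℝ) < ((b ^ r : ℕ) : ℝ) := by exact_mod_cast hlt
        push_cast at this ⊢
        linarith
      have htot : 0 < Nat.totient m := Nat.totient_pos.mpr hm0
      have h1 := sub_one_pow_totient_le_cyclotomic_eval hbrR m
      have h2 := cyclotomic_eval_le_add_one_pow_totient hbR m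
      have h3 : ((r : ℝ) * ((b : ℝ) + 1)) ^ Nat.totient m < (((b ^ r : ℕ) : ℝ) - 1) ^ Nat.totient m :=
        pow_lt_pow_left₀ hlt' (by positivity) htot.ne'
      have h4 : (r : ℝ) ≤ (r : ℝ) ^ Nat.totient m :=
        le_self_pow₀ (by exact_mod_cast hr.one_lt.le) htot.ne'
      have h5 : (0 : ℝ) < ((b : ℝ) + 1) ^ Nat.totient m := by positivity
      rw [mul_pow] at h3
      rw [← hR] at h1
      nlinarith [mul_le_mul_of_nonneg_right h4 h5.le,
        mul_le_mul_of_nonneg_left h2 (show (0 : ℝ) ≤ r by positivity)]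
    have hr3 : 3 ≤ r := by
      rcases hodd with ⟨t, ht⟩; have := hr.two_le; omega
    obtain rfl : r = 3 := by
      by_contra hne
      have hr5 : 5 ≤ r := by rcases hodd with ⟨t, ht⟩; omega
      obtain ⟨s, rfl⟩ : ∃ s, r = s + 5 := ⟨r - 5, by omega⟩
      have h16 : ∀ s : ℕ, 2 * (s + 5) + 6 ≤ 2 ^ (s + 4) := fun s => by
        induction s with
        | zero => norm_num
        | succ s ih => rw [show s + 1 + 4 = s + 4 + 1 by ring, pow_succ]; omega
      have hpow : 2 ^ (s + 4) * b ≤ b ^ (s + 5) := by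
        rw [pow_succ b (s + 4)]; exact Nat.mul_le_mul_right _ (Nat.pow_le_pow_left hb2 _)
      nlinarith [h16 s]
    have hb' : b = 2 := by
      by_contra hne
      have : 3 ≤ b := by omega
      nlinarith [Nat.pow_le_pow_left this 2]
    have hk : k = 0 ∧ a = 2 := by
      rcases k with _ | k
      · exact ⟨rfl, by simpa [hb] using hb'⟩
      · exfalso
        have : 2 ^ 3 ≤ a ^ 3 ^ (k + 1) :=
          (Nat.pow_le_pow_left ha 3).trans
            (Nat.pow_le_pow_right (by omega) (Nat.le_self_pow k.succ_ne_zero 3))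
        omega
    obtain ⟨rfl, rfl⟩ := hk
    have hm2 : m = 2 := by
      rw [hprim.eq_orderOf]
      exact orderOf_eq_prime (by decide) (by decide)
    exact h6 ⟨rfl, by rw [hnm, hm2]; norm_num⟩

end CfsgLib.Zsigmondy
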