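import Cfsg.Agent.Lib.Transfer.LinearStable
import Cfsg.Agent.Lib.Transfer.SLTwoFree
import Cfsg.Agent.Lib.PLocal.Quadratic
import Cfsg.Agent.Lib.Known.SL2Char.SylowTwo
import Cfsg.Agent.Lib.Fusion.Sections
import Cfsg.Agent.S0199
import Mathlib.FieldTheory.IsAlgClosed.AlgebraicClosure

/-!
# Irreducible quadratic action and Sylow `2`-subgroups

* `no_quadratic_of_not_involves`: irreducible action of a group not involving `SL(2, p)` has no quadratic subgroups
* `not_involves_of_shape`, `not_involves_of_card_eight`: no quaternion sections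
* `not_involves_SLTwo_PSL`
-/

set_option autoImplicit false
set_option linter.all false

namespace CfsgLib.LocalEven.QuadSylowTwo

open Subgroup Cfsg
open scoped IsMulCommutative

local notation "SL2p" p => Matrix.SpecialLinearGroup (Fin 2) (ZMod p)

variable {p : ℕ} [Fact p.Prime]

theorem eq_one_or_neg_one (hp : p ≠ 2) {x : SL2p p} (hx : x * x = 1) : x = 1 ∨ x = -1 := by
  have h2 : (2 : ZMod p) ≠ 0 := by
    intro h
    have h' : ((2 : ℕ) : ZMod p) = 0 := by exact_mod_cast h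
    exact hp ((Nat.prime_dvd_prime_iff_eq Fact.out Nat.prime_two).1 ((ZMod.natCast_eq_zero_iff 2 p).1 h'))
  have hinv := Matrix.SpecialLinearGroup.coe_inv x
  rw [inv_eq_of_mul_eq_one_right hx, Matrix.adjugate_fin_two] at hinv
  have e00 := congrFun (congrFun hinv 0) 0
  have e01 := congrFun (congrFun hinv 0) 1
  have e10 := congrFun (congrFun hinv 1) 0
  have hdet := x.2
  rw [Matrix.det_fin_two] at hdet
  simp at e00 e01 e10
  have o01 : (x : Matrix (Fin 2) (Fin 2) (ZMod p)) 0 1 = 0 :=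
    (mul_eq_zero.1 (show (2 : ZMod p) * _ = 0 by linear_combination e01)).resolve_left h2
  have o10 : (x : Matrix (Fin 2) (Fin 2) (ZMod p)) 1 0 = 0 :=
    (mul_eq_zero.1 (show (2 : ZMod p) * _ = 0 by linear_combination e10)).resolve_left h2
  rw [o01, o10, ← e00, mul_zero, sub_zero] at hdet
  rcases mul_self_eq_one_iff.1 hdet with h | h
  · left
    apply Subtype.ext
    ext i j
    fin_cases i <;> fin_cases j <;> simp [o01, o10, h, ← e00]
  · right
    apply Subtype.ext
    ext i j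
    fin_cases i <;> fin_cases j <;> simp [o01, o10, h, ← e00]

/-- an abelian subgroup with all other elements of square one rules out a nonabelian section of `SL(2, p)` -/
theorem not_involves_of_shape (hp : p ≠ 2) {Q : Subgroup (SL2p p)} (hQc : ¬ IsMulCommutative Q) {T : Type*} [Group T]
    (C : Subgroup T) (hCc : ∀ a ∈ C, ∀ b ∈ C, a * b = b * a) (hC : ∀ t, t ∉ C → t * t = 1) : ¬ Involves ↥Q T := by
  rintro ⟨K, R, hR, ⟨e⟩⟩
  obtain ⟨π, hπ⟩ : ∃ π : ↥K →* ↥Q, Function.Surjective π :=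
    ⟨e.toMonoidHom.comp (QuotientGroup.mk' (R.subgroupOf K)), e.surjective.comp (QuotientGroup.mk'_surjective _)⟩
  refine hQc ⟨⟨fun x y => ?_⟩⟩
  obtain ⟨a, rfl⟩ := hπ x
  obtain ⟨b, rfl⟩ := hπ y
  have out : ∀ a : K, (a : T) ∉ C → ∀ z : ↥Q, Commute (π a) z := by
    intro a ha z
    have h1 : π a * π a = 1 := by rw [← map_mul, show a * a = 1 from Subtype.ext (hC _ ha), map_one]
    refine Subtype.ext (show (π a : SL2p p) * z = z * π a from ?_)
    rcases eq_one_or_neg_one hp (congrArg Subtype.val h1) with h | h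
    · rw [h, one_mul, mul_one]
    · rw [h]; exact (Commute.neg_one_left _).eq
  by_cases hb : (b : T) ∈ C
  · by_cases ha : (a : T) ∈ C
    · rw [← map_mul, ← map_mul, show a * b = b * a from Subtype.ext (hCc _ ha _ hb)]
    · exact (out a ha _).eq
  · exact (out b hb _).symm.eq

/-- a group of order eight with two commuting involutions is not quaternion -/
theorem not_involves_of_card_eight (hp : p ≠ 2) {Q : Subgroup (SL2p p)} (hQp : IsPGroup 2 Q)
    (hQc : ¬ IsMulCommutative Q) {T : Type*} [Group T] [Finite T] (hT : Nat.card T = 8) {a b : T}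
    (ha : a * a = 1) (hb : b * b = 1) (ha1 : a ≠ 1) (hb1 : b ≠ 1) (hab : a ≠ b) : ¬ Involves ↥Q T := by
  rintro ⟨K, R, hR, ⟨e⟩⟩
  obtain ⟨π, hπ⟩ : ∃ π : ↥K →* ↥Q, Function.Surjective π :=
    ⟨e.toMonoidHom.comp (QuotientGroup.mk' (R.subgroupOf K)), e.surjective.comp (QuotientGroup.mk'_surjective _)⟩
  haveI : Fact (Nat.Prime 2) := ⟨Nat.prime_two⟩
  have h1 : Nat.card ↥Q ∣ Nat.card ↥K := Subgroup.card_dvd_of_surjective π hπ
  have h2 : Nat.card ↥K ∣ 2 ^ 3 := by rw [show (2 : ℕ) ^ 3 = 8 from rfl, ← hT]; exact K.card_subgroup_dvd_card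
  obtain ⟨k, hk3, hk⟩ := (Nat.dvd_prime_pow Nat.prime_two).1 (h1.trans h2)
  have hk' : k = 3 := by
    by_contra hne
    refine hQc ?_
    interval_cases k
    · haveI := (Nat.card_eq_one_iff_unique.1 (hk.trans (pow_zero 2))).1
      exact ⟨⟨fun x y => Subsingleton.elim _ _⟩⟩
    · haveI := isCyclic_of_prime_card (hk.trans (pow_one 2))
      exact IsCyclic.commutative (α := ↥Q)
    · exact IsPGroup.isMulCommutative_of_card_eq_prime_sq hk
    · exact absurd rfl hne
  subst hk'
  have hK : Nat.card ↥K = 8 := Nat.dvd_antisymm h2 ((dvd_of_eq hk.symm).trans h1)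
  have hKtop : K = ⊤ := Subgroup.eq_top_of_card_eq K (by rw [hK, hT])
  subst hKtop
  have hinj : Function.Injective π :=
    ((Nat.bijective_iff_surjective_and_card π).2 ⟨hπ, by rw [hK, hk]; rfl⟩).1
  have key : ∀ c : T, c * c = 1 → c ≠ 1 → (π ⟨c, mem_top c⟩ : SL2p p) = -1 := by
    intro c hc hc1
    have h1 : π ⟨c, mem_top c⟩ * π ⟨c, mem_top c⟩ = 1 := by
      rw [← map_mul, show (⟨c, mem_top c⟩ : (⊤ : Subgroup T)) * ⟨c, mem_top c⟩ = 1 from Subtype.ext hc, map_one]
    rcases eq_one_or_neg_one hp (congrArg Subtype.val h1) with h | h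
    · exact absurd (congrArg Subtype.val (hinj ((Subtype.ext h : π ⟨c, mem_top c⟩ = 1).trans (map_one π).symm))) hc1
    · exact h
  exact hab (congrArg Subtype.val (hinj (Subtype.ext ((key a ha ha1).trans (key b hb hb1).symm))))

theorem involves_congr {S L L' : Type*} [Group S] [Group L] [Group L'] (e : L ≃* L') (h : Involves S L) :
    Involves S L' := by
  obtain ⟨K, R, hR, ⟨f⟩⟩ := h
  exact Fusion.involves_of_surjective (e.toMonoidHom.comp K.subtype) (e.injective.comp K.subtype_injective)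
    (f.toMonoidHom.comp (QuotientGroup.mk' (R.subgroupOf K))) (f.surjective.comp (QuotientGroup.mk'_surjective _))

/-- Irreducible action of a group not involving `SL(2, p)`. -/
theorem no_quadratic_of_not_involves (hp : p ≠ 2) {G : Type*} [Group G] [Finite G] (V H : Subgroup G)
    (hV : IsElementaryAbelian p V) (hHV : H ≤ normalizer (V : Set G))
    (hirr : ∀ U : Subgroup G, U ≤ V → H ≤ normalizer (U : Set G) → U = ⊥ ∨ U = V)
    [hn : ((centralizer (V : Set G)).subgroupOf H).Normal]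
    (hinv : ¬ Involves (SL2p p) (↥H ⧸ (centralizer (V : Set G)).subgroupOf H))
    (A : Subgroup G) (hA : A ≤ H) (hquad : ⁅⁅V, A⁆, A⁆ = ⊥) : ⁅V, A⁆ = ⊥ := by
  classical
  rw [commutator_eq_bot_iff_le_centralizer, le_centralizer_iff]
  intro a ha
  by_contra hac
  refine hinv ?_
  haveI := hV.1
  letI : CommGroup ↥V := { (inferInstance : Group ↥V) with mul_comm := fun u v => mul_comm' u v }
  let φ : ↥H →* MulAut ↥V := (normalizerMonoidHom V).comp (inclusion hHV)
  have hφ : ∀ (h : ↥H) (v : ↥V), ((φ h v : ↥V) : G) = (h : G) * v * (h : G)⁻¹ := fun h v => rfl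
  have hker : ∀ h : ↥H, φ h = 1 ↔ (h : G) ∈ centralizer (V : Set G) := by
    intro h
    constructor
    · intro h1
      rw [mem_centralizer_iff]
      intro v hv
      have h3 := hφ h ⟨v, hv⟩
      rw [h1] at h3
      exact (mul_inv_eq_iff_eq_mul.1 h3.symm).symm
    · intro h1
      refine MulEquiv.ext fun v => Subtype.ext ?_
      rw [hφ, ← mem_centralizer_iff.1 h1 _ v.2, mul_inv_cancel_right]
      rfl
  let f := QuotientGroup.lift ((centralizer (V : Set G)).subgroupOf H) φ (fun h hh => MonoidHom.mem_ker.2 ((hker h).2 hh))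
  have hf : Function.Injective f := by
    rw [injective_iff_map_eq_one]
    intro x
    obtain ⟨h, rfl⟩ := QuotientGroup.mk_surjective x
    exact fun h1 => (QuotientGroup.eq_one_iff h).2 ((hker h).1 h1)
  have hM : ∀ v : ↥V, v ^ p = 1 := fun v => Subtype.ext (hV.2 _ v.2)
  have hVp : IsPGroup p ↥V := fun v => ⟨1, by rw [pow_one]; exact hM v⟩
  -- no normal `p`-subgroup
  have hO : pCore p (↥H ⧸ (centralizer (V : Set G)).subgroupOf H) = ⊥ := by
    obtain ⟨P, hP⟩ : ∃ P, P = pCore p (↥H ⧸ (centralizer (V : Set G)).subgroupOf H) := ⟨_, rfl⟩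
    haveI : P.Normal := hP ▸ CfsgLib.Components.pCore_normal p
    rw [← hP]
    rcases eq_or_ne V ⊥ with hVb | hVb
    · exact absurd (mem_centralizer_iff.2 fun v hv => by
        rw [hVb] at hv; rw [mem_bot.1 hv, one_mul, mul_one]) hac
    let U : Subgroup G :=
      { carrier := {g | ∃ hg : g ∈ V, ∀ x ∈ P, f x ⟨g, hg⟩ = ⟨g, hg⟩}
        one_mem' := ⟨one_mem V, fun x _ => map_one _⟩
        mul_mem' := by
          rintro g g' ⟨hg, h1⟩ ⟨hg', h2⟩
          exact ⟨mul_mem hg hg', fun x hx => (map_mul (f x) ⟨g, hg⟩ ⟨g', hg'⟩).trans (by rw [h1 x hx, h2 x hx]; rfl)⟩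
        inv_mem' := by
          rintro g ⟨hg, h1⟩
          exact ⟨inv_mem hg, fun x hx => (map_inv (f x) ⟨g, hg⟩).trans (by rw [h1 x hx]; rfl)⟩ }
    have hUV : U ≤ V := fun g hg => hg.1
    have hHU : H ≤ normalizer (U : Set G) := by
      have key : ∀ h : ↥H, ∀ g ∈ U, (h : G) * g * (h : G)⁻¹ ∈ U := by
        rintro h g ⟨hg, h1⟩
        refine ⟨(mem_normalizer_iff.1 (hHV h.2) g).1 hg, fun x hx => ?_⟩
        have e : (⟨(h : G) * g * (h : G)⁻¹, (mem_normalizer_iff.1 (hHV h.2) g).1 hg⟩ : ↥V) =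
            f (QuotientGroup.mk h) ⟨g, hg⟩ := rfl
        rw [e]
        have hx' : (QuotientGroup.mk h)⁻¹ * x * QuotientGroup.mk h ∈ P := by
          simpa using ‹P.Normal›.conj_mem x hx (QuotientGroup.mk h)⁻¹
        have h2 := h1 _ hx'
        rw [map_mul, map_mul, map_inv, MulAut.mul_apply, MulAut.mul_apply] at h2
        exact (MulEquiv.symm_apply_eq _).1 h2
      intro h hh
      rw [mem_normalizer_iff]
      intro g
      exact ⟨key ⟨h, hh⟩ g, fun hg => by simpa [mul_assoc] using key (⟨h, hh⟩⁻¹) _ hg⟩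
    rcases hirr U hUV hHU with hU | hU
    · exfalso
      letI : MulAction ↥P ↥V := MulAction.compHom ↥V (f.comp P.subtype)
      haveI : Nontrivial ↥V := (nontrivial_iff_ne_bot V).2 hVb
      obtain ⟨n, hn, hcard⟩ := hVp.nontrivial_iff_card.1 ‹_›
      have hfix1 : (1 : ↥V) ∈ MulAction.fixedPoints ↥P ↥V := fun x => map_one (f x)
      obtain ⟨w, hw, hw1⟩ := (hP ▸ CfsgLib.Components.pCore_isPGroup p : IsPGroup p ↥P).exists_fixed_point_of_prime_dvd_card_of_fixed_point
        ↥V (hcard ▸ dvd_pow_self p hn.ne') hfix1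
      have : (w : G) ∈ U := ⟨w.2, fun x hx => hw ⟨x, hx⟩⟩
      rw [hU, mem_bot] at this
      exact hw1 (Subtype.ext this.symm)
    · refine (eq_bot_iff_forall _).2 fun x hx => hf ((MulEquiv.ext fun v => ?_ : f x = 1).trans (map_one f).symm)
      obtain ⟨hg, h1⟩ : (v : G) ∈ U := hU.symm ▸ v.2
      exact h1 x hx
  -- the quadratic element
  obtain ⟨a₀, ha₀⟩ : ∃ a₀ : ↥H ⧸ (centralizer (V : Set G)).subgroupOf H,
      a₀ = QuotientGroup.mk (⟨a, hA ha⟩ : ↥H) := ⟨_, rfl⟩
  have ha₀1 : a₀ ≠ 1 := fun h => hac (mem_subgroupOf.1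
    ((QuotientGroup.eq_one_iff (N := (centralizer (V : Set G)).subgroupOf H) (⟨a, hA ha⟩ : ↥H)).1 (ha₀.symm.trans h)))
  have ha₀p : a₀ ^ p = 1 := by
    rw [ha₀, ← QuotientGroup.mk_pow, QuotientGroup.eq_one_iff]
    exact CfsgLib.PLocal.quad_pow_mem hV (hA.trans hHV) hquad ha
  have hX : IsPGroup p (zpowers a₀) := Transfer.isPGroup_zpowers_of_pow_eq_one (k := 1) (by rwa [pow_one])
  obtain ⟨g, hg⟩ : ∃ g, ¬ IsPGroup p ↥(zpowers a₀ ⊔ (zpowers a₀).map (MulAut.conj g).toMonoidHom) := by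
    by_contra h
    push Not at h
    obtain ⟨N, hN, hNp, hle⟩ := Cfsg.Agent.S0199.result _ hX h
    have := (hle.trans (@CfsgLib.Core.le_pCore _ _ _ N hN hNp)).trans_eq hO
    rw [zpowers_le, mem_bot] at this
    exact ha₀1 this
  obtain ⟨b₀, hb₀⟩ : ∃ b₀, b₀ = g * a₀ * g⁻¹ := ⟨_, rfl⟩
  have hDeq : zpowers a₀ ⊔ (zpowers a₀).map (MulAut.conj g).toMonoidHom = closure {a₀, b₀} := by
    rw [MonoidHom.map_zpowers, zpowers_eq_closure, zpowers_eq_closure, ← Subgroup.closure_union,
      Set.singleton_union, hb₀]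
    rfl
  rw [hDeq] at hg
  let D := closure ({a₀, b₀} : Set (↥H ⧸ (centralizer (V : Set G)).subgroupOf H))
  let a' : D := ⟨a₀, subset_closure (Set.mem_insert _ _)⟩
  let b' : D := ⟨b₀, subset_closure (Set.mem_insert_of_mem _ rfl)⟩
  have hgen : closure ({a', b'} : Set D) = ⊤ := by
    rw [← closure_preimage_eq_top ({a₀, b₀} : Set _)]
    congr 1
    ext d
    constructor
    · rintro (rfl | rfl)
      exacts [Or.inl rfl, Or.inr rfl]
    · rintro (h | h)
      exacts [Or.inl (Subtype.ext h), Or.inr (Subtype.ext h)]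
  have hquad' : ∀ v, f a₀ (f a₀ v / v) = f a₀ v / v := by
    intro v
    rw [ha₀]
    apply Subtype.ext
    have h := CfsgLib.PLocal.quad_fix hquad ha ha v.2
    rw [commutatorElement_def] at h
    show (a : G) * ((a * v * a⁻¹) / (v : G)) * a⁻¹ = (a * v * a⁻¹) / (v : G)
    rw [div_eq_mul_inv]
    exact h
  have hquad'' : ∀ v, f b₀ (f b₀ v / v) = f b₀ v / v := by
    intro v
    have := hquad' ((f g).symm v)
    rw [hb₀, map_mul, map_mul, map_inv, MulAut.mul_apply, MulAut.mul_apply, MulAut.mul_apply, MulAut.mul_apply]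
    show f g (f a₀ ((f g).symm (f g (f a₀ ((f g).symm v)) / v))) = f g (f a₀ ((f g).symm v)) / v
    rw [map_div, MulEquiv.symm_apply_apply, this, map_div, MulEquiv.apply_symm_apply]
  obtain ⟨N, σ, hσ, hσq⟩ := Transfer.exists_end_rep hM (f.comp D.subtype) (hf.comp D.subtype_injective)
    (AlgebraicClosure (ZMod p))
  obtain ⟨S, F, hF⟩ := Transfer.Quad.exists_section_SLTwo hp σ hσ hgen (hσq a' hquad') (hσq b' hquad'') hg
  exact Fusion.involves_of_surjective (D.subtype.comp S.subtype) (D.subtype_injective.comp S.subtype_injective) F hF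

/-- `PSL₂(q)`, `q` odd, does not involve `SL(2, p)`. -/
theorem not_involves_SLTwo_PSL (hp : p ≠ 2) {F : Type*} [Field F] [Fintype F] (hodd : Odd (Fintype.card F)) :
    ¬ Involves (SL2p p) (Matrix.ProjectiveSpecialLinearGroup (Fin 2) F) := by
  intro hinv
  haveI : Fact (Nat.Prime 2) := ⟨Nat.prime_two⟩
  obtain ⟨Q, hQ, hQc⟩ := Transfer.exists_two_subgroup_SLTwo (p := p) hp
  let S : Sylow 2 (Matrix.SpecialLinearGroup (Fin 2) F) := default
  let T : Sylow 2 (Matrix.ProjectiveSpecialLinearGroup (Fin 2) F) :=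
    S.mapSurjective (f := QuotientGroup.mk' (center (Matrix.SpecialLinearGroup (Fin 2) F))) (QuotientGroup.mk'_surjective _)
  obtain ⟨t, s, htS, -, -, -, -, -, -, -, -, hmem⟩ := CfsgLib.SL2Char.sylow_two_data hodd S
  refine not_involves_of_shape hp hQc
    ((zpowers (QuotientGroup.mk' (center (Matrix.SpecialLinearGroup (Fin 2) F)) t)).subgroupOf (T : Subgroup _))
    (fun x hx y hy => ?_) (fun x hx => ?_) (Fusion.involves_sylow hinv Q hQ T (MonoidHom.id _) Function.injective_id)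
  · rw [mem_subgroupOf] at hx hy
    obtain ⟨i, hi⟩ := hx
    obtain ⟨k, hk⟩ := hy
    refine Subtype.ext ?_
    rw [coe_mul, coe_mul, ← hi, ← hk]
    exact (Commute.refl _).zpow_zpow i k
  · have hTS : (T : Subgroup (Matrix.ProjectiveSpecialLinearGroup (Fin 2) F)) =
        (S : Subgroup _).map (QuotientGroup.mk' (center (Matrix.SpecialLinearGroup (Fin 2) F))) :=
      Sylow.coe_mapSurjective _ _
    obtain ⟨y, hy, hyx⟩ := (SetLike.ext_iff.1 hTS _).1 x.2
    rcases hmem y hy with h | ⟨h, -, -⟩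
    · refine absurd (mem_subgroupOf.2 ?_) hx
      rw [← hyx, ← MonoidHom.map_zpowers]
      exact mem_map_of_mem _ h
    · refine Subtype.ext ?_
      rw [coe_mul, ← hyx, ← map_mul, h, coe_one]
      exact (QuotientGroup.eq_one_iff _).2 (mem_center_iff.2 fun z => by simp)

end CfsgLib.LocalEven.QuadSylowTwo
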