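import Cfsg.Prelude.Def_LocalStructure
import Cfsg.Agent.Lib.Core.Cores
import Cfsg.Agent.Lib.Core.Basic
import Cfsg.Agent.Lib.Transfer.PResidual
import Cfsg.Agent.Lib.Components.Radicals

/-! `p`-closed, `p`-irreducible and `p`-minimal groups: basic facts. -/

namespace CfsgLib.LocalEven

open Subgroup

variable {G : Type*} [Group G] [Finite G] {p : ℕ} [hp : Fact p.Prime]

theorem pClosed_iff_le_pCore :
    Cfsg.IsPClosed p G ↔ ∀ P : Sylow p G, (P : Subgroup G) ≤ Cfsg.pCore p G := by
  refine ⟨fun h P => ?_, fun h P => ?_⟩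
  · haveI := h P
    exact CfsgLib.Core.le_pCore P.2
  · rw [show (P : Subgroup G) = Cfsg.pCore p G from le_antisymm (h P) (CfsgLib.Core.pCore_le_sylow P)]
    infer_instance

theorem pClosed_iff_not_dvd :
    Cfsg.IsPClosed p G ↔ ¬ p ∣ (Cfsg.pCore p G).index := by
  constructor
  · intro h
    obtain ⟨P⟩ := (inferInstance : Nonempty (Sylow p G))
    exact fun hd => P.not_dvd_index (hd.trans (index_dvd_of_le (pClosed_iff_le_pCore.mp h P)))
  · intro h
    refine pClosed_iff_le_pCore.mpr fun P => le_of_eq ?_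
    exact (eq_of_le_of_card_ge (CfsgLib.Core.pCore_le_sylow P) (by
      rw [P.card_eq_multiplicity, ← ((CfsgLib.Core.isPGroup_pCore p G).toSylow h).card_eq_multiplicity]
      rfl)).symm

theorem pClosed_of_normal_sylow {P : Sylow p G} (hP : (P : Subgroup G).Normal) :
    Cfsg.IsPClosed p G := by
  rw [pClosed_iff_not_dvd]
  haveI := hP
  exact fun hd => P.not_dvd_index (hd.trans (index_dvd_of_le (CfsgLib.Core.le_pCore P.2)))

theorem pClosed_of_pgroup (h : IsPGroup p G) : Cfsg.IsPClosed p G := by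
  rw [pClosed_iff_not_dvd]
  haveI : (⊤ : Subgroup G).Normal := inferInstance
  rw [top_le_iff.mp (CfsgLib.Core.le_pCore (h.to_subgroup ⊤))]
  simpa using hp.out.ne_one

/-- The intersection of a Sylow subgroup with a normal subgroup is one of the normal subgroup. -/
theorem exists_sylow_inf (P : Sylow p G) (N : Subgroup G) [N.Normal] :
    ∃ Q : Sylow p N, (Q : Subgroup N).map N.subtype = (P : Subgroup G) ⊓ N := by
  have h : ¬ p ∣ ((P : Subgroup G).subgroupOf N).index := by
    intro hd
    refine P.not_dvd_index (hd.trans ?_)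
    have h1 : (P : Subgroup G).relIndex N = (P : Subgroup G).relIndex ((P : Subgroup G) ⊔ N) := by
      have e1 := CfsgLib.Core.card_sup_mul_card_inf (P : Subgroup G) N
        (CfsgLib.Core.le_normalizer_of_normal _ N)
      have e2 : Nat.card ↥((P : Subgroup G) ⊓ N) * (P : Subgroup G).relIndex N = Nat.card N := by
        rw [← relIndex_bot_left, ← relIndex_bot_left N, ← inf_relIndex_right (P : Subgroup G) N]
        exact relIndex_mul_relIndex _ _ _ bot_le inf_le_right
      have e3 : Nat.card (P : Subgroup G) * (P : Subgroup G).relIndex ((P : Subgroup G) ⊔ N) =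
          Nat.card ↥((P : Subgroup G) ⊔ N) := by
        rw [← relIndex_bot_left, ← relIndex_bot_left ((P : Subgroup G) ⊔ N)]
        exact relIndex_mul_relIndex _ _ _ bot_le le_sup_left
      apply Nat.eq_of_mul_eq_mul_left
        (show 0 < Nat.card (P : Subgroup G) * Nat.card ↥((P : Subgroup G) ⊓ N) from
          Nat.mul_pos Nat.card_pos Nat.card_pos)
      calc _ = Nat.card (P : Subgroup G) * (Nat.card ↥((P : Subgroup G) ⊓ N) * (P : Subgroup G).relIndex N) := by
            ring
        _ = Nat.card ↥((P : Subgroup G) ⊔ N) * Nat.card ↥((P : Subgroup G) ⊓ N) := by rw [e2, e1]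
        _ = _ := by rw [← e3]; ring
    show (P : Subgroup G).relIndex N ∣ _
    rw [h1]
    exact relIndex_dvd_index_of_le le_sup_left
  exact ⟨(P.2.comap_of_injective N.subtype N.subtype_injective).toSylow h,
    (subgroupOf_map_subtype _ _)⟩

theorem pCoreOf_normal (N : Subgroup G) [N.Normal] :
    ((Cfsg.pCore p N).map N.subtype).Normal := inferInstance

/-- A normal subgroup is `p`-closed iff its `p`-subgroups lie in `O_p(G)`. -/
theorem pClosed_normal_iff (N : Subgroup G) [N.Normal] :
    Cfsg.IsPClosed p N ↔ ∀ P : Sylow p G, (P : Subgroup G) ⊓ N ≤ Cfsg.pCore p G := by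
  constructor
  · intro h P
    obtain ⟨Q, hQ⟩ := exists_sylow_inf P N
    rw [← hQ]
    exact (map_mono (pClosed_iff_le_pCore.mp h Q)).trans
      (CfsgLib.Core.map_subtype_pCore_le N)
  · intro h
    rw [pClosed_iff_le_pCore]
    intro Q
    obtain ⟨P, hP⟩ := (Q.2.map N.subtype).exists_le_sylow
    intro x hx
    exact CfsgLib.Core.pCore_subgroupOf_le N (mem_subgroupOf.mpr
      (h P ⟨hP (mem_map_of_mem _ hx), x.2⟩))

/-- Passing to the quotient by a normal `p`-subgroup. -/
theorem pClosed_iff_of_surjective {H : Type*} [Group H] [Finite H] (f : G →* H)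
    (hf : Function.Surjective f) (hk : IsPGroup p f.ker) :
    Cfsg.IsPClosed p H ↔ Cfsg.IsPClosed p G := by
  have hker : f.ker ≤ Cfsg.pCore p G := CfsgLib.Core.le_pCore hk
  have hmap : (Cfsg.pCore p G).map f = Cfsg.pCore p H := by
    refine le_antisymm (CfsgLib.Core.map_pCore_le f hf) fun y hy => ?_
    obtain ⟨x, rfl⟩ := hf y
    exact mem_map_of_mem f (CfsgLib.Core.le_pCore
      ((CfsgLib.Core.isPGroup_pCore p H).comap_of_ker_isPGroup f hk) (mem_comap.mpr hy))
  rw [pClosed_iff_not_dvd, pClosed_iff_not_dvd, ← hmap, index_map, MonoidHom.range_eq_top.mpr hf, index_top, mul_one,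
    sup_eq_left.mpr hker]

theorem pCore_map_eq {H : Type*} [Group H] [Finite H] (f : G →* H)
    (hf : Function.Surjective f) (hk : IsPGroup p f.ker) :
    (Cfsg.pCore p H).comap f = Cfsg.pCore p G := by
  refine le_antisymm (CfsgLib.Core.le_pCore ((CfsgLib.Core.isPGroup_pCore p H).comap_of_ker_isPGroup f hk)) ?_
  exact map_le_iff_le_comap.mp (CfsgLib.Core.map_pCore_le f hf)

/-- `O^p` of the group lies in any normal `N` with `NT = ⊤`, `T` a `p`-group. -/
theorem pResidual_le_of_sup_eq_top {N T : Subgroup G} [N.Normal] (hT : IsPGroup p T)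
    (h : N ⊔ T = ⊤) : Cfsg.pResidual p G ≤ N := by
  refine CfsgLib.Transfer.pResidual_le_of_isPGroup_quotient ?_
  refine (hT.map (QuotientGroup.mk' N)).of_surjective ((T.map (QuotientGroup.mk' N)).subtype) ?_
  intro x
  have : x ∈ T.map (QuotientGroup.mk' N) := by
    have h1 : (N ⊔ T).map (QuotientGroup.mk' N) = ⊤ := by
      rw [h, map_top_of_surjective _ (QuotientGroup.mk'_surjective N)]
    rw [Subgroup.map_sup, QuotientGroup.map_mk'_self, bot_sup_eq] at h1
    rw [h1]; trivial
  exact ⟨⟨x, this⟩, rfl⟩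

theorem isPGroup_quotient_of_le {N : Subgroup G} [N.Normal] (h : Cfsg.pResidual p G ≤ N) :
    IsPGroup p (G ⧸ N) :=
  (CfsgLib.Transfer.isPGroup_quotient_pResidual (p := p) (G := G)).of_surjective
    (QuotientGroup.map _ _ (MonoidHom.id G) (h.trans (comap_id N).ge))
    (fun y => by
      obtain ⟨g, rfl⟩ := QuotientGroup.mk_surjective y
      exact ⟨(g : G ⧸ Cfsg.pResidual p G), rfl⟩)

/-- A subnormal subgroup with `p`-power index contains `O^p`. -/
theorem pResidual_le_of_subnormal {B : Subgroup G} (hB : B.IsSubnormal)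
    (h : ∃ k, B.index = p ^ k) : Cfsg.pResidual p G ≤ B := by
  induction hB with
  | top => exact le_top
  | step H K hle _ hn ih =>
    obtain ⟨k, hk⟩ := h
    obtain ⟨j, -, hj⟩ := (Nat.dvd_prime_pow hp.out).mp (hk ▸ index_dvd_of_le hle)
    have hres := ih ⟨j, hj⟩
    refine CfsgLib.Transfer.pResidual_le_iff.mpr fun g hg => ?_
    have hgK : g ∈ K := hres (CfsgLib.Transfer.mem_pResidual_of_coprime hg)
    haveI := hn
    have hq : IsPGroup p (↥K ⧸ H.subgroupOf K) := by
      obtain ⟨i, -, hi⟩ := (Nat.dvd_prime_pow hp.out).mp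
        (hk ▸ relIndex_dvd_index_of_le (K := K) hle)
      exact IsPGroup.of_card (n := i) hi
    have := CfsgLib.Transfer.pResidual_le_of_isPGroup_quotient hq
      (CfsgLib.Transfer.mem_pResidual_of_coprime (g := (⟨g, hgK⟩ : ↥K)) (by rwa [orderOf_mk]))
    exact this

/-- A minimal-over-Sylow group is `p`-irreducible. -/
theorem pIrreducible_of_minimalOver {T : Sylow p G} (hmin : Cfsg.IsMinimalOver (T : Subgroup G)) :
    Cfsg.IsPIrreducible p G := by
  obtain ⟨hncl, M, ⟨hM, hTM⟩, huniq⟩ := hmin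
  refine ⟨fun hc => ?_, fun N hN hNc => ?_⟩
  · haveI := hc T
    rw [normalClosure_eq_self] at hncl
    exact hM.1 (top_le_iff.mp (hncl ▸ hTM))
  · haveI := hN
    by_cases htop : N ⊔ (T : Subgroup G) = ⊤
    · exact pResidual_le_of_sup_eq_top T.2 htop
    exfalso
    apply hNc
    obtain ⟨M', hM', hle⟩ := (eq_top_or_exists_le_coatom _).resolve_left htop
    obtain rfl := huniq M' ⟨hM', le_sup_right.trans hle⟩
    obtain ⟨Q, hQ⟩ := exists_sylow_inf T N
    have hfr := Sylow.normalizer_sup_eq_top Q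
    rw [hQ] at hfr
    have hTn : (T : Subgroup G) ≤ normalizer (((T : Subgroup G) ⊓ N : Subgroup G) : Set G) :=
      (le_inf le_normalizer (CfsgLib.Core.le_normalizer_of_normal _ N)).trans
        inf_normalizer_le_normalizer_inf
    by_cases hnt : normalizer (((T : Subgroup G) ⊓ N : Subgroup G) : Set G) = ⊤
    · refine pClosed_of_normal_sylow (P := Q) ?_
      haveI : (((T : Subgroup G) ⊓ N : Subgroup G)).Normal := normalizer_eq_top_iff.mp hnt
      rw [show (Q : Subgroup N) = ((T : Subgroup G) ⊓ N).subgroupOf N from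
        map_injective N.subtype_injective (hQ.trans (map_subgroupOf_eq_of_le inf_le_right).symm)]
      infer_instance
    · obtain ⟨M'', hM'', hle''⟩ := (eq_top_or_exists_le_coatom _).resolve_left hnt
      obtain rfl := huniq M'' ⟨hM'', hTn.trans hle''⟩
      exact absurd (top_le_iff.mp (hfr ▸ sup_le hle'' (le_sup_left.trans hle))) hM.1

/-- Elements of order prime to `p` of `N ⊔ D`, `D` a `p`-group, lie in the normal subgroup `N`. -/
theorem mem_of_coprime_of_mem_sup {N D : Subgroup G} [N.Normal] (hD : IsPGroup p D) {g : G}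
    (hg : g ∈ N ⊔ D) (hc : (orderOf g).Coprime p) : g ∈ N := by
  rw [← QuotientGroup.eq_one_iff]
  have h1 : (g : G ⧸ N) ∈ D.map (QuotientGroup.mk' N) := by
    have := mem_map_of_mem (QuotientGroup.mk' N) hg
    rwa [Subgroup.map_sup, QuotientGroup.map_mk'_self, bot_sup_eq] at this
  have := CfsgLib.Transfer.eq_one_of_coprime_of_isPGroup (hD.map (QuotientGroup.mk' N))
    (g := ⟨(g : G ⧸ N), h1⟩) (by
      rw [orderOf_mk]
      exact hc.coprime_dvd_left (orderOf_map_dvd (QuotientGroup.mk' N) g))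
  exact congrArg Subtype.val this

theorem pClosed_iff_of_mulEquiv {H : Type*} [Group H] [Finite H] (e : G ≃* H) :
    Cfsg.IsPClosed p H ↔ Cfsg.IsPClosed p G :=
  pClosed_iff_of_surjective e.toMonoidHom e.surjective (by
    rw [(MonoidHom.ker_eq_bot_iff _).mpr e.injective]
    exact IsPGroup.of_bot)

/-- A normal subgroup containing a Sylow subgroup of a non-`p`-closed group is not `p`-closed. -/
theorem not_pClosed_of_sylow_le (hG : ¬ Cfsg.IsPClosed p G) (T : Sylow p G) (N : Subgroup G)
    [N.Normal] (h : (T : Subgroup G) ≤ N) : ¬ Cfsg.IsPClosed p N := by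
  intro hc
  refine hG (pClosed_of_normal_sylow (P := T) ?_)
  rw [le_antisymm ((le_inf le_rfl h).trans ((pClosed_normal_iff N).mp hc T))
    (CfsgLib.Core.pCore_le_sylow T)]
  infer_instance

end CfsgLib.LocalEven
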