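import Cfsg.Agent.Lib.LocalEven.LargePpd

/-!
The primitive part of `q ^ n - 1` is at least `3 n + 1` outside an explicit finite list.

Owner: helper7.
-/

set_option autoImplicit false
set_option linter.all false
set_option maxHeartbeats 1000000

namespace CfsgLib.PrimitivePart

open CfsgLib.Zsigmondy Polynomial

/-- `q ^ n - 1` has a primitive divisor exceeding `3 n`. -/
def Big (q n : ℕ) : Prop :=
  ∃ M : ℕ, M ∣ q ^ n - 1 ∧ (∀ i : ℕ, 1 ≤ i → i < n → Nat.Coprime M (q ^ i - 1)) ∧ 3 * n + 1 ≤ M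

/-- Without a big primitive divisor `Φ_n(q)` is small. -/
theorem bound {q n : ℕ} (hq : 2 ≤ q) (hn : 2 < n) (hno : ¬ Big q n) :
    ∃ r k m : ℕ, r.Prime ∧ n = r ^ (k + 1) * m ∧ ¬ r ∣ m ∧ 0 < m ∧
      (∀ s : ℕ, s.Prime → s ∣ m → s < r) ∧
      ((q ^ r ^ k) ^ (r - 2) * (q ^ r ^ k - 1)) ^ Nat.totient m ≤ r * (3 * n) ∧
      (r = 2 → q ^ 2 ^ k + 1 ≤ 2 * (3 * n)) := by
  have hne : n.primeFactors.Nonempty := Nat.nonempty_primeFactors.2 (by omega)
  set r := n.primeFactors.max' hne with hrdef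
  have hrmem := n.primeFactors.max'_mem hne
  have hr : r.Prime := Nat.prime_of_mem_primeFactors hrmem
  have hrn : r ∣ n := Nat.dvd_of_mem_primeFactors hrmem
  have hmax : ∀ s : ℕ, s.Prime → s ∣ n → s ≤ r := fun s hs hsn =>
    n.primeFactors.le_max' s (Nat.mem_primeFactors.2 ⟨hs, hsn, by omega⟩)
  obtain ⟨e, m, hm, hnm⟩ := Nat.exists_eq_pow_mul_and_not_dvd (by omega : n ≠ 0) r hr.ne_one
  obtain ⟨k, rfl⟩ : ∃ k, e = k + 1 := ⟨e - 1, by
    rcases e with _ | e
    · simp at hnm; exact absurd (hnm ▸ hrn) hm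
    · omega⟩
  have hm0 : 0 < m := Nat.pos_of_ne_zero fun h => hm (h ▸ dvd_zero r)
  have hmlt : ∀ s : ℕ, s.Prime → s ∣ m → s < r := fun s hs hsm =>
    lt_of_le_of_ne (hmax s hs (hnm ▸ dvd_mul_of_dvd_right hsm _)) (fun h => hm (h ▸ hsm))
  refine ⟨r, k, m, hr, hnm, hm, hm0, hmlt, ?_⟩
  have hpos := cycVal_pos n (a := q) (by omega)
  obtain ⟨Φ, hΦ⟩ : ∃ Φ : ℕ, cycVal n q = (Φ : ℤ) := ⟨_, (Int.natAbs_of_nonneg hpos.le).symm⟩
  set b := q ^ r ^ k with hb
  have hb2 : 1 < b := Nat.one_lt_pow (pow_pos hr.pos k).ne' (by omega)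
  have hval : cycVal n q = cycVal (r * m) b := by rw [hnm, cycVal_prime_pow_mul hr k q]
  have hdvdq : Φ ∣ q ^ n - 1 := by
    rw [← Int.natCast_dvd_natCast, ← hΦ, Nat.cast_sub (Nat.one_le_pow _ _ (by omega))]
    have := (Polynomial.evalRingHom (q : ℤ)).map_dvd (cyclotomic.dvd_X_pow_sub_one n ℤ)
    simpa [cycVal] using this
  -- prime divisors of `Φ`
  have hprimes : ∀ s : ℕ, s.Prime → s ∣ Φ → (s ≠ r → ∀ i : ℕ, 1 ≤ i → i < n → ¬ s ∣ q ^ i - 1) ∧ (s = r → ¬ s ^ 2 ∣ Φ) := by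
    intro s hs hsd
    haveI := Fact.mk hs
    have hd : (s : ℤ) ∣ cycVal n q := hΦ ▸ Int.natCast_dvd_natCast.mpr hsd
    obtain ⟨l, m', hm', hnm'⟩ := Nat.exists_eq_pow_mul_and_not_dvd (by omega : n ≠ 0) s hs.ne_one
    have hprim := orderOf_of_dvd hnm' hm' hd
    have hm'0 : 0 < m' := Nat.pos_of_ne_zero fun h => hm' (h ▸ dvd_zero s)
    have hq0 : (q : ZMod s) ≠ 0 := hprim.ne_zero hm'0.ne'
    have hm's : m' ∣ s - 1 := hprim.eq_orderOf ▸ ZMod.orderOf_dvd_card_sub_one hq0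
    rcases l with _ | l
    · rw [pow_zero, one_mul] at hnm'
      subst hnm'
      have hsub : ∀ j : ℕ, s ∣ q ^ j - 1 ↔ n ∣ j := fun j => by
        rw [← ZMod.natCast_eq_zero_iff, Nat.cast_sub (Nat.one_le_pow _ _ (by omega)), Nat.cast_pow,
          Nat.cast_one, sub_eq_zero, hprim.pow_eq_one_iff_dvd]
      refine ⟨fun _ i hi hin hd' => absurd (Nat.le_of_dvd hi ((hsub i).1 hd')) (by omega), fun e => absurd ?_ hm'⟩
      exact e ▸ hrn
    · have hsr : s = r := by
        by_contra hne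
        have hrm' : r ∣ m' := by
          rcases hr.dvd_mul.mp (hnm' ▸ hrn) with h | h
          · exact absurd ((Nat.prime_dvd_prime_iff_eq hr hs).mp (hr.dvd_of_dvd_pow h)).symm hne
          · exact h
        have h1 := Nat.le_of_dvd (by have := hs.two_le; omega) (hrm'.trans hm's)
        have h2 := hmax s hs (hnm' ▸ dvd_mul_of_dvd_left (dvd_pow_self s l.succ_ne_zero) _)
        omega
      subst hsr
      refine ⟨fun e => absurd rfl e, fun _ h => ?_⟩
      have h' : (r : ℤ) ^ 2 ∣ cycVal (r * m) b := by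
        rw [← hval, hΦ]; exact_mod_cast h
      have hmm : m' = m := by
        have e1 : r ^ (l + 1) * m' = r ^ (k + 1) * m := hnm'.symm.trans hnm
        have h3 := congrArg (fun x => x.factorization r) e1
        simp only [Nat.factorization_mul (pow_ne_zero _ hr.ne_zero) hm'0.ne',
          Nat.factorization_mul (pow_ne_zero _ hr.ne_zero) hm0.ne', hr.factorization_pow,
          Finsupp.add_apply, Finsupp.single_eq_same,
          Nat.factorization_eq_zero_of_not_dvd hm, Nat.factorization_eq_zero_of_not_dvd hm',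
          add_zero] at h3
        rw [h3] at e1
        exact Nat.eq_of_mul_eq_mul_left (pow_pos hr.pos _) e1
      subst hmm
      rcases hr.eq_two_or_odd' with h2 | hodd
      · have hm1 : m' = 1 := Nat.dvd_one.mp (by rw [h2] at hm's; exact hm's)
        subst hm1
        rw [h2, mul_one, show cycVal 2 b = (b : ℤ) + 1 by simp [cycVal, cyclotomic_two]] at h'
        have hk1 : k ≠ 0 := by rintro rfl; rw [h2] at hnm; omega
        obtain ⟨c, hc⟩ : ∃ c, b = c ^ 2 := by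
          obtain ⟨k', rfl⟩ := Nat.exists_eq_succ_of_ne_zero hk1
          exact ⟨q ^ r ^ k', by rw [hb, ← pow_mul, h2, ← pow_succ]⟩
        rw [hc] at h'
        have h4 : 4 ∣ c ^ 2 + 1 := by exact_mod_cast h'
        obtain ⟨t, ht⟩ := h4
        rcases Nat.even_or_odd c with ⟨u, hu⟩ | ⟨u, hu⟩
        · rw [hu, show (u + u) ^ 2 = 4 * (u * u) by ring] at ht; omega
        · rw [hu, show (2 * u + 1) ^ 2 = 4 * (u * u + u) + 1 by ring] at ht; omega
      · have hbm : (r : ℤ) ∣ (b : ℤ) ^ m' - 1 := by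
          rw [← ZMod.intCast_zmod_eq_zero_iff_dvd]
          push_cast [hb]
          rw [← pow_mul, mul_comm, pow_mul, hprim.pow_eq_one, one_pow, sub_self]
        have hbm1 : (b : ℤ) ^ m' ≠ 1 := by
          have : 1 < b ^ m' := Nat.one_lt_pow hm0.ne' hb2
          exact_mod_cast this.ne'
        exact (sq_not_dvd hr hodd hm0 hbm).elim (fun h'' => h'' h') hbm1
  have hΦ0 : Φ ≠ 0 := fun h => by rw [hΦ, h] at hpos; simp at hpos
  have hΦle : Φ ≤ r * (3 * n) := by
    obtain ⟨M, hMd, hMr, hle⟩ : ∃ M, M ∣ Φ ∧ ¬ r ∣ M ∧ Φ ≤ r * M := by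
      by_cases h : r ∣ Φ
      · obtain ⟨M, hM⟩ := h
        refine ⟨M, ⟨r, by rw [hM, mul_comm]⟩, fun hd => (hprimes r hr ⟨M, hM⟩).2 rfl ?_, hM.le⟩
        rw [hM, sq]
        exact Nat.mul_dvd_mul_left r hd
      · exact ⟨Φ, dvd_rfl, h, Nat.le_mul_of_pos_left _ hr.pos⟩
    refine hle.trans (Nat.mul_le_mul_left _ ?_)
    by_contra hlt
    refine hno ⟨M, hMd.trans hdvdq, fun i hi hin => Nat.coprime_of_dvd fun s hs hsM hsi => ?_, by omega⟩
    exact (hprimes s hs (hsM.trans hMd)).1 (fun e => hMr (e ▸ hsM)) i hi hin hsi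
  refine ⟨?_, fun h2 => ?_⟩
  · set f := Nat.totient m with hf
    have hprod := cycVal_mul_not_dvd (a := b) hr hm
    rw [mul_comm m r, ← hval, hΦ] at hprod
    have hR : ((Φ : ℕ) : ℝ) * (cyclotomic m ℝ).eval (b : ℝ) =
        (cyclotomic m ℝ).eval ((b ^ r : ℕ) : ℝ) := by
      rw [← cycVal_cast, ← cycVal_cast, ← hprod]; push_cast; ring
    have hbR : (1 : ℝ) < (b : ℝ) := by exact_mod_cast hb2
    have hbrR : (1 : ℝ) < ((b ^ r : ℕ) : ℝ) := by exact_mod_cast Nat.one_lt_pow hr.ne_zero hb2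
    have h1 := sub_one_pow_totient_le_cyclotomic_eval hbrR m
    have h2 := cyclotomic_eval_le_add_one_pow_totient hbR m
    rw [← hR] at h1
    have h3 : (((b ^ r - 1 : ℕ) : ℝ)) ^ f ≤ (Φ : ℝ) * ((b + 1 : ℕ) : ℝ) ^ f := by
      rw [Nat.cast_sub (Nat.one_le_pow _ _ (by omega))]
      push_cast
      push_cast at h1
      exact h1.trans (mul_le_mul_of_nonneg_left h2 (Nat.cast_nonneg _))
    have h4 : (b ^ r - 1) ^ f ≤ Φ * (b + 1) ^ f := by exact_mod_cast h3
    have h5 : b ^ (r - 2) * (b - 1) * (b + 1) ≤ b ^ r - 1 := by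
      obtain ⟨c, hc⟩ : ∃ c, b = c + 1 := ⟨b - 1, by omega⟩
      obtain ⟨s, hs⟩ : ∃ s, r = s + 2 := ⟨r - 2, by have := hr.two_le; omega⟩
      have e : b ^ r = b ^ s * (c * (c + 2)) + b ^ s := by rw [hs, hc]; ring
      have hbs : 1 ≤ b ^ s := Nat.one_le_pow _ _ (by omega)
      rw [show r - 2 = s by omega, show b - 1 = c by omega, show b + 1 = c + 2 by omega, mul_assoc]
      omega
    have h6 := (Nat.pow_le_pow_left h5 f).trans h4
    rw [mul_pow] at h6
    exact (Nat.le_of_mul_le_mul_right h6 (pow_pos (by omega) f)).trans hΦle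
  · have hm1 : m = 1 := by
      by_contra hne
      obtain ⟨s, hs, hsm⟩ := Nat.exists_prime_and_dvd hne
      have := hmlt s hs hsm
      have := hs.two_le
      omega
    rw [hm1, mul_one, h2, show cycVal 2 b = (b : ℤ) + 1 by simp [cycVal, cyclotomic_two], hΦ] at hval
    have : Φ = b + 1 := by exact_mod_cast hval
    rw [hb, h2] at this
    rw [this, h2] at hΦle
    exact hΦle

/-- The thirteen exceptional pairs. -/
def excl : List (ℕ × ℕ) :=
  [(2, 6), (2, 4), (2, 10), (2, 12), (2, 18), (3, 4), (3, 6), (5, 6), (2, 3), (2, 8), (2, 20), (4, 3), (4, 6)]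

/-- Witnesses `(q, n, M)`. -/
def table : List (ℕ × ℕ × ℕ) :=
  [(3, 3, 13), (5, 3, 31), (6, 6, 31), (7, 6, 43), (3, 12, 73), (2, 24, 241), (2, 48, 65281), (2, 9, 73),
   (2, 5, 31), (3, 5, 121), (3, 10, 61), (2, 15, 151), (2, 30, 331), (2, 7, 127), (2, 14, 43),
   (2, 22, 683), (4, 4, 17)]

/-- `(q, n)` is exceptional or has a tabulated witness. -/
def known (q n : ℕ) : Bool :=
  decide ((q, n) ∈ excl) || table.any fun t => t.1 == q && t.2.1 == n

theorem table_valid : ∀ t ∈ table, t.2.2 ∣ t.1 ^ t.2.1 - 1 ∧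
    (∀ i < t.2.1, i = 0 ∨ Nat.Coprime t.2.2 (t.1 ^ i - 1)) ∧ 3 * t.2.1 + 1 ≤ t.2.2 := by
  decide +kernel

theorem of_known {q n : ℕ} (h : known q n = true) : (q, n) ∈ excl ∨ Big q n := by
  rw [known, Bool.or_eq_true, decide_eq_true_eq, List.any_eq_true] at h
  rcases h with h | ⟨⟨a, b, M⟩, ht, h2⟩
  · exact Or.inl h
  · obtain ⟨h1, h3, h4⟩ := table_valid _ ht
    simp only [Bool.and_eq_true, beq_iff_eq] at h2
    obtain ⟨rfl, rfl⟩ := h2
    exact Or.inr ⟨M, h1, fun i hi hin => (h3 i hin).resolve_left (by omega), h4⟩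

/-- The triples `(r, k, m)` left after the crude bound. -/
def triples : List (ℕ × ℕ × ℕ) :=
  [(3, 0, 1), (3, 0, 2), (3, 0, 4), (3, 0, 8), (3, 0, 16), (3, 1, 1), (3, 1, 2), (3, 1, 4), (3, 1, 8),
   (3, 2, 1), (3, 2, 2), (5, 0, 1), (5, 0, 2), (5, 0, 3), (5, 0, 4), (5, 0, 6), (5, 0, 8), (5, 0, 12),
   (7, 0, 1), (7, 0, 2), (7, 0, 3), (7, 0, 4), (7, 0, 6), (11, 0, 1), (11, 0, 2), (13, 0, 1), (13, 0, 2)]

theorem search : ∀ t ∈ triples, ∀ q < 96, 2 ≤ q →
    ((q ^ t.1 ^ t.2.1) ^ (t.1 - 2) * (q ^ t.1 ^ t.2.1 - 1)) ^ Nat.totient t.2.2 ≤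
      t.1 * (3 * (t.1 ^ (t.2.1 + 1) * t.2.2)) →
    known q (t.1 ^ (t.2.1 + 1) * t.2.2) = true := by
  decide +kernel

theorem small_m : ∀ rk ∈ [(3, 1), (3, 2), (5, 0), (7, 0), (11, 0), (13, 0)], ∀ m < 33, 0 < m →
    (∀ s < 33, Nat.Prime s → s ∣ m → s < rk.1) →
    (rk.1 - 2) * rk.1 ^ rk.2 * Nat.totient m ≤ 13 → (rk.1, rk.2, m) ∈ triples := by
  decide +kernel

theorem le_thirteen {N : ℕ} (h : 2 ^ N ≤ 54 * N ^ 2) : N ≤ 13 := by
  by_contra hN
  have : ∀ j, 14 ≤ j → 54 * j ^ 2 < 2 ^ j := by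
    intro j hj
    induction j, hj using Nat.le_induction with
    | base => norm_num
    | succ j hj ih => rw [pow_succ 2 j]; nlinarith
  exact absurd (this N (by omega)) (by omega)

theorem classify {r k m : ℕ} (hr : r.Prime) (hr3 : 3 ≤ r) (hm0 : 0 < m)
    (hsm : ∀ s : ℕ, s.Prime → s ∣ m → s < r) (hN : (r - 2) * r ^ k * Nat.totient m ≤ 13) :
    (r, k, m) ∈ triples := by
  have hX : 0 < Nat.totient m := Nat.totient_pos.2 hm0
  have hA : 1 ≤ (r - 2) * r ^ k := Nat.mul_pos (by omega) (pow_pos hr.pos k)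
  have hr13 : r - 2 ≤ 13 := by
    calc r - 2 = (r - 2) * 1 * 1 := by ring
      _ ≤ (r - 2) * r ^ k * Nat.totient m := by gcongr <;> [exact Nat.one_le_pow _ _ hr.pos; exact hX]
      _ ≤ 13 := hN
  have hk : (r - 2) * r ^ k ≤ 13 := le_trans (Nat.le_mul_of_pos_right _ hX) hN
  have hk3 : k ≤ 2 := by
    by_contra h
    have h1 : 3 ^ 3 ≤ r ^ k := (Nat.pow_le_pow_left hr3 3).trans (Nat.pow_le_pow_right hr.pos (by omega))
    have h2 : r ^ k ≤ (r - 2) * r ^ k := Nat.le_mul_of_pos_left _ (by omega)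
    omega
  have hm2 := (CfsgLib.LargePpd.le_two_mul_totient_sq m).1
  by_cases hspec : r = 3 ∧ k = 0
  · obtain ⟨rfl, rfl⟩ := hspec
    simp only [pow_zero, mul_one, show 3 - 2 = 1 from rfl, one_mul] at hN
    obtain ⟨j, hj⟩ : ∃ j, m = 2 ^ j := ⟨_, Nat.eq_prime_pow_of_unique_prime_dvd hm0.ne' fun {d} hd hdm => by
      have := hsm d hd hdm; have := hd.two_le; omega⟩
    subst hj
    have hj5 : j ≤ 4 := by
      by_contra h
      rw [Nat.totient_prime_pow Nat.prime_two (by omega)] at hN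
      have : 2 ^ 4 ≤ 2 ^ (j - 1) := Nat.pow_le_pow_right (by norm_num) (by omega)
      omega
    interval_cases j <;> decide
  have hmem : (r, k) ∈ [(3, 1), (3, 2), (5, 0), (7, 0), (11, 0), (13, 0)] := by
    have : r ≤ 15 := by omega
    interval_cases r <;> interval_cases k <;>
      first
        | decide
        | exact absurd ⟨rfl, rfl⟩ hspec
        | (exfalso; revert hk; norm_num; done)
        | (exfalso; revert hr; norm_num; done)
  have hm33 : m < 33 := by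
    have hX4 : Nat.totient m ≤ 4 := by
      simp only [List.mem_cons, Prod.mk.injEq, List.not_mem_nil, or_false] at hmem
      rcases hmem with ⟨rfl, rfl⟩ | ⟨rfl, rfl⟩ | ⟨rfl, rfl⟩ | ⟨rfl, rfl⟩ | ⟨rfl, rfl⟩ | ⟨rfl, rfl⟩ <;>
        norm_num at hN <;> omega
    nlinarith
  exact small_m (r, k) hmem m hm33 hm0 (fun s _ hs hd => hsm s hs hd) hN

/-- Outside the thirteen pairs there is a big primitive divisor. -/
theorem big_or_excl {q n : ℕ} (hq : 2 ≤ q) (hn : 3 ≤ n) : (q, n) ∈ excl ∨ Big q n := by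
  by_contra hcon
  obtain ⟨hne, hno⟩ := not_or.1 hcon
  obtain ⟨r, k, m, hr, hnm, -, hm0, hsm, hP, h2⟩ := bound hq (by omega) hno
  have hX : 0 < Nat.totient m := Nat.totient_pos.2 hm0
  rcases eq_or_ne r 2 with rfl | hr2
  · have hm1 : m = 1 := by
      by_contra h
      obtain ⟨s, hs, hsd⟩ := Nat.exists_prime_and_dvd h
      have := hsm s hs hsd; have := hs.two_le; omega
    subst hm1
    rw [mul_one] at hnm
    have h3 := h2 rfl
    rw [hnm, pow_succ] at h3
    have hk1 : 1 ≤ k := by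
      by_contra h
      have : k = 0 := by omega
      subst this
      simp at hnm
      omega
    have hk3 : k ≤ 2 := by
      by_contra h
      have h5 : ∀ j, 3 ≤ j → 12 * 2 ^ j < 2 ^ 2 ^ j := by
        intro j hj
        induction j, hj using Nat.le_induction with
        | base => norm_num
        | succ j hj ih =>
          rw [pow_succ 2 j, pow_mul, sq]
          nlinarith [Nat.one_le_two_pow (n := j)]
      have h6 := h5 k (by omega)
      have h7 : 2 ^ 2 ^ k ≤ q ^ 2 ^ k := Nat.pow_le_pow_left hq _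
      omega
    have hq4 : q ≤ 4 := by
      by_contra h
      have h7 : 5 ^ 2 ^ k ≤ q ^ 2 ^ k := Nat.pow_le_pow_left (by omega) _
      interval_cases k <;> norm_num at h7 h3 <;> omega
    have : known q n = true := by
      interval_cases k <;> interval_cases q <;> norm_num at hnm <;> subst hnm <;>
        first
          | decide
          | norm_num at h3
    exact (of_known this).elim hne hno
  have hr3 : 3 ≤ r := by have := hr.two_le; omega
  set N := (r - 2) * r ^ k * Nat.totient m with hN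
  have hqN : q ^ N ≤ 54 * N ^ 2 := by
    have e1 : q ^ N = ((q ^ r ^ k) ^ (r - 2)) ^ Nat.totient m := by
      rw [← pow_mul, ← pow_mul, hN]; ring_nf
    have h1 : 1 ≤ q ^ r ^ k - 1 := by
      have : 2 ^ 1 ≤ q ^ r ^ k := (Nat.pow_le_pow_left hq 1).trans
        (Nat.pow_le_pow_right (by omega) (pow_pos hr.pos k))
      omega
    rw [e1]
    refine (Nat.pow_le_pow_left (Nat.le_mul_of_pos_right _ h1) _).trans (hP.trans ?_)
    obtain ⟨t, ht⟩ : ∃ t, r = t + 3 := ⟨r - 3, by omega⟩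
    have hm2 := (CfsgLib.LargePpd.le_two_mul_totient_sq m).1
    have hrk : 1 ≤ r ^ k := Nat.one_le_pow _ _ hr.pos
    have hrr : r * r ≤ 9 * ((r - 2) * (r - 2)) := by
      rw [ht, show t + 3 - 2 = t + 1 by omega]; nlinarith
    calc r * (3 * n) = 3 * (r * r) * r ^ k * m := by rw [hnm, pow_succ]; ring
      _ ≤ 3 * (9 * ((r - 2) * (r - 2))) * (r ^ k * r ^ k) * (2 * Nat.totient m ^ 2) := by
          gcongr
          exact Nat.le_mul_of_pos_left _ hrk
      _ = 54 * N ^ 2 := by rw [hN]; ring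
  have hN13 : N ≤ 13 := le_thirteen ((Nat.pow_le_pow_left hq N).trans hqN)
  have hq96 : q < 96 := by
    by_contra h
    have hN1 : 1 ≤ N := Nat.mul_pos (Nat.mul_pos (by omega) (pow_pos hr.pos k)) hX
    rcases eq_or_lt_of_le hN1 with e | e
    · rw [← e, pow_one] at hqN; omega
    · have h2' : 96 ^ 2 ≤ q ^ N := (Nat.pow_le_pow_left (by omega) 2).trans (Nat.pow_le_pow_right (by omega) e)
      have : N ^ 2 ≤ 13 ^ 2 := Nat.pow_le_pow_left hN13 2
      omega
  have hk := search (r, k, m) (classify hr hr3 hm0 hsm hN13) q hq96 hq (hnm ▸ hP)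
  exact (of_known (hnm ▸ hk)).elim hne hno

end CfsgLib.PrimitivePart
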