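import Cfsg.Agent.Lib.LocalEven.NormOffender

/-!
# Products over the orbits of an offender

An abelian `p`-group `A` acts on an abelian group `V` in such a way that for every subgroup `B` the
fixed points of `A` have index at most `|A : B|` in those of `B`. Then the product over an orbit
is a `p`-th power, unless `p = 2` and the orbit has two elements.

* `prod_mem`, `prod_invariant_mem`
-/

set_option autoImplicit false

namespace CfsgLib.LocalEven.OrbitProd

open Subgroup

variable {V : Type*} [CommGroup V] [Finite V] {p : ℕ} [hp : Fact p.Prime]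

/-- The product over a faithful abelian offender is a `p`-th power. -/
theorem prod_mem {Q : Type*} [CommGroup Q] [Fintype Q] (hQ : IsPGroup p Q) (ψ : Q →* MulAut V)
    {F : Subgroup V} (hF : ∀ f ∈ F, ∀ q, ψ q f = f) (hidx : F.index ≤ Nat.card Q)
    (hQ1 : 1 < Nat.card Q) (hQ2 : p ≠ 2 ∨ 2 < Nat.card Q) (v : V) :
    ∏ q : Q, ψ q v ∈ (powMonoidHom p : V →* V).range := by
  obtain ⟨P, hP⟩ : ∃ P, P = (powMonoidHom p : V →* V).range := ⟨_, rfl⟩
  have hst : ∀ q, P ≤ P.comap (ψ q).toMonoidHom := by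
    intro q t ht
    rw [hP] at ht ⊢
    obtain ⟨t, rfl⟩ := ht
    exact ⟨ψ q t, (map_pow (ψ q) t p).symm⟩
  let ρ : Q →* AddMonoid.End (Additive (V ⧸ P)) :=
    { toFun := fun q => MonoidHom.toAdditive (QuotientGroup.map P P (ψ q).toMonoidHom (hst q))
      map_one' := by
        refine AddMonoidHom.ext fun m => ?_
        induction m using Additive.ofMul.surjective.forall.mpr with
        | _ m => ?_
        induction m using QuotientGroup.induction_on with
        | _ t => exact congrArg (fun e : MulAut V => Additive.ofMul (QuotientGroup.mk (e t))) (map_one ψ)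
      map_mul' := fun q q' => by
        refine AddMonoidHom.ext fun m => ?_
        induction m using Additive.ofMul.surjective.forall.mpr with
        | _ m => ?_
        induction m using QuotientGroup.induction_on with
        | _ t => exact congrArg (fun e : MulAut V => Additive.ofMul (QuotientGroup.mk (e t))) (map_mul ψ q q') }
  have hM : ∀ m : Additive (V ⧸ P), p • m = 0 := by
    intro m
    apply Additive.toMul.injective
    rw [toMul_nsmul, toMul_zero]
    obtain ⟨t, ht⟩ := QuotientGroup.mk_surjective m.toMul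
    rw [← ht, ← QuotientGroup.mk_pow, QuotientGroup.eq_one_iff, hP]
    exact ⟨t, rfl⟩
  obtain ⟨j, hj⟩ := IsPGroup.iff_card.mp hQ
  have hfix : (NormOff.fix ρ).index ≤ p ^ j := by
    rw [← hj]
    refine le_trans ?_ hidx
    have h1 : (F.map (QuotientGroup.mk' P)).index ≤ F.index :=
      Nat.le_of_dvd (Nat.pos_of_ne_zero index_ne_zero_of_finite)
        (index_map_dvd F (QuotientGroup.mk'_surjective P))
    refine le_trans ?_ h1
    rw [← index_toAddSubgroup]
    refine Nat.le_of_dvd (Nat.pos_of_ne_zero AddSubgroup.index_ne_zero_of_finite)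
      (AddSubgroup.index_dvd_of_le ?_)
    rintro m ⟨f, hf, hfm⟩ q
    have hm : m = Additive.ofMul (QuotientGroup.mk f) := (congrArg Additive.ofMul hfm).symm
    rw [hm]
    exact congrArg (fun t : V => Additive.ofMul (QuotientGroup.mk (s := P) t)) (hF f hf q)
  have hj' : p ≠ 2 ∧ 1 ≤ j ∨ 2 ≤ j := by
    have h1 : 1 ≤ j := by
      by_contra h
      rw [hj, show j = 0 by omega, pow_zero] at hQ1
      omega
    rcases hQ2 with h | h
    · exact Or.inl ⟨h, h1⟩
    · by_cases h2 : p = 2
      · right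
        by_contra hc
        rw [hj, h2, show j = 1 by omega] at h
        omega
      · exact Or.inl ⟨h2, h1⟩
  have h0 := NormOff.norm_eq_zero ρ hQ hM hj hfix hj' (Additive.ofMul (QuotientGroup.mk v))
  rw [← hP, ← QuotientGroup.eq_one_iff]
  show QuotientGroup.mk' P (∏ q : Q, ψ q v) = 1
  rw [map_prod]
  have h1 := congrArg Additive.toMul h0
  rwa [toMul_sum, toMul_zero] at h1

variable {A : Type*} [CommGroup A] [Finite A] (ψ : A →* MulAut V)

/-- The stabilizer of `w`. -/
def stab (w : V) : Subgroup A where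
  carrier := {a | ψ a w = w}
  one_mem' := by simp
  mul_mem' := fun {a b} (ha : ψ a w = w) (hb : ψ b w = w) => by
    show ψ (a * b) w = w
    rw [map_mul, MulAut.mul_apply, hb, ha]
  inv_mem' := fun {a} (ha : ψ a w = w) => by
    show ψ a⁻¹ w = w
    rw [map_inv, MulAut.inv_apply, MulEquiv.symm_apply_eq, ha]

/-- The fixed points of `B`. -/
def fixedBy (B : Subgroup A) : Subgroup V where
  carrier := {v | ∀ b ∈ B, ψ b v = v}
  one_mem' := fun b _ => map_one (ψ b)
  mul_mem' := fun {u v} hu hv b hb => by rw [map_mul, hu b hb, hv b hb]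
  inv_mem' := fun {u} hu b hb => by rw [map_inv, hu b hb]

variable (hA : IsPGroup p A)
  (hb : ∀ B : Subgroup A, (fixedBy ψ ⊤).relIndex (fixedBy ψ B) ≤ B.index)
include hA hb

/-- An orbit. -/
theorem exists_orbit (w : V) (hw : stab ψ w ≠ ⊤) (h2 : p ≠ 2 ∨ 2 < (stab ψ w).index) :
    ∃ O : Finset V, w ∈ O ∧ (∀ v ∈ O, ∃ a, v = ψ a w) ∧ (∀ a, ψ a w ∈ O) ∧
      ∏ v ∈ O, v ∈ (powMonoidHom p : V →* V).range := by
  classical
  obtain ⟨B, hB⟩ : ∃ B, B = stab ψ w := ⟨_, rfl⟩
  rw [← hB] at hw h2
  letI : Fintype (A ⧸ B) := Fintype.ofFinite _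
  have hst : ∀ a : A, ∀ v ∈ fixedBy ψ B, ψ a v ∈ fixedBy ψ B := by
    intro a v hv b hb'
    rw [← MulAut.mul_apply, ← map_mul, mul_comm, map_mul, MulAut.mul_apply, hv b hb']
  let χ : A →* MulAut (fixedBy ψ B) :=
    { toFun := fun a =>
        { toFun := fun v => ⟨ψ a v, hst a v v.2⟩
          invFun := fun v => ⟨ψ a⁻¹ v, hst _ v v.2⟩
          left_inv := fun v => Subtype.ext (by simp [map_inv])
          right_inv := fun v => Subtype.ext (by simp [map_inv])
          map_mul' := fun u v => Subtype.ext (map_mul (ψ a) (u : V) (v : V)) }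
      map_one' := MulEquiv.ext fun v => Subtype.ext (by simp)
      map_mul' := fun a a' => MulEquiv.ext fun v => Subtype.ext (by simp) }
  have hker : B ≤ χ.ker := fun b hb' =>
    MulEquiv.ext fun v => Subtype.ext (v.2 b hb')
  let θ : A ⧸ B →* MulAut (fixedBy ψ B) := QuotientGroup.lift B χ hker
  have hwB : w ∈ fixedBy ψ B := fun b hb' => (hB ▸ hb' : b ∈ stab ψ w)
  have hθ : ∀ a : A, ((θ a ⟨w, hwB⟩ : fixedBy ψ B) : V) = ψ a w := fun a => rfl
  refine ⟨Finset.univ.image (fun q : A ⧸ B => ((θ q ⟨w, hwB⟩ : fixedBy ψ B) : V)), ?_, ?_, ?_, ?_⟩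
  · exact Finset.mem_image.mpr ⟨(1 : A), Finset.mem_univ _, by rw [hθ, map_one]; rfl⟩
  · intro v hv
    obtain ⟨q, -, rfl⟩ := Finset.mem_image.mp hv
    induction q using QuotientGroup.induction_on with
    | _ a => exact ⟨a, hθ a⟩
  · exact fun a => Finset.mem_image.mpr ⟨(a : A ⧸ B), Finset.mem_univ _, hθ a⟩
  have hinj : Function.Injective (fun q : A ⧸ B => ((θ q ⟨w, hwB⟩ : fixedBy ψ B) : V)) := by
    intro q q' h
    induction q using QuotientGroup.induction_on with
    | _ a => ?_
    induction q' using QuotientGroup.induction_on with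
    | _ a' => ?_
    simp only [hθ] at h
    rw [QuotientGroup.eq, hB]
    show ψ (a⁻¹ * a') w = w
    rw [map_mul, MulAut.mul_apply, ← h, map_inv, MulAut.inv_apply, MulEquiv.symm_apply_apply]
  rw [Finset.prod_image hinj.injOn]
  have hidx : ((fixedBy ψ ⊤).subgroupOf (fixedBy ψ B)).index ≤ Nat.card (A ⧸ B) := hb B
  have hF : ∀ f ∈ (fixedBy ψ ⊤).subgroupOf (fixedBy ψ B), ∀ q, θ q f = f := by
    intro f hf q
    induction q using QuotientGroup.induction_on with
    | _ a => exact Subtype.ext (mem_subgroupOf.mp hf a (mem_top a))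
  have h1 : 1 < Nat.card (A ⧸ B) := by
    have : B.index ≠ 1 := fun h => hw (index_eq_one.mp h)
    have : B.index ≠ 0 := index_ne_zero_of_finite
    show 1 < B.index
    omega
  obtain ⟨t, ht⟩ := prod_mem (hA.to_quotient B) θ hF hidx h1 h2 ⟨w, hwB⟩
  refine ⟨(t : V), ?_⟩
  have := congrArg (fun u : fixedBy ψ B => (u : V)) ht
  simpa [Subgroup.val_finset_prod] using this

/-- The product over an invariant set without short orbits. -/
theorem prod_invariant_mem (s : Finset V) (hs : ∀ a, ∀ v ∈ s, ψ a v ∈ s)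
    (h : ∀ w ∈ s, stab ψ w ≠ ⊤ ∧ (p ≠ 2 ∨ 2 < (stab ψ w).index)) :
    ∏ v ∈ s, v ∈ (powMonoidHom p : V →* V).range := by
  classical
  induction s using Finset.strongInduction with
  | _ s IH => ?_
  rcases s.eq_empty_or_nonempty with rfl | ⟨w, hw⟩
  · rw [Finset.prod_empty]; exact one_mem _
  obtain ⟨O, hwO, hOw, hOa, hO⟩ := exists_orbit ψ hA hb w (h w hw).1 (h w hw).2
  have hOs : O ⊆ s := fun v hv => by
    obtain ⟨a, rfl⟩ := hOw v hv
    exact hs a w hw
  rw [← Finset.prod_sdiff hOs]
  refine mul_mem (IH _ (Finset.sdiff_ssubset hOs ⟨w, hwO⟩) (fun a v hv => ?_)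
    (fun v hv => h v (Finset.mem_sdiff.mp hv).1)) hO
  rw [Finset.mem_sdiff] at hv ⊢
  refine ⟨hs a v hv.1, fun hc => hv.2 ?_⟩
  obtain ⟨b, hb'⟩ := hOw _ hc
  have : v = ψ (a⁻¹ * b) w := by
    rw [map_mul, MulAut.mul_apply, ← hb', map_inv, MulAut.inv_apply, MulEquiv.symm_apply_apply]
  rw [this]
  exact hOa _

end CfsgLib.LocalEven.OrbitProd
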