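import Cfsg.Agent.Lib.LocalEven.WeaklyClosedChain
import Cfsg.Agent.Lib.LocalEven.OrbitProducts
import Cfsg.Agent.Lib.Techniques2.SFourFree
import Cfsg.Agent.Lib.LocalEvenB.BaerSuzuki
import Cfsg.Agent.Lib.PLocal.ZJ
import Cfsg.Agent.Lib.Core.Basic
import Cfsg.Agent.Lib.LocalEvenB.ZJLocalFree

/-!
# An element central in `N(J(S))` is weakly closed

Glauberman's theorem, for `J` generated by the abelian subgroups of largest order.

* `weaklyClosed_center`
-/

set_option autoImplicit false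

namespace CfsgLib.LocalEven.WClosed

open Subgroup Cfsg CfsgLib.LocalEven.JMeasure
open CfsgLib.PLocal (comm_of_mem)
open scoped Pointwise

universe u

variable {G : Type*} [Group G] [Finite G] {p : ℕ} [Fact p.Prime] {S : Sylow p G} {x : G}

/-- An offender on a subgroup `W` of `S`. -/
theorem offender {W : Subgroup G} [W.Normal] (hW : IsMulCommutative W) (hWS : W ≤ (S : Subgroup G))
    {A B : Subgroup G} (hA : MaxAb (S : Subgroup G) A) (hB : B ≤ A) :
    (W ⊓ centralizer (A : Set G)).relIndex (W ⊓ centralizer (B : Set G)) ≤ B.relIndex A := by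
  obtain ⟨W₀, hW₀⟩ : ∃ W₀, W₀ = W ⊓ centralizer (B : Set G) := ⟨_, rfl⟩
  rw [← hW₀]
  have hc : B ≤ centralizer (W₀ : Set G) := le_centralizer_iff.mp (hW₀ ▸ inf_le_right)
  have hab : IsMulCommutative (B ⊔ W₀ : Subgroup G) := Techniques.abelian_sup
    (Techniques.abelian_mono hA.2.1 hB) (Techniques.abelian_mono hW (hW₀ ▸ inf_le_left)) hc
  have hcard := hA.2.2 _ (sup_le (hB.trans hA.1) ((hW₀ ▸ inf_le_left : W₀ ≤ W).trans hWS)) hab
  have hprod := Core.card_sup_mul_card_inf B W₀ (hc.trans (centralizer_le_normalizer _))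
  have hinf : B ⊓ W₀ ≤ W ⊓ centralizer (A : Set G) := le_inf
    (inf_le_right.trans (hW₀ ▸ inf_le_left))
    ((inf_le_left.trans hB).trans (le_centralizer_iff_isMulCommutative.mpr hA.2.1))
  have hFW : W ⊓ centralizer (A : Set G) ≤ W₀ :=
    hW₀ ▸ inf_le_inf_left _ (centralizer_le (SetLike.coe_subset_coe.mpr hB))
  have h1 := Techniques.card_mul_relIndex' hFW
  have h2 := Techniques.card_mul_relIndex' hB
  have h3 := card_le_of_le hinf
  have h4 : 0 < Nat.card (W ⊓ centralizer (A : Set G) : Subgroup G) := Nat.card_pos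
  have h5 : 0 < Nat.card B := Nat.card_pos
  refine Nat.le_of_mul_le_mul_left ?_ (Nat.mul_pos h5 h4)
  calc Nat.card B * Nat.card (W ⊓ centralizer (A : Set G) : Subgroup G) *
        (W ⊓ centralizer (A : Set G)).relIndex W₀
      = Nat.card B * Nat.card W₀ := by rw [mul_assoc, h1]
    _ = Nat.card (B ⊔ W₀ : Subgroup G) * Nat.card (B ⊓ W₀ : Subgroup G) := hprod.symm
    _ ≤ Nat.card A * Nat.card (W ⊓ centralizer (A : Set G) : Subgroup G) :=
        Nat.mul_le_mul hcard h3
    _ = _ := by rw [← h2]; ring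

variable (c : Ctx S x)
include c

/-- Outside `O_p(G)`. -/
theorem of_not_mem_core (hx : x ∉ core p G) {g : G} (hg : g * x * g⁻¹ ∈ (S : Subgroup G)) :
    g * x * g⁻¹ = x := by
  have hd : Dist S x (g • S) (g * x * g⁻¹) := dist_smul dist_self g
  refine chain c hd dist_self hg fun hJ => hx ?_
  have hy : g * x * g⁻¹ ∈ thompsonSubgroupAOf (((g • S : Sylow p G) : Subgroup G) ⊓ S) :=
    mem_of_central (mem_inf.mpr ⟨dist_mem c hd, hg⟩)
      fun t ht => dist_commutes c hd (mem_inf.mp ht).1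
  simpa [mul_assoc] using conj_mem_core (g := g⁻¹) (hJ hy)

variable (hx : x ∈ core p G)
include hx

omit [Finite G] [Fact p.Prime] c in
theorem closure_le_core : normalClosure {x} ≤ core p G := by
  haveI := core_normal (p := p) (G := G)
  exact normalClosure_le_normal (Set.singleton_subset_iff.mpr hx)

omit [Fact p.Prime] hx in
theorem closure_le_centralizer : normalClosure {x} ≤ centralizer (core p G : Set G) := by
  haveI : (core p G).Normal := core_normal
  exact normalClosure_le_normal (Set.singleton_subset_iff.mpr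
    (mem_centralizer_iff.mpr fun q hq => self_commutes c (core_le S hq)))

theorem closure_comm : IsMulCommutative (normalClosure ({x} : Set G)) :=
  le_centralizer_iff_isMulCommutative.mp ((closure_le_centralizer c).trans
    (centralizer_le (SetLike.coe_subset_coe.mpr (closure_le_core hx))))

theorem core_le_centralizer_closure : core p G ≤ centralizer (normalClosure ({x} : Set G) : Set G) :=
  le_centralizer_iff.mp (closure_le_centralizer c)

/-- A conjugate centralized by a largest abelian subgroup outside `O_p(G)`. -/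
theorem eq_of_centralized {A : Subgroup G} (hA : MaxAb (S : Subgroup G) A) (hAQ : ¬ A ≤ core p G)
    {g : G} (hAw : A ≤ centralizer {g * x * g⁻¹}) : g * x * g⁻¹ = x := by
  obtain ⟨w, hw⟩ : ∃ w, w = g * x * g⁻¹ := ⟨_, rfl⟩
  rw [← hw] at hAw ⊢
  have hd : Dist S x (g • S) w := hw ▸ dist_smul dist_self g
  have hPC : ((g • S : Sylow p G) : Subgroup G) ≤ centralizer {w} := fun t ht =>
    mem_centralizer_singleton_iff.mpr (dist_commutes c hd ht)
  obtain ⟨R, hR⟩ := ((S.2.to_le hA.1).comap_subtype (K := centralizer {w})).exists_le_sylow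
  obtain ⟨h, hh⟩ := MulAction.exists_smul_eq (centralizer {w}) ((g • S).subtype hPC) R
  have hd2 : Dist S x ((h : G) • g • S) w := by
    have := dist_smul hd (h : G)
    rwa [mem_centralizer_singleton_iff.mp h.2, mul_inv_cancel_right] at this
  have hAP : A ≤ (((h : G) • g • S : Sylow p G) : Subgroup G) := by
    intro a ha
    have h1 : (⟨a, hAw ha⟩ : centralizer {w}) ∈ (R : Subgroup (centralizer {w})) :=
      hR (mem_subgroupOf.mpr ha)
    rw [← hh, Transfer.mem_sylow_smul] at h1
    exact Transfer.mem_sylow_smul.mpr h1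
  refine (chain c dist_self hd2 (core_le _ hx) fun hJ => hAQ ?_).symm
  refine le_trans (le_thompson (maxAb_of_le hA (le_inf hA.1 hAP) ?_)) hJ
  exact abOrd_mono inf_le_left

/-- A Frattini factorization outside `O_p(G)` makes `x` central. -/
theorem central_of_factorization {T : Subgroup G} (hTS : T ≤ (S : Subgroup G))
    (hT : ¬ T ≤ core p G) (hST : (S : Subgroup G) ≤ normalizer (T : Set G))
    (hf : normalizer (T : Set G) ⊔ centralizer (normalClosure ({x} : Set G) : Set G) = ⊤) (g : G) :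
    g * x * g⁻¹ = x := by
  have hg : g ∈ normalizer (T : Set G) ⊔ centralizer (normalClosure ({x} : Set G) : Set G) :=
    hf.symm ▸ mem_top g
  rw [← SetLike.mem_coe, coe_mul_of_left_le_normalizer_right _ _ le_normalizer_of_normal] at hg
  obtain ⟨n, hn, k, hk, rfl⟩ := hg
  have hkx : k * x * k⁻¹ = x := by
    rw [← mem_centralizer_iff.mp hk x (subset_normalClosure rfl), mul_inv_cancel_right]
  have he : n * k * x * (n * k)⁻¹ = n * x * n⁻¹ := by
    calc n * k * x * (n * k)⁻¹ = n * (k * x * k⁻¹) * n⁻¹ := by group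
      _ = _ := by rw [hkx]
  rw [he]
  refine c.sub _ (fun h => hT (le_core (normalizer_eq_top_iff.mp h) (S.2.to_le hTS))) _ hST S.2
    (fun hd => S.not_dvd_index (hd.trans ?_)) x c.mem (inf_le_right.trans c.norm) c.hyp n hn
    (core_le S (conj_mem_core hx))
  exact ⟨_, (relIndex_mul_index hST).symm⟩

/-- The centralizer of the closure meets `S` in `O_p(G)`. -/
theorem inf_centralizer_le (hne : ∃ g, g * x * g⁻¹ ≠ x) :
    (S : Subgroup G) ⊓ centralizer (normalClosure ({x} : Set G) : Set G) ≤ core p G := by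
  by_contra hT
  obtain ⟨g, hg⟩ := hne
  obtain ⟨C, hC⟩ : ∃ C, C = centralizer (normalClosure ({x} : Set G) : Set G) := ⟨_, rfl⟩
  haveI : C.Normal := hC ▸ inferInstance
  rw [← hC] at hT
  refine hg (central_of_factorization c hx inf_le_left hT ?_ ?_ g)
  · exact le_trans (le_inf le_normalizer (le_normalizer_of_normal : (S : Subgroup G) ≤ normalizer (C : Set G)))
      Transfer.normalizer_le_normalizer_inf
  · have hnd : ¬ p ∣ (S : Subgroup G).relIndex C := fun hd =>
      S.not_dvd_index (hd.trans (CfsgLib.HallGen.relIndex_dvd_index_right _ _))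
    let T' : Sylow p C := (S.2.comap_subtype).toSylow hnd
    have hT' : (T' : Subgroup C).map C.subtype = (S : Subgroup G) ⊓ C := subgroupOf_map_subtype _ _
    exact hC ▸ hT' ▸ Sylow.normalizer_sup_eq_top T'

/-- No transvection: the case of a second power. -/
theorem two_case_pow {A : Subgroup G} (hA : MaxAb (S : Subgroup G) A) (hAQ : ¬ A ≤ core p G)
    (h2 : Nat.card A = 2 * Nat.card (A ⊓ core p G : Subgroup G)) (hp : p = 2)
    {z : G} (hz : z ∈ (S : Subgroup G) ⊓ centralizer ((S : Subgroup G) : Set G)) (hzx : z ^ p = x)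
    (hne : ∃ g, g * x * g⁻¹ ≠ x) : False := by
  obtain ⟨g, hg⟩ := hne
  refine hg (eq_of_centralized c hx hA hAQ ?_)
  haveI : (core p G).Normal := core_normal
  have hzQ : z ∈ centralizer (core p G : Set G) :=
    centralizer_le (SetLike.coe_subset_coe.mpr (core_le S)) (mem_inf.mp hz).2
  have hzc : z ∈ core p G := inf_centralizer_le c hx ⟨g, hg⟩ (mem_inf.mpr ⟨(mem_inf.mp hz).1,
    centralizer_le (SetLike.coe_subset_coe.mpr (closure_le_core hx)) hzQ⟩)
  obtain ⟨W, hW⟩ : ∃ W, W = normalClosure ({z} : Set G) := ⟨_, rfl⟩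
  haveI : W.Normal := hW ▸ inferInstance
  have hWQ : W ≤ core p G := hW ▸ normalClosure_le_normal (Set.singleton_subset_iff.mpr hzc)
  have hWc : W ≤ centralizer (core p G : Set G) :=
    hW ▸ normalClosure_le_normal (Set.singleton_subset_iff.mpr hzQ)
  have hWab : IsMulCommutative W := le_centralizer_iff_isMulCommutative.mp
    (hWc.trans (centralizer_le (SetLike.coe_subset_coe.mpr hWQ)))
  have hoff := offender hWab (hWQ.trans (core_le S)) hA (inf_le_left : A ⊓ core p G ≤ A)
  rw [inf_eq_left.mpr (hWc.trans (centralizer_le (SetLike.coe_subset_coe.mpr inf_le_right)))] at hoff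
  have hidx : (A ⊓ core p G).relIndex A = 2 := by
    have h := Techniques.card_mul_relIndex' (inf_le_left : A ⊓ core p G ≤ A)
    rw [h2, mul_comm 2] at h
    exact Nat.eq_of_mul_eq_mul_left Nat.card_pos h
  rw [hidx] at hoff
  have hω : g * z * g⁻¹ ∈ W := by
    rw [hW]
    exact normalClosure_normal.conj_mem z (subset_normalClosure (Set.mem_singleton z)) g
  have hsq : (g * z * g⁻¹) ^ 2 ∈ W ⊓ centralizer (A : Set G) := by
    obtain ⟨F, hF⟩ : ∃ F, F = W ⊓ centralizer (A : Set G) := ⟨_, rfl⟩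
    rw [← hF] at hoff ⊢
    haveI : (F.subgroupOf W).Normal := by
      letI : CommGroup W := { (inferInstance : Group W) with mul_comm := hWab.is_comm.comm }
      infer_instance
    rcases (Nat.le_succ_iff.mp hoff).imp (fun h => h) id with h | h
    · have hF0 : F.relIndex W ≠ 0 := index_ne_zero_of_finite
      have : W ≤ F := relIndex_eq_one.mp (by omega)
      exact pow_mem (this hω) 2
    · have h' : (⟨_, hω⟩ : W) ^ 2 ∈ F.subgroupOf W := by
        rw [← QuotientGroup.eq_one_iff, QuotientGroup.mk_pow, show 2 = (F.subgroupOf W).index from h.symm]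
        exact pow_card_eq_one'
      exact h'
  rw [conj_pow, ← hp, hzx] at hsq
  exact fun a ha => mem_centralizer_singleton_iff.mpr (mem_centralizer_iff.mp (mem_inf.mp hsq).2 a ha)

/-- No transvection: the case without sections `S₄`. -/
theorem two_case_free {A : Subgroup G} (hA : MaxAb (S : Subgroup G) A) (hAQ : ¬ A ≤ core p G)
    (h2 : Nat.card A = 2 * Nat.card (A ⊓ core p G : Subgroup G)) (hp : p = 2)
    (hfree : ¬ Involves (Equiv.Perm (Fin 4)) G)
    (hne : ∃ g, g * x * g⁻¹ ≠ x) : False := by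
  subst hp
  obtain ⟨V, hV⟩ : ∃ V, V = normalClosure ({x} : Set G) := ⟨_, rfl⟩
  haveI : V.Normal := hV ▸ inferInstance
  have hVQ : V ≤ core 2 G := hV ▸ closure_le_core hx
  have hVc : V ≤ centralizer (core 2 G : Set G) := hV ▸ closure_le_centralizer c
  have hVab : IsMulCommutative V := hV ▸ closure_comm c hx
  have hB : A ⊓ core 2 G ≤ centralizer (V : Set G) :=
    inf_le_right.trans (le_centralizer_iff.mp hVc)
  have hoff := offender hVab (hVQ.trans (core_le S)) hA (inf_le_left : A ⊓ core 2 G ≤ A)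
  rw [inf_eq_left.mpr (le_centralizer_iff.mp hB)] at hoff
  have hidx : (A ⊓ core 2 G).relIndex A = 2 := by
    have h := Techniques.card_mul_relIndex' (inf_le_left : A ⊓ core 2 G ≤ A)
    rw [h2, mul_comm 2] at h
    exact Nat.eq_of_mul_eq_mul_left Nat.card_pos h
  rw [hidx] at hoff
  obtain ⟨a, haA, haQ⟩ := SetLike.not_le_iff_exists.mp hAQ
  have ha2 : a * a ∈ centralizer (V : Set G) := by
    have h : (⟨a, haA⟩ : A) * ⟨a, haA⟩ ∈ (A ⊓ core 2 G).subgroupOf A :=
      mul_self_mem_of_index_two hidx _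
    exact hB h
  obtain ⟨C, hC⟩ : ∃ C, C = centralizer (V : Set G) := ⟨_, rfl⟩
  rw [← hC] at hB ha2
  haveI : C.Normal := hC ▸ inferInstance
  -- the index of the fixed points of `a`
  have hfix : (V ⊓ centralizer ({a} : Set G)).relIndex V ≤ 2 := by
    refine le_trans (relIndex_le_of_le_left (inf_le_inf_left V ?_) index_ne_zero_of_finite) hoff
    exact centralizer_le (Set.singleton_subset_iff.mpr haA)
  -- `a` lies outside the `2`-core modulo `C`
  obtain ⟨K, hK⟩ : ∃ K, K = (pCore 2 (G ⧸ C)).comap (QuotientGroup.mk' C) := ⟨_, rfl⟩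
  have haK : a ∉ K := by
    intro haK
    obtain ⟨g, hg⟩ := hne
    haveI : (pCore 2 (G ⧸ C)).Normal := CfsgLib.Components.pCore_normal 2
    haveI : K.Normal := hK ▸ inferInstance
    have hCK : C ≤ K := by
      intro t ht
      rw [hK, mem_comap, QuotientGroup.mk'_apply, (QuotientGroup.eq_one_iff t).mpr ht]
      exact one_mem _
    have hTC : (S : Subgroup G) ⊓ K ⊔ C = K := by
      obtain ⟨k, hk⟩ := IsPGroup.iff_card.mp (CfsgLib.Components.pCore_isPGroup 2 (G := G ⧸ C))
      refine CfsgLib.PLocal.pGroup_mod_eq_sup hCK ⟨k, ?_⟩ S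
      have h := relIndex_ker (QuotientGroup.mk' C) (K := K)
      rw [QuotientGroup.ker_mk', hK,
        map_comap_eq_self_of_surjective (QuotientGroup.mk'_surjective _)] at h
      rw [hK, h, hk]
    have hnd : ¬ 2 ∣ (S : Subgroup G).relIndex K := fun hd =>
      S.not_dvd_index (hd.trans (CfsgLib.HallGen.relIndex_dvd_index_right _ _))
    let T' : Sylow 2 K := (S.2.comap_subtype).toSylow hnd
    have hT' : (T' : Subgroup K).map K.subtype = (S : Subgroup G) ⊓ K := subgroupOf_map_subtype _ _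
    have hfr : normalizer ((((S : Subgroup G) ⊓ K : Subgroup G)) : Set G) ⊔ K = ⊤ :=
      hT' ▸ Sylow.normalizer_sup_eq_top T'
    refine hg (central_of_factorization c hx (T := (S : Subgroup G) ⊓ K) inf_le_left
      (fun h => haQ (h ⟨hA.1 haA, haK⟩)) ?_ ?_ g)
    · exact le_trans (le_inf le_normalizer (le_normalizer_of_normal : (S : Subgroup G) ≤ normalizer (K : Set G)))
        Transfer.normalizer_le_normalizer_inf
    · rw [← hV, ← hC, eq_top_iff, ← hfr]
      refine sup_le le_sup_left ?_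
      conv_lhs => rw [← hTC]
      exact sup_le (le_normalizer.trans le_sup_left) le_sup_right
  rw [hK, mem_comap] at haK
  -- an element of odd order inverted
  obtain ⟨h, hh1, hho, hinv⟩ := CfsgLib.LocalEvenB.exists_odd_inverted (v := QuotientGroup.mk' C a)
    (by rw [← map_mul]; exact (QuotientGroup.eq_one_iff _).mpr ha2) haK
  obtain ⟨k, rfl⟩ := QuotientGroup.mk'_surjective C h
  have hak : a * k * a⁻¹ * k ∈ C := by
    rw [← QuotientGroup.eq_one_iff]
    show QuotientGroup.mk' C (a * k * a⁻¹ * k) = 1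
    rw [map_mul, map_mul, map_mul, map_inv, hinv, inv_mul_cancel]
  obtain ⟨m, hm, hkm⟩ : ∃ m, Odd m ∧ k ^ m ∈ C := ⟨_, hho, by
    rw [← QuotientGroup.eq_one_iff]
    show QuotientGroup.mk' C (k ^ _) = 1
    rw [map_pow, pow_orderOf_eq_one]⟩
  refine hh1 ((QuotientGroup.eq_one_iff k).mpr ?_)
  -- the elements of order two
  obtain ⟨E, hE⟩ : ∃ E : Subgroup G, ∀ v, v ∈ E ↔ v ∈ V ∧ v ^ 2 = 1 :=
    ⟨{ carrier := {v | v ∈ V ∧ v ^ 2 = 1}
       one_mem' := ⟨one_mem _, one_pow 2⟩
       mul_mem' := fun {u v} hu hv => ⟨mul_mem hu.1 hv.1, by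
         rw [(show Commute u v from comm_of_mem hVab hu.1 hv.1).mul_pow, hu.2, hv.2, one_mul]⟩
       inv_mem' := fun {u} hu => ⟨inv_mem hu.1, by rw [inv_pow, hu.2, inv_one]⟩ }, fun v => Iff.rfl⟩
  have hEV : E ≤ V := fun v hv => ((hE v).mp hv).1
  have hEn : E.Normal := ⟨fun v hv t => (hE _).mpr
    ⟨Normal.conj_mem inferInstance v ((hE v).mp hv).1 t, by rw [conj_pow, ((hE v).mp hv).2]; group⟩⟩
  have hEel : IsElementaryAbelian 2 E :=
    ⟨Techniques.abelian_mono hVab hEV, fun v hv => ((hE v).mp hv).2⟩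
  have hCE : C ≤ centralizer (E : Set G) := hC ▸ centralizer_le (SetLike.coe_subset_coe.mpr hEV)
  have hkE : k ∈ centralizer (E : Set G) := by
    have hN : ∀ t : G, t ∈ normalizer (E : Set G) := fun t =>
      (normalizer_eq_top_iff.mpr hEn).symm ▸ mem_top t
    by_contra hkE
    have h4 := Techniques.four_mul_card_le hEel (hN a) (hN k) (hCE hak) ⟨m, hm, hCE hkm⟩ hkE
      (fun h3 => Techniques.mem_centralizer_of_inverted_cube hfree hEel (hN a) (hN k) (hCE hak) h3)
    have h5 : (E ⊓ centralizer ({a} : Set G)).relIndex E ≤ 2 := by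
      refine le_trans (le_of_eq ?_) ((relIndex_le_of_le_right hEV index_ne_zero_of_finite).trans hfix)
      rw [← inf_relIndex_right (V ⊓ centralizer ({a} : Set G)) E]
      congr 1
      rw [inf_comm V, inf_assoc, inf_eq_right.mpr hEV, inf_comm]
    have h6 := Techniques.card_mul_relIndex'
      (inf_le_left : E ⊓ centralizer ({a} : Set G) ≤ E)
    have h7 : 0 < Nat.card (E ⊓ centralizer ({a} : Set G) : Subgroup G) := Nat.card_pos
    nlinarith [Nat.mul_le_mul_left (Nat.card (E ⊓ centralizer ({a} : Set G) : Subgroup G)) h5]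
  rw [hC]
  refine mem_centralizer_iff.mpr fun v hv => ?_
  obtain ⟨n, hn⟩ := (S.2.to_le (hVQ.trans (core_le S))) ⟨v, hv⟩
  have hn' : v ^ 2 ^ n = 1 := congrArg Subtype.val hn
  clear hn
  induction n generalizing v with
  | zero => rw [pow_zero, pow_one] at hn'; rw [hn', one_mul, mul_one]
  | succ n ih =>
    have h2' := ih (v ^ 2) (pow_mem hv 2) (by rw [← pow_mul, ← pow_succ', hn'])
    obtain ⟨e, he⟩ : ∃ e, e = v⁻¹ * (k * v * k⁻¹) := ⟨_, rfl⟩
    have hkv : k * v * k⁻¹ ∈ V := Normal.conj_mem inferInstance v hv k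
    have heE : e ∈ E := (hE e).mpr ⟨he ▸ mul_mem (inv_mem hv) hkv, by
      rw [he, (show Commute v⁻¹ (k * v * k⁻¹) from comm_of_mem hVab (inv_mem hv) hkv).mul_pow,
        conj_pow, ← h2', mul_inv_cancel_right, inv_pow, inv_mul_cancel]⟩
    have hke : k * e * k⁻¹ = e := by rw [← mem_centralizer_iff.mp hkE e heE, mul_inv_cancel_right]
    have hj : ∀ j : ℕ, k ^ j * v * (k ^ j)⁻¹ = v * e ^ j := by
      intro j
      induction j with
      | zero => simp
      | succ j ihj =>
        calc k ^ (j + 1) * v * (k ^ (j + 1))⁻¹ = k * (k ^ j * v * (k ^ j)⁻¹) * k⁻¹ := by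
              rw [pow_succ']; group
          _ = k * v * k⁻¹ * (k * e * k⁻¹) ^ j := by rw [ihj, conj_pow]; group
          _ = v * e * e ^ j := by rw [hke, he]; group
          _ = v * e ^ (j + 1) := by rw [pow_succ', mul_assoc]
    have he1 : e = 1 := by
      have h := hj m
      rw [← mem_centralizer_iff.mp (hC ▸ hkm) v hv, mul_inv_cancel_right, left_eq_mul] at h
      obtain ⟨r, rfl⟩ := hm
      rwa [pow_succ, pow_mul, ((hE e).mp heE).2, one_pow, one_mul] at h
    rw [he, inv_mul_eq_one, eq_mul_inv_iff_mul_eq] at he1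
    exact he1

/-- Inside `O_p(G)`, the element is central. -/
theorem central_of_mem_core (g : G) : g * x * g⁻¹ = x := by
  classical
  by_contra hg
  have hne : ∃ g, g * x * g⁻¹ ≠ x := ⟨g, hg⟩
  have hJ : ¬ thompsonSubgroupAOf (S : Subgroup G) ≤ core p G := by
    intro hle
    refine hg ?_
    have he := Techniques.thompsonAOf_eq_of_le (core_le S) fun A hA => (le_thompson hA).trans hle
    have hgc : g ∈ normalizer (core p G : Set G) := by
      rw [normalizer_eq_top_iff.mpr core_normal]; exact mem_top g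
    have hgN : g ∈ normalizer (thompsonSubgroupAOf (S : Subgroup G) : Set G) :=
      he ▸ normalizer_le (core p G) hgc
    rw [mem_centralizer_singleton_iff.mp (c.norm hgN), mul_inv_cancel_right]
  obtain ⟨A, ⟨hA, hAQ⟩, hmax⟩ : ∃ A, (MaxAb (S : Subgroup G) A ∧ ¬ A ≤ core p G) ∧
      ∀ A', MaxAb (S : Subgroup G) A' → ¬ A' ≤ core p G →
        Nat.card (A' ⊓ core p G : Subgroup G) ≤ Nat.card (A ⊓ core p G : Subgroup G) := by
    rw [thompson_le_iff] at hJ
    push Not at hJ
    obtain ⟨A, hA⟩ := hJ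
    obtain ⟨A', hA', hmax⟩ := Set.exists_max_image
      {A : Subgroup G | MaxAb (S : Subgroup G) A ∧ ¬ A ≤ core p G}
      (fun A => Nat.card (A ⊓ core p G : Subgroup G)) (Set.toFinite _) ⟨A, hA⟩
    exact ⟨A', hA', fun B h1 h2 => hmax B ⟨h1, h2⟩⟩
  by_cases hsmall : p = 2 ∧ Nat.card A = 2 * Nat.card (A ⊓ core p G : Subgroup G)
  · rcases c.hyp with hp | ⟨z, hz, hzx⟩ | hf
    · exact hp hsmall.1
    · exact two_case_pow c hx hA hAQ hsmall.2 hsmall.1 hz hzx hne
    · exact two_case_free c hx hA hAQ hsmall.2 hsmall.1 hf hne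
  obtain ⟨V, hV⟩ : ∃ V, V = normalClosure ({x} : Set G) := ⟨_, rfl⟩
  haveI : V.Normal := hV ▸ inferInstance
  have hVQ : V ≤ core p G := hV ▸ closure_le_core hx
  have hVS : V ≤ (S : Subgroup G) := hVQ.trans (core_le S)
  have hVab : IsMulCommutative V := hV ▸ closure_comm c hx
  have hxV : x ∈ V := hV ▸ subset_normalClosure rfl
  letI : CommGroup V := { (inferInstance : Group V) with mul_comm := hVab.is_comm.comm }
  letI : CommGroup A := { (inferInstance : Group A) with mul_comm := hA.2.1.is_comm.comm }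
  letI : Fintype V := Fintype.ofFinite V
  let ψ : A →* MulAut V := (MulAut.conjNormal).comp A.subtype
  have hψ : ∀ (a : A) (v : V), (((ψ a v : V)) : G) = (a : G) * v * (a : G)⁻¹ := fun a v => rfl
  have hbound : ∀ B : Subgroup A, (OrbitProd.fixedBy ψ ⊤).relIndex (OrbitProd.fixedBy ψ B) ≤
      B.index := by
    intro B
    have hmap : ∀ B : Subgroup A, (OrbitProd.fixedBy ψ B).map V.subtype =
        V ⊓ centralizer ((B.map A.subtype : Subgroup G) : Set G) := by
      intro B
      ext t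
      constructor
      · rintro ⟨v, hv, rfl⟩
        refine mem_inf.mpr ⟨v.2, mem_centralizer_iff.mpr ?_⟩
        rintro _ ⟨b, hb, rfl⟩
        exact mul_inv_eq_iff_eq_mul.mp (congrArg Subtype.val (hv b hb))
      · intro ht
        refine ⟨⟨t, (mem_inf.mp ht).1⟩, fun b hb => Subtype.ext ?_, rfl⟩
        exact mul_inv_eq_iff_eq_mul.mpr (mem_centralizer_iff.mp (mem_inf.mp ht).2 _ ⟨b, hb, rfl⟩)
    rw [← relIndex_map_map_of_injective _ _ V.subtype_injective, hmap, hmap,
      ← MonoidHom.range_eq_map, A.range_subtype]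
    refine (offender hVab hVS hA (map_subtype_le B)).trans (le_of_eq ?_)
    rw [relIndex, Subgroup.subgroupOf, comap_map_eq_self_of_injective A.subtype_injective]
  -- the conjugates
  obtain ⟨Ω, hΩ⟩ : ∃ Ω : Finset V, ∀ v, v ∈ Ω ↔ ∃ t, (v : G) = t * x * t⁻¹ :=
    ⟨Finset.univ.filter fun v => ∃ t, (v : G) = t * x * t⁻¹, fun v => by simp⟩
  have hconjΩ : ∀ (t : G) (v : V), v ∈ Ω → MulAut.conjNormal t v ∈ Ω := by
    intro t v hv
    obtain ⟨s, hs⟩ := (hΩ v).mp hv
    exact (hΩ _).mpr ⟨t * s, by rw [MulAut.conjNormal_apply, hs]; group⟩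
  obtain ⟨x₀, hx₀⟩ : ∃ x₀ : V, (x₀ : G) = x := ⟨⟨x, hxV⟩, rfl⟩
  have hx₀Ω : x₀ ∈ Ω := (hΩ _).mpr ⟨1, by rw [hx₀]; group⟩
  obtain ⟨s, hs⟩ : ∃ s : V, s = ∏ v ∈ Ω, v := ⟨_, rfl⟩
  have hsfix : ∀ t : G, MulAut.conjNormal t s = s := by
    intro t
    rw [hs, map_prod]
    refine Finset.prod_nbij' (fun v => MulAut.conjNormal t v) (fun v => MulAut.conjNormal t⁻¹ v)
      (fun v hv => hconjΩ t v hv) (fun v hv => hconjΩ t⁻¹ v hv) (fun v _ => ?_) (fun v _ => ?_)
      (fun v _ => rfl)
    · rw [← MulAut.mul_apply, ← map_mul, inv_mul_cancel, map_one]; rfl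
    · rw [← MulAut.mul_apply, ← map_mul, mul_inv_cancel, map_one]; rfl
  have hrest : ∏ v ∈ Ω.erase x₀, v ∈ (powMonoidHom p : V →* V).range := by
    refine OrbitProd.prod_invariant_mem ψ ((S.2.to_le hA.1)) hbound _ (fun a v hv => ?_) fun v hv => ?_
    · rw [Finset.mem_erase] at hv ⊢
      refine ⟨fun he => hv.1 ?_, hconjΩ _ v hv.2⟩
      apply (ψ a).injective
      rw [he]
      refine Subtype.ext ?_
      rw [hψ, hx₀, self_commutes c (hA.1 a.2), mul_inv_cancel_right]
    rw [Finset.mem_erase] at hv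
    obtain ⟨t, ht⟩ := (hΩ v).mp hv.2
    obtain ⟨B, hB⟩ : ∃ B, B = A ⊓ centralizer ({(v : G)} : Set G) := ⟨_, rfl⟩
    have hstab : (OrbitProd.stab ψ v).map A.subtype = B := by
      ext b
      rw [hB, mem_inf, mem_centralizer_singleton_iff]
      constructor
      · rintro ⟨a, ha, rfl⟩
        exact ⟨a.2, mul_inv_eq_iff_eq_mul.mp (congrArg Subtype.val ha)⟩
      · rintro ⟨hbA, hb⟩
        exact ⟨⟨b, hbA⟩, Subtype.ext (mul_inv_eq_iff_eq_mul.mpr hb), rfl⟩
    have hBne : ¬ A ≤ B := by
      intro h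
      refine hv.1 (Subtype.ext ?_)
      rw [hx₀, ht]
      exact eq_of_centralized c hx hA hAQ (fun a ha => ht ▸ (mem_inf.mp (hB ▸ h ha)).2)
    have hind : (OrbitProd.stab ψ v).index = B.relIndex A := by
      rw [← hstab, relIndex, Subgroup.subgroupOf, comap_map_eq_self_of_injective A.subtype_injective]
    refine ⟨fun h => hBne ?_, ?_⟩
    · rw [← hstab, h, ← MonoidHom.range_eq_map, A.range_subtype]
    by_cases hp : p = 2
    swap
    · exact Or.inl hp
    right
    rw [hind]
    by_contra hlt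
    have hBA : B ≤ A := hB ▸ inf_le_left
    have h0 : B.relIndex A ≠ 0 := index_ne_zero_of_finite
    have h1 : B.relIndex A ≠ 1 := fun h => hBne (relIndex_eq_one.mp h)
    have h2 : B.relIndex A = 2 := by omega
    have hcA := Techniques.card_mul_relIndex' hBA
    rw [h2] at hcA
    -- the second offender
    obtain ⟨W, hW⟩ : ∃ W, W = V ⊓ centralizer (B : Set G) := ⟨_, rfl⟩
    have hvW : (v : G) ∈ W := by
      rw [hW]
      exact mem_inf.mpr ⟨v.2, mem_centralizer_iff.mpr fun b hb => mem_centralizer_singleton_iff.mp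
        (mem_inf.mp (hB ▸ hb)).2⟩
    have hvA : (v : G) ∉ A := fun h => hBne fun a ha => hB ▸ mem_inf.mpr ⟨ha,
      mem_centralizer_singleton_iff.mpr (comm_of_mem hA.2.1 ha h)⟩
    have hvF : (v : G) ∉ V ⊓ centralizer (A : Set G) := fun h => hBne fun a ha => hB ▸ mem_inf.mpr
      ⟨ha, mem_centralizer_singleton_iff.mpr (mem_centralizer_iff.mp (mem_inf.mp h).2 a ha)⟩
    have hc : B ≤ centralizer (W : Set G) := le_centralizer_iff.mp (hW ▸ inf_le_right)
    have hab : IsMulCommutative (B ⊔ W : Subgroup G) := Techniques.abelian_sup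
      (Techniques.abelian_mono hA.2.1 hBA) (Techniques.abelian_mono hVab (hW ▸ inf_le_left)) hc
    have hle : B ⊔ W ≤ (S : Subgroup G) :=
      sup_le (hBA.trans hA.1) ((hW ▸ inf_le_left : W ≤ V).trans hVS)
    have hFW : V ⊓ centralizer (A : Set G) ≤ W :=
      hW ▸ inf_le_inf_left _ (centralizer_le (SetLike.coe_subset_coe.mpr hBA))
    have hFlt : V ⊓ centralizer (A : Set G) < W := lt_of_le_of_ne hFW fun h => hvF (h ▸ hvW)
    have hW2 : 2 * Nat.card (V ⊓ centralizer (A : Set G) : Subgroup G) ≤ Nat.card W := by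
      rw [← Techniques.card_mul_relIndex' hFW, mul_comm]
      refine Nat.mul_le_mul_left _ ?_
      have : (V ⊓ centralizer (A : Set G)).relIndex W ≠ 1 := fun h =>
        hFlt.not_ge (relIndex_eq_one.mp h)
      have : (V ⊓ centralizer (A : Set G)).relIndex W ≠ 0 := index_ne_zero_of_finite
      omega
    have hprod := Core.card_sup_mul_card_inf B W (hc.trans (centralizer_le_normalizer _))
    have hinf : Nat.card (B ⊓ W : Subgroup G) ≤
        Nat.card (V ⊓ centralizer (A : Set G) : Subgroup G) :=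
      card_le_of_le (le_inf (inf_le_right.trans (hW ▸ inf_le_left))
        ((inf_le_left.trans hBA).trans (le_centralizer_iff_isMulCommutative.mpr hA.2.1)))
    have hcard : Nat.card A ≤ Nat.card (B ⊔ W : Subgroup G) := by
      refine Nat.le_of_mul_le_mul_right ?_
        (Nat.card_pos (α := (V ⊓ centralizer (A : Set G) : Subgroup G)))
      calc Nat.card A * Nat.card (V ⊓ centralizer (A : Set G) : Subgroup G)
          = Nat.card B * (2 * Nat.card (V ⊓ centralizer (A : Set G) : Subgroup G)) := by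
            rw [← hcA]; ring
        _ ≤ Nat.card B * Nat.card W := Nat.mul_le_mul_left _ hW2
        _ = Nat.card (B ⊔ W : Subgroup G) * Nat.card (B ⊓ W : Subgroup G) := hprod.symm
        _ ≤ _ := Nat.mul_le_mul_left _ hinf
    have hA' : MaxAb (S : Subgroup G) (B ⊔ W) :=
      ⟨hle, hab, fun D h1 h2 => (hA.2.2 D h1 h2).trans hcard⟩
    have hQB : A ⊓ core p G ≤ B := fun b hb => hB ▸ mem_inf.mpr ⟨(mem_inf.mp hb).1,
      mem_centralizer_singleton_iff.mpr
        (mem_centralizer_iff.mp (closure_le_centralizer c (hV ▸ v.2)) b (mem_inf.mp hb).2)⟩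
    by_cases hsub : B ⊔ W ≤ core p G
    · refine hsmall ⟨hp, ?_⟩
      rw [show A ⊓ core p G = B from le_antisymm hQB (le_inf hBA (le_sup_left.trans hsub)), ← hcA,
        mul_comm]
    · refine absurd (hmax _ hA' hsub) (not_le.mpr (Transfer.card_lt_of_lt ?_))
      refine lt_of_le_of_ne (le_inf (hQB.trans le_sup_left) inf_le_right) fun he => hvA ?_
      exact (mem_inf.mp (he ▸ mem_inf.mpr ⟨mem_sup_right hvW, hVQ v.2⟩)).1
  -- generation modulo the powers
  obtain ⟨P, hP⟩ : ∃ P, P = zpowers s ⊔ (powMonoidHom p : V →* V).range := ⟨_, rfl⟩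
  have hPconj : ∀ (t : G) (v : V), v ∈ P → MulAut.conjNormal t v ∈ P := by
    intro t v hv
    rw [hP] at hv ⊢
    obtain ⟨u, hu, w, ⟨r, rfl⟩, rfl⟩ := mem_sup.mp hv
    obtain ⟨i, rfl⟩ := mem_zpowers_iff.mp hu
    rw [map_mul, map_zpow, hsfix]
    exact mem_sup.mpr ⟨_, zpow_mem (mem_zpowers s) i, _,
      ⟨MulAut.conjNormal t r, (map_pow (MulAut.conjNormal t) r p).symm⟩, rfl⟩
  have hxP : x₀ ∈ P := by
    have h := Finset.mul_prod_erase Ω (fun v => v) hx₀Ω
    rw [← hs] at h
    rw [eq_mul_inv_of_mul_eq h, hP]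
    exact mul_mem (mem_sup_left (mem_zpowers s)) (inv_mem (mem_sup_right hrest))
  have hPtop : P = ⊤ := by
    rw [eq_top_iff]
    rintro ⟨v, hv⟩ -
    have h : v ∈ P.map V.subtype := by
      have h' := hV ▸ hv
      rw [normalClosure] at h'
      refine (closure_le _).mpr ?_ h'
      intro t ht
      obtain ⟨r, hr, hrt⟩ := Group.mem_conjugatesOfSet_iff.mp ht
      obtain rfl := Set.mem_singleton_iff.mp hr
      obtain ⟨u, rfl⟩ := isConj_iff.mp hrt
      exact ⟨_, hPconj u x₀ hxP, by
        show ((MulAut.conjNormal u x₀ : V) : G) = _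
        rw [MulAut.conjNormal_apply, hx₀]⟩
    obtain ⟨w, hw, hwv⟩ := h
    obtain rfl : w = ⟨v, hv⟩ := Subtype.ext hwv
    exact hw
  -- `V` is generated by `s`
  have hVs : zpowers s = ⊤ := by
    by_contra hne'
    haveI : Nontrivial (V ⧸ zpowers s) := QuotientGroup.nontrivial_iff.mpr hne'
    have hpV : IsPGroup p (V ⧸ zpowers s) := (S.2.to_le hVS).to_quotient _
    have hsur : Function.Surjective (powMonoidHom p : V ⧸ zpowers s →* V ⧸ zpowers s) := by
      intro q
      obtain ⟨v, rfl⟩ := QuotientGroup.mk_surjective q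
      obtain ⟨u, hu, w, ⟨r, rfl⟩, rfl⟩ := mem_sup.mp (hP ▸ hPtop.symm ▸ mem_top v :
        v ∈ zpowers s ⊔ (powMonoidHom p : V →* V).range)
      refine ⟨QuotientGroup.mk r, ?_⟩
      rw [QuotientGroup.mk_mul, (QuotientGroup.eq_one_iff u).mpr hu, one_mul]
      rfl
    obtain ⟨k, hk⟩ := IsPGroup.iff_card.mp hpV
    have hk0 : k ≠ 0 := fun h => by
      have := Finite.one_lt_card (α := V ⧸ zpowers s)
      rw [hk, h, pow_zero] at this
      omega
    obtain ⟨q, hq⟩ := exists_prime_orderOf_dvd_card' p (hk ▸ dvd_pow_self p hk0)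
    have h1 : (powMonoidHom p : V ⧸ zpowers s →* V ⧸ zpowers s) q = powMonoidHom p 1 := by
      rw [map_one, powMonoidHom_apply, ← hq, pow_orderOf_eq_one]
    rw [(Finite.injective_iff_surjective.mpr hsur) h1, orderOf_one] at hq
    exact (Fact.out : p.Prime).one_lt.ne hq
  obtain ⟨i, hi⟩ := mem_zpowers_iff.mp (hVs.symm ▸ mem_top x₀ : x₀ ∈ zpowers s)
  have h := hsfix g
  have h2 : MulAut.conjNormal g x₀ = x₀ := by rw [← hi, map_zpow, h]
  exact hg (by rw [← hx₀, ← MulAut.conjNormal_apply, h2])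

omit hx in
/-- The conclusion in the inductive situation. -/
theorem conclusion {g : G} (hg : g * x * g⁻¹ ∈ (S : Subgroup G)) : g * x * g⁻¹ = x := by
  by_cases hx : x ∈ core p G
  · exact central_of_mem_core c hx g
  · exact of_not_mem_core c hx hg

omit hx c

theorem weaklyClosed_aux : ∀ (n : ℕ) {G : Type u} [Group G] [Finite G] {p : ℕ} [Fact p.Prime]
    (S : Sylow p G) (x : G), Nat.card G = n → x ∈ (S : Subgroup G) →
    normalizer (thompsonSubgroupAOf (S : Subgroup G) : Set G) ≤ centralizer {x} →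
    Hyp p (S : Subgroup G) x → ∀ g : G, g * x * g⁻¹ ∈ (S : Subgroup G) → g * x * g⁻¹ = x := by
  intro n
  induction n using Nat.strong_induction_on with
  | _ n IH => ?_
  intro G _ _ p _ S x hn hxS hN hyp g hg
  refine conclusion ⟨hxS, hN, hyp, ?_⟩ hg
  intro W hW R hRW hR hidx y hy hNy hyp' w hw hwy
  have hlt : Nat.card W < n := hn ▸ lt_of_le_of_ne (card_le_card_group W)
    fun h => hW (eq_top_of_card_eq W h)
  let R' : Sylow p W := (hR.comap_subtype (K := W)).toSylow hidx
  have hmap : (R' : Subgroup W).map W.subtype = R := by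
    show (R.subgroupOf W).map W.subtype = R
    rw [subgroupOf_map_subtype, inf_eq_left.mpr hRW]
  have hJ : (thompsonSubgroupAOf (R' : Subgroup W)).map W.subtype = thompsonSubgroupAOf R := by
    rw [Techniques.thompsonAOf_map W.subtype _ (by rw [W.ker_subtype]; exact disjoint_bot_right),
      hmap]
  have h := IH _ hlt R' ⟨y, hRW hy⟩ rfl hy (fun v hv => ?_) ?_ ⟨w, hw⟩ hwy
  · exact congrArg Subtype.val h
  · have hvN : (v : G) ∈ normalizer (thompsonSubgroupAOf R : Set G) := by
      rw [← hJ]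
      exact le_normalizer_map W.subtype ⟨v, hv, rfl⟩
    exact mem_centralizer_singleton_iff.mpr (Subtype.ext
      (mem_centralizer_singleton_iff.mp (hNy (mem_inf.mpr ⟨v.2, hvN⟩))))
  · rcases hyp' with hp | ⟨z, hz, hzy⟩ | hf
    · exact Or.inl hp
    · refine Or.inr (Or.inl ⟨⟨z, hRW (mem_inf.mp hz).1⟩, mem_inf.mpr ⟨(mem_inf.mp hz).1,
        mem_centralizer_iff.mpr fun r hr => Subtype.ext
          (mem_centralizer_iff.mp (mem_inf.mp hz).2 _ hr)⟩, Subtype.ext hzy⟩)
    · exact Or.inr (Or.inr fun h => hf (CfsgLib.LocalEven.involves_of_section W.subtype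
        W.subtype_injective (MonoidHom.id W) Function.surjective_id h))

/-- An element of `S` central in `N(J(S))` is weakly closed in `S`. -/
theorem weaklyClosed_center {G : Type u} [Group G] [Finite G] {p : ℕ} [Fact p.Prime]
    (S : Sylow p G) {x : G} (hxS : x ∈ (S : Subgroup G))
    (hN : normalizer (thompsonSubgroupAOf (S : Subgroup G) : Set G) ≤ centralizer {x})
    (h : p ≠ 2 ∨ (∃ z ∈ (S : Subgroup G) ⊓ centralizer ((S : Subgroup G) : Set G), z ^ p = x) ∨
      ¬ Involves (Equiv.Perm (Fin 4)) G) :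
    ∀ g : G, g * x * g⁻¹ ∈ (S : Subgroup G) → g * x * g⁻¹ = x :=
  weaklyClosed_aux (Nat.card G) S x rfl hxS hN h

end CfsgLib.LocalEven.WClosed
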