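import Cfsg.Agent.Lib.Techniques2.ThompsonA
import Cfsg.Agent.Lib.Transfer.Conj

/-!
# A measure of `p`-subgroups by their abelian Thompson subgroups

* `eq_sSup`, `mem_of_central`: the subgroup `J(T)` generated by the largest abelian subgroups
* `mu`, `mu_lt`: the lexicographic measure `(|A|, |J(T)|, |T|)`
-/

set_option autoImplicit false

namespace CfsgLib.LocalEven.JMeasure

open Subgroup Cfsg CfsgLib.PLocal

variable {G : Type*} [Group G]

/-- A largest abelian subgroup of `T`. -/
abbrev MaxAb (T A : Subgroup G) : Prop := IsMaxIn (fun A => IsMulCommutative A) T A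

theorem eq_sSup (T : Subgroup G) : thompsonSubgroupAOf T = sSup {A : Subgroup G | MaxAb T A} := by
  rw [thompsonSubgroupAOf, thompsonSubgroupA]
  refine le_antisymm (map_le_iff_le_comap.2 (sSup_le fun A hA => map_le_iff_le_comap.1
    (le_sSup ((maxAbelian_image T).le ⟨A, hA, rfl⟩)))) (sSup_le fun A hA => ?_)
  obtain ⟨A, hA', rfl⟩ := (maxAbelian_image T).ge hA
  exact map_mono (le_sSup hA')

theorem le_thompson {T A : Subgroup G} (hA : MaxAb T A) : A ≤ thompsonSubgroupAOf T := by
  rw [eq_sSup]; exact le_sSup hA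

theorem thompson_le (T : Subgroup G) : thompsonSubgroupAOf T ≤ T := map_subtype_le _

theorem thompson_le_iff {T K : Subgroup G} :
    thompsonSubgroupAOf T ≤ K ↔ ∀ A, MaxAb T A → A ≤ K := by
  rw [eq_sSup, sSup_le_iff]; rfl

theorem thompson_map_conj (g : G) (T : Subgroup G) :
    (thompsonSubgroupAOf T).map (MulAut.conj g).toMonoidHom =
      thompsonSubgroupAOf (T.map (MulAut.conj g).toMonoidHom) :=
  Techniques.thompsonAOf_map _ _ (by
    rw [(MonoidHom.ker_eq_bot_iff _).2 (MulAut.conj g).injective]; exact disjoint_bot_right)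

theorem normalizer_le [Finite G] (T : Subgroup G) :
    normalizer (T : Set G) ≤ normalizer (thompsonSubgroupAOf T : Set G) := fun g hg => by
  rw [← Transfer.map_conj_eq_self_iff] at hg ⊢
  rw [thompson_map_conj, hg]

variable [Finite G]

theorem exists_maxAb (T : Subgroup G) : ∃ A, MaxAb T A := exists_maxIn (goodPred_abelian 1) T

theorem mem_of_commutes {T A : Subgroup G} (hA : MaxAb T A) {z : G} (hz : z ∈ T)
    (hc : ∀ a ∈ A, a * z = z * a) : z ∈ A := by
  have hzc : zpowers z ≤ centralizer (A : Set G) := zpowers_le.2 (mem_centralizer_iff.2 hc)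
  have hab := Techniques.abelian_sup (A := zpowers z) (B := A) inferInstance hA.2.1 hzc
  have h := eq_of_le_of_card_ge (le_sup_right : A ≤ zpowers z ⊔ A)
    (hA.2.2 _ (sup_le (zpowers_le.2 hz) hA.1) hab)
  rw [h]
  exact mem_sup_left (mem_zpowers z)

theorem mem_of_central {T : Subgroup G} {z : G} (hz : z ∈ T) (hc : ∀ t ∈ T, t * z = z * t) :
    z ∈ thompsonSubgroupAOf T := by
  obtain ⟨A, hA⟩ := exists_maxAb T
  exact le_thompson hA (mem_of_commutes hA hz fun a ha => hc a (hA.1 ha))

/-- The order of the largest abelian subgroups. -/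
noncomputable def abOrd (T : Subgroup G) : ℕ := Nat.card (exists_maxAb T).choose

theorem card_eq_abOrd {T A : Subgroup G} (hA : MaxAb T A) : Nat.card A = abOrd T :=
  le_antisymm ((exists_maxAb T).choose_spec.2.2 A hA.1 hA.2.1)
    (hA.2.2 _ (exists_maxAb T).choose_spec.1 (exists_maxAb T).choose_spec.2.1)

theorem card_le_abOrd {T A : Subgroup G} (hA : A ≤ T) (hab : IsMulCommutative A) :
    Nat.card A ≤ abOrd T := (exists_maxAb T).choose_spec.2.2 A hA hab

theorem abOrd_mono {T U : Subgroup G} (h : T ≤ U) : abOrd T ≤ abOrd U := by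
  obtain ⟨A, hA⟩ := exists_maxAb T
  exact card_eq_abOrd hA ▸ card_le_abOrd (hA.1.trans h) hA.2.1

theorem abOrd_le_of_thompson_le {R U : Subgroup G} (h : thompsonSubgroupAOf R ≤ U) :
    abOrd R ≤ abOrd U := by
  obtain ⟨A, hA⟩ := exists_maxAb R
  exact card_eq_abOrd hA ▸ card_le_abOrd ((le_thompson hA).trans h) hA.2.1

/-- If the orders agree, a largest abelian subgroup stays one. -/
theorem maxAb_of_le {R U A : Subgroup G} (hA : MaxAb R A) (hAU : A ≤ U)
    (he : abOrd U ≤ abOrd R) : MaxAb U A :=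
  ⟨hAU, hA.2.1, fun B hB hab => (card_le_abOrd hB hab).trans (he.trans (card_eq_abOrd hA).ge)⟩

theorem thompson_mono_of_eq {R U : Subgroup G} (h : thompsonSubgroupAOf R ≤ U)
    (he : abOrd U ≤ abOrd R) : thompsonSubgroupAOf R ≤ thompsonSubgroupAOf U :=
  thompson_le_iff.2 fun _ hA => le_thompson (maxAb_of_le hA ((le_thompson hA).trans h) he)

theorem not_le_of_abOrd_lt {Q U : Subgroup G} (h : abOrd Q < abOrd U) :
    ¬ thompsonSubgroupAOf U ≤ Q := by
  intro hle
  exact absurd (abOrd_le_of_thompson_le hle) (not_le.2 h)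

/-- The lexicographic measure. -/
noncomputable def mu (T : Subgroup G) : ℕ :=
  abOrd T * (Nat.card G + 1) ^ 2 + Nat.card (thompsonSubgroupAOf T) * (Nat.card G + 1) + Nat.card T

theorem mu_le (T : Subgroup G) : mu T ≤ (Nat.card G + 1) ^ 3 := by
  obtain ⟨A, hA⟩ := exists_maxAb T
  have h1 : abOrd T ≤ Nat.card G := card_eq_abOrd hA ▸ card_le_card_group A
  have h2 := card_le_card_group (thompsonSubgroupAOf T)
  have h3 := card_le_card_group T
  unfold mu
  nlinarith

theorem mu_lt_of_abOrd {T U : Subgroup G} (h : abOrd T < abOrd U) : mu T < mu U := by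
  have h2 := card_le_card_group (thompsonSubgroupAOf T)
  have h3 := card_le_card_group T
  unfold mu
  nlinarith

theorem mu_lt_of_thompson {T U : Subgroup G} (ha : abOrd T ≤ abOrd U)
    (h : Nat.card (thompsonSubgroupAOf T) < Nat.card (thompsonSubgroupAOf U)) : mu T < mu U := by
  have h3 := card_le_card_group T
  have : 0 < Nat.card U := Nat.card_pos
  unfold mu
  nlinarith

theorem mu_lt_of_lt {T U : Subgroup G} (h : T < U) : mu T < mu U := by
  rcases (abOrd_mono h.le).lt_or_eq with ha | ha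
  · exact mu_lt_of_abOrd ha
  · have hJ : Nat.card (thompsonSubgroupAOf T) ≤ Nat.card (thompsonSubgroupAOf U) :=
      card_le_of_le (thompson_mono_of_eq ((thompson_le T).trans h.le) ha.ge)
    rcases hJ.lt_or_eq with hJ' | hJ'
    · exact mu_lt_of_thompson ha.le hJ'
    · have h3 := Transfer.card_lt_of_lt h
      unfold mu
      rw [ha, hJ']
      omega

theorem not_le_of_le {Q T U : Subgroup G} (hQT : Q ≤ T) (hT : ¬ thompsonSubgroupAOf T ≤ Q)
    (hTU : thompsonSubgroupAOf T ≤ U) : ¬ thompsonSubgroupAOf U ≤ Q := by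
  intro hU
  have h1 : abOrd U ≤ abOrd T := (abOrd_le_of_thompson_le hU).trans (abOrd_mono hQT)
  exact hT ((thompson_mono_of_eq hTU h1).trans hU)

/-- Passing to an overgroup with a different Thompson subgroup. -/
theorem better {Q T R U : Subgroup G} (hQT : Q ≤ T) (hT : ¬ thompsonSubgroupAOf T ≤ Q)
    (hTR : T ≤ R) (hne : thompsonSubgroupAOf R ≠ thompsonSubgroupAOf T)
    (hRU : thompsonSubgroupAOf R ≤ U) : mu T < mu U ∧ ¬ thompsonSubgroupAOf U ≤ Q := by
  have h1 := abOrd_le_of_thompson_le hRU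
  rcases ((abOrd_mono hTR).trans h1).lt_or_eq with ha | ha
  · exact ⟨mu_lt_of_abOrd ha, not_le_of_abOrd_lt ((abOrd_mono hQT).trans_lt ha)⟩
  · have hTR' : thompsonSubgroupAOf T ≤ thompsonSubgroupAOf R :=
      thompson_mono_of_eq ((thompson_le T).trans hTR) (h1.trans ha.ge)
    have hRU' : thompsonSubgroupAOf R ≤ thompsonSubgroupAOf U :=
      thompson_mono_of_eq hRU (ha.ge.trans (abOrd_mono hTR))
    refine ⟨mu_lt_of_thompson ha.le ?_, fun hU => hT (hTR'.trans (hRU'.trans hU))⟩
    exact lt_of_lt_of_le (Transfer.card_lt_of_lt (lt_of_le_of_ne hTR' (Ne.symm hne)))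
      (card_le_of_le hRU')

end CfsgLib.LocalEven.JMeasure
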