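import Cfsg.Agent.Lib.LocalEven.YoshidaTransfer
import Mathlib.NumberTheory.Padics.PadicVal.Basic

/-!
# `Z_p ≀ Z_p` as an image of the Sylow subgroup

* `exists_surjective_wreath`
-/

set_option autoImplicit false

namespace CfsgLib.LocalEven.Yoshida

open Subgroup MulAction Finset

theorem fwdDiff_iter_shift {A : Type*} [AddCommGroup A] (f : ℕ → A) (y : ℕ) :
    ∀ k j, (fwdDiff 1)^[k] (fun i => f (y + i)) j = (fwdDiff 1)^[k] f (y + j) := by
  intro k
  induction k with
  | zero => intro j; rfl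
  | succ k ih =>
    intro j
    rw [Function.iterate_succ_apply', Function.iterate_succ_apply', fwdDiff, fwdDiff, ih, ih,
      add_assoc]

variable {p : ℕ} [hp : Fact p.Prime]

/-- The differences of a periodic function with nonzero sum over a period are independent. -/
theorem fwdDiff_independent {A : Type*} [AddCommGroup A] (hA : ∀ a : A, p • a = 0) (f : ℕ → A)
    (hper : ∀ i, f (i + p) = f i) (hne : ∑ i ∈ range p, f i ≠ 0) :
    Function.Injective fun (e : Fin p → Fin p) =>
      ∑ k : Fin p, (e k : ℕ) • (fwdDiff 1)^[(k : ℕ)] f := by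
  have hp1 : p - 1 + 1 = p := Nat.succ_pred_eq_of_pos hp.out.pos
  have htop : ∀ y, (fwdDiff 1)^[p] f y = 0 := by
    intro y
    rw [← hp1, Function.iterate_succ_apply', fwdDiff]
    have h : ∀ y, (fwdDiff 1)^[p - 1] f y = ∑ i ∈ range p, f (y + i) := fun y => by
      have := fwdDiff_iter_pred hA fun i => f (y + i)
      rwa [fwdDiff_iter_shift, add_zero] at this
    rw [h, h, sub_eq_zero]
    have e1 := sum_range_succ (fun i => f (y + i)) p
    have e2 := sum_range_succ' (fun i => f (y + i)) p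
    rw [e1] at e2
    simp only [add_zero, hper] at e2
    calc ∑ i ∈ range p, f (y + 1 + i) = ∑ i ∈ range p, f (y + (i + 1)) :=
          sum_congr rfl fun i _ => by rw [add_assoc, add_comm 1 i]
      _ = _ := (add_right_cancel e2).symm
  have hbig : ∀ k, p ≤ k → (fwdDiff 1)^[k] f = 0 := by
    intro k hk
    induction k, hk using Nat.le_induction with
    | base => funext y; exact htop y
    | succ k _ ih =>
      rw [Function.iterate_succ_apply', ih]; funext y; simp [fwdDiff]
  intro e e' h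
  by_contra hne'
  -- the least differing index
  obtain ⟨k₀, hk₀, hmin⟩ := (univ.filter fun k : Fin p => e k ≠ e' k).exists_min_image id (by
    obtain ⟨k, hk⟩ := Function.ne_iff.mp hne'
    exact ⟨k, mem_filter.mpr ⟨mem_univ k, hk⟩⟩)
  set j := p - 1 - (k₀ : ℕ)
  have hlin : ∀ (g : Fin p → ℕ), (fwdDiff 1)^[j] (∑ k : Fin p, g k • (fwdDiff 1)^[(k : ℕ)] f) =
      ∑ k : Fin p, g k • (fwdDiff 1)^[j + (k : ℕ)] f := by
    intro g
    rw [← fwdDiff_aux.coe_fwdDiffₗ, ← Module.End.coe_pow, map_sum]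
    refine sum_congr rfl fun k _ => ?_
    rw [map_nsmul, Module.End.coe_pow, fwdDiff_aux.coe_fwdDiffₗ, ← Function.iterate_add_apply]
  have h2 := congrArg (fun F => (fwdDiff 1)^[j] F 0) h
  simp only [hlin, Finset.sum_apply, Pi.smul_apply] at h2
  have hsum0 : (fwdDiff 1)^[p - 1] f 0 ≠ 0 := by rw [fwdDiff_iter_pred hA]; exact hne
  rw [← add_sum_erase _ _ (mem_univ k₀), ← add_sum_erase _ _ (mem_univ k₀),
    sum_congr rfl (g := fun k : Fin p => (e' k : ℕ) • (fwdDiff 1)^[j + (k : ℕ)] f 0) (fun k hk => by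
      rcases lt_or_ge k k₀ with hlt | hge
      · have : e k = e' k := by
          by_contra hne''
          exact absurd (hmin k (mem_filter.mpr ⟨mem_univ _, hne''⟩)) (not_le.mpr hlt)
        rw [this]
      · have hgt : (k₀ : ℕ) < (k : ℕ) := lt_of_le_of_ne hge fun hh =>
          (mem_erase.mp hk).1 (Fin.ext hh).symm
        rw [hbig _ (by have := k₀.isLt; omega)]
        simp)] at h2
  have h3 := add_right_cancel h2
  rw [show j + (k₀ : ℕ) = p - 1 from Nat.sub_add_cancel (by have := k₀.isLt; omega)] at h3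
  set a := (fwdDiff 1)^[p - 1] f 0
  have hord : addOrderOf a = p := addOrderOf_eq_prime (hA a) hsum0
  have h4 := nsmul_eq_nsmul_iff_modEq.mp h3
  rw [hord, Nat.ModEq, Nat.mod_eq_of_lt (e k₀).isLt, Nat.mod_eq_of_lt (e' k₀).isLt] at h4
  exact (mem_filter.mp hk₀).2 (Fin.ext h4)

theorem padicValNat_factorial_sq : padicValNat p (p ^ 2).factorial = p + 1 := by
  rw [show p ^ 2 = p * p by ring, padicValNat_factorial_mul,
    show p.factorial = (p * 1).factorial by rw [mul_one], padicValNat_factorial_mul,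
    Nat.factorial_one, padicValNat.one]
  ring

/-- A `p`-group with a witness maps onto a Sylow subgroup of `Sym(p²)`. -/
theorem exists_surjective_of_commStep {P : Type*} [Group P] [Finite P] (hP : IsPGroup p P)
    (W₀ : Subgroup P) (hW₀ : IsCoatom W₀) (x z : P) (hx : x ∈ W₀) (hz : z ∉ W₀)
    (hmem : (commStep z)^[p - 1] x ∈ W₀)
    (hΦ : (⟨_, hmem⟩ : W₀) ∉ frattini W₀) :
    ∃ (Q : Sylow p (Equiv.Perm (Fin (p ^ 2)))) (f : P →* (Q : Subgroup (Equiv.Perm (Fin (p ^ 2))))),
      Function.Surjective f := by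
  classical
  haveI := hP.isNilpotent
  haveI hW₀n : W₀.Normal := PGroups.normal_of_isCoatom hW₀
  have hW₀i : W₀.index = p := PGroups.index_of_isCoatom hP hW₀
  obtain ⟨K, hK, haK⟩ : ∃ K : Subgroup W₀, IsCoatom K ∧ (⟨_, hmem⟩ : W₀) ∉ K := by
    by_contra h
    push Not at h
    exact hΦ (Subgroup.mem_iInf.mpr fun M => Subgroup.mem_iInf.mpr fun hM => h M hM)
  haveI : Group.IsNilpotent W₀ := (hP.to_subgroup W₀).isNilpotent
  haveI hKn : K.Normal := PGroups.normal_of_isCoatom hK
  have hKi : Nat.card (W₀ ⧸ K) = p := PGroups.index_of_isCoatom (hP.to_subgroup W₀) hK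
  haveI : IsCyclic (W₀ ⧸ K) := isCyclic_of_prime_card (p := p) hKi
  letI := IsCyclic.commGroup (α := W₀ ⧸ K)
  set χ : W₀ →* W₀ ⧸ K := QuotientGroup.mk' K
  have hexp : ∀ a : W₀ ⧸ K, a ^ p = 1 := fun a => by
    have h := pow_card_eq_one' (x := a); rwa [hKi] at h
  -- the twisted characters
  let cj : ℕ → W₀ → W₀ := fun i a =>
    ⟨(z ^ i)⁻¹ * a * z ^ i, by simpa using hW₀n.conj_mem _ a.2 (z ^ i)⁻¹⟩
  let stp : W₀ → W₀ := fun a => a⁻¹ * cj 1 a
  let V : W₀ →* Multiplicative (ℕ → Additive (W₀ ⧸ K)) :=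
    MonoidHom.mk' (fun a => Multiplicative.ofAdd fun i => Additive.ofMul (χ (cj i a))) fun a b => by
      rw [← ofAdd_add]
      congr 1
      funext i
      rw [Pi.add_apply, ← ofMul_mul, ← map_mul]
      congr 2
      exact Subtype.ext (by simp [cj, mul_assoc])
  have hV : ∀ a i, (V a).toAdd i = Additive.ofMul (χ (cj i a)) := fun a i => rfl
  have hstep : ∀ a, fwdDiff 1 (V a).toAdd = (V (stp a)).toAdd := by
    intro a
    funext i
    rw [fwdDiff, hV, hV, hV, ← ofMul_div]
    congr 1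
    rw [div_eq_inv_mul, ← map_inv, ← map_mul]
    congr 1
    exact Subtype.ext (by simp only [stp, cj, Subgroup.coe_mul, Subgroup.coe_inv, pow_one, pow_succ]; group)
  have hiter : ∀ k a, (fwdDiff 1)^[k] (V a).toAdd = (V (stp^[k] a)).toAdd := by
    intro k
    induction k with
    | zero => intro a; rfl
    | succ k ih => intro a; rw [Function.iterate_succ_apply, hstep, ih, ← Function.iterate_succ_apply]
  have hval : ∀ k, ((stp^[k] ⟨x, hx⟩ : W₀) : P) = (commStep z)^[k] x := by
    intro k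
    induction k with
    | zero => rfl
    | succ k ih =>
      rw [Function.iterate_succ_apply', Function.iterate_succ_apply', ← ih]
      simp [stp, cj, commStep, mul_assoc]
  set f₀ := (V ⟨x, hx⟩).toAdd with hf₀
  have hA : ∀ a : Additive (W₀ ⧸ K), p • a = 0 := fun a =>
    Additive.toMul.injective (by rw [toMul_nsmul, toMul_zero, hexp])
  have hzp : z ^ p ∈ W₀ := by
    rw [← QuotientGroup.eq_one_iff, QuotientGroup.mk_pow, ← hW₀i, Subgroup.index]
    exact pow_card_eq_one'
  have hper : ∀ i, f₀ (i + p) = f₀ i := by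
    intro i
    rw [hf₀, hV, hV]
    congr 1
    have e : cj (i + p) ⟨x, hx⟩ = (⟨z ^ p, hzp⟩ : W₀)⁻¹ * cj i ⟨x, hx⟩ * ⟨z ^ p, hzp⟩ :=
      Subtype.ext (by simp only [cj, Subgroup.coe_mul, Subgroup.coe_inv, pow_add]; group)
    rw [e, map_mul, map_mul, map_inv, mul_comm, mul_inv_cancel_left]
  have hsum : ∑ i ∈ range p, f₀ i ≠ 0 := by
    rw [← fwdDiff_iter_pred hA, hiter, hV]
    intro h
    refine haK ((QuotientGroup.eq_one_iff _).mp ?_)
    have e : cj 0 (stp^[p - 1] ⟨x, hx⟩) = ⟨_, hmem⟩ := Subtype.ext (by simp [cj, hval])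
    rw [e] at h
    exact ofMul_eq_zero.mp h
  have hinj := fwdDiff_independent hA f₀ hper hsum
  have hrange : p ^ p ≤ V.ker.index := by
    rw [index_ker]
    let Φ : (Fin p → Fin p) → V.range := fun e =>
      ⟨∏ k : Fin p, V (stp^[(k : ℕ)] ⟨x, hx⟩) ^ (e k : ℕ),
        Subgroup.prod_mem _ fun k _ => Subgroup.pow_mem _ (MonoidHom.mem_range.mpr ⟨_, rfl⟩) _⟩
    have hΦinj : Function.Injective Φ := by
      intro e e' h
      refine hinj ?_
      have h' := congrArg (fun v : V.range => v.1.toAdd) h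
      simp only [Φ, toAdd_prod, toAdd_pow] at h'
      simp only [hf₀, hiter]
      exact h'
    haveI : Finite V.range := Finite.of_surjective _ V.rangeRestrict_surjective
    calc p ^ p = Nat.card (Fin p → Fin p) := by rw [Nat.card_fun, Nat.card_fin]
      _ ≤ _ := Nat.card_le_card_of_injective Φ hΦinj
  -- the permutation representation
  set K' := K.map W₀.subtype with hK'
  have hK'i : Nat.card (P ⧸ K') = p ^ 2 := by
    have h1 := Subgroup.index_map_subtype K
    rw [← hK'] at h1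
    show K'.index = p ^ 2
    rw [h1, hW₀i, show K.index = p from hKi, pow_two]
  let eq₁ : (P ⧸ K') ≃ Fin (p ^ 2) := Finite.equivFinOfCardEq hK'i
  let f : P →* Equiv.Perm (Fin (p ^ 2)) :=
    eq₁.permCongrHom.toMonoidHom.comp (MulAction.toPermHom P (P ⧸ K'))
  have hker : f.ker ≤ V.ker.map W₀.subtype := by
    intro n hn
    have hn' : n ∈ K'.normalCore := by
      rw [Subgroup.normalCore_eq_ker]
      rw [MonoidHom.mem_ker] at hn ⊢
      exact eq₁.permCongrHom.injective (hn.trans (map_one _).symm)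
    obtain ⟨n₀, hn₀, rfl⟩ := Subgroup.normalCore_le K' hn'
    refine ⟨n₀, ?_, rfl⟩
    rw [SetLike.mem_coe, MonoidHom.mem_ker]
    refine Multiplicative.toAdd.injective ?_
    funext i
    rw [hV]
    have h := Subgroup.normalCore_le K' ((Subgroup.normalCore_normal K').conj_mem _ hn' (z ^ i)⁻¹)
    obtain ⟨m, hm, hme⟩ := h
    have : m = cj i n₀ := Subtype.ext (hme.trans (by simp [cj]))
    rw [← this, show χ m = 1 from (QuotientGroup.eq_one_iff m).mpr hm]
    rfl
  have hcard : p ^ (p + 1) ≤ Nat.card f.range := by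
    rw [← index_ker]
    calc p ^ (p + 1) = p ^ p * p := pow_succ p p
      _ ≤ V.ker.index * W₀.index := by rw [hW₀i]; exact Nat.mul_le_mul_right _ hrange
      _ = (V.ker.map W₀.subtype).index := (Subgroup.index_map_subtype _).symm
      _ ≤ f.ker.index := Nat.le_of_dvd (Nat.pos_of_ne_zero Subgroup.index_ne_zero_of_finite)
          (index_dvd_of_le hker)
  obtain ⟨Q, hQ⟩ : ∃ Q : Sylow p (Equiv.Perm (Fin (p ^ 2))), f.range ≤ Q :=
    (hP.of_surjective f.rangeRestrict f.rangeRestrict_surjective).exists_le_sylow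
  have hQcard : Nat.card Q = p ^ (p + 1) := by
    rw [Q.card_eq_multiplicity, Nat.card_perm, Nat.card_fin, Nat.factorization_def _ hp.out,
      padicValNat_factorial_sq]
  have hQeq : f.range = Q := Subgroup.eq_of_le_of_card_ge hQ (hQcard.le.trans hcard)
  refine ⟨Q, f.codRestrict Q fun a => hQ ⟨a, rfl⟩, fun q => ?_⟩
  obtain ⟨a, ha⟩ := hQeq.ge q.2
  exact ⟨a, Subtype.ext ha⟩

/-- If `N(S)` does not control transfer then `Z_p ≀ Z_p` is an image of `S`. -/
theorem exists_surjective_wreath {G : Type*} [Group G] [Finite G] (S : Sylow p G)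
    (h : (S : Subgroup G) ⊓ commutator G ≠ (S : Subgroup G) ⊓
      ⁅normalizer ((S : Subgroup G) : Set G), normalizer ((S : Subgroup G) : Set G)⁆) :
    ∃ (Q : Sylow p (Equiv.Perm (Fin (p ^ 2))))
      (f : (S : Subgroup G) →* (Q : Subgroup (Equiv.Perm (Fin (p ^ 2))))), Function.Surjective f := by
  have hW : Cfsg.IsWeaklyClosed (S : Subgroup G) (S : Subgroup G) := ⟨le_rfl, fun g hg =>
    Subgroup.eq_of_le_of_card_ge hg (Subgroup.card_map_of_injective (MulAut.conj g).injective).ge⟩
  obtain ⟨x, hx, z, hzS, W₀, hW₀, hz, hxW, hm, hΦ⟩ := exists_witness S hW h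
  obtain ⟨x', hx', rfl⟩ := hxW rfl
  have hmap : ∀ k, (((commStep (⟨z, hzS⟩ : (S : Subgroup G)))^[k] x' : (S : Subgroup G)) : G) =
      (commStep z)^[k] (x' : G) := by
    intro k
    induction k with
    | zero => rfl
    | succ k ih => rw [Function.iterate_succ_apply', Function.iterate_succ_apply', ← ih]; rfl
  obtain ⟨m, hmW, hme⟩ := hm
  have hm' : (commStep (⟨z, hzS⟩ : (S : Subgroup G)))^[p - 1] x' = m :=
    Subtype.ext ((hmap _).trans hme.symm)
  refine exists_surjective_of_commStep S.2 W₀ hW₀ x' ⟨z, hzS⟩ hx' (fun hh => hz ⟨_, hh, rfl⟩)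
    (hm' ▸ hmW) ?_
  intro hcon
  refine hΦ ⟨_, ⟨_, hcon, rfl⟩, ?_⟩
  exact hmap _

end CfsgLib.LocalEven.Yoshida
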