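import Cfsg.Agent.Lib.ZStar.QuatSylow
import Cfsg.Agent.Lib.LocalEvenB.CharP
import Cfsg.Prelude.Def_CaseTheorems
import Mathlib.GroupTheory.SpecificGroups.Dihedral

/-!
# Solvable groups with dihedral or semidihedral Sylow 2-subgroup and central involution

* `exists_sl_two_three`, `shape_of_dihedral`, `shape_of_quasiDihedral`
-/

set_option autoImplicit false

namespace CfsgLib.LocalEven.DihedralSolvable

open Subgroup
open CfsgLib.ZStar CfsgLib.Classical.Two
open scoped MatrixGroups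

variable {G : Type*} [Group G] [Finite G]

/-- A cyclic subgroup of index 2 whose elements centralized from outside have square one. -/
structure Shape (T C : Subgroup G) : Prop where
  le : C ≤ T
  cyc : IsCyclic C
  mul_mem : ∀ a ∈ T, ∀ b ∈ T, a ∉ C → b ∉ C → a * b ∈ C
  fix : ∀ c ∈ C, ∀ w ∈ T, w ∉ C → w * c = c * w → c * c = 1
  big : ∃ c ∈ C, c * c ≠ 1
  out : ∃ w ∈ T, w ∉ C

theorem shape_of_dihedral (T : Subgroup G) {n : ℕ} (hn : 3 ≤ n)
    (e : T ≃* DihedralGroup n) : ∃ C : Subgroup G, Shape T C := by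
  haveI : NeZero n := ⟨by omega⟩
  set f : DihedralGroup n →* G := T.subtype.comp e.symm.toMonoidHom with hf
  have hinj : Function.Injective f := T.subtype_injective.comp e.symm.injective
  have hsurj : ∀ a ∈ T, ∃ d, f d = a := fun a ha => ⟨e ⟨a, ha⟩, by
    simp [hf]⟩
  have hrange : ∀ d, f d ∈ T := fun d => (e.symm d).2
  refine ⟨zpowers (f (.r 1)), ?_⟩
  have hC : ∀ d, f d ∈ zpowers (f (.r 1)) ↔ ∃ i, d = .r i := by
    intro d
    constructor
    · intro h
      obtain ⟨k, hk⟩ := mem_zpowers_iff.mp h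
      rw [← map_zpow] at hk
      refine ⟨((k : ℤ) : ZMod n), ?_⟩
      rw [← hinj hk]; simp
    · rintro ⟨i, rfl⟩
      rw [← ZMod.natCast_zmod_val i, ← DihedralGroup.r_one_pow, map_pow]
      exact pow_mem (mem_zpowers _) _
  refine ⟨zpowers_le.mpr (hrange _), inferInstance, ?_, ?_, ?_, ?_⟩
  · intro a ha b hb hac hbc
    obtain ⟨d, rfl⟩ := hsurj a ha
    obtain ⟨d', rfl⟩ := hsurj b hb
    rw [hC] at hac hbc
    rw [← map_mul, hC]
    rcases d with i | i
    · exact absurd ⟨i, rfl⟩ hac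
    rcases d' with j | j
    · exact absurd ⟨j, rfl⟩ hbc
    exact ⟨j - i, rfl⟩
  · intro c hc w hw hwc heq
    obtain ⟨d, rfl⟩ := hsurj w hw
    obtain ⟨k, hk⟩ := mem_zpowers_iff.mp hc
    rw [← map_zpow] at hk
    subst hk
    rw [hC] at hwc
    rcases d with j | j
    · exact absurd ⟨j, rfl⟩ hwc
    rw [← map_mul, ← map_mul] at heq
    rw [← map_mul, ← map_one f]
    congr 1
    have h := hinj heq
    obtain ⟨i, hi⟩ : ∃ i : ZMod n, (DihedralGroup.r 1 : DihedralGroup n) ^ k = .r i := ⟨(k : ZMod n), by simp⟩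
    rw [hi] at h ⊢
    rw [DihedralGroup.sr_mul_r, DihedralGroup.r_mul_sr, DihedralGroup.sr.injEq] at h
    rw [DihedralGroup.r_mul_r, DihedralGroup.one_def]
    congr 1
    linear_combination h
  · refine ⟨f (.r 1), mem_zpowers _, fun h => ?_⟩
    rw [← map_mul, ← map_one f] at h
    have h2 := hinj h
    rw [DihedralGroup.r_mul_r, DihedralGroup.one_def, DihedralGroup.r.injEq] at h2
    have : ((2 : ℕ) : ZMod n) = 0 := by rw [Nat.cast_two]; linear_combination h2
    rw [ZMod.natCast_eq_zero_iff] at this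
    exact absurd (Nat.le_of_dvd (by norm_num) this) (by omega)
  · refine ⟨f (.sr 0), hrange _, ?_⟩
    rw [hC]
    rintro ⟨i, hi⟩
    simp at hi

theorem shape_of_quasiDihedral (T : Subgroup G) (h : Cfsg.IsQuasiDihedral T) :
    ∃ C : Subgroup G, Shape T C := by
  obtain ⟨n, hn, hcard, x, y, hx, -, hrel⟩ := h
  obtain ⟨m, rfl⟩ : ∃ m, n = m + 3 := ⟨n - 3, by omega⟩
  set r := 2 ^ (m + 3 - 1) - 1 with hr
  have hsq : ∀ i : ℤ, y * x ^ i * y⁻¹ = x ^ i → x ^ i * x ^ i = 1 := by
    intro i hi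
    rw [← conj_zpow, hrel, ← zpow_natCast, ← zpow_mul] at hi
    have h1 : x ^ ((r : ℤ) * i - i) = 1 := by rw [zpow_sub, hi, mul_inv_cancel]
    rw [← orderOf_dvd_iff_zpow_eq_one, hx] at h1
    rw [← zpow_add, ← orderOf_dvd_iff_zpow_eq_one, hx]
    have h4 : ((2 ^ (m + 3) : ℕ) : ℤ) ∣ ((2 : ℤ) ^ (m + 1) - 1) * (i + i) := by
      have e : (r : ℤ) * i - i = ((2 : ℤ) ^ (m + 1) - 1) * (i + i) := by
        rw [hr, Nat.cast_sub Nat.one_le_two_pow]
        push_cast
        rw [show m + 2 = m + 1 + 1 from rfl, pow_succ]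
        ring
      rwa [← e]
    refine IsCoprime.dvd_of_dvd_mul_left ?_ h4
    push_cast
    refine IsCoprime.pow_left ⟨2 ^ m, -1, ?_⟩
    ring
  have hyC : y ∉ zpowers x := by
    intro hy
    obtain ⟨j, rfl⟩ := mem_zpowers_iff.mp hy
    have h1 := hsq 1 (by rw [zpow_one, ← zpow_add_one, ← zpow_neg, ← zpow_add]; simp)
    rw [zpow_one, ← pow_two] at h1
    have := orderOf_dvd_of_pow_eq_one h1
    rw [hx] at this
    have h2 : 2 ^ 3 ≤ 2 ^ (m + 3) := Nat.pow_le_pow_right (by norm_num) (by omega)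
    have := Nat.le_of_dvd (by norm_num) this
    omega
  have hidx : (zpowers x).index = 2 := by
    have := Subgroup.card_mul_index (zpowers x)
    rw [Nat.card_zpowers, hx, hcard, pow_succ] at this
    exact Nat.eq_of_mul_eq_mul_left (by positivity) this
  refine ⟨(zpowers x).map T.subtype, map_subtype_le _, ((zpowers x).equivMapOfInjective _
    T.subtype_injective).isCyclic.mp inferInstance, ?_, ?_, ?_, ?_⟩
  · intro a ha b hb hac hbc
    refine ⟨⟨a, ha⟩ * ⟨b, hb⟩, ?_, rfl⟩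
    rw [SetLike.mem_coe, Subgroup.mul_mem_iff_of_index_two hidx]
    exact iff_of_false (fun h => hac ⟨_, h, rfl⟩) (fun h => hbc ⟨_, h, rfl⟩)
  · rintro _ ⟨c, hc, rfl⟩ w hw hwc heq
    obtain ⟨i, rfl⟩ := mem_zpowers_iff.mp hc
    have hw' : (⟨w, hw⟩ : T) ∉ zpowers x := fun h => hwc ⟨_, h, rfl⟩
    have hwy : (⟨w, hw⟩ : T) * y ∈ zpowers x :=
      (Subgroup.mul_mem_iff_of_index_two hidx).mpr (iff_of_false hw' hyC)
    obtain ⟨j, hj⟩ := mem_zpowers_iff.mp hwy
    have hcomm : (⟨w, hw⟩ : T) * x ^ i = x ^ i * ⟨w, hw⟩ := Subtype.ext heq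
    have hy : (⟨w, hw⟩ : T)⁻¹ * x ^ j = y := by rw [hj, inv_mul_cancel_left]
    have hci : y * x ^ i * y⁻¹ = x ^ i := by
      rw [mul_inv_eq_iff_eq_mul, ← hy, mul_assoc, zpow_mul_comm x j i, ← mul_assoc]
      rw [show (⟨w, hw⟩ : T)⁻¹ * x ^ i = x ^ i * (⟨w, hw⟩ : T)⁻¹ by
        rw [inv_mul_eq_iff_eq_mul, ← mul_assoc, hcomm, mul_inv_cancel_right], mul_assoc]
    exact congrArg Subtype.val (hsq i hci)
  · refine ⟨x, ⟨x, mem_zpowers x, rfl⟩, fun h => ?_⟩
    have h1 : x ^ 2 = 1 := by rw [pow_two]; exact Subtype.ext h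
    have := orderOf_dvd_of_pow_eq_one h1
    rw [hx] at this
    have h2 : 2 ^ 3 ≤ 2 ^ (m + 3) := Nat.pow_le_pow_right (by norm_num) (by omega)
    have := Nat.le_of_dvd (by norm_num) this
    omega
  · refine ⟨y, y.2, ?_⟩
    rintro ⟨c, hc, hcy⟩
    exact hyC (Subtype.ext hcy ▸ hc)

/-- The main statement. -/
theorem exists_sl_two_three (hsol : IsSolvable G) (hO : Cfsg.pPrimeCore 2 G = ⊥) (T : Sylow 2 G)
    {C : Subgroup G} (hC : Shape (T : Subgroup G) C) (hne : (T : Subgroup G) ≠ ⊤)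
    (hZ : ((T : Subgroup G) ⊓ centralizer ((T : Subgroup G) : Set G)).Normal) :
    ∃ U : Subgroup G, U.Normal ∧ Nonempty (U ≃* SL(2, ZMod 3)) := by
  classical
  haveI : Fact (Nat.Prime 2) := ⟨Nat.prime_two⟩
  haveI : Group.IsSolvable G := hsol
  haveI := hC.cyc
  set Q := Cfsg.pCore 2 G with hQ
  have hQT : Q ≤ (T : Subgroup G) := Core.pCore_le_sylow T
  have hQp : IsPGroup 2 Q := Core.isPGroup_pCore 2 G
  have hCQ := Core.centralizer_pCore_le_of_pPrimeCore_eq_bot (p := 2) (G := G) hO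
  rw [← hQ] at hCQ
  -- the central involution
  set ZT := (T : Subgroup G) ⊓ centralizer ((T : Subgroup G) : Set G) with hZT
  have hZC : ∀ u ∈ ZT, u ∈ C ∧ u * u = 1 := by
    intro u hu
    have huC : u ∈ C := by
      by_contra huC
      obtain ⟨c, hc, hcc⟩ := hC.big
      exact hcc (hC.fix c hc u hu.1 huC (mem_centralizer_iff.mp hu.2 c (hC.le hc)).symm)
    obtain ⟨w, hw, hwC⟩ := hC.out
    exact ⟨huC, hC.fix u huC w hw hwC (mem_centralizer_iff.mp hu.2 w hw)⟩
  obtain ⟨z, hzZ, hz1⟩ : ∃ z ∈ ZT, z ≠ 1 := by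
    haveI : Nontrivial (T : Subgroup G) := by
      obtain ⟨w, hw, hwC⟩ := hC.out
      exact ⟨⟨⟨w, hw⟩, 1, fun h => hwC (by rw [show w = 1 from congrArg Subtype.val h]; exact one_mem C)⟩⟩
    obtain ⟨⟨⟨u, hu⟩, huc⟩, hu1⟩ :=
      @exists_ne _ (IsPGroup.center_nontrivial T.2) (1 : center (T : Subgroup G))
    refine ⟨u, ⟨hu, mem_centralizer_iff.mpr fun v hv => ?_⟩, fun h => hu1 (Subtype.ext (Subtype.ext h))⟩
    exact congrArg Subtype.val (mem_center_iff.mp huc ⟨v, hv⟩)
  obtain ⟨hzC, hzz⟩ := hZC z hzZ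
  have hinv : ∀ c ∈ C, c * c = 1 → c = 1 ∨ c = z := by
    intro c hc hcc
    by_contra h
    push Not at h
    haveI := Fintype.ofFinite C
    have h2 := IsCyclic.card_pow_eq_one_le (α := C) (n := 2) two_pos
    have hsub : ({1, ⟨z, hzC⟩, ⟨c, hc⟩} : Finset C) ⊆
        Finset.univ.filter (fun a : C => a ^ 2 = 1) := by
      intro a ha
      simp only [Finset.mem_insert, Finset.mem_singleton] at ha
      rcases ha with rfl | rfl | rfl <;> simp [pow_two, Subtype.ext_iff, hzz, hcc]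
    have h3 := (Finset.card_le_card hsub).trans h2
    rw [Finset.card_insert_of_notMem (by simp [Subtype.ext_iff, Ne.symm hz1, Ne.symm h.1]),
      Finset.card_insert_of_notMem (by simp [Subtype.ext_iff, Ne.symm h.2]),
      Finset.card_singleton] at h3
    omega
  have hzc : ∀ g : G, g * z = z * g := by
    intro g
    have h1 := hZ.conj_mem z hzZ g
    obtain ⟨h2, h3⟩ := hZC _ h1
    rcases hinv _ h2 h3 with h | h
    · exact absurd (by simpa [mul_inv_eq_one] using h) hz1
    · exact mul_inv_eq_iff_eq_mul.mp h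
  have hzQ : z ∈ Q := by
    haveI : (zpowers z).Normal := ⟨fun u hu g => by
      obtain ⟨i, rfl⟩ := mem_zpowers_iff.mp hu
      rw [((Commute.zpow_right (hzc g) i)).eq, mul_inv_cancel_right]
      exact zpow_mem (mem_zpowers z) i⟩
    exact Core.le_pCore (T.2.to_le (zpowers_le.mpr hzZ.1)) (mem_zpowers z)
  have hconjQ : ∀ (g q : G), q ∈ Q → g * q * g⁻¹ ∈ Q := fun g q hq =>
    (Core.normal_pCore 2 G).conj_mem q hq g
  -- an element of odd prime order
  obtain ⟨q, hq, hq2, hqd⟩ : ∃ q, q.Prime ∧ q ≠ 2 ∧ q ∣ Nat.card G := by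
    by_contra h
    push Not at h
    refine hne (Subgroup.eq_top_of_card_eq _ ?_)
    obtain ⟨a, ha⟩ : ∃ a, Nat.card G = 2 ^ a :=
      ⟨_, Nat.eq_prime_pow_of_unique_prime_dvd Nat.card_pos.ne' fun {d} hd hdvd => by
        by_contra hd2; exact h d hd hd2 hdvd⟩
    rw [T.card_eq_multiplicity, ha, Nat.Prime.factorization_pow Nat.prime_two, Finsupp.single_eq_same]
  haveI : Fact q.Prime := ⟨hq⟩
  obtain ⟨g, hg⟩ := exists_prime_orderOf_dvd_card' q hqd
  have hgodd : Odd (orderOf g) := hg ▸ hq.odd_of_ne_two hq2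
  have hgQ : ¬ g ∈ centralizer (Q : Set G) := by
    intro h
    obtain ⟨k, hk⟩ := hQp ⟨g, hCQ h⟩
    have h1 : g ^ 2 ^ k = 1 := congrArg Subtype.val hk
    have h2 : g = 1 := orderOf_eq_one_iff.mp (Nat.eq_one_of_dvd_coprimes
      ((Nat.coprime_two_right.mpr hgodd).pow_right k) dvd_rfl (orderOf_dvd_of_pow_eq_one h1))
    rw [h2, orderOf_one] at hg
    exact hq.ne_one hg.symm
  -- `Q` has only one involution
  have huniq : ∀ v ∈ Q, v * v = 1 → v = 1 ∨ v = z := by
    by_contra hcon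
    push Not at hcon
    obtain ⟨v₀, hv₀Q, hv₀, hv₀1, hv₀z⟩ := hcon
    have hout : ∀ v ∈ Q, v * v = 1 → (v ≠ 1 ∧ v ≠ z ↔ v ∉ C) := fun v hv hvv =>
      ⟨fun h hvC => (hinv v hvC hvv).elim h.1 h.2, fun h => ⟨fun e => h (e ▸ one_mem C),
        fun e => h (e ▸ hzC)⟩⟩
    set Y := {v : G // v ∈ Q ∧ v * v = 1 ∧ v ≠ 1 ∧ v ≠ z}
    have hv₀C : v₀ ∉ C := (hout v₀ hv₀Q hv₀).mp ⟨hv₀1, hv₀z⟩
    let K : Subgroup G :=
      { carrier := {d | d ∈ Q ∧ d ∈ C ∧ v₀ * d * v₀ = d⁻¹}
        one_mem' := ⟨one_mem _, one_mem _, by simpa using hv₀⟩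
        mul_mem' := by
          rintro a b ⟨ha, haC, ha'⟩ ⟨hb, hbC, hb'⟩
          refine ⟨mul_mem ha hb, mul_mem haC hbC, ?_⟩
          have hab : a * b = b * a := setLike_mul_comm haC hbC
          calc v₀ * (a * b) * v₀ = v₀ * a * (v₀ * v₀) * b * v₀ := by rw [hv₀, mul_one]; group
            _ = (v₀ * a * v₀) * (v₀ * b * v₀) := by group
            _ = (a * b)⁻¹ := by rw [ha', hb', hab, mul_inv_rev]
        inv_mem' := by
          rintro a ⟨ha, haC, ha'⟩
          refine ⟨inv_mem ha, inv_mem haC, ?_⟩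
          have e : (v₀ * a * v₀)⁻¹ = a := by rw [ha', inv_inv]
          have e0 : v₀⁻¹ = v₀ := inv_eq_of_mul_eq_one_right hv₀
          rw [mul_inv_rev, mul_inv_rev, e0, ← mul_assoc] at e
          rw [e, inv_inv] }
    have hcardY : Nat.card Y = Nat.card K := by
      refine Nat.card_congr
        { toFun := fun v => ⟨v₀ * v.1, ?_⟩, invFun := fun d => ⟨v₀ * d.1, ?_⟩
          left_inv := fun v => Subtype.ext (by show v₀ * (v₀ * v.1) = v.1; rw [← mul_assoc, hv₀, one_mul])
          right_inv := fun d => Subtype.ext (by show v₀ * (v₀ * d.1) = d.1; rw [← mul_assoc, hv₀, one_mul]) }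
      · obtain ⟨hvQ, hvv, h1, h2⟩ := v.2
        refine ⟨mul_mem hv₀Q hvQ, hC.mul_mem _ (hQT hv₀Q) _ (hQT hvQ) hv₀C
          ((hout _ hvQ hvv).mp ⟨h1, h2⟩), ?_⟩
        rw [mul_inv_rev, inv_eq_of_mul_eq_one_right hv₀, inv_eq_of_mul_eq_one_right hvv,
          ← mul_assoc, hv₀, one_mul]
      · obtain ⟨hdQ, hdC, hd'⟩ := d.2
        have hvv : v₀ * d.1 * (v₀ * d.1) = 1 := by rw [← mul_assoc, hd', inv_mul_cancel]
        refine ⟨mul_mem hv₀Q hdQ, hvv, (hout _ (mul_mem hv₀Q hdQ) hvv).mpr fun h => hv₀C ?_⟩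
        exact (C.mul_mem_cancel_right hdC).mp h
    obtain ⟨j, hj⟩ := (hQp.to_le (fun d hd => hd.1 : K ≤ Q)).exists_card_eq
    haveI := Fintype.ofFinite Y
    let F : Function.End Y := fun v => ⟨g * v.1 * g⁻¹, hconjQ g _ v.2.1,
      by rw [show g * v.1 * g⁻¹ * (g * v.1 * g⁻¹) = g * (v.1 * v.1) * g⁻¹ by group, v.2.2.1]; group,
      fun h => v.2.2.2.1 (by simpa [mul_inv_eq_one] using h),
      fun h => v.2.2.2.2 (mul_left_cancel ((mul_inv_eq_iff_eq_mul.mp h).trans (hzc g).symm))⟩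
    have hF : ∀ (k : ℕ) (v : Y), ((F ^ k) v).1 = g ^ k * v.1 * (g ^ k)⁻¹ := by
      intro k
      induction k with
      | zero => intro v; simp; rfl
      | succ k ih =>
        intro v; rw [pow_succ', pow_succ']; show g * ((F ^ k) v).1 * g⁻¹ = _; rw [ih]; group
    have hfix := Equiv.Perm.card_fixedPoints_modEq (f := F) (p := q) (n := 1)
      (funext fun v => Subtype.ext (by
        rw [pow_one, hF, ← hg, pow_orderOf_eq_one, one_mul, inv_one, mul_one]; rfl))
    rw [← Nat.card_eq_fintype_card, hcardY, hj] at hfix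
    obtain ⟨v, hvfix⟩ : ∃ v : Y, F v = v := by
      by_contra h
      push Not at h
      haveI : IsEmpty (Function.fixedPoints F) := ⟨fun x => h x.1 x.2⟩
      rw [Fintype.card_eq_zero] at hfix
      exact hq2 ((Nat.prime_dvd_prime_iff_eq hq Nat.prime_two).mp
        (hq.dvd_of_dvd_pow (Nat.modEq_zero_iff_dvd.mp hfix)))
    obtain ⟨v, hvQ, hvv, hv1, hvz⟩ := v
    have hvC : v ∉ C := (hout v hvQ hvv).mp ⟨hv1, hvz⟩
    have hgv : g * v = v * g := mul_inv_eq_iff_eq_mul.mp (congrArg Subtype.val hvfix)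
    refine hgQ (LocalEvenB.mem_centralizer_of_axb (p := 2) (B := zpowers v)
      (Nat.coprime_two_right.mpr hgodd) hQp (hQp.to_le (zpowers_le.mpr hvQ))
      ((zpowers_le.mpr hvQ).trans le_normalizer) ?_ ?_ ?_)
    · rw [normalizer_eq_top]; exact mem_top g
    · rw [mem_centralizer_iff]
      intro b hb
      obtain ⟨i, rfl⟩ := mem_zpowers_iff.mp hb
      exact ((Commute.zpow_right hgv i).eq).symm
    · rw [mem_centralizer_iff]
      rintro w ⟨hwQ, hwc⟩
      have hwv : v * w = w * v := mem_centralizer_iff.mp hwc v (mem_zpowers v)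
      by_cases hwC : w ∈ C
      · rcases hinv w hwC (hC.fix w hwC v (hQT hvQ) hvC hwv) with rfl | rfl
        · simp
        · exact (hzc g).symm
      · have hm := hC.mul_mem _ (hQT hvQ) _ (hQT hwQ) hvC hwC
        have hcomm : v * (v * w) = v * w * v := by rw [mul_assoc, ← hwv]
        rcases hinv _ hm (hC.fix _ hm v (hQT hvQ) hvC hcomm) with h | h
        · have : w = v := by rw [← one_mul w, ← hvv, mul_assoc, h, mul_one]
          rw [this]; exact hgv.symm
        · have : w = v * z := by rw [← one_mul w, ← hvv, mul_assoc, h]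
          rw [this, mul_assoc, ← hzc g, ← mul_assoc, ← mul_assoc, hgv]
  -- `Q` is quaternion of order eight
  set β := Q.normalizerMonoidHom ⟨g, by rw [normalizer_eq_top]; exact mem_top g⟩ with hβdef
  have hβ : β ^ orderOf g = 1 := by
    rw [hβdef, ← map_pow, show (⟨g, _⟩ : normalizer (Q : Set G)) ^ orderOf g = 1 from
      Subtype.ext (pow_orderOf_eq_one g), map_one]
  have hβ1 : β ≠ 1 := fun h1 => hgQ (by
    have h2 : (⟨g, by rw [normalizer_eq_top]; exact mem_top g⟩ : normalizer (Q : Set G)) ∈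
      Q.normalizerMonoidHom.ker := h1
    rwa [normalizerMonoidHom_ker] at h2)
  obtain ⟨f⟩ : Nonempty (Q ≃* QuaternionGroup 2) := by
    by_contra hno
    refine hβ1 (mulAut_eq_one_of_not_q8 hQp (fun a b ha hb => ?_) hno hgodd hβ)
    have key : ∀ a : Q, orderOf a = 2 → (a : G) = z := fun a ha => by
      have h1 := pow_orderOf_eq_one a
      rw [ha, pow_two] at h1
      refine (huniq a a.2 (congrArg Subtype.val h1)).resolve_left fun h => ?_
      rw [show a = 1 from Subtype.ext h, orderOf_one] at ha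
      exact absurd ha (by norm_num)
    exact Subtype.ext ((key a ha).trans (key b hb).symm)
  set β' : MulAut (QuaternionGroup 2) := MulAut.congr f β
  obtain ⟨c, hc, i, -, hc'⟩ := exists_twist β' hgodd (by rw [← map_pow, hβ, map_one])
    (fun h1 => hβ1 ((MulAut.congr f).injective (h1.trans (map_one _).symm)))
  set ι : QuaternionGroup 2 →* G := Q.subtype.comp (f.symm.toMonoidHom.comp c) with hι
  have hιinj : Function.Injective ι := Q.subtype_injective.comp (f.symm.injective.comp hc)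
  set a := g ^ i with ha
  have haodd : Odd (orderOf a) := odd_of_dvd (orderOf_pow_dvd i) hgodd
  have hconj : ∀ w, a * ι w * a⁻¹ = ι (q8Sigma w) := by
    intro w
    have h1 := hc' w
    rw [← map_pow] at h1
    have h3 : (β ^ i) (f.symm (c w)) = f.symm (c (q8Sigma w)) := by
      apply f.injective
      rw [MulEquiv.apply_symm_apply]
      exact h1
    have h4 := congrArg Subtype.val h3
    rw [hβdef, ← map_pow] at h4
    exact h4
  have hιrange : ι.range = Q := by
    have hcs : Function.Surjective c := Finite.surjective_of_injective hc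
    refine le_antisymm ?_ fun w hw => ?_
    · rintro _ ⟨w, rfl⟩; exact (f.symm (c w)).2
    · obtain ⟨u, hu⟩ := hcs (f ⟨w, hw⟩)
      exact ⟨u, by simp [hι, hu]⟩
  have hpow : ∀ (k : ℕ) w, a ^ k * ι w = ι (q8Sigma^[k] w) * a ^ k := by
    intro k
    induction k with
    | zero => intro w; simp
    | succ k ih =>
      intro w
      rw [pow_succ, mul_assoc, show a * ι w = ι (q8Sigma w) * a by rw [← hconj w]; group,
        ← mul_assoc, ih, Function.iterate_succ_apply, mul_assoc]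
  have hodd2 : ∀ u ∈ Q, Odd (orderOf u) → u = 1 := by
    intro u hu ho
    obtain ⟨k, hk⟩ := hQp ⟨u, hu⟩
    exact orderOf_eq_one_iff.mp (Nat.eq_one_of_dvd_coprimes
      ((Nat.coprime_two_right.mpr ho).pow_right k) dvd_rfl
      (orderOf_dvd_of_pow_eq_one (congrArg Subtype.val hk)))
  have ha3 : a ^ 3 = 1 := by
    refine hodd2 _ (hCQ (mem_centralizer_iff.mpr fun u hu => ?_))
      (odd_of_dvd (orderOf_pow_dvd 3) haodd)
    rw [SetLike.mem_coe, ← hιrange] at hu
    obtain ⟨w, rfl⟩ := hu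
    rw [hpow 3 w]
    simp [Function.iterate_succ, q8Sigma_three]
  have haQ : a ∉ Q := by
    intro h
    have h1 := hodd2 a h haodd
    refine q8Sigma_ne (hιinj ?_)
    rw [← hconj, h1]; simp
  -- the embedding of `SL(2,3)`
  let F₀ : QuaternionGroup 2 × Fin 3 → G := fun p => ι p.1 * a ^ (p.2 : ℕ)
  choose co hco using slCoord_surjective
  have hmul : ∀ A B, F₀ (co (A * B)) = F₀ (co A) * F₀ (co B) := by
    intro A B
    have e0 : co (A * B) = ((co A).1 * q8Sigma^[((co A).2 : ℕ)] (co B).1, (co A).2 + (co B).2) :=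
      slCoord_injective _ _ (by rw [hco, ← slCoord_mul, hco, hco])
    rw [e0]
    show ι _ * a ^ _ = ι _ * a ^ _ * (ι _ * a ^ _)
    have e2 : a ^ (((co A).2 + (co B).2 : Fin 3) : ℕ) = a ^ ((co A).2 : ℕ) * a ^ ((co B).2 : ℕ) := by
      rw [← pow_add, Fin.val_add, ← pow_mod_orderOf _ (_ + _), ← pow_mod_orderOf _ ((_ + _) % 3),
        Nat.mod_mod_of_dvd _ (orderOf_dvd_of_pow_eq_one ha3)]
    rw [map_mul, e2, mul_assoc (ι (co A).1) (a ^ ((co A).2 : ℕ)),
      ← mul_assoc (a ^ ((co A).2 : ℕ)) (ι (co B).1), hpow]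
    simp only [mul_assoc]
  let Fh : SL(2, ZMod 3) →* G := MonoidHom.mk' (fun A => F₀ (co A)) hmul
  have hFinj : Function.Injective Fh := by
    refine (injective_iff_map_eq_one _).mpr fun A hA => ?_
    have hA' : ι (co A).1 * a ^ ((co A).2 : ℕ) = 1 := hA
    have hmem : a ^ ((co A).2 : ℕ) ∈ Q := by
      rw [eq_inv_of_mul_eq_one_right hA', ← hιrange]
      exact inv_mem ⟨_, rfl⟩
    have hk : (co A).2 = 0 := by
      by_contra hk
      refine haQ ?_
      have h1 := hodd2 _ hmem (odd_of_dvd (orderOf_pow_dvd _) haodd)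
      have hlt := (co A).2.isLt
      have hne0 : ((co A).2 : ℕ) ≠ 0 := fun h => hk (Fin.ext h)
      rcases (show ((co A).2 : ℕ) = 1 ∨ ((co A).2 : ℕ) = 2 by omega) with h | h <;> rw [h] at h1
      · rw [pow_one] at h1; rw [h1]; exact one_mem Q
      · rw [pow_succ, h1, one_mul] at ha3; rw [ha3]; exact one_mem Q
    rw [hk, Fin.val_zero, pow_zero, mul_one] at hA'
    have hz0 : (co A).1 = 1 := hιinj (hA'.trans (map_one ι).symm)
    have e : co A = (1, 0) := Prod.ext hz0 hk
    rw [← hco A, e]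
    simp [slCoord]
  set U := Fh.range with hU
  refine ⟨U, ?_, ⟨(MonoidHom.ofInjective hFinj).symm⟩⟩
  -- `G` permutes the three nontrivial classes of `Q` modulo its centre
  haveI hZn : (zpowers z).Normal := ⟨fun u hu g => by
    obtain ⟨i, rfl⟩ := mem_zpowers_iff.mp hu
    rw [((Commute.zpow_right (hzc g) i)).eq, mul_inv_cancel_right]
    exact zpow_mem (mem_zpowers z) i⟩
  set π := QuotientGroup.mk' (zpowers z)
  set Qb := Q.map π with hQb
  haveI : Qb.Normal := (Core.normal_pCore 2 G).map π (QuotientGroup.mk'_surjective _)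
  set φ : G →* MulAut Qb := (MulAut.conjNormal).comp π with hφ
  have hz2 : orderOf z = 2 := orderOf_eq_prime (by rw [pow_two]; exact hzz) hz1
  have hQcard : Nat.card Q = 8 := by
    rw [Nat.card_congr f.toEquiv, Nat.card_eq_fintype_card, QuaternionGroup.card]
  have hQb4 : Nat.card Qb = 4 := by
    have h1 : Nat.card Qb = (π.comp Q.subtype).ker.index := by
      rw [index_ker, MonoidHom.range_comp, range_subtype]
    have h2 : (π.comp Q.subtype).ker = (zpowers z).subgroupOf Q := by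
      ext u
      rw [MonoidHom.mem_ker, mem_subgroupOf]
      exact QuotientGroup.eq_one_iff _
    have h3 : Nat.card ((zpowers z).subgroupOf Q) = 2 := by
      rw [Nat.card_congr (subgroupOfEquivOfLe (zpowers_le.mpr hzQ)).toEquiv, Nat.card_zpowers, hz2]
    have h4 := Subgroup.card_mul_index ((zpowers z).subgroupOf Q)
    rw [h3, hQcard, ← h2, ← h1] at h4
    omega
  have hsix : Nat.card φ.range ∣ 6 := by
    let toPerm : MulAut Qb →* Equiv.Perm {x : Qb // x ≠ 1} :=
      { toFun := fun e => e.toEquiv.subtypeEquiv fun x => by simp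
        map_one' := Equiv.ext fun x => rfl
        map_mul' := fun e e' => Equiv.ext fun x => rfl }
    have hinj' : Function.Injective toPerm := by
      intro e e' h
      refine MulEquiv.ext fun x => ?_
      by_cases hx : x = 1
      · rw [hx, map_one, map_one]
      · exact congrArg Subtype.val (Equiv.congr_fun h ⟨x, hx⟩)
    have h3 : Nat.card {x : Qb // x ≠ 1} = 3 := by
      haveI := Fintype.ofFinite Qb
      rw [Nat.card_eq_fintype_card, Fintype.card_subtype_compl, Fintype.card_subtype_eq,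
        ← Nat.card_eq_fintype_card, hQb4]
    have := (card_subgroup_dvd_card φ.range).trans (card_dvd_of_injective toPerm hinj')
    rwa [Nat.card_perm, h3] at this
  have hker : φ.ker ≤ Q := by
    have hcong : ∀ k ∈ φ.ker, ∀ u ∈ Q, k * u * k⁻¹ = u ∨ k * u * k⁻¹ = u * z := by
      intro k hk u hu
      have h1 : φ k ⟨π u, ⟨u, hu, rfl⟩⟩ = ⟨π u, ⟨u, hu, rfl⟩⟩ := by
        rw [MonoidHom.mem_ker.mp hk]; rfl
      have h2 : π (k * u * k⁻¹) = π u := by
        rw [map_mul, map_mul, map_inv]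
        exact congrArg Subtype.val h1
      have h3 : u⁻¹ * (k * u * k⁻¹) ∈ zpowers z := QuotientGroup.eq.mp h2.symm
      obtain ⟨m, hm⟩ := mem_zpowers_iff.mp h3
      rcases Int.even_or_odd m with ⟨r, rfl⟩ | ⟨r, rfl⟩
      · left
        rw [← two_mul, zpow_mul, zpow_two, hzz, one_zpow] at hm
        exact (inv_mul_eq_one.mp hm.symm).symm
      · right
        rw [zpow_add, zpow_mul, zpow_two, hzz, one_zpow, one_mul, zpow_one] at hm
        exact (eq_inv_mul_iff_mul_eq.mp hm).symm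
    have hk2 : ∀ k ∈ φ.ker, k ^ 2 ∈ Q := by
      intro k hk
      refine hCQ (mem_centralizer_iff.mpr fun u hu => ?_)
      have e : k ^ 2 * u * (k ^ 2)⁻¹ = u := by
        rw [pow_two, show k * k * u * (k * k)⁻¹ = k * (k * u * k⁻¹) * k⁻¹ by group]
        rcases hcong k hk u hu with h | h <;> rw [h]
        · exact h
        · rw [show k * (u * z) * k⁻¹ = (k * u * k⁻¹) * (k * z * k⁻¹) by group, h, hzc k,
            mul_inv_cancel_right, mul_assoc, hzz, mul_one]
      exact (mul_inv_eq_iff_eq_mul.mp e).symm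
    refine Core.le_pCore (N := φ.ker) fun k => ?_
    obtain ⟨m, hm⟩ := hQp ⟨(k : G) ^ 2, hk2 k k.2⟩
    refine ⟨m + 1, Subtype.ext ?_⟩
    have : ((k : G) ^ 2) ^ 2 ^ m = 1 := congrArg Subtype.val hm
    rwa [← pow_mul, ← pow_succ'] at this
  have hQ6 : Q.index ∣ 6 :=
    (index_dvd_of_le hker).trans (by rw [index_ker]; exact hsix)
  have hQU : Q ≤ U := by
    rw [← hιrange]
    rintro _ ⟨w, rfl⟩
    refine ⟨slCoord (w, 0), ?_⟩
    show F₀ (co _) = _
    rw [slCoord_injective _ _ (hco (slCoord (w, 0)))]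
    simp [F₀]
  have hUcard : Nat.card U = 24 := by
    rw [hU, Nat.card_congr (MonoidHom.ofInjective hFinj).symm.toEquiv, Nat.card_eq_fintype_card]
    rfl
  have e1 := Subgroup.card_mul_index U
  have e2 := Subgroup.card_mul_index Q
  rw [hUcard] at e1
  rw [hQcard] at e2
  have hU2 : U.index ∣ 2 := by
    have h : 3 * U.index ∣ 3 * 2 := by
      have : Q.index = 3 * U.index := by omega
      rw [← this]; exact hQ6
    exact Nat.dvd_of_mul_dvd_mul_left (by norm_num) h
  rcases (Nat.dvd_prime Nat.prime_two).mp hU2 with h | h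
  · rw [index_eq_one.mp h]; infer_instance
  · exact normal_of_index_eq_two h

end CfsgLib.LocalEven.DihedralSolvable
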