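import Cfsg.Prelude.Def_LocalStructure
import Cfsg.Agent.Lib.LocalEven.Basic

/-! Weakly closed `p`-subgroups of a finite group. -/

namespace CfsgLib.LocalEven

open Subgroup

variable {G : Type*} [Group G] [Finite G] {p : ℕ} [Fact p.Prime] {Q : Subgroup G}

omit [Finite G] [Fact p.Prime] in
theorem le_normalizer_conj {R : Subgroup G} {g : G}
    (h : R.map (MulAut.conj g⁻¹).toMonoidHom ≤ normalizer (Q : Set G)) :
    R ≤ normalizer ((Q.map (MulAut.conj g).toMonoidHom : Subgroup G) : Set G) := by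
  rw [normalizer_conj]
  intro x hx
  rw [mem_conj]
  apply h
  rw [mem_conj]
  simpa [mul_assoc] using hx

/-- `Q` is a weakly closed subgroup iff two conjugates of `Q` in a `p`-group are equal. -/
theorem isWeaklyClosedSubgroup_iff (hQ : IsPGroup p Q) :
    Cfsg.IsWeaklyClosedSubgroup p Q ↔ ∀ R : Subgroup G, IsPGroup p R → Q ≤ R → ∀ g : G,
      Q.map (MulAut.conj g).toMonoidHom ≤ R → Q.map (MulAut.conj g).toMonoidHom = Q := by
  constructor
  · rintro ⟨T, hQT, h⟩ R hR hQR g hg
    obtain ⟨a, ha⟩ := exists_sylow_conj_le T hR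
    have h1 := h a ((map_mono hQR).trans ha)
    have h2 := h (a * g) (by rw [← conj_conj]; exact (map_mono hg).trans ha)
    have h3 := congrArg (fun K : Subgroup G => K.map (MulAut.conj a⁻¹).toMonoidHom) (h2.trans h1.symm)
    simpa only [conj_conj, inv_mul_cancel_left, inv_mul_cancel, conj_one] using h3
  · intro h
    obtain ⟨T, hT⟩ := hQ.exists_le_sylow
    exact ⟨T, hT, fun g hg => h T T.2 hT g hg⟩

/-- A weakly closed subgroup is normalized by every `p`-group containing it. -/
theorem normalizer_le_of_weaklyClosed (hQ : IsPGroup p Q)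
    (hwc : Cfsg.IsWeaklyClosedSubgroup p Q) {R : Subgroup G} (hR : IsPGroup p R) (hQR : Q ≤ R) :
    normalizer (R : Set G) ≤ normalizer (Q : Set G) := fun n hn =>
  mem_normalizer_conj_iff.mpr ((isWeaklyClosedSubgroup_iff hQ).mp hwc R hR hQR n
    ((map_mono hQR).trans (mem_normalizer_conj_iff.mp hn).le))

theorem le_normalizer_of_weaklyClosed (hQ : IsPGroup p Q)
    (hwc : Cfsg.IsWeaklyClosedSubgroup p Q) {R : Subgroup G} (hR : IsPGroup p R) (hQR : Q ≤ R) :
    R ≤ normalizer (Q : Set G) :=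
  le_normalizer.trans (normalizer_le_of_weaklyClosed hQ hwc hR hQR)

/-- Characterisation by normalizers of `p`-overgroups. -/
theorem weaklyClosed_of_normalizer_le (hQ : IsPGroup p Q)
    (h : ∀ R : Subgroup G, IsPGroup p R → Q ≤ R → normalizer (R : Set G) ≤ normalizer (Q : Set G)) :
    Cfsg.IsWeaklyClosedSubgroup p Q := by
  rw [isWeaklyClosedSubgroup_iff hQ]
  intro R hR hQR g hg
  have hnorm : ∀ S : Subgroup G, IsPGroup p S → Q ≤ S → S ≤ normalizer (Q : Set G) :=
    fun S hS hQS => le_normalizer.trans (h S hS hQS)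
  obtain ⟨T, hRT⟩ := hR.exists_le_sylow
  have h1 : (T : Subgroup G) ≤ normalizer (Q : Set G) := hnorm T T.2 (hQR.trans hRT)
  have h2 : (T : Subgroup G).map (MulAut.conj g⁻¹).toMonoidHom ≤ normalizer (Q : Set G) := by
    refine hnorm _ (T.2.map _) ?_
    have := map_mono (f := (MulAut.conj g⁻¹).toMonoidHom) (hg.trans hRT)
    rwa [conj_conj, inv_mul_cancel, conj_one] at this
  obtain ⟨a, ha⟩ := exists_sylow_conj_le (T.subtype h1)
    (((T.2.map _).of_equiv (subgroupOfEquivOfLe h2).symm) :
      IsPGroup p (((T : Subgroup G).map (MulAut.conj g⁻¹).toMonoidHom).subgroupOf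
        (normalizer (Q : Set G))))
  have h3 : ((T : Subgroup G).map (MulAut.conj g⁻¹).toMonoidHom).map
      (MulAut.conj (a : G)).toMonoidHom ≤ T := by
    intro x hx
    rw [mem_conj] at hx
    have hxn : x ∈ normalizer (Q : Set G) := by
      have := mul_mem (mul_mem a.2 (h2 hx)) (inv_mem a.2)
      simpa [mul_assoc] using this
    have := ha (mem_conj.mpr (show a⁻¹ * ⟨x, hxn⟩ * a ∈ _ from mem_subgroupOf.mpr (by simpa using hx)))
    exact mem_subgroupOf.mp this
  rw [conj_conj] at h3
  have h4 : (a : G) * g⁻¹ ∈ normalizer ((T : Subgroup G) : Set G) :=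
    mem_normalizer_conj_iff.mpr (eq_of_le_of_card_ge h3
      (card_map_of_injective (MulAut.conj _).injective).ge)
  have h5 : g⁻¹ ∈ normalizer (Q : Set G) := by
    have := mul_mem (inv_mem a.2) (h T T.2 (hQR.trans hRT) h4)
    simpa using this
  exact mem_normalizer_conj_iff.mp (by simpa using inv_mem h5)

/-- Characterisation by mutual normalization of conjugates. -/
theorem weaklyClosed_of_mutual (hQ : IsPGroup p Q)
    (h : ∀ g : G, Q ≤ normalizer ((Q.map (MulAut.conj g).toMonoidHom : Subgroup G) : Set G) →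
      Q.map (MulAut.conj g).toMonoidHom ≤ normalizer (Q : Set G) →
      Q.map (MulAut.conj g).toMonoidHom = Q) :
    Cfsg.IsWeaklyClosedSubgroup p Q := by
  have hnorm : ∀ S : Subgroup G, IsPGroup p S → Q ≤ S → S ≤ normalizer (Q : Set G) := by
    intro S hS hQS
    have e : S ⊓ normalizer (Q : Set G) = S := by
      refine eq_of_normalizer_inf_le hS inf_le_left ?_
      intro x hx
      refine ⟨hx.1, mem_normalizer_conj_iff.mpr ?_⟩
      have hQM : Q ≤ S ⊓ normalizer (Q : Set G) := le_inf hQS le_normalizer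
      have hMx := mem_normalizer_conj_iff.mp hx.2
      have h1 : Q.map (MulAut.conj x).toMonoidHom ≤ S ⊓ normalizer (Q : Set G) :=
        (map_mono hQM).trans hMx.le
      refine h x ?_ (h1.trans inf_le_right)
      refine hQM.trans (le_normalizer_conj ?_)
      rw [mem_normalizer_conj_iff.mp (inv_mem hx.2)]
      exact inf_le_right
    exact e ▸ inf_le_right
  rw [isWeaklyClosedSubgroup_iff hQ]
  intro R hR hQR g hg
  refine h g (hQR.trans (le_normalizer_conj ?_)) (hg.trans (hnorm R hR hQR))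
  refine hnorm _ (hR.map _) ?_
  have := map_mono (f := (MulAut.conj g⁻¹).toMonoidHom) hg
  rwa [conj_conj, inv_mul_cancel, conj_one] at this

omit [Finite G] [Fact p.Prime] in
theorem isWeaklyClosedSubgroup_subgroupOf [Finite G] [Fact p.Prime] (hQ : IsPGroup p Q)
    (hwc : Cfsg.IsWeaklyClosedSubgroup p Q) {K : Subgroup G} (hQK : Q ≤ K) :
    Cfsg.IsWeaklyClosedSubgroup p (Q.subgroupOf K) := by
  rw [isWeaklyClosedSubgroup_iff (hQ.of_equiv (subgroupOfEquivOfLe hQK).symm)]
  intro R hR hQR k hk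
  have e : ((Q.subgroupOf K).map (MulAut.conj k).toMonoidHom).map K.subtype =
      Q.map (MulAut.conj (k : G)).toMonoidHom := by
    rw [map_map, show K.subtype.comp (MulAut.conj k).toMonoidHom =
      (MulAut.conj (k : G)).toMonoidHom.comp K.subtype from MonoidHom.ext fun _ => rfl,
      ← map_map, map_subgroupOf_eq_of_le hQK]
  apply map_injective K.subtype_injective
  rw [e, map_subgroupOf_eq_of_le hQK]
  refine (isWeaklyClosedSubgroup_iff hQ).mp hwc (R.map K.subtype) (hR.map _) ?_ k ?_
  · rw [← map_subgroupOf_eq_of_le hQK]; exact map_mono hQR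
  · rw [← e]; exact map_mono hk

/-- Conjugates of a weakly closed subgroup inside `K` are conjugate in `K`. -/
theorem exists_conj_mem_of_weaklyClosed (hQ : IsPGroup p Q)
    (hwc : Cfsg.IsWeaklyClosedSubgroup p Q) {K : Subgroup G} (hQK : Q ≤ K) {g : G}
    (hg : Q.map (MulAut.conj g).toMonoidHom ≤ K) :
    ∃ k ∈ K, Q.map (MulAut.conj g).toMonoidHom = Q.map (MulAut.conj k).toMonoidHom := by
  obtain ⟨P, hP⟩ :=
    (hQ.of_equiv (subgroupOfEquivOfLe hQK).symm : IsPGroup p (Q.subgroupOf K)).exists_le_sylow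
  obtain ⟨a, ha⟩ := exists_sylow_conj_le P
    ((hQ.map _).of_equiv (subgroupOfEquivOfLe hg).symm :
      IsPGroup p ((Q.map (MulAut.conj g).toMonoidHom).subgroupOf K))
  refine ⟨(a : G)⁻¹, inv_mem a.2, ?_⟩
  have h1 := (isWeaklyClosedSubgroup_iff hQ).mp hwc ((P : Subgroup K).map K.subtype)
    (P.2.map _) (by rw [← map_subgroupOf_eq_of_le hQK]; exact map_mono hP) ((a : G) * g) (by
      have h2 := map_mono (f := K.subtype) ha
      rwa [map_map, show K.subtype.comp (MulAut.conj a).toMonoidHom =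
        (MulAut.conj (a : G)).toMonoidHom.comp K.subtype from MonoidHom.ext fun _ => rfl,
        ← map_map, map_subgroupOf_eq_of_le hg, conj_conj] at h2)
  have h3 := congrArg (fun X : Subgroup G => X.map (MulAut.conj (a : G)⁻¹).toMonoidHom) h1
  simpa only [conj_conj, inv_mul_cancel_left] using h3

end CfsgLib.LocalEven

namespace CfsgLib.LocalEven

open Subgroup

variable {G : Type*} [Group G] [Finite G] {p : ℕ} [Fact p.Prime] {Q : Subgroup G}

/-- A large `p`-subgroup is weakly closed. -/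
theorem weaklyClosed_of_large (hQp : IsPGroup p Q) (hQ1 : Q ≠ ⊥) (hL : Cfsg.IsLarge Q) :
    Cfsg.IsWeaklyClosedSubgroup p Q := by
  refine weaklyClosed_of_normalizer_le hQp fun R hR hQR => ?_
  haveI : Nontrivial ↥R := (nontrivial_iff_ne_bot R).mpr fun h => hQ1 (le_bot_iff.mp (h ▸ hQR))
  haveI := hR.center_nontrivial
  have hne : (center ↥R).map R.subtype ≠ ⊥ := by
    rw [Ne, map_eq_bot_iff_of_injective _ R.subtype_injective]
    exact (nontrivial_iff_ne_bot _).mp inferInstance
  refine le_trans ?_ (hL.2 _ ?_ hne)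
  · intro n hn
    rw [mem_normalizer_iff]
    have key : ∀ n ∈ normalizer (R : Set G), ∀ x ∈ (center ↥R).map R.subtype,
        n * x * n⁻¹ ∈ (center ↥R).map R.subtype := by
      rintro n hn _ ⟨x, hx, rfl⟩
      refine ⟨⟨n * x * n⁻¹, (mem_normalizer_iff.mp hn _).mp x.2⟩, mem_center_iff.mpr
        fun y => Subtype.ext ?_, rfl⟩
      have h1 := congrArg (fun z : ↥R => n * (z : G) * n⁻¹) (mem_center_iff.mp hx
        ⟨n⁻¹ * y * n, (mem_normalizer_iff''.mp hn _).mp y.2⟩)
      simpa [mul_assoc] using h1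
    intro x
    refine ⟨key n hn x, fun h => ?_⟩
    simpa [mul_assoc] using key _ (inv_mem hn) _ h
  · rintro _ ⟨x, hx, rfl⟩
    exact mem_centralizer_iff.mpr fun q hq =>
      congrArg Subtype.val (mem_center_iff.mp hx ⟨q, hQR hq⟩)

/-- Two `p`-subgroups, one weakly closed: if the second normalizes... their product is a `p`-group,
so the second normalizes the first. -/
theorem le_normalizer_of_weaklyClosed' (hQ : IsPGroup p Q)
    (hwc : Cfsg.IsWeaklyClosedSubgroup p Q) {P : Subgroup G} (hP : IsPGroup p P)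
    (h : Q ≤ normalizer (P : Set G)) : P ≤ normalizer (Q : Set G) :=
  le_sup_right.trans
    (le_normalizer_of_weaklyClosed hQ hwc (hQ.to_sup_of_normal_right' hP h) le_sup_left)

omit [Finite G] [Fact p.Prime] in
/-- Being large is preserved by conjugation. -/
theorem isLarge_conj (hL : Cfsg.IsLarge Q) (g : G) :
    Cfsg.IsLarge (Q.map (MulAut.conj g).toMonoidHom) := by
  have hc : ∀ x, x ∈ centralizer ((Q.map (MulAut.conj g).toMonoidHom : Subgroup G) : Set G) →
      g⁻¹ * x * g ∈ centralizer (Q : Set G) := fun x hx => mem_centralizer_iff.mpr fun q hq => by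
    have h := mem_centralizer_iff.mp hx _ (conj_mem_conj (g := g) hq)
    have := congrArg (fun z => g⁻¹ * z * g) h
    simpa [mul_assoc] using this
  refine ⟨fun x hx => mem_conj.mpr (hL.1 (hc x hx)), fun U hU hU1 n hn => ?_⟩
  have h1 := hL.2 (U.map (MulAut.conj g⁻¹).toMonoidHom)
    (by rintro _ ⟨x, hx, rfl⟩; simpa using hc x (hU hx)) (conj_ne_bot hU1)
  rw [normalizer_conj] at h1 ⊢
  rw [mem_conj]
  refine h1 ?_
  rw [mem_conj]
  simpa [mul_assoc] using hn

end CfsgLib.LocalEven
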