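import Cfsg.Prelude.Def_LocalStructure
import Cfsg.Agent.Lib.LocalEven.WeaklyClosed
import Cfsg.Agent.Lib.Core.Cores
import Cfsg.Agent.Lib.PGroups.Basic
import Cfsg.Agent.Lib.LocalEvenB.CharP

/-! Subgroups containing a weakly closed self-centralizing `p`-subgroup have characteristic `p`. -/

namespace CfsgLib.LocalEven

open Subgroup
open scoped commutatorElement

variable {G : Type*} [Group G]

/-- Elements moving `v` by an element they centralize: a power fixes `v`. -/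
theorem pow_card_commute {A : Subgroup G} [Finite A] {t v : G} (ha : t * v * t⁻¹ * v⁻¹ ∈ A)
    (hc : Commute t (t * v * t⁻¹ * v⁻¹)) : Commute (t ^ Nat.card A) v := by
  set a := t * v * t⁻¹ * v⁻¹ with hdef
  have h : ∀ n : ℕ, t ^ n * v * (t ^ n)⁻¹ = a ^ n * v := by
    intro n
    induction n with
    | zero => simp
    | succ n ih =>
      calc t ^ (n + 1) * v * (t ^ (n + 1))⁻¹ = t * (t ^ n * v * (t ^ n)⁻¹) * t⁻¹ := by
            rw [pow_succ']; group
        _ = t * (a ^ n * v) * t⁻¹ := by rw [ih]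
        _ = a ^ n * t * v * t⁻¹ := by rw [← mul_assoc, (hc.pow_right n).eq]
        _ = a ^ n * (a * v) := by rw [hdef]; group
        _ = a ^ (n + 1) * v := by rw [← mul_assoc, pow_succ]
  have h1 : a ^ Nat.card A = 1 :=
    congrArg Subtype.val (pow_card_eq_one' (x := (⟨a, ha⟩ : A)))
  have h2 := h (Nat.card A)
  rw [h1, one_mul, mul_inv_eq_iff_eq_mul] at h2
  exact h2

/-- If `Q` moves `P` within `A` and `C` centralizes `A`, then `[C, Q]` moves `P` within `A`. -/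
theorem commutator_moves_le {C Q P A : Subgroup G}
    (hCA : C ≤ centralizer (A : Set G)) (hQC : Q ≤ normalizer (C : Set G))
    (hQA : Q ≤ normalizer (A : Set G))
    (hCP : C ≤ normalizer (P : Set G)) (hQP : Q ≤ normalizer (P : Set G))
    (h : ∀ q ∈ Q, ∀ v ∈ P, q * v * q⁻¹ * v⁻¹ ∈ A) :
    ∀ t ∈ ⁅C, Q⁆, t ∈ C ∧ ∀ v ∈ P, t * v * t⁻¹ * v⁻¹ ∈ A := by
  have hfix : ∀ c ∈ C, ∀ a ∈ A, c * a * c⁻¹ = a := fun c hc a ha => by
    rw [← mem_centralizer_iff.mp (hCA hc) a ha, mul_inv_cancel_right]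
  let T : Subgroup G :=
    { carrier := {t | t ∈ C ∧ ∀ v ∈ P, t * v * t⁻¹ * v⁻¹ ∈ A}
      one_mem' := ⟨one_mem C, fun v _ => by simp⟩
      mul_mem' := by
        rintro s t ⟨hs, hs'⟩ ⟨ht, ht'⟩
        refine ⟨mul_mem hs ht, fun v hv => ?_⟩
        rw [show s * t * v * (s * t)⁻¹ * v⁻¹ =
          s * (t * v * t⁻¹ * v⁻¹) * s⁻¹ * (s * v * s⁻¹ * v⁻¹) by group, hfix s hs _ (ht' v hv)]
        exact mul_mem (ht' v hv) (hs' v hv)
      inv_mem' := by
        rintro s ⟨hs, hs'⟩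
        refine ⟨inv_mem hs, fun v hv => ?_⟩
        have hw : s⁻¹ * v * s ∈ P := by
          simpa using (mem_normalizer_iff.mp (hCP (inv_mem hs)) v).mp hv
        have h1 := inv_mem (hs' _ hw)
        rw [show (s * (s⁻¹ * v * s) * s⁻¹ * (s⁻¹ * v * s)⁻¹)⁻¹ = s⁻¹ * v * s * v⁻¹ by group] at h1
        simpa using h1 }
  suffices hT : ⁅C, Q⁆ ≤ T from fun t ht => hT ht
  rw [commutator_le]
  intro c hc q hq
  refine ⟨(le_normalizer_iff_commutator_le_left.mp hQC) (commutator_mem_commutator hc hq),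
    fun v hv => ?_⟩
  have hv1 : q⁻¹ * v * q ∈ P := (mem_normalizer_iff''.mp (hQP hq) v).mp hv
  have hv2 : c⁻¹ * v * c ∈ P := (mem_normalizer_iff''.mp (hCP hc) v).mp hv
  have ha : q⁻¹ * v * q * v⁻¹ ∈ A := by simpa using h q⁻¹ (inv_mem hq) v hv
  have hb : q * (c⁻¹ * v * c) * q⁻¹ * (c⁻¹ * v * c)⁻¹ ∈ A := h q hq _ hv2
  have ha' : q * (q⁻¹ * v * q * v⁻¹) * q⁻¹ ∈ A := (mem_normalizer_iff.mp (hQA hq) _).mp ha
  have key : ⁅c, q⁆ * v * ⁅c, q⁆⁻¹ * v⁻¹ =
      (c * (q * (c⁻¹ * (q⁻¹ * v * q * v⁻¹) * c) * q⁻¹) * c⁻¹) *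
        (c * (q * (c⁻¹ * v * c) * q⁻¹ * (c⁻¹ * v * c)⁻¹) * c⁻¹) := by
    rw [commutatorElement_def]; group
  have hca : c⁻¹ * (q⁻¹ * v * q * v⁻¹) * c = q⁻¹ * v * q * v⁻¹ := by
    simpa using hfix c⁻¹ (inv_mem hc) _ ha
  rw [key, hca, hfix c hc _ ha', hfix c hc _ hb]
  exact mul_mem ha' hb

variable [Finite G] {p : ℕ} [Fact p.Prime] {Q : Subgroup G}

theorem mem_pgroup_of_pow_mem {P : Subgroup G} (hP : IsPGroup p P) {t : G} {k : ℕ}
    (h : t ^ p ^ k ∈ P) : ∃ j : ℕ, t ^ p ^ j = 1 := by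
  obtain ⟨i, hi⟩ := hP ⟨_, h⟩
  refine ⟨k + i, ?_⟩
  rw [pow_add, pow_mul]
  simpa using congrArg Subtype.val hi

omit [Finite G] [Fact p.Prime] in
theorem le_normalizer_centralizer {A : Subgroup G} :
    normalizer (A : Set G) ≤ normalizer ((centralizer (A : Set G) : Subgroup G) : Set G) :=
  (normal_subgroupOf_iff_le_normalizer (centralizer_le_normalizer _)).mp inferInstance

/-- A normal `p`-subgroup of a normal subgroup of `L` lies in `O_p(L)`. -/
theorem le_pCoreOf_of_le_normal {A K L : Subgroup G} (hKL : K ≤ L)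
    (hLK : L ≤ normalizer (K : Set G)) (hAK : A ≤ K) (hA : IsPGroup p A)
    (hn : K ≤ normalizer (A : Set G)) : A ≤ Cfsg.pCoreOf p L := by
  haveI : (K.subgroupOf L).Normal := (normal_subgroupOf_iff_le_normalizer hKL).mpr hLK
  haveI : (A.subgroupOf L |>.subgroupOf (K.subgroupOf L)).Normal :=
    ⟨fun x hx g => (mem_normalizer_iff.mp (hn g.2) _).mp hx⟩
  have h1 := (map_mono (f := (K.subgroupOf L).subtype) (CfsgLib.Core.le_pCore
    (N := (A.subgroupOf L).subgroupOf (K.subgroupOf L))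
    ((hA.comap_of_injective L.subtype L.subtype_injective).comap_of_injective _
      (K.subgroupOf L).subtype_injective))).trans (CfsgLib.Core.map_subtype_pCore_le _)
  rw [show ((A.subgroupOf L).subgroupOf (K.subgroupOf L)).map (K.subgroupOf L).subtype = A.subgroupOf L from
    map_subgroupOf_eq_of_le fun x hx => hAK hx] at h1
  rw [← map_subgroupOf_eq_of_le (hAK.trans hKL)]
  exact map_mono h1

/-- Once `[C, Q]` is a `p`-group, so is `C`. -/
theorem centralizer_tail (hQ : IsPGroup p Q)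
    (hwc : Cfsg.IsWeaklyClosedSubgroup p Q) (hCQ : centralizer (Q : Set G) ≤ Q)
    {L C : Subgroup G} (hQL : Q ≤ L) (hC : C ≤ centralizer (Cfsg.pCoreOf p L : Set G))
    (hLC : L ≤ normalizer (C : Set G)) (hD : IsPGroup p ↥⁅C, Q⁆) :
    IsPGroup p C ∧ ⁅Q, C⁆ ≤ Q ⊓ Cfsg.pCoreOf p L := by
  have hQC : Q ≤ normalizer (C : Set G) := hQL.trans hLC
  have hR' : IsPGroup p ↥(Q ⊔ ⁅C, Q⁆) :=
    hQ.to_sup_of_normal_right' hD (normalizer_commutator_ge_right C Q)
  have hCN : C ≤ normalizer (Q : Set G) := by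
    intro c hc
    rw [mem_normalizer_conj_iff]
    refine (isWeaklyClosedSubgroup_iff hQ).mp hwc _ hR' le_sup_left c ?_
    rintro _ ⟨q, hq, rfl⟩
    show c * q * c⁻¹ ∈ _
    rw [show c * q * c⁻¹ = ⁅c, q⁆ * q by rw [commutatorElement_def]; group]
    exact mul_mem (mem_sup_right (commutator_mem_commutator hc hq)) (mem_sup_left hq)
  have hQR : Q ⊓ C ≤ Cfsg.pCoreOf p L :=
    le_pCoreOf_of_le_normal (K := L ⊓ C) inf_le_left
      ((le_inf le_normalizer hLC).trans inf_normalizer_le_normalizer_inf)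
      (inf_le_inf_right C hQL) (hQ.to_le inf_le_left)
      (inf_le_right.trans ((le_inf hCN le_normalizer).trans inf_normalizer_le_normalizer_inf))
  have hcomm : ⁅Q, C⁆ ≤ Q ⊓ C :=
    le_inf (le_normalizer_iff_commutator_le_left.mp hCN)
      (le_normalizer_iff_commutator_le_right.mp hQC)
  refine ⟨?_, le_inf (hcomm.trans inf_le_left) (hcomm.trans hQR)⟩
  rintro ⟨c, hc⟩
  obtain ⟨i, hi⟩ := IsPGroup.iff_card.mp (hQ.to_le (inf_le_left : Q ⊓ C ≤ Q))
  have h1 : c ^ p ^ i ∈ Q := by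
    refine hCQ (mem_centralizer_iff.mpr fun q hq => ?_)
    refine (Commute.eq ?_).symm
    have hm : c * q * c⁻¹ * q⁻¹ ∈ Q ⊓ C :=
      Subgroup.mem_inf.mpr ⟨mul_mem ((mem_normalizer_iff.mp (hCN hc) q).mp hq) (inv_mem hq), by
        rw [show c * q * c⁻¹ * q⁻¹ = c * (q * c⁻¹ * q⁻¹) by group]
        exact mul_mem hc ((mem_normalizer_iff.mp (hQC hq) _).mp (inv_mem hc))⟩
    rw [← hi]
    exact pow_card_commute hm (mem_centralizer_iff.mp (hC hc) _ (hQR hm)).symm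
  obtain ⟨j, hj⟩ := mem_pgroup_of_pow_mem hQ h1
  exact ⟨j, Subtype.ext (by simpa using hj)⟩

/-- Core case: `L` inside a group `X` of characteristic `p`. -/
theorem isPGroup_centralizer_of_le (hQ : IsPGroup p Q)
    (hwc : Cfsg.IsWeaklyClosedSubgroup p Q) (hCQ : centralizer (Q : Set G) ≤ Q)
    {X L : Subgroup G} (hX : CfsgLib.LocalEvenB.HasCharP p X) (hQL : Q ≤ L) (hLX : L ≤ X) :
    IsPGroup p ↥(X ⊓ centralizer (Cfsg.pCoreOf p L : Set G)) := by
  set P := Cfsg.pCoreOf p X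
  set R := Cfsg.pCoreOf p L
  set C := X ⊓ centralizer (R : Set G) with hC
  have hQX : Q ≤ X := hQL.trans hLX
  have hP : IsPGroup p P := CfsgLib.LocalEvenB.isPGroup_pCoreOf X
  have hPX : X ≤ normalizer (P : Set G) := CfsgLib.LocalEvenB.le_normalizer_pCoreOf X
  have hLC : L ≤ normalizer (C : Set G) :=
    (le_inf (hLX.trans le_normalizer) ((CfsgLib.LocalEvenB.le_normalizer_pCoreOf L).trans
      le_normalizer_centralizer)).trans inf_normalizer_le_normalizer_inf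
  have hPQ : P ≤ normalizer (Q : Set G) :=
    le_normalizer_of_weaklyClosed' hQ hwc hP (hQX.trans hPX)
  have hA : P ⊓ Q ≤ R := by
    refine le_trans (inf_le_inf_left P hQL) (CfsgLib.LocalEvenB.le_pCoreOf inf_le_right
      (hP.to_le inf_le_left) ?_)
    exact (le_inf (hLX.trans hPX) le_normalizer).trans inf_normalizer_le_normalizer_inf
  have hmove : ∀ q ∈ Q, ∀ v ∈ P, q * v * q⁻¹ * v⁻¹ ∈ P ⊓ Q := fun q hq v hv =>
    Subgroup.mem_inf.mpr ⟨mul_mem ((mem_normalizer_iff.mp (hPX (hQX hq)) v).mp hv) (inv_mem hv), by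
      rw [show q * v * q⁻¹ * v⁻¹ = q * (v * q⁻¹ * v⁻¹) by group]
      exact mul_mem hq ((mem_normalizer_iff.mp (hPQ hv) _).mp (inv_mem hq))⟩
  have hmv := commutator_moves_le (C := C) (Q := Q) (P := P) (A := P ⊓ Q)
    (inf_le_right.trans (centralizer_le (SetLike.coe_subset_coe.mpr hA))) (hQL.trans hLC)
    ((le_inf (hQX.trans hPX) le_normalizer).trans inf_normalizer_le_normalizer_inf)
    (inf_le_left.trans hPX) (hQX.trans hPX) hmove
  obtain ⟨a, ha⟩ := IsPGroup.iff_card.mp (hP.to_le (inf_le_left : P ⊓ Q ≤ P))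
  refine (centralizer_tail hQ hwc hCQ hQL inf_le_right hLC ?_).1
  rintro ⟨t, ht⟩
  obtain ⟨htC, hv⟩ := hmv t ht
  have h1 : t ^ p ^ a ∈ P := by
    refine hX ⟨pow_mem htC.1 _, mem_centralizer_iff.mpr fun v hv' => ?_⟩
    refine (Commute.eq ?_).symm
    rw [← ha]
    exact pow_card_commute (hv v hv')
      (mem_centralizer_iff.mp htC.2 _ (hA (hv v hv'))).symm
  obtain ⟨j, hj⟩ := mem_pgroup_of_pow_mem hP h1
  exact ⟨j, Subtype.ext (by simpa using hj)⟩

/-- `C_G(O_p(L))` is a `p`-group if it lies in a subgroup of characteristic `p` containing `Q`. -/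
theorem centralizer_pCoreOf_pgroup (hQ : IsPGroup p Q)
    (hwc : Cfsg.IsWeaklyClosedSubgroup p Q) (hCQ : centralizer (Q : Set G) ≤ Q)
    {X L : Subgroup G} (hX : CfsgLib.LocalEvenB.HasCharP p X) (hQX : Q ≤ X) (hQL : Q ≤ L)
    (hCX : centralizer (Cfsg.pCoreOf p L : Set G) ≤ X) :
    ⁅Q, centralizer (Cfsg.pCoreOf p L : Set G)⁆ ≤ Q ⊓ Cfsg.pCoreOf p L ∧
    IsPGroup p ↥(centralizer (Cfsg.pCoreOf p L : Set G)) ∧
    CfsgLib.LocalEvenB.HasCharP p L := by
  set R := Cfsg.pCoreOf p L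
  set C := centralizer (R : Set G)
  have hLC : L ≤ normalizer (C : Set G) :=
    (CfsgLib.LocalEvenB.le_normalizer_pCoreOf L).trans le_normalizer_centralizer
  set E := Cfsg.pCoreOf p C
  have hE : IsPGroup p E := CfsgLib.LocalEvenB.isPGroup_pCoreOf C
  have hEC : E ≤ C := CfsgLib.LocalEvenB.pCoreOf_le C
  have hCE : C ≤ normalizer (E : Set G) := CfsgLib.LocalEvenB.le_normalizer_pCoreOf C
  have hLE : L ≤ normalizer (E : Set G) := by
    intro l hl
    rw [mem_normalizer_conj_iff]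
    refine eq_of_le_of_card_ge (CfsgLib.LocalEvenB.le_pCoreOf ?_ (hE.map _) ?_)
      (card_map_of_injective (MulAut.conj l).injective).ge
    · exact (map_mono hEC).trans (mem_normalizer_conj_iff.mp (hLC hl)).le
    · rw [normalizer_conj]
      exact (mem_normalizer_conj_iff.mp (hLC hl)).ge.trans (map_mono hCE)
  have hEQ : E ≤ normalizer (Q : Set G) :=
    le_normalizer_of_weaklyClosed' hQ hwc hE (hQL.trans hLE)
  have hA : E ⊓ Q ≤ R :=
    (inf_le_inf_left E hQL).trans (le_pCoreOf_of_le_normal (K := L ⊓ C) inf_le_left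
      ((le_inf le_normalizer hLC).trans inf_normalizer_le_normalizer_inf)
      (le_inf inf_le_right (inf_le_left.trans hEC)) (hE.to_le inf_le_left)
      ((le_inf (inf_le_right.trans hCE) (inf_le_left.trans le_normalizer)).trans
        inf_normalizer_le_normalizer_inf))
  have hmove : ∀ q ∈ Q, ∀ v ∈ E, q * v * q⁻¹ * v⁻¹ ∈ E ⊓ Q := fun q hq v hv =>
    Subgroup.mem_inf.mpr ⟨mul_mem ((mem_normalizer_iff.mp (hLE (hQL hq)) v).mp hv) (inv_mem hv), by
      rw [show q * v * q⁻¹ * v⁻¹ = q * (v * q⁻¹ * v⁻¹) by group]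
      exact mul_mem hq ((mem_normalizer_iff.mp (hEQ hv) _).mp (inv_mem hq))⟩
  have hmv := commutator_moves_le (C := C) (Q := Q) (P := E) (A := E ⊓ Q)
    (centralizer_le (SetLike.coe_subset_coe.mpr hA)) (hQL.trans hLC)
    ((le_inf (hQL.trans hLE) le_normalizer).trans inf_normalizer_le_normalizer_inf)
    hCE (hQL.trans hLE) hmove
  -- the auxiliary subgroup
  set L₂ := (L ⊓ X) ⊔ C with hL₂
  have hQL₂ : Q ≤ L₂ := (le_inf hQL hQX).trans le_sup_left
  have hL₂X : L₂ ≤ X := sup_le inf_le_right hCX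
  have hL₂C : L₂ ≤ normalizer (C : Set G) := sup_le (inf_le_left.trans hLC) le_normalizer
  set R₂ := Cfsg.pCoreOf p L₂
  have hR₂ : IsPGroup p R₂ := CfsgLib.LocalEvenB.isPGroup_pCoreOf L₂
  have hC₂ := isPGroup_centralizer_of_le hQ hwc hCQ hX hQL₂ hL₂X
  have hCR₂ : C ≤ normalizer (R₂ : Set G) :=
    le_sup_right.trans (CfsgLib.LocalEvenB.le_normalizer_pCoreOf L₂)
  have hR₂C : R₂ ⊓ C ≤ E :=
    CfsgLib.LocalEvenB.le_pCoreOf inf_le_right (hR₂.to_le inf_le_left)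
      ((le_inf hCR₂ le_normalizer).trans inf_normalizer_le_normalizer_inf)
  obtain ⟨a, ha⟩ := IsPGroup.iff_card.mp (hE.to_le (inf_le_left : E ⊓ Q ≤ E))
  obtain ⟨b, hb⟩ := IsPGroup.iff_card.mp hE
  have hD : IsPGroup p ↥⁅C, Q⁆ := by
    rintro ⟨t, ht⟩
    obtain ⟨htC, hv⟩ := hmv t ht
    set s := t ^ p ^ a with hs
    have hsC : s ∈ C := pow_mem htC _
    have hsE : ∀ e ∈ E, Commute s e := fun e he => by
      rw [hs, ← ha]
      exact pow_card_commute (hv e he) (mem_centralizer_iff.mp htC _ (hA (hv e he))).symm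
    have hmem : s ^ p ^ b ∈ X ⊓ centralizer (R₂ : Set G) := by
      refine ⟨pow_mem (hCX hsC) _, mem_centralizer_iff.mpr fun v hv' => ?_⟩
      refine (Commute.eq ?_).symm
      have hm : s * v * s⁻¹ * v⁻¹ ∈ E := hR₂C <|
        Subgroup.mem_inf.mpr ⟨mul_mem ((mem_normalizer_iff.mp (hCR₂ hsC) v).mp hv') (inv_mem hv'), by
          rw [show s * v * s⁻¹ * v⁻¹ = s * (v * s⁻¹ * v⁻¹) by group]
          exact mul_mem hsC ((mem_normalizer_iff.mp
            (hL₂C (CfsgLib.LocalEvenB.pCoreOf_le L₂ hv')) _).mp (inv_mem hsC))⟩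
      rw [← hb]
      exact pow_card_commute hm (hsE _ hm)
    rw [hs, ← pow_mul, ← pow_add] at hmem
    obtain ⟨j, hj⟩ := mem_pgroup_of_pow_mem hC₂ hmem
    exact ⟨j, Subtype.ext (by simpa using hj)⟩
  obtain ⟨hCp, hcomm⟩ := centralizer_tail hQ hwc hCQ hQL le_rfl hLC hD
  refine ⟨hcomm, hCp, ?_⟩
  exact CfsgLib.LocalEvenB.le_pCoreOf inf_le_left (hCp.to_le inf_le_right)
    ((le_inf le_normalizer hLC).trans inf_normalizer_le_normalizer_inf)

/-- A subgroup with a normal self-centralizing `p`-subgroup has characteristic `p`. -/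
theorem hasCharP_of_normal {X : Subgroup G} (hQ : IsPGroup p Q) (hQX : Q ≤ X)
    (hn : X ≤ normalizer (Q : Set G)) (hCQ : centralizer (Q : Set G) ≤ Q) :
    CfsgLib.LocalEvenB.HasCharP p X := by
  have h := CfsgLib.LocalEvenB.le_pCoreOf hQX hQ hn
  exact (inf_le_right.trans (centralizer_le (SetLike.coe_subset_coe.mpr h))).trans (hCQ.trans h)

/-- A `p`-group normalizing a nontrivial `p`-subgroup fixes a nontrivial element of it. -/
theorem exists_ne_one_mem_centralizer (hQ : IsPGroup p Q) {R : Subgroup G} (hR : IsPGroup p R)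
    (hR1 : R ≠ ⊥) (h : Q ≤ normalizer (R : Set G)) :
    ∃ y, y ≠ 1 ∧ y ∈ R ⊓ centralizer (Q : Set G) := by
  have hM : IsPGroup p ↥(Q ⊔ R) := hQ.to_sup_of_normal_right' hR h
  haveI : (R.subgroupOf (Q ⊔ R)).Normal :=
    (normal_subgroupOf_iff_le_normalizer le_sup_right).mpr (sup_le h le_normalizer)
  have hne : R.subgroupOf (Q ⊔ R) ≠ ⊥ := fun e => hR1 (by
    rw [← map_subgroupOf_eq_of_le (show R ≤ Q ⊔ R from le_sup_right), e, Subgroup.map_bot])
  have h1 : R.subgroupOf (Q ⊔ R) ⊓ center ↥(Q ⊔ R) ≠ ⊥ := CfsgLib.PGroups.inf_center_ne_bot hM hne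
  obtain ⟨⟨y, hy, hyc⟩, hy1⟩ : ∃ y : ↥(R.subgroupOf (Q ⊔ R) ⊓ center ↥(Q ⊔ R)), y ≠ 1 := by
    haveI := (nontrivial_iff_ne_bot _).mpr h1
    exact exists_ne 1
  refine ⟨y, fun e => hy1 (Subtype.ext (Subtype.ext e)), hy, mem_centralizer_iff.mpr fun q hq => ?_⟩
  exact congrArg Subtype.val (mem_center_iff.mp hyc ⟨q, mem_sup_left hq⟩)

end CfsgLib.LocalEven
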