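import Cfsg.Prelude.Def_LocalStructure
import Cfsg.Agent.Lib.Core.Cores

/-! `p`-reduced normal subgroups and the largest one `Y_L`. -/

namespace CfsgLib.LocalEven

open Subgroup

variable {L : Type*} [Group L] {p : ℕ}

/-- A normal subgroup acting on a `p`-reduced `V` as a `p`-group centralizes it. -/
theorem le_centralizer_of_pReduced {V : Subgroup L} (hV : Cfsg.IsPReducedNormal p V) {N : Subgroup L}
    [hN : N.Normal] (h : IsPGroup p ↥N) : N ≤ centralizer (V : Set L) := by
  obtain ⟨-, -, hn, hO⟩ := hV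
  haveI := hn
  have h1 : N.map (QuotientGroup.mk' (centralizer (V : Set L))) ≤
      Cfsg.pCore p (L ⧸ centralizer (V : Set L)) :=
    haveI := hN.map (QuotientGroup.mk' (centralizer (V : Set L))) (QuotientGroup.mk'_surjective _)
    CfsgLib.Core.le_pCore (h.map _)
  rw [hO, le_bot_iff, Subgroup.map_eq_bot_iff, QuotientGroup.ker_mk'] at h1
  exact h1

theorem pCore_le_centralizer [Finite L] [Fact p.Prime] {V : Subgroup L}
    (hV : Cfsg.IsPReducedNormal p V) : Cfsg.pCore p L ≤ centralizer (V : Set L) :=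
  le_centralizer_of_pReduced hV (CfsgLib.Core.isPGroup_pCore p L)

/-- Criterion for being `p`-reduced. -/
theorem isPReducedNormal_of [Finite L] [Fact p.Prime] {V : Subgroup L} [V.Normal]
    (hel : Cfsg.IsElementaryAbelian p V)
    (h : ∀ N : Subgroup L, N.Normal → centralizer (V : Set L) ≤ N →
      (∃ k, (centralizer (V : Set L)).relIndex N = p ^ k) → N ≤ centralizer (V : Set L)) :
    Cfsg.IsPReducedNormal p V := by
  refine ⟨‹_›, hel, inferInstance, ?_⟩
  set C := centralizer (V : Set L) with hC
  have hsurj := QuotientGroup.mk'_surjective C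
  let N : Subgroup L := (Cfsg.pCore p (L ⧸ C)).comap (QuotientGroup.mk' C)
  have hCN : C ≤ N := le_trans (QuotientGroup.ker_mk' C).symm.le (Subgroup.comap_mono bot_le)
  obtain ⟨k, hk⟩ := (CfsgLib.Core.isPGroup_pCore p (L ⧸ C)).exists_card_eq
  have hrel : C.relIndex N = p ^ k := by
    have : C = (⊥ : Subgroup (L ⧸ C)).comap (QuotientGroup.mk' C) := (QuotientGroup.ker_mk' C).symm
    conv_lhs => rw [this]
    rw [Subgroup.relIndex_comap, Subgroup.map_comap_eq_self_of_surjective hsurj, relIndex_bot_left, hk]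
  have hle := h N inferInstance hCN ⟨k, hrel⟩
  rw [← le_bot_iff, ← Subgroup.map_comap_eq_self_of_surjective hsurj (Cfsg.pCore p (L ⧸ C))]
  rw [le_bot_iff, Subgroup.map_eq_bot_iff, QuotientGroup.ker_mk']
  exact hle

/-- A normal subgroup with `p`-power index over `C(V)` centralizes a `p`-reduced `V`. -/
theorem le_centralizer_of_relIndex [Finite L] [Fact p.Prime] {V : Subgroup L}
    (hV : Cfsg.IsPReducedNormal p V) {N : Subgroup L} [N.Normal]
    (h : ∃ k, (centralizer (V : Set L)).relIndex N = p ^ k) : N ≤ centralizer (V : Set L) := by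
  obtain ⟨-, -, hn, hO⟩ := hV
  haveI := hn
  obtain ⟨k, hk⟩ := h
  set C := centralizer (V : Set L) with hC
  have hcard : Nat.card (N.map (QuotientGroup.mk' C)) = p ^ k := by
    rw [← Subgroup.relIndex_bot_left, ← Subgroup.relIndex_comap, MonoidHom.comap_bot, QuotientGroup.ker_mk', hk]
  have h1 : N.map (QuotientGroup.mk' C) ≤ Cfsg.pCore p (L ⧸ C) :=
    haveI := (inferInstance : N.Normal).map (QuotientGroup.mk' C) (QuotientGroup.mk'_surjective _)
    CfsgLib.Core.le_pCore (IsPGroup.of_card hcard)
  rw [hO, le_bot_iff, Subgroup.map_eq_bot_iff, QuotientGroup.ker_mk'] at h1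
  exact h1

theorem isPGroup_of_elementary' {V : Subgroup L} (hV : Cfsg.IsElementaryAbelian p V) :
    IsPGroup p ↥V := fun a => ⟨1, Subtype.ext (by simpa using hV.2 _ a.2)⟩

theorem isPReducedNormal_bot [Finite L] [Fact p.Prime] :
    Cfsg.IsPReducedNormal p (⊥ : Subgroup L) := by
  refine isPReducedNormal_of ⟨isMulCommutative_iff.mpr fun a b => Subsingleton.elim _ _,
    fun a ha => ?_⟩ fun N _ _ _ => ?_
  · rw [Subgroup.mem_bot.mp ha, one_pow]
  · intro x _
    simp [mem_centralizer_iff]

/-- The product of two `p`-reduced normal subgroups is `p`-reduced. -/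
theorem isPReducedNormal_sup [Finite L] [Fact p.Prime] {U V : Subgroup L}
    (hU : Cfsg.IsPReducedNormal p U) (hV : Cfsg.IsPReducedNormal p V) :
    Cfsg.IsPReducedNormal p (U ⊔ V) := by
  haveI := hU.1
  haveI := hV.1
  have hUV : U ≤ centralizer (V : Set L) :=
    le_centralizer_of_pReduced hV (isPGroup_of_elementary' hU.2.1)
  have hC : centralizer ((U ⊔ V : Subgroup L) : Set L) =
      centralizer (U : Set L) ⊓ centralizer (V : Set L) := by
    refine le_antisymm (le_inf (centralizer_le (SetLike.coe_subset_coe.mpr le_sup_left))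
      (centralizer_le (SetLike.coe_subset_coe.mpr le_sup_right))) ?_
    rw [le_centralizer_iff]
    exact sup_le (le_centralizer_iff.mp inf_le_left) (le_centralizer_iff.mp inf_le_right)
  have hcomm : U ⊔ V ≤ centralizer ((U ⊔ V : Subgroup L) : Set L) := by
    haveI := hU.2.1.1
    haveI := hV.2.1.1
    rw [hC]
    exact sup_le (le_inf (le_centralizer U) hUV) (le_inf (le_centralizer_iff.mp hUV) (le_centralizer V))
  refine isPReducedNormal_of ⟨isMulCommutative_iff.mpr fun a b => Subtype.ext
    (mem_centralizer_iff.mp (hcomm b.2) a a.2), fun x hx => ?_⟩ fun N hN hCN ⟨k, hk⟩ => ?_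
  · obtain ⟨u, hu, v, hv, rfl⟩ := Subgroup.mem_sup_of_normal_right.mp hx
    rw [Commute.mul_pow (show Commute u v from (mem_centralizer_iff.mp (hUV hu) v hv).symm),
      hU.2.1.2 u hu, hV.2.1.2 v hv, one_mul]
  · rw [hC] at hk ⊢
    have hdiv : ∀ W : Subgroup L, centralizer (U : Set L) ⊓ centralizer (V : Set L) ≤ W →
        ∃ j, W.relIndex N = p ^ j := fun W hW => by
      obtain ⟨j, -, hj⟩ := (Nat.dvd_prime_pow (Fact.out : p.Prime)).mp
        (hk ▸ Subgroup.relIndex_dvd_of_le_left (K := W) (L := N) hW)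
      exact ⟨j, hj⟩
    exact le_inf (le_centralizer_of_relIndex hU (hdiv _ inf_le_left))
      (le_centralizer_of_relIndex hV (hdiv _ inf_le_right))

/-- `Y_L` is the largest `p`-reduced normal subgroup. -/
theorem isPReducedNormal_largest [Finite L] [Fact p.Prime] :
    Cfsg.IsPReducedNormal p (Cfsg.largestPReduced p L) := by
  classical
  haveI := Fintype.ofFinite (Subgroup L)
  let S : Finset (Subgroup L) := Finset.univ.filter fun N => Cfsg.IsPReducedNormal p N
  have : Cfsg.largestPReduced p L = S.sup id := by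
    rw [Finset.sup_id_eq_sSup]
    exact congrArg sSup (Set.ext fun N => by simp [S])
  rw [this]
  exact Finset.sup_induction isPReducedNormal_bot (fun a ha b hb => isPReducedNormal_sup ha hb)
    (fun N hN => (Finset.mem_filter.mp hN).2)

theorem le_largestPReduced {V : Subgroup L} (hV : Cfsg.IsPReducedNormal p V) :
    V ≤ Cfsg.largestPReduced p L := le_sSup hV

end CfsgLib.LocalEven
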