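import Cfsg.Prelude.Def_LocalStructure
import Cfsg.Agent.Lib.LocalEven.PReduced
import Cfsg.Agent.Lib.LocalEven.PClosed
import Cfsg.Agent.Lib.PGroups.Omega

/-! `Z_L` and `Y_L` for a group `L` of characteristic `p`. -/

namespace CfsgLib.LocalEven

open Subgroup

variable {L : Type*} [Group L] [Finite L] {p : ℕ} [hp : Fact p.Prime]

/-- Element form of the criterion for being `p`-reduced. -/
theorem isPReducedNormal_iff_pow {V : Subgroup L} [V.Normal] (hel : Cfsg.IsElementaryAbelian p V) :
    Cfsg.IsPReducedNormal p V ↔ ∀ N : Subgroup L, N.Normal →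
      (∀ n ∈ N, ∃ k, n ^ p ^ k ∈ centralizer (V : Set L)) → N ≤ centralizer (V : Set L) := by
  set C := centralizer (V : Set L) with hC
  have hcn : C.Normal := inferInstance
  have hs := QuotientGroup.mk'_surjective C
  constructor
  · rintro ⟨-, -, hn, hO⟩ N hN h
    have h1 : IsPGroup p ↥(N.map (QuotientGroup.mk' C)) := by
      rintro ⟨y, n, hn', rfl⟩
      obtain ⟨k, hk⟩ := h n hn'
      exact ⟨k, Subtype.ext (by simpa using (QuotientGroup.eq_one_iff (N := C) _).mpr hk)⟩
    have h2 : N.map (QuotientGroup.mk' C) ≤ Cfsg.pCore p (L ⧸ C) :=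
      haveI := hN.map (QuotientGroup.mk' C) hs
      CfsgLib.Core.le_pCore h1
    rw [hO, le_bot_iff, Subgroup.map_eq_bot_iff, QuotientGroup.ker_mk'] at h2
    exact h2
  · intro h
    refine ⟨‹_›, hel, hcn, ?_⟩
    have h1 : (Cfsg.pCore p (L ⧸ C)).comap (QuotientGroup.mk' C) ≤ C := by
      refine h _ inferInstance fun n hn => ?_
      obtain ⟨k, hk⟩ := CfsgLib.Core.isPGroup_pCore p (L ⧸ C) ⟨_, mem_comap.mp hn⟩
      exact ⟨k, (QuotientGroup.eq_one_iff _).mp (by simpa using congrArg Subtype.val hk)⟩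
    rw [eq_bot_iff, ← map_comap_eq_self_of_surjective hs (Cfsg.pCore p (L ⧸ C))]
    exact (map_mono h1).trans (by rw [QuotientGroup.map_mk'_self])

/-- `Ω₁(Z(S))`. -/
abbrev omegaCenter (p : ℕ) {G : Type*} [Group G] (S : Subgroup G) : Subgroup G :=
  Cfsg.omegaOne p (S ⊓ centralizer (S : Set G))

omit [Finite L] hp in
theorem omegaCenter_le (S : Subgroup L) : omegaCenter p S ≤ S ⊓ centralizer (S : Set L) :=
  CfsgLib.PGroups.omegaOne_le _

omit [Finite L] hp in
theorem omegaCenter_le_centralizer (S : Subgroup L) :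
    S ≤ centralizer (omegaCenter p S : Set L) :=
  le_centralizer_iff.mp ((omegaCenter_le S).trans inf_le_right)

omit [Finite L] hp in
theorem pow_eq_one_of_mem_omegaCenter (S : Subgroup L) {x : L} (hx : x ∈ omegaCenter p S) :
    x ^ p = 1 := by
  induction hx using Subgroup.closure_induction with
  | mem x hx => exact hx.2
  | one => exact one_pow p
  | mul x y hx hy ihx ihy =>
    have hx' := omegaCenter_le S hx
    have hy' := omegaCenter_le S hy
    rw [Commute.mul_pow (show Commute x y from mem_centralizer_iff.mp hy'.2 x hx'.1), ihx, ihy, one_mul]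
  | inv x _ ihx => rw [inv_pow, ihx, inv_one]

omit [Finite L] hp in
theorem map_omegaCenter {G : Type*} [Group G] (f : L →* G) (hf : Function.Injective f)
    (S : Subgroup L) : (omegaCenter p S).map f = omegaCenter p (S.map f) := by
  have e : (S ⊓ centralizer (S : Set L)).map f = S.map f ⊓ centralizer ((S.map f : Subgroup G) : Set G) := by
    ext y
    constructor
    · rintro ⟨x, hx, rfl⟩
      refine ⟨mem_map_of_mem f hx.1, mem_centralizer_iff.mpr ?_⟩
      rintro _ ⟨z, hz, rfl⟩
      rw [← map_mul, ← map_mul, mem_centralizer_iff.mp hx.2 z hz]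
    · rintro ⟨⟨x, hx, rfl⟩, hy⟩
      exact mem_map_of_mem f ⟨hx, mem_centralizer_iff.mpr fun z hz => hf (by
        rw [map_mul, map_mul]; exact mem_centralizer_iff.mp hy _ (mem_map_of_mem f hz))⟩
  show (Cfsg.omegaOne p _).map f = Cfsg.omegaOne p _
  rw [← e]
  apply le_antisymm
  · show (Subgroup.closure _).map f ≤ _
    rw [MonoidHom.map_closure, Subgroup.closure_le]
    rintro _ ⟨x, hx, rfl⟩
    exact subset_closure ⟨mem_map_of_mem f hx.1, by rw [← map_pow, hx.2, map_one]⟩
  · show Subgroup.closure _ ≤ _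
    rw [Subgroup.closure_le]
    rintro y ⟨⟨x, hx, rfl⟩, hy⟩
    exact mem_map_of_mem f (subset_closure ⟨hx, hf (by rw [map_pow, hy, map_one])⟩)

/-- `Z_L` inside `L`. -/
abbrev centerClosure (p : ℕ) (L : Type*) [Group L] : Subgroup L :=
  ⨆ S : Sylow p L, omegaCenter p (S : Subgroup L)

omit [Finite L] hp in
theorem sylowCenterClosure_eq {G : Type*} [Group G] (K : Subgroup G) :
    Cfsg.sylowCenterClosure p K = (centerClosure p ↥K).map K.subtype := by
  rw [Subgroup.map_iSup]
  exact iSup_congr fun S => (map_omegaCenter K.subtype K.subtype_injective S).symm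

omit [Finite L] hp in
theorem centerClosure_normal : (centerClosure p L).Normal := by
  refine ⟨fun x hx g => ?_⟩
  have h : (centerClosure p L).map (MulAut.conj g).toMonoidHom ≤ centerClosure p L := by
    rw [Subgroup.map_iSup]
    refine iSup_le fun S => ?_
    rw [map_omegaCenter _ (MulAut.conj g).injective]
    exact le_iSup_of_le (g • S) le_rfl
  exact h ⟨x, hx, rfl⟩

/-- `Ω₁(Z(S))` of a Sylow subgroup lies in `Z(O_p(L))` for `L` of characteristic `p`. -/
theorem omegaCenter_le_center_pCore
    (hcp : centralizer (Cfsg.pCore p L : Set L) ≤ Cfsg.pCore p L) (S : Sylow p L) :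
    omegaCenter p (S : Subgroup L) ≤ Cfsg.pCore p L ⊓ centralizer (Cfsg.pCore p L : Set L) := by
  have h : omegaCenter p (S : Subgroup L) ≤ centralizer (Cfsg.pCore p L : Set L) :=
    (omegaCenter_le _).trans (inf_le_right.trans
      (centralizer_le (SetLike.coe_subset_coe.mpr (CfsgLib.Core.pCore_le_sylow S))))
  exact le_inf (h.trans hcp) h

theorem centerClosure_le_center_pCore
    (hcp : centralizer (Cfsg.pCore p L : Set L) ≤ Cfsg.pCore p L) :
    centerClosure p L ≤ Cfsg.pCore p L ⊓ centralizer (Cfsg.pCore p L : Set L) :=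
  iSup_le fun S => omegaCenter_le_center_pCore hcp S

/-- `Z_L` is `p`-reduced. -/
theorem isPReducedNormal_centerClosure
    (hcp : centralizer (Cfsg.pCore p L : Set L) ≤ Cfsg.pCore p L) :
    Cfsg.IsPReducedNormal p (centerClosure p L) := by
  haveI := centerClosure_normal (L := L) (p := p)
  have hle := centerClosure_le_center_pCore hcp
  have hcomm : ∀ a ∈ centerClosure p L, ∀ b ∈ centerClosure p L, Commute a b :=
    fun a ha b hb => mem_centralizer_iff.mp (hle hb).2 a (hle ha).1
  have hexp : ∀ a ∈ centerClosure p L, a ^ p = 1 := by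
    intro a ha
    induction ha using Subgroup.iSup_induction' with
    | hp i x hx => exact pow_eq_one_of_mem_omegaCenter _ hx
    | h1 => exact one_pow p
    | hmul x y hx hy ihx ihy => rw [Commute.mul_pow (hcomm x hx y hy), ihx, ihy, one_mul]
  refine (isPReducedNormal_iff_pow ⟨isMulCommutative_iff.mpr
    fun a b => Subtype.ext (hcomm a a.2 b b.2).eq, hexp⟩).mpr fun N hN h => ?_
  haveI := hN
  rw [le_centralizer_iff]
  refine iSup_le fun S => le_centralizer_iff.mp ?_
  obtain ⟨P, hP⟩ := exists_sylow_inf S N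
  have h1 := congrArg (Subgroup.map N.subtype) (CfsgLib.Transfer.pResidual_sup_sylow P)
  rw [Subgroup.map_sup, hP, ← MonoidHom.range_eq_map, Subgroup.range_subtype] at h1
  refine h1.ge.trans (sup_le (map_le_iff_le_comap.mpr
    (CfsgLib.Transfer.pResidual_le_iff.mpr fun g hg => ?_))
    (inf_le_left.trans (omegaCenter_le_centralizer _)))
  obtain ⟨k, hk⟩ := h g g.2
  have hg' : Nat.Coprime (p ^ k) (orderOf (g : L)) :=
    Nat.Coprime.pow_left k (by rw [Subgroup.orderOf_coe]; exact hg.symm)
  obtain ⟨m, hm⟩ := exists_pow_eq_self_of_coprime hg'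
  refine (centralizer_le (SetLike.coe_subset_coe.mpr (le_iSup (fun S : Sylow p L =>
    omegaCenter p (S : Subgroup L)) S)) ?_ : N.subtype g ∈ _)
  show (g : L) ∈ _
  rw [← hm]
  exact pow_mem hk m

theorem centerClosure_le_largest
    (hcp : centralizer (Cfsg.pCore p L : Set L) ≤ Cfsg.pCore p L) :
    centerClosure p L ≤ Cfsg.largestPReduced p L :=
  le_largestPReduced (isPReducedNormal_centerClosure hcp)

theorem largest_le_pCore : Cfsg.largestPReduced p L ≤ Cfsg.pCore p L :=
  haveI := (isPReducedNormal_largest (L := L) (p := p)).1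
  CfsgLib.Core.le_pCore (isPGroup_of_elementary' isPReducedNormal_largest.2.1)

theorem largest_le_omega : Cfsg.largestPReduced p L ≤ omegaCenter p (Cfsg.pCore p L) := by
  intro x hx
  refine subset_closure ⟨⟨largest_le_pCore hx, ?_⟩, isPReducedNormal_largest.2.1.2 x hx⟩
  exact le_centralizer_iff.mp (pCore_le_centralizer isPReducedNormal_largest) hx

omit [Finite L] hp in
theorem map_centralizer_eq {G : Type*} [Group G] (K : Subgroup G) (Y : Subgroup ↥K) :
    (centralizer (Y : Set ↥K)).map K.subtype =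
      K ⊓ centralizer ((Y.map K.subtype : Subgroup G) : Set G) := by
  ext x
  constructor
  · rintro ⟨y, hy, rfl⟩
    refine ⟨y.2, mem_centralizer_iff.mpr ?_⟩
    rintro _ ⟨z, hz, rfl⟩
    rw [← map_mul, ← map_mul, mem_centralizer_iff.mp hy z hz]
  · rintro ⟨hx, hc⟩
    exact ⟨⟨x, hx⟩, mem_centralizer_iff.mpr fun z hz =>
      Subtype.ext (mem_centralizer_iff.mp hc _ (mem_map_of_mem K.subtype hz)), rfl⟩

omit [Finite L] hp in
theorem le_normalizer_map_of_normal {G : Type*} [Group G] (K : Subgroup G) (Y : Subgroup ↥K)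
    [hY : Y.Normal] : K ≤ normalizer ((Y.map K.subtype : Subgroup G) : Set G) := by
  rw [← normal_subgroupOf_iff_le_normalizer (Subgroup.map_subtype_le Y),
    show (Y.map K.subtype).subgroupOf K = Y from Subgroup.comap_map_eq_self_of_injective K.subtype_injective Y]
  exact hY

end CfsgLib.LocalEven
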