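import Cfsg.Prelude.Def_LocalStructure
import Cfsg.Agent.Lib.LocalEven.LargestReduced
import Cfsg.Agent.Lib.LocalEven.WeaklyClosed
import Cfsg.Agent.Lib.LocalEven.CharPWeak

/-! `Y_L` along overgroups of a Sylow subgroup. -/

namespace CfsgLib.LocalEven

open Subgroup

variable {G : Type*} [Group G] [Finite G] {p : ℕ} [Fact p.Prime]

theorem pCoreOf_le_sylow (T : Sylow p G) {L : Subgroup G} (hTL : (T : Subgroup G) ≤ L) :
    Cfsg.pCoreOf p L ≤ (T : Subgroup G) := by
  refine (map_mono (CfsgLib.Core.pCore_le_sylow (T.subtype hTL))).trans ?_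
  rw [Sylow.coe_subtype, subgroupOf_map_subtype]
  exact inf_le_left

theorem hasCharP_of_sylow_le {X L : Subgroup G} (hX : CfsgLib.LocalEvenB.HasCharP p X)
    (T : Sylow p G) (hTL : (T : Subgroup G) ≤ L) (hLX : L ≤ X) :
    CfsgLib.LocalEvenB.HasCharP p L :=
  hX.of_normalized hLX (((pCoreOf_le_sylow T (hTL.trans hLX)).trans hTL).trans le_normalizer)

theorem pow_eq_one_of_mem_largest {L : Subgroup G} {y : G}
    (hy : y ∈ Cfsg.largestPReducedOf p L) : y ^ p = 1 := by
  obtain ⟨z, hz, rfl⟩ := hy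
  rw [← map_pow, isPReducedNormal_largest.2.1.2 z hz, map_one]

theorem pCoreOf_le_centralizer_largest (L : Subgroup G) :
    Cfsg.pCoreOf p L ≤ centralizer (Cfsg.largestPReducedOf p L : Set G) :=
  (map_mono (pCore_le_centralizer isPReducedNormal_largest)).trans
    ((map_centralizer_eq L _).le.trans inf_le_right)

theorem largestOf_le_pCoreOf (L : Subgroup G) :
    Cfsg.largestPReducedOf p L ≤ Cfsg.pCoreOf p L := map_mono largest_le_pCore

theorem le_normalizer_largestOf (L : Subgroup G) :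
    L ≤ normalizer (Cfsg.largestPReducedOf p L : Set G) := by
  haveI := (isPReducedNormal_largest (L := ↥L) (p := p)).1
  exact le_normalizer_map_of_normal L _

/-- `N` normal, its elements have `p`-power powers in `C(Y_L)`: then it centralizes `Y_L`. -/
theorem le_centralizer_largest_of_pow {L N : Subgroup G} (hNL : N ≤ L)
    (hn : L ≤ normalizer (N : Set G))
    (h : ∀ n ∈ N, ∃ k, n ^ p ^ k ∈ centralizer (Cfsg.largestPReducedOf p L : Set G)) :
    N ≤ centralizer (Cfsg.largestPReducedOf p L : Set G) := by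
  have hred := isPReducedNormal_largest (L := ↥L) (p := p)
  haveI := hred.1
  haveI : (N.subgroupOf L).Normal := (normal_subgroupOf_iff_le_normalizer hNL).mpr hn
  have h1 : N.subgroupOf L ≤ centralizer (Cfsg.largestPReduced p ↥L : Set ↥L) := by
    refine (isPReducedNormal_iff_pow hred.2.1).mp hred _ inferInstance fun n hn' => ?_
    obtain ⟨k, hk⟩ := h n hn'
    obtain ⟨z, hz, ez⟩ := (map_centralizer_eq L (Cfsg.largestPReduced p ↥L)).ge ⟨pow_mem n.2 _, hk⟩
    exact ⟨k, by rwa [← show z = n ^ p ^ k from Subtype.ext ez]⟩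
  intro x hx
  exact ((map_centralizer_eq L _).le ⟨⟨x, hNL hx⟩, h1 hx, rfl⟩).2

/-- Criterion to lie in `Y_L`. -/
theorem le_largestOf {L A : Subgroup G} (hcp : CfsgLib.LocalEvenB.HasCharP p L) (hAL : A ≤ L)
    (hA : A ≤ centralizer (Cfsg.pCoreOf p L : Set G)) (hexp : ∀ a ∈ A, a ^ p = 1)
    (h : ∀ N : Subgroup ↥L, N.Normal → (∀ n ∈ N, ∃ k, (n : G) ^ p ^ k ∈ centralizer (A : Set G)) →
      ∃ P : Sylow p ↥L, ∀ x ∈ (P : Subgroup ↥L) ⊓ N, (x : G) ∈ centralizer (A : Set G)) :
    A ≤ Cfsg.largestPReducedOf p L := by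
  set A' := A.subgroupOf L with hA'
  set W := normalClosure (A' : Set ↥L) with hW
  set O := Cfsg.pCore p ↥L with hO
  have hcA : centralizer (A : Set G) ⊓ L ≤ (centralizer (A' : Set ↥L)).map L.subtype := by
    rw [map_centralizer_eq, map_subgroupOf_eq_of_le hAL, inf_comm]
  have hA'O : A' ≤ O ⊓ centralizer (O : Set ↥L) := by
    have hc : A' ≤ centralizer (O : Set ↥L) := fun a ha => mem_centralizer_iff.mpr fun o ho =>
      Subtype.ext (mem_centralizer_iff.mp (hA ha) _ (mem_map_of_mem L.subtype ho))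
    exact le_inf (hc.trans ((CfsgLib.LocalEvenB.hasCharP_iff L).mp hcp)) hc
  have hWO : W ≤ O ⊓ centralizer (O : Set ↥L) := normalClosure_le_normal hA'O
  have hcomm : ∀ a ∈ W, ∀ b ∈ W, Commute a b :=
    fun a ha b hb => mem_centralizer_iff.mp (hWO hb).2 a (hWO ha).1
  have hexpW : ∀ a ∈ W, a ^ p = 1 := by
    intro a ha
    induction ha using Subgroup.closure_induction with
    | mem x hx =>
      obtain ⟨a₀, ha₀, hca⟩ := Group.mem_conjugatesOfSet_iff.mp hx
      obtain ⟨u, rfl⟩ := isConj_iff.mp hca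
      rw [conj_pow, show a₀ ^ p = 1 from Subtype.ext (by
        rw [SubgroupClass.coe_pow]; exact hexp _ ha₀)]
      simp
    | one => exact one_pow p
    | mul x y hx hy ihx ihy => rw [Commute.mul_pow (hcomm x hx y hy), ihx, ihy, one_mul]
    | inv x _ ihx => rw [inv_pow, ihx, inv_one]
  have hAW : A' ≤ W := subset_normalClosure
  have hred : Cfsg.IsPReducedNormal p W := by
    refine (isPReducedNormal_iff_pow (V := W) ⟨isMulCommutative_iff.mpr
      fun a b => Subtype.ext (hcomm a a.2 b b.2).eq, hexpW⟩).mpr fun N hN hpow => ?_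
    haveI := hN
    have hCWA : centralizer (W : Set ↥L) ≤ centralizer (A' : Set ↥L) :=
      centralizer_le (SetLike.coe_subset_coe.mpr hAW)
    have hlift : ∀ x : ↥L, x ∈ centralizer (A' : Set ↥L) → (x : G) ∈ centralizer (A : Set G) := by
      intro x hx
      have := (map_centralizer_eq L A').le (mem_map_of_mem L.subtype hx)
      rw [hA', map_subgroupOf_eq_of_le hAL] at this
      exact this.2
    obtain ⟨P, hP⟩ := h N hN fun n hn => by
      obtain ⟨k, hk⟩ := hpow n hn
      exact ⟨k, by simpa using hlift _ (hCWA hk)⟩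
    have hNA : N ≤ centralizer (A' : Set ↥L) := by
      obtain ⟨Q, hQ⟩ := exists_sylow_inf P N
      have h1 := congrArg (Subgroup.map N.subtype) (CfsgLib.Transfer.pResidual_sup_sylow Q)
      rw [Subgroup.map_sup, hQ, ← MonoidHom.range_eq_map, Subgroup.range_subtype] at h1
      refine h1.ge.trans (sup_le (map_le_iff_le_comap.mpr
        (CfsgLib.Transfer.pResidual_le_iff.mpr fun g hg => ?_)) fun x hx => ?_)
      · obtain ⟨k, hk⟩ := hpow g g.2
        have hg' : Nat.Coprime (p ^ k) (orderOf (g : ↥L)) :=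
          Nat.Coprime.pow_left k (by rw [Subgroup.orderOf_coe]; exact hg.symm)
        obtain ⟨m, hm⟩ := exists_pow_eq_self_of_coprime hg'
        show (g : ↥L) ∈ centralizer (A' : Set ↥L)
        rw [← hm]
        exact pow_mem (hCWA hk) m
      · obtain ⟨z, hz, ez⟩ := hcA ⟨hP x hx, x.2⟩
        rwa [← show z = x from Subtype.ext ez]
    exact le_centralizer_iff.mp (normalClosure_le_normal (le_centralizer_iff.mp hNA))
  intro a ha
  exact ⟨⟨a, hAL ha⟩, le_largestPReduced hred (hAW ha), rfl⟩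

/-- `Y` is monotone on groups of characteristic `p` over a common Sylow subgroup. -/
theorem largestOf_mono (T : Sylow p G) {L X : Subgroup G} (hTL : (T : Subgroup G) ≤ L) (hLX : L ≤ X)
    (hX : CfsgLib.LocalEvenB.HasCharP p X) :
    Cfsg.largestPReducedOf p L ≤ Cfsg.largestPReducedOf p X := by
  have hYL : Cfsg.largestPReducedOf p L ≤ L := map_subtype_le _
  have hOX : Cfsg.pCoreOf p X ≤ Cfsg.pCoreOf p L := by
    refine CfsgLib.LocalEvenB.le_pCoreOf ((pCoreOf_le_sylow T (hTL.trans hLX)).trans hTL)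
      (CfsgLib.LocalEvenB.isPGroup_pCoreOf X) (hLX.trans (CfsgLib.LocalEvenB.le_normalizer_pCoreOf X))
  refine le_largestOf hX (hYL.trans hLX)
    (le_centralizer_iff.mp (hOX.trans (pCoreOf_le_centralizer_largest L)))
    (fun y hy => pow_eq_one_of_mem_largest hy) fun N hN h => ⟨T.subtype (hTL.trans hLX), ?_⟩
  intro x hx
  have hK : (N.map X.subtype) ⊓ L ≤ centralizer (Cfsg.largestPReducedOf p L : Set G) := by
    refine le_centralizer_largest_of_pow inf_le_right ?_ ?_
    · haveI := hN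
      exact (le_inf (hLX.trans (le_normalizer_map_of_normal X N)) le_normalizer).trans
        inf_normalizer_le_normalizer_inf
    · rintro _ ⟨⟨n, hn, rfl⟩, -⟩
      exact h n hn
  exact hK ⟨mem_map_of_mem _ hx.2, hTL hx.1⟩

/-- Frattini argument for `T ∩ C`, `C` normalized by `M ⊇ T`. -/
theorem le_normalizer_inf_sup (T : Sylow p G) {M C : Subgroup G} (hTM : (T : Subgroup G) ≤ M)
    (hMC : M ≤ normalizer (C : Set G)) :
    M ≤ (M ⊓ normalizer (((T : Subgroup G) ⊓ C : Subgroup G) : Set G)) ⊔ (M ⊓ C) := by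
  haveI : (C.subgroupOf M).Normal := normal_subgroupOf_of_le_normalizer hMC
  obtain ⟨Q, hQ⟩ := exists_sylow_inf (T.subtype hTM) (C.subgroupOf M)
  have h := Sylow.normalizer_sup_eq_top Q
  rw [hQ, Sylow.coe_subtype] at h
  have h2 := congrArg (Subgroup.map M.subtype) h
  rw [Subgroup.map_sup, ← MonoidHom.range_eq_map, Subgroup.range_subtype, subgroupOf_map_subtype,
    show (T : Subgroup G).subgroupOf M ⊓ C.subgroupOf M = ((T : Subgroup G) ⊓ C).subgroupOf M from rfl,
    ← subgroupOf_normalizer_eq (inf_le_left.trans hTM), subgroupOf_map_subtype] at h2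
  exact h2.ge.trans (sup_le_sup (le_inf inf_le_right inf_le_left) (le_inf inf_le_right inf_le_left))

end CfsgLib.LocalEven
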