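import Cfsg.Prelude.Def_LocalStructure
import Cfsg.Agent.Lib.LocalEven.CharPWeak
import Cfsg.Agent.Lib.LocalEven.Overgroup
import Cfsg.Agent.Lib.Core.Nilpotent
import Cfsg.Agent.Lib.Transfer.PResidual
import Cfsg.Agent.Lib.Components.Radicals

/-! Subnormality helpers and `Y_L` of subnormal subgroups. -/

namespace CfsgLib.LocalEven

open Subgroup

variable {G : Type*} [Group G] [Finite G] {p : ℕ} [Fact p.Prime]

/-- Between `O^p(B)` and `B` everything is subnormal. -/
theorem isSubnormal_of_pResidual_le {B : Type*} [Group B] [Finite B] {K : Subgroup B}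
    (h : Cfsg.pResidual p B ≤ K) : K.IsSubnormal := by
  haveI : Group.IsNilpotent (B ⧸ Cfsg.pResidual p B) :=
    (CfsgLib.Transfer.isPGroup_quotient_pResidual (p := p) (G := B)).isNilpotent
  have h1 := (CfsgLib.Core.isSubnormal_of_isNilpotent (K.map (QuotientGroup.mk' (Cfsg.pResidual p B)))).comap
    (QuotientGroup.mk' (Cfsg.pResidual p B))
  rwa [comap_map_eq_self (by rw [QuotientGroup.ker_mk']; exact h)] at h1

/-- `O_p` of a subnormal subgroup. -/
theorem pCoreOf_le_of_subnormal {K L : Subgroup G} (hKL : K ≤ L) (hsn : (K.subgroupOf L).IsSubnormal) :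
    Cfsg.pCoreOf p K ≤ Cfsg.pCoreOf p L := by
  have h1 := CfsgLib.Components.subnormal_pGroup_le_pCore
    (IsSubnormal.trans' (normal_of_characteristic (Cfsg.pCore p ↥(K.subgroupOf L))).isSubnormal hsn)
    ((CfsgLib.Core.isPGroup_pCore p _).map _)
  rintro _ ⟨z, hz, rfl⟩
  refine ⟨⟨z, hKL z.2⟩, h1 ⟨⟨⟨z, hKL z.2⟩, z.2⟩, ?_, rfl⟩, rfl⟩
  rw [← CfsgLib.Core.map_equiv_pCore (subgroupOfEquivOfLe hKL).symm]
  exact ⟨z, hz, rfl⟩

/-- Whoever normalizes `H` normalizes `O_p(H)`. -/
theorem normalizer_le_normalizer_pCoreOf (H : Subgroup G) :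
    normalizer (H : Set G) ≤ normalizer (Cfsg.pCoreOf p H : Set G) := by
  intro l hl
  rw [mem_normalizer_conj_iff]
  refine eq_of_le_of_card_ge (CfsgLib.LocalEvenB.le_pCoreOf ?_
    ((CfsgLib.LocalEvenB.isPGroup_pCoreOf H).map _) ?_) (card_map_of_injective (MulAut.conj l).injective).ge
  · exact (map_mono (CfsgLib.LocalEvenB.pCoreOf_le H)).trans (mem_normalizer_conj_iff.mp hl).le
  · rw [normalizer_conj]
    exact (mem_normalizer_conj_iff.mp hl).ge.trans
      (map_mono (CfsgLib.LocalEvenB.le_normalizer_pCoreOf H))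

omit [Finite G] [Fact p.Prime] in
/-- Whoever normalizes `A` normalizes a characteristic subgroup of `A`. -/
theorem normalizer_le_normalizer_characteristic (A : Subgroup G) (X : Subgroup ↥A) [hX : X.Characteristic] :
    normalizer (A : Set G) ≤ normalizer ((X.map A.subtype : Subgroup G) : Set G) := by
  intro l hl
  rw [mem_normalizer_conj_iff]
  let e : A ≃* A :=
    { toFun := fun m => ⟨l * m * l⁻¹, (mem_normalizer_iff.mp hl m).mp m.2⟩
      invFun := fun m => ⟨l⁻¹ * m * l, (mem_normalizer_iff''.mp hl m).mp m.2⟩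
      left_inv := fun m => Subtype.ext (by simp [mul_assoc])
      right_inv := fun m => Subtype.ext (by simp [mul_assoc])
      map_mul' := fun a b => Subtype.ext (by simp [mul_assoc]) }
  conv_rhs => rw [← characteristic_iff_map_eq.mp hX e]
  rw [map_map, map_map]
  rfl

/-- A `p'`-element commuting modulo `C(U)` with a `p`-group acting on the abelian group `U`,
and centralizing the fixed points, centralizes `U`. -/
theorem mem_centralizer_of_fixed_points {U B : Subgroup G} [IsMulCommutative U] (hU : IsPGroup p U)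
    (hB : IsPGroup p B) (hBU : B ≤ normalizer (U : Set G)) {x : G}
    (hx : x ∈ normalizer (U : Set G)) (hxo : (orderOf x).Coprime p)
    (hcomm : ∀ b ∈ B, x * b * x⁻¹ * b⁻¹ ∈ centralizer (U : Set G))
    (hfix : x ∈ centralizer ((U ⊓ centralizer (B : Set G) : Subgroup G) : Set G)) :
    x ∈ centralizer (U : Set G) := by
  have hmem : ∀ u ∈ U, x * u * x⁻¹ * u⁻¹ ∈ U := fun u hu =>
    mul_mem ((mem_normalizer_iff.mp hx u).mp hu) (inv_mem hu)
  have hUc : ∀ u ∈ U, ∀ v ∈ U, u * v = v * u := fun u hu v hv =>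
    congrArg Subtype.val ((isMulCommutative_iff.mp (inferInstance : IsMulCommutative U)) ⟨u, hu⟩ ⟨v, hv⟩)
  let f : U →* U :=
    { toFun := fun u => ⟨x * u * x⁻¹ * (u : G)⁻¹, hmem u u.2⟩
      map_one' := Subtype.ext (by simp)
      map_mul' := fun u v => Subtype.ext (by
        show x * (u * v : U) * x⁻¹ * ((u * v : U) : G)⁻¹ = (x * u * x⁻¹ * (u : G)⁻¹) * (x * v * x⁻¹ * (v : G)⁻¹)
        have h1 : (x * v * x⁻¹ * (v : G)⁻¹) * (u : G)⁻¹ = (u : G)⁻¹ * (x * v * x⁻¹ * (v : G)⁻¹) :=
          hUc _ (hmem v v.2) _ (inv_mem u.2)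
        rw [Subgroup.coe_mul]
        calc x * (u * v) * x⁻¹ * ((u : G) * v)⁻¹
            = (x * u * x⁻¹) * ((x * v * x⁻¹ * (v : G)⁻¹) * (u : G)⁻¹) := by group
          _ = (x * u * x⁻¹) * ((u : G)⁻¹ * (x * v * x⁻¹ * (v : G)⁻¹)) := by rw [h1]
          _ = _ := by group) }
  by_contra hne
  set D := f.range.map U.subtype with hD
  have hD1 : D ≠ ⊥ := fun e => hne (mem_centralizer_iff.mpr fun u hu => by
    have : ((f ⟨u, hu⟩ : U) : G) ∈ D := mem_map_of_mem U.subtype ((MonoidHom.mem_range (f := f)).mpr ⟨⟨u, hu⟩, rfl⟩)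
    rw [e, mem_bot] at this
    have h2 : x * u * x⁻¹ * u⁻¹ = 1 := this
    rw [mul_inv_eq_one, mul_inv_eq_iff_eq_mul] at h2
    exact h2.symm)
  have hBD : B ≤ normalizer (D : Set G) := by
    intro b hb
    rw [mem_normalizer_conj_iff]
    refine eq_of_le_of_card_ge ?_ (card_map_of_injective (MulAut.conj b).injective).ge
    rintro _ ⟨_, ⟨_, ⟨u, rfl⟩, rfl⟩, rfl⟩
    have hbu : b * u * b⁻¹ ∈ U := (mem_normalizer_iff.mp (hBU hb) u).mp u.2
    refine ⟨f ⟨b * u * b⁻¹, hbu⟩, ⟨_, rfl⟩, ?_⟩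
    show x * (b * u * b⁻¹) * x⁻¹ * (b * (u : G) * b⁻¹)⁻¹ = b * (x * u * x⁻¹ * (u : G)⁻¹) * b⁻¹
    have hw : b * (x * u * x⁻¹) * b⁻¹ ∈ U :=
      (mem_normalizer_iff.mp (hBU hb) _).mp ((mem_normalizer_iff.mp hx _).mp u.2)
    have hc : x * (b * u * b⁻¹) * x⁻¹ =
        (x * b * x⁻¹ * b⁻¹) * (b * (x * u * x⁻¹) * b⁻¹) * (x * b * x⁻¹ * b⁻¹)⁻¹ := by group
    rw [hc, ← mem_centralizer_iff.mp (hcomm b hb) _ hw, mul_inv_cancel_right]
    group
  obtain ⟨d, hd1, hd, hdc⟩ := exists_ne_one_mem_centralizer hB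
    (hU.to_le (Subgroup.map_subtype_le _)) hD1 hBD
  obtain ⟨_, ⟨u, rfl⟩, rfl⟩ := hd
  apply hd1
  set d := x * u * x⁻¹ * (u : G)⁻¹ with hddef
  have hcd : Commute x d :=
    (mem_centralizer_iff.mp hfix d (mem_inf.mpr ⟨hmem u u.2, hdc⟩)).symm
  have hpow : ∀ n : ℕ, x ^ n * u * (x ^ n)⁻¹ = d ^ n * u := by
    intro n
    induction n with
    | zero => simp
    | succ n ih =>
      calc x ^ (n + 1) * u * (x ^ (n + 1))⁻¹ = x * (x ^ n * u * (x ^ n)⁻¹) * x⁻¹ := by
            rw [pow_succ']; group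
        _ = x * d ^ n * u * x⁻¹ := by rw [ih, ← mul_assoc]
        _ = d ^ n * x * u * x⁻¹ := by rw [(hcd.pow_right n).eq]
        _ = d ^ n * (d * u) := by rw [hddef]; group
        _ = d ^ (n + 1) * u := by rw [← mul_assoc, pow_succ]
  have h1 := hpow (orderOf x)
  rw [pow_orderOf_eq_one, one_mul, inv_one, mul_one, right_eq_mul] at h1
  obtain ⟨k, hk⟩ := hU ⟨d, hmem u u.2⟩
  have hk' : d ^ p ^ k = 1 := congrArg Subtype.val hk
  have := pow_gcd_eq_one.mpr ⟨h1, hk'⟩
  rwa [Nat.Coprime.gcd_eq_one (hxo.pow_right k), pow_one] at this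

/-- `Y_L` of a normal subgroup `L ⊴ K`: `C_L(Y_K) ≤ C(Y_L)`. -/
theorem inf_centralizer_le_of_normal {L K : Subgroup G} (hLK : L ≤ K) (hn : K ≤ normalizer (L : Set G)) :
    L ⊓ centralizer (Cfsg.largestPReducedOf p K : Set G) ≤
      centralizer (Cfsg.largestPReducedOf p L : Set G) := by
  set W := Cfsg.largestPReducedOf p L with hW
  set CW := centralizer (W : Set G) with hCW
  have hWL : W ≤ L := map_subtype_le _
  have hWp : IsPGroup p W := (CfsgLib.LocalEvenB.isPGroup_pCoreOf L).to_le (largestOf_le_pCoreOf L)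
  haveI hWc : IsMulCommutative W := by
    haveI := (isPReducedNormal_largest (L := ↥L) (p := p)).2.1.1
    rw [hW, Cfsg.largestPReducedOf]
    infer_instance
  have hKW : K ≤ normalizer (W : Set G) := by
    haveI : (Cfsg.largestPReduced p ↥L).Characteristic := by
      refine characteristic_iff_map_le.mpr fun e => le_largestPReduced ?_
      have hred := isPReducedNormal_largest (L := ↥L) (p := p)
      haveI := hred.1
      haveI : ((Cfsg.largestPReduced p ↥L).map e.toMonoidHom).Normal := hred.1.map _ e.surjective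
      refine (isPReducedNormal_iff_pow ⟨?_, fun a ha => ?_⟩).mpr fun N hN h => ?_
      · haveI := hred.2.1.1
        infer_instance
      · obtain ⟨b, hb, rfl⟩ := ha
        rw [← map_pow, hred.2.1.2 b hb, map_one]
      · have hc : ∀ x, e x ∈ centralizer (((Cfsg.largestPReduced p ↥L).map e.toMonoidHom : Subgroup ↥L) : Set ↥L) ↔
            x ∈ centralizer (Cfsg.largestPReduced p ↥L : Set ↥L) := fun x => by
          simp only [mem_centralizer_iff]
          refine ⟨fun h y hy => e.injective ?_, ?_⟩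
          · rw [map_mul, map_mul]; exact h _ (mem_map_of_mem _ hy)
          · rintro h _ ⟨y, hy, rfl⟩
            show e y * e x = e x * e y
            rw [← map_mul, ← map_mul, h y hy]
        have h2 := (isPReducedNormal_iff_pow hred.2.1).mp hred (N.comap e.toMonoidHom) (hN.comap _)
          fun n hn => by
            obtain ⟨k, hk⟩ := h _ hn
            refine ⟨k, (hc _).mp ?_⟩
            rw [map_pow]
            exact hk
        intro n hn
        rw [← e.apply_symm_apply n]
        exact (hc _).mpr (h2 (by show e (e.symm n) ∈ N; rwa [e.apply_symm_apply]))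
    exact hn.trans (normalizer_le_normalizer_characteristic L _)
  -- a minimal invariant subgroup with the same centralizer in `L`
  obtain ⟨U, -, hUmin⟩ := Finite.exists_le_minimal
    (p := fun U : Subgroup G => U ≤ W ∧ K ≤ normalizer (U : Set G) ∧ L ⊓ centralizer (U : Set G) ≤ CW)
    (a := W) ⟨le_rfl, hKW, inf_le_right⟩
  obtain ⟨hUW, hKU, hUC⟩ := hUmin.prop
  have hUp : IsPGroup p U := hWp.to_le hUW
  haveI : IsMulCommutative U := isMulCommutative_iff.mpr fun a b => by
    have h := (isMulCommutative_iff.mp hWc) ⟨a, hUW a.2⟩ ⟨b, hUW b.2⟩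
    exact Subtype.ext (show (a : G) * b = b * a from congrArg (fun z : W => (z : G)) h)
  haveI : (U.subgroupOf K).Normal := (normal_subgroupOf_iff_le_normalizer (hUW.trans (hWL.trans hLK))).mpr hKU
  have hel : Cfsg.IsElementaryAbelian p (U.subgroupOf K) := by
    refine ⟨inferInstance, fun a ha => Subtype.ext ?_⟩
    rw [SubgroupClass.coe_pow]
    exact pow_eq_one_of_mem_largest (hUW ha)
  have hred : Cfsg.IsPReducedNormal p (U.subgroupOf K) := by
    refine (isPReducedNormal_iff_pow hel).mpr fun N hN h => ?_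
    haveI := hN
    set N' := N.map K.subtype with hN'
    have hN'K : N' ≤ K := map_subtype_le _
    have hKN' : K ≤ normalizer (N' : Set G) := le_normalizer_map_of_normal K N
    have hCU : (centralizer (U.subgroupOf K : Set ↥K)).map K.subtype = K ⊓ centralizer (U : Set G) := by
      rw [map_centralizer_eq, map_subgroupOf_eq_of_le (hUW.trans (hWL.trans hLK))]
    have hpow : ∀ n ∈ N', ∃ k, n ^ p ^ k ∈ centralizer (U : Set G) := by
      rintro _ ⟨n, hn, rfl⟩
      obtain ⟨k, hk⟩ := h n hn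
      exact ⟨k, (hCU.le ⟨_, hk, map_pow _ _ _⟩).2⟩
    have hNL : N' ⊓ L ≤ CW := by
      refine le_centralizer_largest_of_pow inf_le_right ((le_inf (hLK.trans hKN') le_normalizer).trans
        inf_normalizer_le_normalizer_inf) fun n hn' => ?_
      obtain ⟨k, hk⟩ := hpow n hn'.1
      exact ⟨k, hUC ⟨pow_mem hn'.2 _, hk⟩⟩
    -- fixed points of `N`
    set U' := U ⊓ centralizer (N' : Set G) with hU'
    have hKU' : K ≤ normalizer (U' : Set G) :=
      (le_inf hKU (hKN'.trans le_normalizer_centralizer)).trans inf_normalizer_le_normalizer_inf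
    have hU'C : L ⊓ centralizer (U' : Set G) ≤ CW := by
      refine le_centralizer_largest_of_pow inf_le_left ((le_inf le_normalizer
        ((hLK.trans hKU').trans le_normalizer_centralizer)).trans inf_normalizer_le_normalizer_inf)
        fun x hx => ?_
      obtain ⟨k, hk⟩ := CfsgLib.Transfer.exists_pow_prime_pow_coprime (p := p) x
      refine ⟨k, hUC (mem_inf.mpr ⟨pow_mem hx.1 _, ?_⟩)⟩
      obtain ⟨B⟩ := (inferInstance : Nonempty (Sylow p ↥N'))
      set B' := (B : Subgroup ↥N').map N'.subtype with hB'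
      refine mem_centralizer_of_fixed_points hUp (B.2.map _)
        (((map_subtype_le _).trans hN'K).trans hKU) (pow_mem (hKU (hLK hx.1)) _) hk (fun b hb => ?_) ?_
      · refine centralizer_le (SetLike.coe_subset_coe.mpr hUW) (hNL ?_)
        have hbN : b ∈ N' := map_subtype_le _ hb
        have hxK : x ^ p ^ k ∈ L := pow_mem hx.1 _
        refine mem_inf.mpr ⟨mul_mem ((mem_normalizer_iff.mp (hKN' (hLK hxK)) b).mp hbN) (inv_mem hbN), ?_⟩
        rw [show x ^ p ^ k * b * (x ^ p ^ k)⁻¹ * b⁻¹ = x ^ p ^ k * (b * (x ^ p ^ k)⁻¹ * b⁻¹) by group]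
        exact mul_mem hxK ((mem_normalizer_iff.mp (hn (hN'K hbN)) _).mp (inv_mem hxK))
      · refine centralizer_le (SetLike.coe_subset_coe.mpr (le_inf inf_le_left ?_)) (pow_mem hx.2 _)
        -- fixed by `B` implies fixed by `N'`
        rw [le_centralizer_iff]
        have h1 := congrArg (Subgroup.map N'.subtype) (CfsgLib.Transfer.pResidual_sup_sylow B)
        rw [Subgroup.map_sup, ← MonoidHom.range_eq_map, Subgroup.range_subtype] at h1
        refine h1.ge.trans (sup_le (map_le_iff_le_comap.mpr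
          (CfsgLib.Transfer.pResidual_le_iff.mpr fun g hg => ?_))
          (le_centralizer_iff.mp inf_le_right))
        obtain ⟨j, hj⟩ := hpow g g.2
        have hg' : Nat.Coprime (p ^ j) (orderOf (g : G)) :=
          Nat.Coprime.pow_left j (by rw [Subgroup.orderOf_coe]; exact hg.symm)
        obtain ⟨m, hm⟩ := exists_pow_eq_self_of_coprime hg'
        refine centralizer_le (SetLike.coe_subset_coe.mpr (inf_le_left : U ⊓ centralizer (B' : Set G) ≤ U))
          ?_
        show (g : G) ∈ centralizer (U : Set G)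
        rw [← hm]
        exact pow_mem hj m
    have h5 : U' = U := le_antisymm inf_le_left
      (hUmin.le_of_le ⟨inf_le_left.trans hUW, hKU', hU'C⟩ inf_le_left)
    intro n hn
    obtain ⟨z, hz, ez⟩ := hCU.ge ⟨n.2, le_centralizer_iff.mp (h5.ge.trans inf_le_right)
      (mem_map_of_mem K.subtype hn)⟩
    rwa [← show z = n from Subtype.ext ez]
  refine le_trans (le_inf inf_le_left (inf_le_right.trans (centralizer_le (SetLike.coe_subset_coe.mpr ?_)))) hUC
  intro u hu
  exact ⟨⟨u, hLK (hWL (hUW hu))⟩, le_largestPReduced hred hu, rfl⟩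

/-- A subnormal subgroup acting as a `p`-group on a `p`-reduced `V` centralizes it. -/
theorem le_centralizer_of_subnormal {V : Subgroup G} (hV : Cfsg.IsPReducedNormal p V) {D : Subgroup G}
    (hD : D.IsSubnormal) (h : ∀ x ∈ D, ∃ k, x ^ p ^ k ∈ centralizer (V : Set G)) :
    D ≤ centralizer (V : Set G) := by
  obtain ⟨-, -, hn, hO⟩ := hV
  haveI := hn
  have hs := QuotientGroup.mk'_surjective (centralizer (V : Set G))
  have h1 : IsPGroup p ↥(D.map (QuotientGroup.mk' (centralizer (V : Set G)))) := by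
    rintro ⟨_, x, hx, rfl⟩
    obtain ⟨k, hk⟩ := h x hx
    exact ⟨k, Subtype.ext (by simpa using (QuotientGroup.eq_one_iff (N := centralizer (V : Set G)) (x ^ p ^ k)).mpr hk)⟩
  have h2 := CfsgLib.Components.subnormal_pGroup_le_pCore (hD.map hs) h1
  rw [hO, le_bot_iff, Subgroup.map_eq_bot_iff, QuotientGroup.ker_mk'] at h2
  exact h2

/-- `C_L(Y ∩ L)` acts as a `p`-group on `Y`, for `L` subnormal. -/
theorem exists_pow_mem_centralizer {Y : Subgroup G} [Y.Normal] (hY : IsPGroup p Y) {L : Subgroup G}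
    (hL : L.IsSubnormal) :
    ∀ x ∈ L ⊓ centralizer ((Y ⊓ L : Subgroup G) : Set G), ∃ k, x ^ p ^ k ∈ centralizer (Y : Set G) := by
  induction hL with
  | top =>
    intro x hx
    rw [inf_top_eq] at hx
    exact ⟨0, by simpa using hx.2⟩
  | step A B hAB _ hn ih =>
    intro x hx
    obtain ⟨c, hc⟩ := IsPGroup.iff_card.mp (hY.to_le (inf_le_left : Y ⊓ A ≤ Y))
    have hmem : x ^ p ^ c ∈ B ⊓ centralizer ((Y ⊓ B : Subgroup G) : Set G) := by
      refine mem_inf.mpr ⟨pow_mem (hAB hx.1) _, mem_centralizer_iff.mpr fun v hv => ?_⟩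
      refine (Commute.eq ?_).symm
      have hxA : x ∈ A := hx.1
      have ha : x * v * x⁻¹ * v⁻¹ ∈ Y ⊓ A := by
        refine mem_inf.mpr ⟨mul_mem (Normal.conj_mem inferInstance _ hv.1 x) (inv_mem hv.1), ?_⟩
        rw [show x * v * x⁻¹ * v⁻¹ = x * (v * x⁻¹ * v⁻¹) by group]
        exact mul_mem hxA (mem_subgroupOf.mp (hn.conj_mem ⟨x⁻¹, hAB (inv_mem hxA)⟩
          (mem_subgroupOf.mpr (inv_mem hxA)) ⟨v, hv.2⟩))
      rw [← hc]
      exact pow_card_commute ha (mem_centralizer_iff.mp hx.2 _ ha).symm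
    obtain ⟨k, hk⟩ := ih _ hmem
    exact ⟨c + k, by rwa [pow_add, pow_mul]⟩

end CfsgLib.LocalEven
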