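import Mathlib.GroupTheory.SpecificGroups.Alternating
import Mathlib.LinearAlgebra.Matrix.GeneralLinearGroup.Defs
import Mathlib.LinearAlgebra.Matrix.NonsingularInverse
import Mathlib.LinearAlgebra.Matrix.Notation
import Mathlib.Data.ZMod.Basic
import Mathlib.Tactic.LinearCombination
import Mathlib.Tactic.NoncommRing

/-!
# Subgroups `A₄` of `GL₂(ℤ/2ᵏ)`

* `exists_conj_omega`, `involution_shape`, `conj_of_alternatingFour`
-/

set_option autoImplicit false

namespace CfsgLib.LocalEven.AFourInGLTwo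

open Matrix

variable {k : ℕ}

/-- Reduction modulo 2. -/
def red (hk : 1 ≤ k) : ZMod (2 ^ k) →+* ZMod 2 :=
  ZMod.castHom (dvd_pow_self 2 (by omega)) (ZMod 2)

theorem isUnit_of_red (hk : 1 ≤ k) {x : ZMod (2 ^ k)} (h : red hk x = 1) : IsUnit x := by
  haveI : NeZero (2 ^ k) := ⟨by positivity⟩
  rw [← ZMod.natCast_rightInverse x] at h ⊢
  rw [ZMod.isUnit_iff_coprime]
  refine Nat.Coprime.pow_right k ?_
  rw [map_natCast] at h
  rw [Nat.coprime_comm, Nat.prime_two.coprime_iff_not_dvd]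
  intro hd
  rw [← ZMod.natCast_eq_zero_iff] at hd
  exact one_ne_zero (h.symm.trans hd)

theorem three_isUnit (hk : 1 ≤ k) : IsUnit (3 : ZMod (2 ^ k)) :=
  isUnit_of_red hk (by
    rw [show (3 : ZMod (2 ^ k)) = ((3 : ℕ) : ZMod (2 ^ k)) from Nat.cast_ofNat.symm, map_natCast]
    decide)

/-- The element of order 3 acting as multiplication by `ω`. -/
def omega (k : ℕ) : GL (Fin 2) (ZMod (2 ^ k)) :=
  ⟨!![0, -1; 1, -1], !![-1, 1; -1, 0],
    by ext i j; fin_cases i <;> fin_cases j <;> simp [Matrix.mul_apply, Fin.sum_univ_two],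
    by ext i j; fin_cases i <;> fin_cases j <;> simp [Matrix.mul_apply, Fin.sum_univ_two]⟩

/-- An element of order 3 is conjugate to `omega`. -/
theorem exists_conj_omega (hk : 1 ≤ k) (g : GL (Fin 2) (ZMod (2 ^ k))) (hg : g ^ 3 = 1)
    (hg1 : g ≠ 1) : ∃ P : GL (Fin 2) (ZMod (2 ^ k)), g = P * omega k * P⁻¹ := by
  set M : Matrix (Fin 2) (Fin 2) (ZMod (2 ^ k)) := g.val with hM
  have hM3 : M * M * M = 1 := by
    have h := congrArg Units.val hg
    rwa [pow_succ, pow_two, Units.val_mul, Units.val_mul, Units.val_one] at h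
  set π := (red hk).mapMatrix (m := Fin 2)
  have hne : π M ≠ 1 := by
    intro h
    have hfac : (M - 1) * (M * M + M + 1) = 0 := by
      have : (M - 1) * (M * M + M + 1) = M * M * M - 1 := by noncomm_ring
      rw [this, hM3, sub_self]
    have hdet : IsUnit (M * M + M + 1).det := isUnit_of_red hk (by
      rw [RingHom.map_det, map_add, map_add, map_mul, map_one]
      show (π M * π M + π M + 1).det = 1
      rw [h]; decide)
    obtain ⟨u, hu⟩ := (Matrix.isUnit_iff_isUnit_det _).mpr hdet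
    rw [← hu, Units.mul_left_eq_zero, sub_eq_zero] at hfac
    exact hg1 (Units.ext hfac)
  have h10 : red hk (M 1 0) = 1 := by
    have key : ∀ a b c d : ZMod 2, (!![a, b; c, d] * !![a, b; c, d] * !![a, b; c, d] = 1) →
        !![a, b; c, d] ≠ 1 → c = 1 := by decide
    have e : π M = !![red hk (M 0 0), red hk (M 0 1); red hk (M 1 0), red hk (M 1 1)] := by
      ext i j; fin_cases i <;> fin_cases j <;> rfl
    refine key _ _ _ _ ?_ (e ▸ hne)
    rw [← e, ← map_mul, ← map_mul, hM3, map_one]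
  obtain ⟨u, hu⟩ := isUnit_of_red hk h10
  let Pm : Matrix (Fin 2) (Fin 2) (ZMod (2 ^ k)) := !![1, M 0 0; 0, M 1 0]
  have hPdet : IsUnit Pm.det := by
    rw [Matrix.det_fin_two]; simp [Pm]; exact ⟨u, hu⟩
  let P : GL (Fin 2) (ZMod (2 ^ k)) := ((Matrix.isUnit_iff_isUnit_det _).mpr hPdet).unit
  set α := -(M 0 0 * M 1 1 - M 0 1 * M 1 0) with hα
  set β := M 0 0 + M 1 1 with hβ
  let C : Matrix (Fin 2) (Fin 2) (ZMod (2 ^ k)) := !![0, α; 1, β]
  have hMP : M * Pm = Pm * C := by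
    ext i j
    fin_cases i <;> fin_cases j <;> simp [Pm, C, Matrix.mul_apply, Fin.sum_univ_two, hα, hβ] <;>
      ring
  have hC3 : C * C * C = 1 := by
    obtain ⟨v, hv⟩ := (Matrix.isUnit_iff_isUnit_det _).mpr hPdet
    refine v.mul_right_eq_zero.mp ?_ |> sub_eq_zero.mp
    rw [hv, mul_sub, mul_one, sub_eq_zero]
    calc Pm * (C * C * C) = M * M * M * Pm := by
          rw [← mul_assoc Pm, ← mul_assoc Pm, ← hMP, mul_assoc M Pm C, ← hMP, ← mul_assoc M M Pm,
            mul_assoc (M * M), ← hMP, ← mul_assoc]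
      _ = Pm := by rw [hM3, one_mul]
  have e00 : α * β = 1 := by
    have := congrFun (congrFun hC3 0) 0
    simpa [C, Matrix.mul_apply, Fin.sum_univ_two] using this
  have e10 : α + β * β = 0 := by
    have := congrFun (congrFun hC3 1) 0
    simpa [C, Matrix.mul_apply, Fin.sum_univ_two] using this
  have hfac : (β + 1) * (β * β - β + 1) = 0 := by linear_combination β * e10 - e00
  have hb : β = -1 := by
    have hu2 : IsUnit (β * β - β + 1) := isUnit_of_red hk (by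
      rw [map_add, map_sub, map_mul, map_one]
      generalize red hk β = b
      revert b; decide)
    obtain ⟨v, hv⟩ := hu2
    rw [← hv, Units.mul_left_eq_zero] at hfac
    linear_combination hfac
  have ha : α = -1 := by rw [hb] at e10; linear_combination e10
  refine ⟨P, ?_⟩
  rw [eq_mul_inv_iff_mul_eq]
  refine Units.ext ?_
  show M * Pm = Pm * !![0, -1; 1, -1]
  rw [hMP]
  simp only [C, ha, hb]

/-- The three candidate involutions normalized by `omega`. -/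
theorem involution_shape (hk : 1 ≤ k) (t u : GL (Fin 2) (ZMod (2 ^ k))) (ht : t * t = 1)
    (hu : u = omega k * t * (omega k)⁻¹) (htu : t * u = u * t)
    (hv : t * u = omega k * u * (omega k)⁻¹) :
    ∃ p q : ZMod (2 ^ k), 2 * p = 0 ∧ 2 * q = 0 ∧ t.val = !![1 - q, p; p - q, 1 + q] := by
  obtain ⟨c3, hc3⟩ := three_isUnit hk
  set T : Matrix (Fin 2) (Fin 2) (ZMod (2 ^ k)) := t.val with hT
  set y : ZMod (2 ^ k) := ↑c3⁻¹ * (2 * (T 1 0 - T 0 1) + (T 1 1 - T 0 0)) with hy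
  set q : ZMod (2 ^ k) := 2 * y - (T 1 0 - T 0 1) with hq
  set x : ZMod (2 ^ k) := T 0 0 + q with hx
  set p : ZMod (2 ^ k) := T 0 1 + y with hp
  have h3y : 3 * y = 2 * (T 1 0 - T 0 1) + (T 1 1 - T 0 0) := by
    rw [hy, ← mul_assoc, ← hc3, Units.mul_inv, one_mul]
  have hTe : T = !![x - q, p - y; y + p - q, x - y + q] := by
    ext i j
    fin_cases i <;> fin_cases j <;> simp [hx, hp, hq]
    · ring
    · linear_combination -h3y
  set W : Matrix (Fin 2) (Fin 2) (ZMod (2 ^ k)) := !![0, -1; 1, -1]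
  set W' : Matrix (Fin 2) (Fin 2) (ZMod (2 ^ k)) := !![-1, 1; -1, 0]
  have e1 : T * T = 1 := by
    have := congrArg Units.val ht; rwa [Units.val_mul, Units.val_one] at this
  have hU : u.val = W * T * W' := by rw [hu, Units.val_mul, Units.val_mul]; rfl
  have e2 : T * (W * T * W') = W * T * W' * T := by
    have := congrArg Units.val htu; rwa [Units.val_mul, Units.val_mul, hU] at this
  have e3 : T * (W * T * W') = W * (W * T * W') * W' := by
    have := congrArg Units.val hv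
    rw [Units.val_mul, Units.val_mul, Units.val_mul, hU] at this
    exact this
  clear_value T x y p q
  have a1 := congrFun (congrFun e1 0) 0
  have a2 := congrFun (congrFun e1 1) 1
  have a3 := congrFun (congrFun e1 0) 1
  have a4 := congrFun (congrFun e1 1) 0
  have b1 := congrFun (congrFun e2 0) 0
  have b3 := congrFun (congrFun e2 0) 1
  have b4 := congrFun (congrFun e2 1) 0
  have c1 := congrFun (congrFun e3 0) 0
  have c2 := congrFun (congrFun e3 1) 1
  have c3' := congrFun (congrFun e3 0) 1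
  have c4 := congrFun (congrFun e3 1) 0
  simp [hTe, W, W', Matrix.mul_apply, Fin.sum_univ_two] at a1 a2 a3 a4 b1 b3 b4 c1 c2 c3' c4
  -- the norm of `p + q ω`
  have hN : p * p - p * q + q * q = 0 := by
    apply (three_isUnit hk).mul_left_cancel
    linear_combination -b1 - b3 + b4
  -- the square of `x + y ω`
  have hs1 : x * x - y * y = 1 := by
    apply (three_isUnit hk).mul_left_cancel
    linear_combination a1 + 2 * a2 + a4 - a3 - 3 * hN
  have hs2 : 2 * x * y - y * y = 0 := by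
    apply (three_isUnit hk).mul_left_cancel
    linear_combination -a1 + a2 + 2 * a4 - 2 * a3
  have hy0 : y = 0 := by
    apply (three_isUnit hk).mul_left_cancel
    linear_combination c1 - c2 + 2 * c3' - 2 * c4 + 3 * hs2 + 3 * hN
  have hx1 : x = 1 := by
    apply (three_isUnit hk).mul_left_cancel
    linear_combination -c1 - 2 * c2 + c3' - c4 + 3 * hs1
  rw [hy0, hx1] at a1 a3 hTe
  refine ⟨p, q, ?_, ?_, ?_⟩
  · linear_combination a3
  · linear_combination hN - a1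
  · rw [hTe]; simp

theorem eq_zero_or_half (hk : 1 ≤ k) {x : ZMod (2 ^ k)} (h : 2 * x = 0) :
    x = 0 ∨ x = 2 ^ (k - 1) := by
  haveI : NeZero (2 ^ k) := ⟨by positivity⟩
  rw [← ZMod.natCast_rightInverse x] at h ⊢
  have hd : 2 ^ k ∣ 2 * x.val := by
    rw [← ZMod.natCast_eq_zero_iff]; push_cast; exact h
  obtain ⟨c, hc⟩ := hd
  have hlt := ZMod.val_lt x
  generalize x.val = v at hc hlt h ⊢
  have e : 2 ^ k = 2 * 2 ^ (k - 1) := by rw [← pow_succ']; congr 1; omega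
  have hc2 : c < 2 := by
    by_contra hge
    push Not at hge
    have : 2 ^ k * 2 ≤ 2 ^ k * c := Nat.mul_le_mul_left _ hge
    omega
  rcases (show c = 0 ∨ c = 1 by omega) with rfl | rfl
  · left; rw [show v = 0 by omega, Nat.cast_zero]
  · right; rw [show v = 2 ^ (k - 1) by omega]; push_cast; rfl

theorem alternatingFour_conj : ∀ g x : alternatingGroup (Fin 4),
    (g * g * g = 1 ∧ g ≠ 1 ∧ x * x = 1 ∧ x ≠ 1) →
      x * (g * x * g⁻¹) = g * x * g⁻¹ * x ∧ x * (g * x * g⁻¹) = g * (g * x * g⁻¹) * g⁻¹ ∧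
      g * x * g⁻¹ ≠ x := by
  decide +kernel

theorem alternatingFour_gen : ∀ g x : alternatingGroup (Fin 4), (g * g * g = 1 ∧ g ≠ 1) →
    ∃ t : alternatingGroup (Fin 4), t * t = 1 ∧ (x = t ∨ x = t * g ∨ x = t * (g * g)) := by
  decide +kernel

theorem alternatingFour_elts :
    ∃ g x : alternatingGroup (Fin 4), g * g * g = 1 ∧ g ≠ 1 ∧ x * x = 1 ∧ x ≠ 1 := by
  decide +kernel

/-- The standard `A₄` containing `omega`. -/
def std (k : ℕ) : Subgroup (GL (Fin 2) (ZMod (2 ^ k))) :=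
  Subgroup.closure (insert (omega k) {t | ∃ p q : ZMod (2 ^ k), 2 * p = 0 ∧ 2 * q = 0 ∧
    t * t = 1 ∧ t.val = !![1 - q, p; p - q, 1 + q]})

/-- A subgroup `A₄` containing `omega` is the standard one. -/
theorem eq_std (hk : 1 ≤ k) (H : Subgroup (GL (Fin 2) (ZMod (2 ^ k))))
    (e : alternatingGroup (Fin 4) ≃* H) (hw : omega k ∈ H) : H = std k := by
  obtain ⟨gA, xA, hgA, hgA1, hxA, hxA1⟩ := alternatingFour_elts
  set g := e.symm ⟨omega k, hw⟩ with hg
  have hg3 : g * g * g = 1 := by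
    rw [hg, ← map_mul, ← map_mul, ← map_one e.symm]
    congr 1
    refine Subtype.ext (Units.ext ?_)
    ext i j
    fin_cases i <;> fin_cases j <;> simp [omega, Matrix.mul_apply, Fin.sum_univ_two]
  have hg1 : g ≠ 1 := by
    intro h
    rw [hg, ← map_one e.symm] at h
    have h1 : omega k = 1 := congrArg Subtype.val (e.symm.injective h)
    haveI : Fact (1 < 2 ^ k) := ⟨Nat.one_lt_two_pow (by omega)⟩
    have h2 := congrArg (fun u : GL (Fin 2) (ZMod (2 ^ k)) => u.val 1 0) h1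
    simp [omega] at h2
  have hew : ((e g : H) : GL (Fin 2) (ZMod (2 ^ k))) = omega k := by rw [hg, e.apply_symm_apply]
  clear_value g
  -- the involutions of `H`
  have hinv : ∀ x : alternatingGroup (Fin 4), x * x = 1 → x ≠ 1 →
      ∃ p q : ZMod (2 ^ k), 2 * p = 0 ∧ 2 * q = 0 ∧
        (e x : GL (Fin 2) (ZMod (2 ^ k))).val = !![1 - q, p; p - q, 1 + q] := by
    intro x hx hx1
    obtain ⟨c1, c2, -⟩ := alternatingFour_conj g x ⟨hg3, hg1, hx, hx1⟩
    refine involution_shape hk (e x : GL (Fin 2) (ZMod (2 ^ k)))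
      ((e (g * x * g⁻¹) : H) : GL (Fin 2) (ZMod (2 ^ k))) ?_ ?_ ?_ ?_
    · rw [← Subgroup.coe_mul, ← map_mul, hx, map_one, Subgroup.coe_one]
    · rw [map_mul, map_mul, map_inv, Subgroup.coe_mul, Subgroup.coe_mul, Subgroup.coe_inv, hew]
    · rw [← Subgroup.coe_mul, ← Subgroup.coe_mul, ← map_mul, ← map_mul, c1]
    · rw [← hew, ← Subgroup.coe_inv, ← Subgroup.coe_mul, ← Subgroup.coe_mul, ← Subgroup.coe_mul,
        ← map_inv, ← map_mul, ← map_mul, ← map_mul, c2]
  have hgenA : ∀ x : alternatingGroup (Fin 4), (e x : GL (Fin 2) (ZMod (2 ^ k))) ∈ std k := by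
    intro x
    obtain ⟨t, ht, hxt⟩ := alternatingFour_gen g x ⟨hg3, hg1⟩
    have htS : (e t : GL (Fin 2) (ZMod (2 ^ k))) ∈ std k := by
      by_cases ht1 : t = 1
      · rw [ht1, map_one]; exact one_mem _
      obtain ⟨p, q, hp, hq, htv⟩ := hinv t ht ht1
      refine Subgroup.subset_closure (Set.mem_insert_of_mem _ ⟨p, q, hp, hq, ?_, htv⟩)
      rw [← Subgroup.coe_mul, ← map_mul, ht, map_one, Subgroup.coe_one]
    have hwS : (e g : GL (Fin 2) (ZMod (2 ^ k))) ∈ std k :=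
      hew ▸ Subgroup.subset_closure (Set.mem_insert _ _)
    rcases hxt with rfl | rfl | rfl
    · exact htS
    · rw [map_mul, Subgroup.coe_mul]; exact mul_mem htS hwS
    · rw [map_mul, map_mul, Subgroup.coe_mul, Subgroup.coe_mul]
      exact mul_mem htS (mul_mem hwS hwS)
  refine le_antisymm (fun h hh => ?_) ((Subgroup.closure_le _).mpr ?_)
  · have := hgenA (e.symm ⟨h, hh⟩)
    rwa [e.apply_symm_apply] at this
  -- there are only three candidates, and `H` contains three involutions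
  rintro t (rfl | ⟨p, q, hp, hq, -, htv⟩)
  · exact hw
  obtain ⟨x, hx, hx1⟩ : ∃ x : alternatingGroup (Fin 4), x * x = 1 ∧ x ≠ 1 := by
    refine ⟨xA, hxA, hxA1⟩
  set y := g * x * g⁻¹ with hy
  have hy2 : y * y = 1 := by
    rw [hy]; calc g * x * g⁻¹ * (g * x * g⁻¹) = g * (x * x) * g⁻¹ := by group
      _ = 1 := by rw [hx]; group
  obtain ⟨c1, c2, c3⟩ := alternatingFour_conj g x ⟨hg3, hg1, hx, hx1⟩
  have hy1 : y ≠ 1 := fun h => hx1 (by rwa [hy, mul_inv_eq_one, mul_eq_left] at h)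
  obtain ⟨p₁, q₁, hp₁, hq₁, hv₁⟩ := hinv x hx hx1
  obtain ⟨p₂, q₂, hp₂, hq₂, hv₂⟩ := hinv y hy2 hy1
  obtain ⟨p₃, q₃, hp₃, hq₃, hv₃⟩ : ∃ p q : ZMod (2 ^ k), 2 * p = 0 ∧ 2 * q = 0 ∧
      (e (x * y) : GL (Fin 2) (ZMod (2 ^ k))).val = !![1 - q, p; p - q, 1 + q] := by
    refine hinv (x * y) ?_ fun h => c3 ?_
    · calc x * y * (x * y) = x * (y * x) * y := by group
        _ = (x * x) * (y * y) := by
          rw [show y * x = x * y from c1.symm]; group
        _ = 1 := by rw [hx, hy2, one_mul]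
    · rw [mul_eq_one_iff_inv_eq] at h
      rw [← hy, ← h, inv_eq_of_mul_eq_one_right hx]
  have hdist : ∀ a b : alternatingGroup (Fin 4), ∀ p q p' q' : ZMod (2 ^ k),
      (e a : GL (Fin 2) (ZMod (2 ^ k))).val = !![1 - q, p; p - q, 1 + q] →
      (e b : GL (Fin 2) (ZMod (2 ^ k))).val = !![1 - q', p'; p' - q', 1 + q'] →
      p = p' → q = q' → a = b := by
    intro a b p q p' q' ha hb hp hq
    subst hp hq
    exact e.injective (Subtype.ext (Units.ext (ha.trans hb.symm)))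
  have hmem : ∀ a : alternatingGroup (Fin 4), ∀ p' q' : ZMod (2 ^ k),
      (e a : GL (Fin 2) (ZMod (2 ^ k))).val = !![1 - q', p'; p' - q', 1 + q'] → p = p' → q = q' →
      t ∈ H := by
    intro a p' q' ha hp' hq'
    subst hp' hq'
    rw [show t = (e a : GL (Fin 2) (ZMod (2 ^ k))) from Units.ext (htv.trans ha.symm)]
    exact SetLike.coe_mem _
  by_cases h0 : p = 0 ∧ q = 0
  · refine hmem 1 0 0 ?_ h0.1 h0.2
    rw [map_one, Subgroup.coe_one, Units.val_one]
    ext i j; fin_cases i <;> fin_cases j <;> simp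
  have hne : ∀ a : alternatingGroup (Fin 4), a ≠ 1 → ∀ p' q' : ZMod (2 ^ k),
      (e a : GL (Fin 2) (ZMod (2 ^ k))).val = !![1 - q', p'; p' - q', 1 + q'] →
      ¬ (p' = 0 ∧ q' = 0) := by
    rintro a ha1 p' q' ha ⟨rfl, rfl⟩
    refine ha1 (e.injective ?_)
    rw [map_one]
    refine Subtype.ext (Units.ext ?_)
    rw [ha, Subgroup.coe_one, Units.val_one]
    ext i j; fin_cases i <;> fin_cases j <;> simp
  have hxy1 : x * y ≠ 1 := fun h => c3 (by
    rw [mul_eq_one_iff_inv_eq] at h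
    rw [← hy, ← h, inv_eq_of_mul_eq_one_right hx])
  have hxy : x * y ≠ x := fun h => hy1 (mul_eq_left.mp h)
  have hyy : x * y ≠ y := fun h => hx1 (mul_eq_right.mp h)
  have hxy' : x ≠ y := fun h => c3 h.symm
  -- each candidate is a pair of zeros and halves, the four pairs being exhausted
  set z : ZMod (2 ^ k) := 2 ^ (k - 1)
  have cand : ∀ a : alternatingGroup (Fin 4), ∀ p' q' : ZMod (2 ^ k), 2 * p' = 0 → 2 * q' = 0 →
      ¬ (p' = 0 ∧ q' = 0) → (p' = z ∧ q' = 0) ∨ (p' = 0 ∧ q' = z) ∨ (p' = z ∧ q' = z) := by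
    intro a p' q' hp' hq' hne'
    rcases eq_zero_or_half hk hp' with h1 | h1 <;> rcases eq_zero_or_half hk hq' with h2 | h2
    · exact absurd ⟨h1, h2⟩ hne'
    · exact Or.inr (Or.inl ⟨h1, h2⟩)
    · exact Or.inl ⟨h1, h2⟩
    · exact Or.inr (Or.inr ⟨h1, h2⟩)
  have k0 := cand x p q hp hq h0
  have k1 := cand x p₁ q₁ hp₁ hq₁ (hne x hx1 _ _ hv₁)
  have k2 := cand x p₂ q₂ hp₂ hq₂ (hne y hy1 _ _ hv₂)
  have k3 := cand x p₃ q₃ hp₃ hq₃ (hne (x * y) hxy1 _ _ hv₃)
  have d12 := hdist x y p₁ q₁ p₂ q₂ hv₁ hv₂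
  have d13 := hdist (x * y) x p₃ q₃ p₁ q₁ hv₃ hv₁
  have d23 := hdist (x * y) y p₃ q₃ p₂ q₂ hv₃ hv₂
  by_cases e1 : p = p₁ ∧ q = q₁
  · exact hmem x p₁ q₁ hv₁ e1.1 e1.2
  by_cases e2 : p = p₂ ∧ q = q₂
  · exact hmem y p₂ q₂ hv₂ e2.1 e2.2
  by_cases e3 : p = p₃ ∧ q = q₃
  · exact hmem (x * y) p₃ q₃ hv₃ e3.1 e3.2
  exfalso
  rcases k0 with ⟨rfl, rfl⟩ | ⟨rfl, rfl⟩ | ⟨rfl, rfl⟩ <;>
    rcases k1 with ⟨rfl, rfl⟩ | ⟨rfl, rfl⟩ | ⟨rfl, rfl⟩ <;>
      rcases k2 with ⟨rfl, rfl⟩ | ⟨rfl, rfl⟩ | ⟨rfl, rfl⟩ <;>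
        rcases k3 with ⟨rfl, rfl⟩ | ⟨rfl, rfl⟩ | ⟨rfl, rfl⟩ <;>
          first
            | exact e1 ⟨rfl, rfl⟩
            | exact e2 ⟨rfl, rfl⟩
            | exact e3 ⟨rfl, rfl⟩
            | exact hxy' (d12 rfl rfl)
            | exact hxy (d13 rfl rfl)
            | exact hyy (d23 rfl rfl)

/-- Subgroups isomorphic to `A₄` of `GL₂(ℤ/2ᵏ)` are conjugate. -/
theorem conj_of_alternatingFour (hk : 1 ≤ k) (H₁ H₂ : Subgroup (GL (Fin 2) (ZMod (2 ^ k))))
    (h₁ : Nonempty (H₁ ≃* alternatingGroup (Fin 4))) (h₂ : Nonempty (H₂ ≃* alternatingGroup (Fin 4))) :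
    ∃ g : GL (Fin 2) (ZMod (2 ^ k)), H₂ = H₁.map (MulAut.conj g).toMonoidHom := by
  obtain ⟨gA, -, hgA, hgA1, -, -⟩ := alternatingFour_elts
  have key : ∀ H : Subgroup (GL (Fin 2) (ZMod (2 ^ k))),
      Nonempty (H ≃* alternatingGroup (Fin 4)) → ∃ P : GL (Fin 2) (ZMod (2 ^ k)),
        H = (std k).map (MulAut.conj P).toMonoidHom := by
    rintro H ⟨e⟩
    obtain ⟨P, hP⟩ := exists_conj_omega hk (e.symm gA : GL (Fin 2) (ZMod (2 ^ k)))
      (by rw [← Subgroup.coe_pow, ← map_pow, pow_succ, pow_two, hgA, map_one, Subgroup.coe_one])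
      (fun h => hgA1 (e.symm.injective (Subtype.ext (by rw [map_one, h, Subgroup.coe_one]))))
    have hmemw : omega k ∈ H.map (MulAut.conj P⁻¹).toMonoidHom :=
      ⟨_, SetLike.coe_mem (e.symm gA), by
        show P⁻¹ * _ * P⁻¹⁻¹ = omega k
        rw [hP]; group⟩
    refine ⟨P, ?_⟩
    rw [← eq_std hk (H.map (MulAut.conj P⁻¹).toMonoidHom)
      (e.symm.trans (H.equivMapOfInjective _ (MulAut.conj P⁻¹).injective)) hmemw, Subgroup.map_map]
    conv_lhs => rw [← Subgroup.map_id H]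
    congr 1
    ext1 x
    show x = P * (P⁻¹ * x * P⁻¹⁻¹) * P⁻¹
    group
  obtain ⟨P₁, rfl⟩ := key H₁ h₁
  obtain ⟨P₂, rfl⟩ := key H₂ h₂
  refine ⟨P₂ * P₁⁻¹, ?_⟩
  rw [Subgroup.map_map]
  congr 1
  ext1 x
  show P₂ * x * P₂⁻¹ = P₂ * P₁⁻¹ * (P₁ * x * P₁⁻¹) * (P₂ * P₁⁻¹)⁻¹
  group

end CfsgLib.LocalEven.AFourInGLTwo
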