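import Cfsg.Agent.Lib.LocalEven.CosetGraph
import Cfsg.Agent.Lib.LocalEvenB.CharP
import Cfsg.Agent.Lib.PGroups.Omega

/-! Amalgam pairs of characteristic `p`: vertex groups, `Q`, `Z`, critical pairs. -/

namespace CfsgLib.LocalEven

open Subgroup

variable {X : Type*} [Group X] {p : ℕ} [Fact p.Prime] {M₁ M₂ : Subgroup X}

omit [Fact p.Prime] in
/-- `Ω₁(Z(T))`, conjugated. -/
theorem omegaZ_conj (g : X) (T : Subgroup X) :
    (Cfsg.omegaOne p (T ⊓ centralizer (T : Set X))).map (MulAut.conj g).toMonoidHom =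
      Cfsg.omegaOne p (T.map (MulAut.conj g).toMonoidHom ⊓
        centralizer ((T.map (MulAut.conj g).toMonoidHom : Subgroup X) : Set X)) := by
  rw [CfsgLib.PGroups.omegaOne_map _ (f := (MulAut.conj g).toMonoidHom) (MulAut.conj g).injective,
    Subgroup.map_inf _ _ _ (MulAut.conj g).injective]
  congr 2
  ext x
  rw [mem_conj, mem_centralizer_iff, mem_centralizer_iff]
  constructor
  · intro h y hy
    have h1 : g⁻¹ * y * g ∈ T := mem_conj.mp hy
    have := h _ h1
    calc y * x = g * (g⁻¹ * y * g * (g⁻¹ * x * g)) * g⁻¹ := by group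
      _ = g * (g⁻¹ * x * g * (g⁻¹ * y * g)) * g⁻¹ := by rw [this]
      _ = x * y := by group
  · intro h y hy
    have := h (g * y * g⁻¹) (conj_mem_conj hy)
    calc y * (g⁻¹ * x * g) = g⁻¹ * (g * y * g⁻¹ * x) * g := by group
      _ = g⁻¹ * (x * (g * y * g⁻¹)) * g := by rw [this]
      _ = g⁻¹ * x * g * y := by group

omit [Fact p.Prime] in
theorem mem_pElementClosure {H T : Subgroup X} [Fact p.Prime] (hT : IsPGroup p T) (hTH : T ≤ H) :
    T ≤ Cfsg.pElementClosure p H := fun t ht => Subgroup.subset_closure ⟨hTH ht, by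
  obtain ⟨k, hk⟩ := (IsPGroup.iff_orderOf.mp hT) ⟨t, ht⟩
  exact ⟨k, by rwa [orderOf_mk] at hk⟩⟩

omit [Fact p.Prime] in
theorem pElementClosure_le (H : Subgroup X) : Cfsg.pElementClosure p H ≤ H :=
  (Subgroup.closure_le H).mpr fun _ hx => hx.1

omit [Fact p.Prime] in
theorem pElementClosure_conj (g : X) (H : Subgroup X) :
    (Cfsg.pElementClosure p H).map (MulAut.conj g).toMonoidHom =
      Cfsg.pElementClosure p (H.map (MulAut.conj g).toMonoidHom) := by
  rw [Cfsg.pElementClosure, MonoidHom.map_closure, Cfsg.pElementClosure]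
  congr 1
  ext y
  constructor
  · rintro ⟨x, ⟨hx, k, hk⟩, rfl⟩
    exact ⟨⟨x, hx, rfl⟩, k, (MulEquiv.orderOf_eq (MulAut.conj g) x).trans hk⟩
  · rintro ⟨⟨x, hx, rfl⟩, k, hk⟩
    exact ⟨x, ⟨hx, k, (MulEquiv.orderOf_eq (MulAut.conj g) x).symm.trans hk⟩, rfl⟩

omit [Fact p.Prime] in
theorem le_normalizer_pElementClosure (H : Subgroup X) :
    H ≤ normalizer (Cfsg.pElementClosure p H : Set X) := fun g hg => by
  rw [mem_normalizer_conj_iff, pElementClosure_conj, mem_normalizer_conj_iff.mp (le_normalizer hg)]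

theorem finite_conj {M : Subgroup X} [Finite M] (x : X) : Finite ↥(M.map (MulAut.conj x).toMonoidHom) :=
  Finite.of_equiv M (M.equivMapOfInjective (MulAut.conj x).toMonoidHom (MulAut.conj x).injective).toEquiv

omit [Fact p.Prime] in
theorem pCoreOf_map_conj (x : X) (M : Subgroup X) :
    Cfsg.pCoreOf p (M.map (MulAut.conj x).toMonoidHom) =
      (Cfsg.pCoreOf p M).map (MulAut.conj x).toMonoidHom := by
  rw [Cfsg.pCoreOf, Cfsg.pCoreOf, ← CfsgLib.Core.map_equiv_pCore
    (M.equivMapOfInjective (MulAut.conj x).toMonoidHom (MulAut.conj x).injective), map_map, map_map]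
  rfl

/-- In a finite group of `p`-subgroups of maximal order two are conjugate. -/
theorem exists_conj_eq {H T T' : Subgroup X} [Finite H] (hTH : T ≤ H) (hT'H : T' ≤ H) (hT : IsPGroup p T)
    (hT' : IsPGroup p T') (hmax : ∀ P : Subgroup X, P ≤ H → IsPGroup p P → Nat.card P ≤ Nat.card T)
    (hcard : Nat.card T ≤ Nat.card T') : ∃ h ∈ H, T.map (MulAut.conj h).toMonoidHom = T' := by
  obtain ⟨P, hP⟩ := (hT.comap_of_injective H.subtype H.subtype_injective : IsPGroup p (T.subgroupOf H)).exists_le_sylow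
  obtain ⟨P', hP'⟩ := (hT'.comap_of_injective H.subtype H.subtype_injective : IsPGroup p (T'.subgroupOf H)).exists_le_sylow
  have key : ∀ (S : Subgroup X) (R : Sylow p ↥H), S ≤ H → S.subgroupOf H ≤ R → Nat.card T ≤ Nat.card S →
      (R : Subgroup ↥H).map H.subtype = S := by
    intro S R hSH hSR hc
    haveI : Finite ↥((R : Subgroup ↥H).map H.subtype) :=
      Finite.of_injective _ (Subgroup.inclusion_injective (map_subtype_le (R : Subgroup ↥H)))
    refine (eq_of_le_of_card_ge ?_ (((hmax _ (map_subtype_le _) (R.2.map _))).trans hc)).symm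
    rw [← map_subgroupOf_eq_of_le hSH]
    exact map_mono hSR
  obtain ⟨h, hh⟩ := sylow_conj P P'
  refine ⟨h, h.2, ?_⟩
  rw [← key T' P' hT'H hP' hcard, ← key T P hTH hP le_rfl, ← hh, map_map, map_map]
  rfl

section CharP

variable (h : Cfsg.IsCharPAmalgamPair p M₁ M₂)
include h

theorem finite_stabilizer (a : Cfsg.CosetVertex M₁ M₂) : Finite ↥(MulAction.stabilizer X a) := by
  haveI := h.2.1
  haveI := h.2.2.1
  rcases a with a | a
  · obtain ⟨x, rfl⟩ := QuotientGroup.mk_surjective a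
    rw [stabilizer_inl]; exact finite_conj x
  · obtain ⟨x, rfl⟩ := QuotientGroup.mk_surjective a
    rw [stabilizer_inr]; exact finite_conj x

theorem hasCharP_stabilizer (a : Cfsg.CosetVertex M₁ M₂) :
    MulAction.stabilizer X a ⊓ centralizer (Cfsg.vertexQ p a : Set X) ≤ Cfsg.vertexQ p a := by
  have key : ∀ (x : X) (M : Subgroup X), Subgroup.centralizer (Cfsg.pCore p ↥M : Set ↥M) ≤ Cfsg.pCore p ↥M →
      M.map (MulAut.conj x).toMonoidHom ⊓
        centralizer (Cfsg.pCoreOf p (M.map (MulAut.conj x).toMonoidHom) : Set X) ≤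
        Cfsg.pCoreOf p (M.map (MulAut.conj x).toMonoidHom) := by
    intro x M hM
    rintro g ⟨hg, hgc⟩
    obtain ⟨m, hm, rfl⟩ := hg
    rw [pCoreOf_map_conj] at hgc ⊢
    refine mem_map_of_mem _ ((CfsgLib.LocalEvenB.hasCharP_iff M).mpr hM ⟨hm, mem_centralizer_iff.mpr fun y hy => ?_⟩)
    have := mem_centralizer_iff.mp hgc _ (mem_map_of_mem _ hy)
    rw [← map_mul, ← map_mul] at this
    exact (MulAut.conj x).injective this
  rcases a with a | a
  · obtain ⟨x, rfl⟩ := QuotientGroup.mk_surjective a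
    simp only [Cfsg.vertexQ, stabilizer_inl]
    exact key x M₁ h.2.2.2.2.2.2.1
  · obtain ⟨x, rfl⟩ := QuotientGroup.mk_surjective a
    simp only [Cfsg.vertexQ, stabilizer_inr]
    exact key x M₂ h.2.2.2.2.2.2.2

/-- A Sylow subgroup of an edge stabilizer has the order of those of the two vertex stabilizers. -/
theorem card_le_sylow_edge {a b : Cfsg.CosetVertex M₁ M₂} (hab : (Cfsg.cosetGraph M₁ M₂).Adj a b)
    (S : Sylow p ↥(Cfsg.edgeStabilizer a b)) {P : Subgroup X} (hP : P ≤ MulAction.stabilizer X a)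
    (hPp : IsPGroup p P) : Nat.card P ≤ Nat.card (S : Subgroup ↥(Cfsg.edgeStabilizer a b)) := by
  haveI := h.2.1
  haveI := h.2.2.1
  haveI : Finite ↥(M₁ ⊓ M₂) := Finite.of_injective _ (Subgroup.inclusion_injective inf_le_left)
  obtain ⟨x, he, hs⟩ := adj_cases hab
  haveI := finite_stabilizer h a
  haveI : Finite ↥(Cfsg.edgeStabilizer a b) := Finite.of_injective _ (Subgroup.inclusion_injective inf_le_left)
  obtain ⟨Pa, hPa⟩ := (hPp.comap_of_injective _ (MulAction.stabilizer X a).subtype_injective :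
    IsPGroup p (P.subgroupOf (MulAction.stabilizer X a))).exists_le_sylow
  have h1 : Nat.card P ≤ Nat.card (Pa : Subgroup ↥(MulAction.stabilizer X a)) :=
    (Nat.card_congr (subgroupOfEquivOfLe hP).toEquiv).symm.trans_le (card_le_of_le hPa)
  obtain ⟨S₀⟩ := (inferInstance : Nonempty (Sylow p ↥(M₁ ⊓ M₂)))
  obtain ⟨P₁⟩ := (inferInstance : Nonempty (Sylow p ↥M₁))
  obtain ⟨P₂⟩ := (inferInstance : Nonempty (Sylow p ↥M₂))
  obtain ⟨e₁, e₂⟩ := h.2.2.2.2.2.1 S₀ P₁ P₂
  simp only [Sylow.card_eq_multiplicity] at e₁ e₂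
  have hc : ∀ M : Subgroup X, Nat.card ↥(M.map (MulAut.conj x).toMonoidHom) = Nat.card M := fun M =>
    card_map_of_injective (MulAut.conj x).injective
  refine h1.trans (le_of_eq ?_)
  rw [Sylow.card_eq_multiplicity, Sylow.card_eq_multiplicity, he, hc]
  rcases hs with ⟨hs, -⟩ | ⟨hs, -⟩ <;> rw [hs, hc]
  exacts [e₁.symm, e₂.symm]

theorem exists_sylow_stabilizer {a b : Cfsg.CosetVertex M₁ M₂} (hab : (Cfsg.cosetGraph M₁ M₂).Adj a b)
    (S : Sylow p ↥(Cfsg.edgeStabilizer a b)) :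
    ∃ P : Sylow p ↥(MulAction.stabilizer X a),
      (P : Subgroup ↥(MulAction.stabilizer X a)).map (MulAction.stabilizer X a).subtype =
        (S : Subgroup ↥(Cfsg.edgeStabilizer a b)).map (Cfsg.edgeStabilizer a b).subtype := by
  haveI := finite_stabilizer h a
  set T := (S : Subgroup ↥(Cfsg.edgeStabilizer a b)).map (Cfsg.edgeStabilizer a b).subtype with hT
  have hTa : T ≤ MulAction.stabilizer X a := (map_subtype_le _).trans inf_le_left
  obtain ⟨P, hP⟩ := ((S.2.map _).comap_of_injective _ (MulAction.stabilizer X a).subtype_injective :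
    IsPGroup p (T.subgroupOf (MulAction.stabilizer X a))).exists_le_sylow
  refine ⟨P, ?_⟩
  haveI : Finite ↥((P : Subgroup ↥(MulAction.stabilizer X a)).map (MulAction.stabilizer X a).subtype) :=
    Finite.of_injective _ (Subgroup.inclusion_injective (map_subtype_le _))
  refine (eq_of_le_of_card_ge ?_ ?_).symm
  · rw [← map_subgroupOf_eq_of_le hTa]; exact map_mono hP
  · refine (card_le_sylow_edge h hab S (map_subtype_le _) (P.2.map _)).trans ?_
    rw [hT, card_map_of_injective (Cfsg.edgeStabilizer a b).subtype_injective]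

theorem vertexQ_le_sylow {a b : Cfsg.CosetVertex M₁ M₂} (hab : (Cfsg.cosetGraph M₁ M₂).Adj a b)
    (S : Sylow p ↥(Cfsg.edgeStabilizer a b)) :
    Cfsg.vertexQ p a ≤ (S : Subgroup ↥(Cfsg.edgeStabilizer a b)).map (Cfsg.edgeStabilizer a b).subtype := by
  obtain ⟨P, hP⟩ := exists_sylow_stabilizer h hab S
  rw [← hP]
  exact map_mono (CfsgLib.Core.pCore_le_sylow P)

theorem vertexQ_le_neighbourKernel (a : Cfsg.CosetVertex M₁ M₂) :
    Cfsg.vertexQ p a ≤ Cfsg.neighbourKernel a := by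
  refine le_inf (CfsgLib.LocalEvenB.pCoreOf_le _) (le_iInf₂ fun b hb => ?_)
  haveI := finite_stabilizer h a
  haveI : Finite ↥(Cfsg.edgeStabilizer a b) := Finite.of_injective _ (Subgroup.inclusion_injective inf_le_left)
  obtain ⟨S⟩ := (inferInstance : Nonempty (Sylow p ↥(Cfsg.edgeStabilizer a b)))
  exact ((vertexQ_le_sylow h hb S).trans (map_subtype_le _)).trans inf_le_right

theorem vertexZ_le_vertexQ (a : Cfsg.CosetVertex M₁ M₂) : Cfsg.vertexZ p a ≤ Cfsg.vertexQ p a := by
  haveI := finite_stabilizer h a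
  refine iSup_le fun P => (CfsgLib.PGroups.omegaOne_le _).trans ?_
  refine le_trans ?_ (hasCharP_stabilizer h a)
  exact inf_le_inf (map_subtype_le _)
    (centralizer_le (SetLike.coe_subset_coe.mpr (map_mono (CfsgLib.Core.pCore_le_sylow P))))

theorem omegaZ_le_vertexZ (a : Cfsg.CosetVertex M₁ M₂) {b : Cfsg.CosetVertex M₁ M₂}
    (hab : (Cfsg.cosetGraph M₁ M₂).Adj a b) (S : Sylow p ↥(Cfsg.edgeStabilizer a b)) :
    Cfsg.omegaOne p ((S : Subgroup ↥(Cfsg.edgeStabilizer a b)).map (Cfsg.edgeStabilizer a b).subtype ⊓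
      centralizer (((S : Subgroup ↥(Cfsg.edgeStabilizer a b)).map (Cfsg.edgeStabilizer a b).subtype : Subgroup X) : Set X))
      ≤ Cfsg.vertexZ p a := by
  obtain ⟨P, hP⟩ := exists_sylow_stabilizer h hab S
  rw [← hP]
  exact le_iSup (fun S : Sylow p ↥(MulAction.stabilizer X a) => Cfsg.omegaOne p
    (((S : Subgroup ↥(MulAction.stabilizer X a)).map (MulAction.stabilizer X a).subtype) ⊓
      centralizer (((S : Subgroup ↥(MulAction.stabilizer X a)).map (MulAction.stabilizer X a).subtype : Subgroup X) : Set X))) P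

theorem le_normalizer_vertexZ (a : Cfsg.CosetVertex M₁ M₂) :
    MulAction.stabilizer X a ≤ normalizer (Cfsg.vertexZ p a : Set X) := by
  haveI := finite_stabilizer h a
  intro g hg
  rw [mem_normalizer_conj_iff]
  have key : ∀ g ∈ MulAction.stabilizer X a,
      (Cfsg.vertexZ p a).map (MulAut.conj g).toMonoidHom ≤ Cfsg.vertexZ p a := by
    intro g hg
    simp only [Cfsg.vertexZ, Cfsg.sylowCenterClosure, Subgroup.map_iSup]
    refine iSup_le fun P => ?_
    rw [omegaZ_conj]
    refine le_iSup_of_le (P.mapSurjective (f := (MulAut.conj (⟨g, hg⟩ : ↥(MulAction.stabilizer X a))).toMonoidHom)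
      (MulAut.conj _).surjective) (le_of_eq ?_)
    have e : ((P.mapSurjective (f := (MulAut.conj (⟨g, hg⟩ : ↥(MulAction.stabilizer X a))).toMonoidHom)
        (MulAut.conj _).surjective : Sylow p _) : Subgroup ↥(MulAction.stabilizer X a)).map
          (MulAction.stabilizer X a).subtype =
        ((P : Subgroup ↥(MulAction.stabilizer X a)).map (MulAction.stabilizer X a).subtype).map
          (MulAut.conj g).toMonoidHom := by
      show ((P : Subgroup ↥(MulAction.stabilizer X a)).map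
        (MulAut.conj (⟨g, hg⟩ : ↥(MulAction.stabilizer X a))).toMonoidHom).map _ = _
      rw [map_map, map_map]
      rfl
    rw [e]
  refine le_antisymm (key g hg) ?_
  have h1 := map_mono (f := (MulAut.conj g).toMonoidHom) (key g⁻¹ (inv_mem hg))
  rwa [conj_conj, mul_inv_cancel, conj_one] at h1

theorem critical_pos {a b : Cfsg.CosetVertex M₁ M₂} (hc : Cfsg.IsCriticalPair p a b) :
    ∃ n, Cfsg.criticalDistance p M₁ M₂ = n + 1 := by
  refine ⟨Cfsg.criticalDistance p M₁ M₂ - 1, ?_⟩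
  by_contra hn
  have h0 : (Cfsg.cosetGraph M₁ M₂).dist a b = 0 := hc.2.trans (by omega)
  rw [(cosetGraph_connected h.1.1).dist_eq_zero_iff] at h0
  exact hc.1 (h0 ▸ (vertexZ_le_vertexQ h a).trans (vertexQ_le_neighbourKernel h a))

omit [Fact p.Prime] in
theorem le_kernel_of_dist_lt {a b : Cfsg.CosetVertex M₁ M₂}
    (hd : (Cfsg.cosetGraph M₁ M₂).dist a b < Cfsg.criticalDistance p M₁ M₂) :
    Cfsg.vertexZ p a ≤ Cfsg.neighbourKernel b := by
  have _ := h
  by_contra hn
  exact absurd (Nat.sInf_le (s := {n : ℕ | ∃ δ μ : Cfsg.CosetVertex M₁ M₂,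
    (Cfsg.cosetGraph M₁ M₂).dist δ μ = n ∧ ¬ Cfsg.vertexZ p δ ≤ Cfsg.neighbourKernel μ}) ⟨a, b, rfl, hn⟩)
    (not_le_of_gt hd)

theorem critical_vertexZ_le {a b : Cfsg.CosetVertex M₁ M₂} (hc : Cfsg.IsCriticalPair p a b) :
    Cfsg.vertexZ p b ≤ MulAction.stabilizer X a ∧ Cfsg.vertexZ p a ≤ MulAction.stabilizer X b := by
  obtain ⟨n, hn⟩ := critical_pos h hc
  have hconn := cosetGraph_connected h.1.1
  have key : ∀ u v : Cfsg.CosetVertex M₁ M₂, (Cfsg.cosetGraph M₁ M₂).dist u v = n + 1 →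
      Cfsg.vertexZ p v ≤ MulAction.stabilizer X u := by
    intro u v huv
    obtain ⟨c, hadj, hd⟩ := exists_adj_dist hconn huv
    refine (le_kernel_of_dist_lt h (b := c) ?_).trans (inf_le_right.trans (iInf₂_le u hadj.symm))
    rw [SimpleGraph.dist_comm, hd, hn]
    exact Nat.lt_succ_self n
  exact ⟨key a b (hc.2.trans hn), key b a (by rw [SimpleGraph.dist_comm]; exact hc.2.trans hn)⟩

end CharP

end CfsgLib.LocalEven

namespace CfsgLib.LocalEven

open Subgroup

variable {X : Type*} [Group X] {p : ℕ} [Fact p.Prime] {M₁ M₂ : Subgroup X}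

theorem sylow_normalizer_le_edge (h : Cfsg.IsSpeAmalgamPair p M₁ M₂) {a b : Cfsg.CosetVertex M₁ M₂}
    (hab : (Cfsg.cosetGraph M₁ M₂).Adj a b) (S : Sylow p ↥(Cfsg.edgeStabilizer a b)) :
    MulAction.stabilizer X a ⊓ normalizer
      (((S : Subgroup ↥(Cfsg.edgeStabilizer a b)).map (Cfsg.edgeStabilizer a b).subtype : Subgroup X) : Set X) ≤
      Cfsg.edgeStabilizer a b := by
  haveI := h.1.2.1
  haveI : Finite ↥(M₁ ⊓ M₂) := Finite.of_injective _ (Subgroup.inclusion_injective inf_le_left)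
  set T := (S : Subgroup ↥(Cfsg.edgeStabilizer a b)).map (Cfsg.edgeStabilizer a b).subtype with hT
  obtain ⟨x, he, hs⟩ := adj_cases hab
  set T₀ := T.map (MulAut.conj x⁻¹).toMonoidHom with hT₀
  have hT₀le : T₀ ≤ M₁ ⊓ M₂ := by
    have := map_mono (f := (MulAut.conj x⁻¹).toMonoidHom) ((map_subtype_le (S : Subgroup ↥(Cfsg.edgeStabilizer a b))).trans_eq he)
    rwa [conj_conj, inv_mul_cancel, conj_one] at this
  obtain ⟨P, hP⟩ := (((S.2.map _).map _).comap_of_injective _ (M₁ ⊓ M₂).subtype_injective :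
    IsPGroup p (T₀.subgroupOf (M₁ ⊓ M₂))).exists_le_sylow
  have hPe : (P : Subgroup ↥(M₁ ⊓ M₂)).map (M₁ ⊓ M₂).subtype = T₀ := by
    haveI : Finite ↥((P : Subgroup ↥(M₁ ⊓ M₂)).map (M₁ ⊓ M₂).subtype) :=
      Finite.of_injective _ (Subgroup.inclusion_injective (map_subtype_le _))
    refine (eq_of_le_of_card_ge ?_ (le_of_eq ?_)).symm
    · rw [← map_subgroupOf_eq_of_le hT₀le]; exact map_mono hP
    · haveI := finite_stabilizer h.1 a
      haveI : Finite ↥(Cfsg.edgeStabilizer a b) :=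
        Finite.of_injective _ (Subgroup.inclusion_injective inf_le_left)
      rw [card_map_of_injective (M₁ ⊓ M₂).subtype_injective, hT₀,
        card_map_of_injective (MulAut.conj x⁻¹).injective, hT,
        card_map_of_injective (Cfsg.edgeStabilizer a b).subtype_injective,
        Sylow.card_eq_multiplicity, Sylow.card_eq_multiplicity, he, card_map_of_injective (MulAut.conj x).injective]
  obtain ⟨heq, hle⟩ := h.2.1 P
  rw [hPe] at heq hle
  intro g hg
  have hgn : x⁻¹ * g * x ∈ normalizer (T₀ : Set X) := by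
    rw [hT₀, normalizer_conj]
    simpa [mul_assoc] using conj_mem_conj (g := x⁻¹) hg.2
  rw [he, mem_conj]
  rcases hs with ⟨hs, -⟩ | ⟨hs, -⟩
  · exact hle ⟨mem_conj.mp (hs ▸ hg.1), hgn⟩
  · exact hle (heq ▸ ⟨mem_conj.mp (hs ▸ hg.1), hgn⟩)

/-- The normalizer of a subgroup of `T` normalized by `O^{p'}(G_a)` is transitive on the neighbours of `a`. -/
theorem transitive_of_pElementClosure (h : Cfsg.IsSpeAmalgamPair p M₁ M₂) {a b : Cfsg.CosetVertex M₁ M₂}
    (hab : (Cfsg.cosetGraph M₁ M₂).Adj a b) (U : Subgroup X)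
    (hU : Cfsg.pElementClosure p (MulAction.stabilizer X a) ≤ normalizer (U : Set X))
    (v w : Cfsg.CosetVertex M₁ M₂) (hv : (Cfsg.cosetGraph M₁ M₂).Adj a v)
    (hw : (Cfsg.cosetGraph M₁ M₂).Adj a w) :
    ∃ g ∈ normalizer (U : Set X) ⊓ MulAction.stabilizer X a, g • v = w := by
  haveI := finite_stabilizer h.1 a
  set L := Cfsg.pElementClosure p (MulAction.stabilizer X a) with hL
  have hLa : L ≤ MulAction.stabilizer X a := pElementClosure_le _
  haveI : Finite ↥L := Finite.of_injective _ (Subgroup.inclusion_injective hLa)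
  haveI : Finite ↥(Cfsg.edgeStabilizer a v) :=
    Finite.of_injective _ (Subgroup.inclusion_injective inf_le_left)
  obtain ⟨S⟩ := (inferInstance : Nonempty (Sylow p ↥(Cfsg.edgeStabilizer a v)))
  set T := (S : Subgroup ↥(Cfsg.edgeStabilizer a v)).map (Cfsg.edgeStabilizer a v).subtype with hT
  have hTp : IsPGroup p T := S.2.map _
  have hTa : T ≤ MulAction.stabilizer X a := (map_subtype_le _).trans inf_le_left
  obtain ⟨g, hg, e⟩ := exists_stabilizer_smul hv hw
  have hTg : T.map (MulAut.conj g).toMonoidHom ≤ L := mem_pElementClosure (hTp.map _)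
    ((map_mono hTa).trans (mem_normalizer_conj_iff.mp (le_normalizer hg)).le)
  obtain ⟨l, hl, hl'⟩ := exists_conj_eq (p := p) (mem_pElementClosure hTp hTa) hTg hTp (hTp.map _)
    (fun P hP hPp => (card_le_sylow_edge h.1 hv S (hP.trans hLa) hPp).trans_eq
      (by rw [hT, card_map_of_injective (Cfsg.edgeStabilizer a v).subtype_injective]))
    (le_of_eq (card_map_of_injective (MulAut.conj g).injective).symm)
  refine ⟨l, ⟨hU hl, hLa hl⟩, ?_⟩
  have hn : l⁻¹ * g ∈ MulAction.stabilizer X a ⊓ normalizer (T : Set X) := by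
    refine mem_inf.mpr ⟨mul_mem (inv_mem (hLa hl)) hg, mem_normalizer_conj_iff.mpr ?_⟩
    rw [← conj_conj, ← hl', conj_conj, inv_mul_cancel, conj_one]
  have hfix : (l⁻¹ * g) • v = v := (sylow_normalizer_le_edge h hv S hn).2
  rw [← e]
  rw [mul_smul, inv_smul_eq_iff] at hfix
  exact hfix.symm

end CfsgLib.LocalEven
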