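import Cfsg.Prelude.Def_LocalStructure
import Mathlib.Algebra.BigOperators.Group.Finset.Basic

/-! Averaging over the cosets of a Sylow subgroup acting on an elementary abelian group. -/

namespace CfsgLib.LocalEven

open Subgroup

variable {G : Type*} [Group G] [Finite G] {p : ℕ} [Fact p.Prime]

/-- If a Sylow subgroup of `R` fixes `a ∈ V` and `R` fixes `a` modulo `D`, then `a ∈ C_V(R) D`. -/
theorem mem_sup_of_averaging (V R : Subgroup G) (hel : Cfsg.IsElementaryAbelian p V)
    (hRV : R ≤ normalizer (V : Set G)) (S : Sylow p R) {a : G} (ha : a ∈ V)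
    (hS : ∀ s ∈ (S : Subgroup R), (s : G) * a = a * s) (D : Subgroup G)
    (hD : ∀ r ∈ R, r * a * r⁻¹ * a⁻¹ ∈ D) :
    a ∈ (V ⊓ centralizer (R : Set G)) ⊔ D := by
  haveI := hel.1
  letI : CommGroup ↥V := { (inferInstance : Group ↥V) with mul_comm := fun x y => Std.Commutative.comm x y }
  haveI : Fintype (↥R ⧸ (S : Subgroup ↥R)) := Fintype.ofFinite _
  have hmem : ∀ (r : R) (v : G), v ∈ V → (r : G) * v * (r : G)⁻¹ ∈ V := fun r v hv =>
    (mem_normalizer_iff.mp (hRV r.2) v).mp hv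
  have hwd : ∀ r s : R, r⁻¹ * s ∈ (S : Subgroup R) →
      (r : G) * a * (r : G)⁻¹ = (s : G) * a * (s : G)⁻¹ := by
    intro r s h
    have h1 := hS _ h
    simp only [Subgroup.coe_mul, Subgroup.coe_inv] at h1
    calc (r : G) * a * (r : G)⁻¹ = r * (a * ((r : G)⁻¹ * s)) * (s : G)⁻¹ := by group
      _ = r * ((r : G)⁻¹ * s * a) * (s : G)⁻¹ := by rw [← h1]
      _ = (s : G) * a * (s : G)⁻¹ := by group
  let f : ↥R ⧸ (S : Subgroup ↥R) → ↥V := Quotient.lift
    (fun r : R => (⟨(r : G) * a * (r : G)⁻¹, hmem r a ha⟩ : ↥V))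
    fun r s h => Subtype.ext (hwd r s (QuotientGroup.leftRel_apply.mp h))
  have hf : ∀ g r : R, (f (g • (r : ↥R ⧸ (S : Subgroup ↥R))) : G) = g * (f r : G) * (g : G)⁻¹ := by
    intro g r
    show ((g * r : R) : G) * a * ((g * r : R) : G)⁻¹ = g * ((r : G) * a * (r : G)⁻¹) * (g : G)⁻¹
    rw [Subgroup.coe_mul]; group
  set c : ↥V := ∏ q, f q with hc
  have hcfix : ∀ g : R, (g : G) * c * (g : G)⁻¹ = c := by
    intro g
    let φ : ↥V →* ↥V :=
      { toFun := fun z => ⟨(g : G) * z * (g : G)⁻¹, hmem g z z.2⟩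
        map_one' := Subtype.ext (by simp)
        map_mul' := fun x y => Subtype.ext (by simp [mul_assoc]) }
    have h1 : φ c = c := by
      rw [hc, map_prod]
      refine Fintype.prod_equiv (MulAction.toPerm g) _ _ fun q => ?_
      obtain ⟨r, rfl⟩ := QuotientGroup.mk_surjective q
      exact Subtype.ext (hf g r).symm
    exact congrArg Subtype.val h1
  have hcmem : (c : G) ∈ V ⊓ centralizer (R : Set G) := by
    refine ⟨c.2, mem_centralizer_iff.mpr fun g hg => ?_⟩
    conv_rhs => rw [← hcfix ⟨g, hg⟩]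
    rw [inv_mul_cancel_right]
  set a' : ↥V := ⟨a, ha⟩
  set m := Fintype.card (↥R ⧸ (S : Subgroup ↥R))
  have hcong : c / a' ^ m ∈ D.subgroupOf V := by
    rw [hc, show m = Finset.univ.card from Finset.card_univ.symm, ← Finset.prod_const, ← Finset.prod_div_distrib]
    refine Subgroup.prod_mem _ fun q _ => ?_
    obtain ⟨r, rfl⟩ := QuotientGroup.mk_surjective q
    rw [mem_subgroupOf, div_eq_mul_inv]
    exact hD r r.2
  rw [mem_subgroupOf] at hcong
  have hpow : a ^ m ∈ (V ⊓ centralizer (R : Set G)) ⊔ D := by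
    have e : a ^ m = ((c / a' ^ m : ↥V) : G)⁻¹ * c := by
      rw [div_eq_mul_inv, Subgroup.coe_mul, Subgroup.coe_inv, SubgroupClass.coe_pow, mul_inv_rev,
        inv_inv, inv_mul_cancel_right]
    rw [e]
    exact mul_mem (mem_sup_right (inv_mem hcong)) (mem_sup_left hcmem)
  have hm : m.Coprime (orderOf a) := by
    refine Nat.Coprime.coprime_dvd_right (orderOf_dvd_of_pow_eq_one (hel.2 a ha)) ?_
    rw [Nat.coprime_comm, Nat.Prime.coprime_iff_not_dvd Fact.out]
    show ¬ p ∣ Fintype.card _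
    rw [← Nat.card_eq_fintype_card]
    exact S.not_dvd_index
  obtain ⟨n, hn⟩ := exists_pow_eq_self_of_coprime hm
  exact hn ▸ pow_mem hpow n

end CfsgLib.LocalEven
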