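import Cfsg.Prelude.Def_LocalStructure
import Cfsg.Agent.Lib.LocalEven.Overgroup
import Cfsg.Agent.S2822
import Cfsg.Agent.S2824

/-! Groups of parabolic characteristic `p` and the basic property. -/

namespace CfsgLib.LocalEven

open Subgroup

variable {G : Type*} [Group G] [Finite G] {p : ℕ} [Fact p.Prime]

theorem pCoreOf_ne_bot {L A : Subgroup G} (hA : A ≤ L) (hAp : IsPGroup p A)
    (hn : L ≤ normalizer (A : Set G)) (hA1 : A ≠ ⊥) : Cfsg.pCore p ↥L ≠ ⊥ := fun e => hA1 (le_bot_iff.mp (by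
  have h := CfsgLib.LocalEvenB.le_pCoreOf hA hAp hn
  rwa [Cfsg.pCoreOf, e, Subgroup.map_bot] at h))

/-- In parabolic characteristic `p`, parabolic subgroups with nontrivial `p`-core are in `𝓛`. -/
theorem mem_charP_of_parabolic (hpar : Cfsg.IsOfParabolicCharacteristic p G) (T : Sylow p G)
    {X : Subgroup G} (hTX : (T : Subgroup G) ≤ X) (hO : Cfsg.pCore p ↥X ≠ ⊥) :
    X ∈ Cfsg.charPSubgroups p G := by
  refine ⟨hO, ?_⟩
  set R := Cfsg.pCoreOf p X
  have hR : IsPGroup p R := CfsgLib.LocalEvenB.isPGroup_pCoreOf X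
  have hR1 : R ≠ ⊥ := fun e => hO ((map_eq_bot_iff_of_injective _ X.subtype_injective).mp e)
  have hXN : X ≤ normalizer (R : Set G) := CfsgLib.LocalEvenB.le_normalizer_pCoreOf X
  have hN : CfsgLib.LocalEvenB.HasCharP p (normalizer (R : Set G)) :=
    (CfsgLib.LocalEvenB.hasCharP_iff _).mpr (hpar R hR hR1 ⟨T, hTX.trans hXN⟩)
  have hON : Cfsg.pCoreOf p (normalizer (R : Set G)) ≤ R :=
    CfsgLib.LocalEvenB.le_pCoreOf ((pCoreOf_le_sylow T (hTX.trans hXN)).trans hTX)
      (CfsgLib.LocalEvenB.isPGroup_pCoreOf _)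
      (hXN.trans (CfsgLib.LocalEvenB.le_normalizer_pCoreOf _))
  exact (le_inf (centralizer_le_normalizer _) (centralizer_le (SetLike.coe_subset_coe.mpr hON))).trans
    (hN.trans hON)

theorem hasCharP_of_mem {X : Subgroup G} (hX : X ∈ Cfsg.charPSubgroups p G) :
    CfsgLib.LocalEvenB.HasCharP p X := inf_le_right.trans hX.2

theorem largestOf_ne_bot {M : Subgroup G} (S : Sylow p G) (hS : (S : Subgroup G) ≠ ⊥)
    (hSM : (S : Subgroup G) ≤ M) (hM : CfsgLib.LocalEvenB.HasCharP p M) :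
    Cfsg.largestPReducedOf p M ≠ ⊥ := by
  haveI : Nontrivial ↥(S : Subgroup G) := (nontrivial_iff_ne_bot _).mpr hS
  have hne : (center ↥(S : Subgroup G)) ≠ ⊥ :=
    haveI := S.2.center_nontrivial
    (nontrivial_iff_ne_bot _).mp inferInstance
  obtain ⟨x, hx, hxp⟩ := exists_order_p (S.2.to_subgroup _) hne
  intro hY
  have hmem : (x : G) ∈ Cfsg.sylowCenterClosure p M := by
    refine mem_iSup_of_mem (S.subtype hSM) (subset_closure ?_)
    rw [Sylow.coe_subtype, map_subgroupOf_eq_of_le hSM]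
    refine ⟨⟨x.2, mem_centralizer_iff.mpr fun s hs =>
      congrArg Subtype.val (mem_center_iff.mp hx ⟨s, hs⟩)⟩, ?_⟩
    exact congrArg Subtype.val (orderOf_dvd_iff_pow_eq_one.mp hxp.dvd)
  rw [sylowCenterClosure_eq] at hmem
  have : (x : G) ∈ Cfsg.largestPReducedOf p M :=
    map_mono (centerClosure_le_largest ((CfsgLib.LocalEvenB.hasCharP_iff M).mp hM)) hmem
  rw [hY, mem_bot] at this
  rw [show x = 1 from Subtype.ext this, orderOf_one] at hxp
  exact (Fact.out : p.Prime).ne_one hxp.symm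

theorem sylow_ne_bot_of_mem {X : Subgroup G} (T : Sylow p G) (hTX : (T : Subgroup G) ≤ X)
    (hX : X ∈ Cfsg.charPSubgroups p G) : (T : Subgroup G) ≠ ⊥ := fun e => hX.1 (by
  refine (map_eq_bot_iff_of_injective _ X.subtype_injective).mp ?_
  exact le_bot_iff.mp (e ▸ pCoreOf_le_sylow T hTX))

/-- `N_G(Y_X) = X` for a maximal member of `𝓛`. -/
theorem normalizer_largest_eq (hpar : Cfsg.IsOfParabolicCharacteristic p G) (T : Sylow p G)
    {X : Subgroup G} (hTX : (T : Subgroup G) ≤ X) (hX : X ∈ Cfsg.maxCharPSubgroups p G) :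
    normalizer (Cfsg.largestPReducedOf p X : Set G) = X := by
  refine hX.2 _ (mem_charP_of_parabolic hpar T (hTX.trans (le_normalizer_largestOf X)) ?_)
    (le_normalizer_largestOf X)
  exact pCoreOf_ne_bot le_normalizer
    ((CfsgLib.LocalEvenB.isPGroup_pCoreOf X).to_le (largestOf_le_pCoreOf X)) le_rfl
    (largestOf_ne_bot T (sylow_ne_bot_of_mem T hTX hX.1) hTX (hasCharP_of_mem hX.1))

theorem exists_max_charP {L : Subgroup G} (hL : L ∈ Cfsg.charPSubgroups p G) :
    ∃ X ∈ Cfsg.maxCharPSubgroups p G, L ≤ X := by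
  obtain ⟨Z, hle, hZ⟩ := Finite.exists_le_maximal
    (p := fun Z : Subgroup G => Z ∈ Cfsg.charPSubgroups p G) hL
  exact ⟨Z, ⟨hZ.prop, fun Z' h h' => le_antisymm (hZ.le_of_ge h h') h'⟩, hle⟩

/-- Existence of subgroups with the basic property. -/
theorem exists_frakM (hpar : Cfsg.IsOfParabolicCharacteristic p G) (T : Sylow p G) (L : Subgroup G)
    (hTL : (T : Subgroup G) ≤ L) (hL : L ∈ Cfsg.charPSubgroups p G) :
    ∃ M Ls : Subgroup G, (T : Subgroup G) ≤ M ∧ Cfsg.IsInFrakM p M ∧ (T : Subgroup G) ≤ Ls ∧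
      Ls ≤ M ∧ Ls ∈ Cfsg.charPSubgroups p G ∧
      Cfsg.largestPReducedOf p L = Cfsg.largestPReducedOf p Ls ∧
      Cfsg.largestPReducedOf p L ≤ Cfsg.largestPReducedOf p M ∧
      L ⊔ centralizer (Cfsg.largestPReducedOf p L : Set G) =
        Ls ⊔ centralizer (Cfsg.largestPReducedOf p L : Set G) := by
  set YL := Cfsg.largestPReducedOf p L
  set CL := centralizer (YL : Set G) with hCL
  let good : Subgroup G → Prop := fun X => X ∈ Cfsg.maxCharPSubgroups p G ∧
    ∃ L' : Subgroup G, (T : Subgroup G) ≤ L' ∧ L' ≤ X ∧ L' ∈ Cfsg.charPSubgroups p G ∧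
      L ⊔ CL = L' ⊔ CL ∧ Cfsg.largestPReducedOf p L' = YL
  haveI : Nonempty {X // good X} := by
    obtain ⟨X, hX, hLX⟩ := exists_max_charP hL
    exact ⟨⟨X, hX, L, hTL, hLX, hL, rfl, rfl⟩⟩
  obtain ⟨⟨X, hX, L', hTL', hL'X, hL', hfac, hYL'⟩, hmaxY⟩ := Finite.exists_max
    (fun X : {X // good X} => Nat.card ↥(Cfsg.largestPReducedOf p (X : Subgroup G)))
  have hTX : (T : Subgroup G) ≤ X := hTL'.trans hL'X
  set Y := Cfsg.largestPReducedOf p X with hY
  set C := centralizer (Y : Set G) with hC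
  have hNY : normalizer (Y : Set G) = X := normalizer_largest_eq hpar T hTX hX
  have hCX : C ≤ X := (centralizer_le_normalizer _).trans hNY.le
  have hXC : X ≤ normalizer (C : Set G) := (le_normalizer_largestOf X).trans le_normalizer_centralizer
  set TX := (T : Subgroup G) ⊓ C with hTXdef
  have hTXp : IsPGroup p TX := T.2.to_le inf_le_left
  have hOTX : Cfsg.pCoreOf p X ≤ TX :=
    le_inf (pCoreOf_le_sylow T hTX) (pCoreOf_le_centralizer_largest X)
  have hTX1 : TX ≠ ⊥ := fun e => hX.1.1 ((map_eq_bot_iff_of_injective _ X.subtype_injective).mp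
    (le_bot_iff.mp (e ▸ hOTX)))
  have hTN : (T : Subgroup G) ≤ normalizer (TX : Set G) :=
    (le_inf le_normalizer (hTX.trans hXC)).trans inf_normalizer_le_normalizer_inf
  obtain ⟨M, ⟨hTM, hMX, hMN, hXM⟩, hMmin⟩ : ∃ M : Subgroup G,
      ((T : Subgroup G) ≤ M ∧ M ≤ X ∧ M ≤ normalizer (TX : Set G) ∧ X ≤ M ⊔ C) ∧
      ∀ K : Subgroup G, (T : Subgroup G) ≤ K → K ≤ M → X ≤ K ⊔ C → K = M := by
    obtain ⟨M, -, hM⟩ := Finite.exists_le_minimal
      (p := fun M : Subgroup G => (T : Subgroup G) ≤ M ∧ M ≤ X ∧ M ≤ normalizer (TX : Set G) ∧ X ≤ M ⊔ C)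
      (a := X ⊓ normalizer (TX : Set G)) ⟨le_inf hTX hTN, inf_le_left, inf_le_right,
        (le_normalizer_inf_sup T hTX hXC).trans (sup_le le_sup_left (inf_le_right.trans le_sup_right))⟩
    exact ⟨M, hM.prop, fun K h1 h2 h3 => le_antisymm h2
      (hM.le_of_le ⟨h1, h2.trans hM.prop.2.1, h2.trans hM.prop.2.2.1, h3⟩ h2)⟩
  have hMC : M ⊔ C = X := le_antisymm (sup_le hMX hCX) hXM
  have hM : M ∈ Cfsg.charPSubgroups p G :=
    mem_charP_of_parabolic hpar T hTM (pCoreOf_ne_bot (inf_le_left.trans hTM) hTXp hMN hTX1)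
  have hcpX := hasCharP_of_mem hX.1
  have hcpM := hasCharP_of_mem hM
  have hYM : Cfsg.largestPReducedOf p M = Y := le_antisymm (largestOf_mono T hTM hMX hcpX)
    (Cfsg.Agent.S2822.result T M X hTM hTX ((CfsgLib.LocalEvenB.hasCharP_iff M).mp hcpM)
      ((CfsgLib.LocalEvenB.hasCharP_iff X).mp hcpX) (by
        show M ⊔ C = X ⊔ C
        rw [hMC, sup_eq_left.mpr hCX]))
  -- the subgroup `Ls`
  have hYLY : YL ≤ Y := hYL' ▸ largestOf_mono T hTL' hL'X hcpX
  have hCCL : C ≤ CL := centralizer_le (SetLike.coe_subset_coe.mpr hYLY)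
  have hL'CL : L' ≤ normalizer (CL : Set G) := by
    rw [hCL, ← hYL']
    exact (le_normalizer_largestOf L').trans le_normalizer_centralizer
  set M' := M ⊓ (L' ⊔ CL) with hM'
  have hTM' : (T : Subgroup G) ≤ M' := le_inf hTM (hTL'.trans le_sup_left)
  have hfac' : M' ⊔ CL = L' ⊔ CL := by
    refine le_antisymm (sup_le inf_le_right le_sup_right) (sup_le (fun l hl => ?_) le_sup_right)
    have h1 : l ∈ M ⊔ C := hXM (hL'X hl)
    rw [← SetLike.mem_coe, coe_mul_of_left_le_normalizer_right M C (hMX.trans hXC)] at h1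
    obtain ⟨m, hm, c, hc, rfl⟩ := h1
    have : m ∈ M' := mem_inf.mpr ⟨hm, by
      simpa using mul_mem (mem_sup_left (T := CL) hl) (inv_mem (mem_sup_right (S := L') (hCCL hc)))⟩
    exact mul_mem (mem_sup_left this) (mem_sup_right (hCCL hc))
  have hcpM' := hasCharP_of_sylow_le hcpM T hTM' inf_le_left
  obtain ⟨hYLs, hfacLs⟩ := Cfsg.Agent.S2824.result T L' M' hTL' hTM'
    ((CfsgLib.LocalEvenB.hasCharP_iff L').mp (hasCharP_of_mem hL'))
    ((CfsgLib.LocalEvenB.hasCharP_iff M').mp hcpM')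
    ((T : Subgroup G) ⊓ CL) (by rw [hYL']) (by rw [hYL']; exact hfac')
    (M' ⊓ normalizer (((T : Subgroup G) ⊓ CL : Subgroup G) : Set G)) rfl
  rw [hYL'] at hYLs hfacLs
  set Ls := M' ⊓ normalizer (((T : Subgroup G) ⊓ CL : Subgroup G) : Set G)
  have hTLs : (T : Subgroup G) ≤ Ls := le_inf hTM' ((le_inf le_normalizer (hTL'.trans hL'CL)).trans
    inf_normalizer_le_normalizer_inf)
  have hLs : Ls ∈ Cfsg.charPSubgroups p G := by
    refine mem_charP_of_parabolic hpar T hTLs (pCoreOf_ne_bot (inf_le_left.trans hTLs)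
      (T.2.to_le inf_le_left) inf_le_right fun e => hL'.1 ?_)
    refine (map_eq_bot_iff_of_injective _ L'.subtype_injective).mp (le_bot_iff.mp ?_)
    exact (le_inf (pCoreOf_le_sylow T hTL') (hCL ▸ hYL' ▸ pCoreOf_le_centralizer_largest L')).trans_eq e
  have hLsM : Ls ≤ M := inf_le_left.trans inf_le_left
  have hLfac : L ⊔ CL = Ls ⊔ CL := hfac.trans hfacLs
  refine ⟨M, Ls, hTM, ⟨hM, ?_, ?_, ?_, ?_, ?_⟩, hTLs, hLsM, hLs, hYLs.symm, hYLY.trans hYM.ge, hLfac⟩
  · rw [hYM, ← hC, hMC]; exact hX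
  · intro X' hX' hMX'
    rw [hYM, ← hC, hMC]
    have hgood : good X' := ⟨hX', Ls, hTLs, hLsM.trans hMX', hLs, hLfac, hYLs⟩
    have h1 : Y ≤ Cfsg.largestPReducedOf p X' :=
      hYM.ge.trans (largestOf_mono T hTM hMX' (hasCharP_of_mem hX'.1))
    have h2 := eq_of_le_of_card_ge h1 (hmaxY ⟨X', hgood⟩)
    have h3 : X' ≤ X := (le_normalizer_largestOf X').trans (h2 ▸ hNY).le
    exact (hX'.2 X hX.1 h3).symm
  · rw [hYM, ← hC, hMC]
  · rw [hYM, ← hC]
    haveI : (C.subgroupOf M).Normal := normal_subgroupOf_of_le_normalizer (hMX.trans hXC)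
    have e : (C.subgroupOf M).map M.subtype = M ⊓ C := by
      rw [subgroupOf_map_subtype, inf_comm]
    refine (pClosed_iff_of_mulEquiv (((C.subgroupOf M).equivMapOfInjective M.subtype
      M.subtype_injective).trans (MulEquiv.subgroupCongr e))).mpr ((pClosed_normal_iff _).mpr fun P => ?_)
    have h1 : (T.subtype hTM : Subgroup ↥M) ⊓ C.subgroupOf M ≤ Cfsg.pCore p ↥M :=
      haveI : (TX.subgroupOf M).Normal := normal_subgroupOf_of_le_normalizer hMN
      CfsgLib.Core.le_pCore (N := TX.subgroupOf M) (hTXp.comap_of_injective _ M.subtype_injective)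
    obtain ⟨g, hg⟩ := sylow_conj (T.subtype hTM) P
    have h2 := map_mono (f := (MulAut.conj g).toMonoidHom) h1
    rw [Subgroup.map_inf _ _ _ (MulAut.conj g).injective, hg,
      mem_normalizer_conj_iff.mp ((normalizer_eq_top_iff.mpr (inferInstance : (C.subgroupOf M).Normal)).ge trivial),
      mem_normalizer_conj_iff.mp ((normalizer_eq_top_iff.mpr (inferInstance : (Cfsg.pCore p ↥M).Normal)).ge trivial)] at h2
    exact h2
  · rw [hYM, ← hC, show (M ⊓ C).subgroupOf M = C.subgroupOf M by rw [inf_comm, inf_subgroupOf_right]]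
    haveI : (C.subgroupOf M).Normal := normal_subgroupOf_of_le_normalizer (hMX.trans hXC)
    set C' := C.subgroupOf M with hC'
    set π := QuotientGroup.mk' (Cfsg.pCore p ↥M)
    have hπ : Function.Surjective π := QuotientGroup.mk'_surjective _
    simp only [frattini, Order.radical, le_iInf_iff, Set.mem_ofPred_eq]
    intro Kb hKb
    rw [map_le_iff_le_comap]
    set K := Kb.comap π with hK
    have hKc : IsCoatom K := by
      refine ⟨fun e => hKb.1 ?_, fun J hJ => ?_⟩
      · rw [← map_comap_eq_self_of_surjective hπ Kb, ← hK, e, map_top_of_surjective _ hπ]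
      · have hker : π.ker ≤ J := ((MonoidHom.comap_bot _).symm.trans_le (comap_mono bot_le)).trans hJ.le
        have h3 := hKb.2 (J.map π) ((comap_lt_comap_of_surjective hπ).mp (by
          rwa [comap_map_eq_self hker]))
        rw [← comap_map_eq_self hker, h3, comap_top]
    by_contra hne
    have hKC : K ⊔ C' = ⊤ := hKc.2 _ (lt_of_le_of_ne le_sup_left fun e => hne (e ▸ le_sup_right))
    have hTXK : TX.subgroupOf M ≤ K := by
      haveI : (TX.subgroupOf M).Normal := normal_subgroupOf_of_le_normalizer hMN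
      refine le_trans (CfsgLib.Core.le_pCore (hTXp.comap_of_injective _ M.subtype_injective)) ?_
      exact (QuotientGroup.ker_mk' _).symm.le.trans ((MonoidHom.comap_bot _).symm.trans_le (comap_mono bot_le))
    -- `K` contains a Sylow subgroup
    have hidx : ¬ p ∣ K.index := by
      intro hd
      have e1 := CfsgLib.Core.card_sup_mul_card_inf K C' (CfsgLib.Core.le_normalizer_of_normal _ _)
      rw [hKC, card_top, ← K.card_mul_index] at e1
      rw [mul_assoc] at e1
      have e2 := Nat.eq_of_mul_eq_mul_left Nat.card_pos e1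
      obtain ⟨Q, hQ⟩ := exists_sylow_inf (T.subtype hTM) C'
      have hle : (Q : Subgroup ↥C') ≤ K.subgroupOf C' := fun x hx => mem_subgroupOf.mpr
        (hTXK (by
          have := hQ.le (mem_map_of_mem _ hx)
          exact this))
      refine Q.not_dvd_index ((hd.trans (dvd_of_eq ?_)).trans (index_dvd_of_le hle))
      have e3 : Nat.card ↥(K ⊓ C' : Subgroup ↥M) * (K.subgroupOf C').index = Nat.card ↥C' := by
        rw [show (K.subgroupOf C').index = (K ⊓ C').relIndex C' from (inf_relIndex_right K C').symm,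
          ← relIndex_bot_left, ← relIndex_bot_left C']
        exact relIndex_mul_relIndex _ _ _ bot_le inf_le_right
      rw [← e3, mul_comm] at e2
      exact Nat.eq_of_mul_eq_mul_left Nat.card_pos e2
    obtain ⟨P, hP⟩ : ∃ P : Sylow p ↥M, (P : Subgroup ↥M) ≤ K := by
      obtain ⟨Q⟩ := (inferInstance : Nonempty (Sylow p ↥K))
      have h5 : ¬ p ∣ ((Q : Subgroup ↥K).map K.subtype).index := by
        rw [index_map_subtype]
        exact (Fact.out : p.Prime).not_dvd_mul Q.not_dvd_index hidx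
      exact ⟨(Q.2.map K.subtype).toSylow h5, map_subtype_le _⟩
    obtain ⟨g, hg⟩ := sylow_conj P (T.subtype hTM)
    set K' := K.map (MulAut.conj g).toMonoidHom with hK'
    have hTK' : (T : Subgroup G) ≤ K'.map M.subtype := by
      rw [← map_subgroupOf_eq_of_le hTM]
      exact map_mono (hg.ge.trans (map_mono hP))
    have hK'C : K' ⊔ C' = ⊤ := by
      rw [hK', ← mem_normalizer_conj_iff.mp ((normalizer_eq_top_iff.mpr
        (inferInstance : C'.Normal)).ge (mem_top g)), ← Subgroup.map_sup, hKC,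
        map_top_of_surjective _ (MulAut.conj g).surjective]
    have hXK' : X ≤ K'.map M.subtype ⊔ C := by
      refine hXM.trans (sup_le ?_ le_sup_right)
      have h4 := congrArg (Subgroup.map M.subtype) hK'C
      rw [Subgroup.map_sup, ← MonoidHom.range_eq_map, range_subtype, hC', subgroupOf_map_subtype] at h4
      exact h4.ge.trans (sup_le_sup_left inf_le_left _)
    have h6 := hMmin _ hTK' (map_subtype_le _) hXK'
    have h7 : K' = ⊤ := by
      apply map_injective M.subtype_injective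
      rw [h6, ← MonoidHom.range_eq_map, range_subtype]
    apply hKc.1
    apply map_injective (f := (MulAut.conj g).toMonoidHom) (MulAut.conj g).injective
    rw [← hK', h7, map_top_of_surjective _ (MulAut.conj g).surjective]

end CfsgLib.LocalEven
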