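import Cfsg.Prelude.Def_LocalStructure
import Cfsg.Agent.Lib.LocalEvenB.CharP
import Cfsg.Agent.Lib.LocalEven.Amalgam
import Cfsg.Agent.Lib.Transfer.Conj
import Cfsg.Agent.Lib.PGroups.Basic

/-! Characteristic `p` of normalizers from centralizers of central elements. -/

set_option autoImplicit false
set_option linter.all false

namespace CfsgLib.LocalEven

open Subgroup CfsgLib.LocalEvenB
open Cfsg (pCoreOf)

variable {G : Type*} [Group G] [Finite G] {p : ℕ} [hp : Fact p.Prime]

theorem hasCharP_iff_gFitting (L : Subgroup G) :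
    HasCharP p L ↔ Cfsg.generalizedFittingSubgroup ↥L = Cfsg.pCore p ↥L :=
  (hasCharP_iff L).trans gFitting_eq_pCore_iff.symm

theorem hasCharP_conj {L : Subgroup G} (g : G) (h : HasCharP p L) :
    HasCharP p (L.map (MulAut.conj g).toMonoidHom) := by
  rintro x hx
  obtain ⟨⟨y, hy, rfl⟩, hxC⟩ := Subgroup.mem_inf.mp hx
  rw [pCoreOf_map_conj] at hxC ⊢
  refine mem_map_of_mem _ (h (Subgroup.mem_inf.mpr ⟨hy, mem_centralizer_iff.mpr fun w hw => ?_⟩))
  have := mem_centralizer_iff.mp hxC _ (mem_map_of_mem _ hw)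
  rw [← map_mul, ← map_mul] at this
  exact (MulAut.conj g).injective this

/-- If a nontrivial element of the centre of the `p`-group `X` has centralizer of characteristic `p`, so does `X`. -/
theorem hasCharP_normalizer_of_central {X : Subgroup G} (hX : IsPGroup p X) {z : G} (hz : z ∈ X)
    (hc : X ≤ centralizer ({z} : Set G)) (hC : HasCharP p (centralizer ({z} : Set G))) :
    HasCharP p (normalizer (X : Set G)) := by
  set K := normalizer (X : Set G) with hK
  set M := centralizer ({z} : Set G) ⊓ K with hM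
  have hMc : HasCharP p M := hC.inf_normalizer hX hc
  set P := pCoreOf p K with hP
  have hXP : X ≤ P := le_pCoreOf le_normalizer hX le_rfl
  set D := K ⊓ centralizer (P : Set G) with hD
  have hKD : K ≤ normalizer (D : Set G) := by
    refine (le_inf le_normalizer ?_).trans CfsgLib.Transfer.normalizer_le_normalizer_inf
    exact (le_normalizer_pCoreOf K).trans (CfsgLib.Transfer.normalizer_le_normalizer_centralizer _)
  have hDM : D ≤ M := le_inf (inf_le_right.trans (centralizer_le (Set.singleton_subset_iff.mpr (hXP hz)))) inf_le_left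
  have hDc : HasCharP p D := hMc.of_normalized hDM ((pCoreOf_le M).trans (inf_le_right.trans hKD))
  have hDP : pCoreOf p D ≤ P := by
    refine le_pCoreOf ((pCoreOf_le D).trans inf_le_left) (isPGroup_pCoreOf D) ?_
    intro g hg
    rw [mem_normalizer_conj_iff, ← pCoreOf_map_conj, mem_normalizer_conj_iff.mp (hKD hg)]
  refine hasCharP_of_eq_one fun x hxK hxC hxo => hDc.eq_one (Subgroup.mem_inf.mpr ⟨hxK, hxC⟩) hxo ?_
  exact centralizer_le (SetLike.coe_subset_coe.mpr hDP) hxC

theorem exists_mem_center_order {X : Subgroup G} (hX : IsPGroup p X) (hne : X ≠ ⊥) :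
    ∃ z ∈ X, z ≠ 1 ∧ z ^ p = 1 ∧ X ≤ centralizer ({z} : Set G) := by
  haveI : Nontrivial X := (Subgroup.nontrivial_iff_ne_bot X).mpr hne
  haveI := hX.center_nontrivial
  obtain ⟨k, hk⟩ := (hX.to_subgroup (center X)).exists_card_eq
  have hdvd : p ∣ Nat.card (center X) := by
    rcases Nat.eq_zero_or_pos k with rfl | hk0
    · have := (Finite.one_lt_card_iff_nontrivial (α := center X)).mpr inferInstance
      simp [hk] at this
    · rw [hk]; exact dvd_pow_self p hk0.ne'
  obtain ⟨z, hz⟩ := exists_prime_orderOf_dvd_card' p hdvd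
  refine ⟨((z : X) : G), (z : X).2, fun e => ?_, ?_, fun x hx => mem_centralizer_singleton_iff.mpr ?_⟩
  · have : z = 1 := Subtype.ext (Subtype.ext e)
    rw [this, orderOf_one] at hz
    exact hp.out.one_lt.ne hz
  · rw [← hz, ← orderOf_coe, ← orderOf_coe, pow_orderOf_eq_one]
  · exact congrArg Subtype.val (mem_center_iff.mp z.2 ⟨x, hx⟩)

/-- The normalizer of a `p`-group containing a Sylow group, from the centralizers of `Ω₁(Z(S))`. -/
theorem parabolicChar_iff (S : Sylow p G) :
    Cfsg.IsOfParabolicCharacteristic p G ↔ ∀ z : G, z ≠ 1 →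
      z ∈ Cfsg.omegaOne p ((S : Subgroup G) ⊓ centralizer ((S : Subgroup G) : Set G)) →
        HasCharP p (centralizer ({z} : Set G)) := by
  constructor
  · intro h z hz1 hz
    have hzS := CfsgLib.PGroups.omegaOne_le _ hz
    obtain ⟨hzS1, hzS2⟩ := Subgroup.mem_inf.mp hzS
    have hR : zpowers z ≠ ⊥ := by rwa [Ne, zpowers_eq_bot]
    have hRp : IsPGroup p ↥(zpowers z) := S.2.to_le (zpowers_le.mpr hzS1)
    have hSN : (S : Subgroup G) ≤ normalizer ((zpowers z : Subgroup G) : Set G) := by
      intro s hs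
      rw [mem_normalizer_conj_iff, MonoidHom.map_zpowers]
      show zpowers (s * z * s⁻¹) = _
      rw [mem_centralizer_iff.mp hzS2 s hs, mul_inv_cancel_right]
    have hN : HasCharP p (normalizer ((zpowers z : Subgroup G) : Set G)) :=
      (hasCharP_iff _).mpr (h _ hRp hR ⟨S, hSN⟩)
    refine hN.of_normalized ?_ ((pCoreOf_le _).trans ?_)
    · rw [← centralizer_closure, ← zpowers_eq_closure]
      exact centralizer_le_normalizer _
    · rw [← centralizer_closure, ← zpowers_eq_closure]
      exact CfsgLib.Transfer.normalizer_le_normalizer_centralizer _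
  · intro h R hR hRne hpar
    obtain ⟨T, hT⟩ := hpar
    rw [← hasCharP_iff]
    have hRT : R ≤ (T : Subgroup G) :=
      le_sup_left.trans (T.is_maximal' (IsPGroup.to_sup_of_normal_left' hR T.2 hT) le_sup_right).le
    obtain ⟨g, hg⟩ := MulAction.exists_smul_eq G T S
    have hgS : (T : Subgroup G).map (MulAut.conj g).toMonoidHom = (S : Subgroup G) := by
      rw [← hg]; rfl
    -- a central element of the Sylow group in `R`
    set R' := R.map (MulAut.conj g).toMonoidHom with hR'
    have hR'S : R' ≤ (S : Subgroup G) := hgS ▸ map_mono hRT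
    have hSR' : (S : Subgroup G) ≤ normalizer (R' : Set G) := by
      rw [← hgS, hR', normalizer_conj]; exact map_mono hT
    have hR'ne : R' ≠ ⊥ := fun e => hRne ((map_eq_bot_iff_of_injective R (MulAut.conj g).injective).mp e)
    haveI : Nontrivial ↥(R'.subgroupOf (S : Subgroup G)) := by
      rw [Subgroup.nontrivial_iff_ne_bot, Ne, subgroupOf_eq_bot, disjoint_iff, inf_eq_left.mpr hR'S]
      exact hR'ne
    haveI hn : (R'.subgroupOf (S : Subgroup G)).Normal := normal_subgroupOf_of_le_normalizer hSR'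
    have hmeet : R' ⊓ centralizer ((S : Subgroup G) : Set G) ≠ ⊥ := by
      obtain ⟨⟨v, hv⟩, hv1⟩ := Subgroup.ne_bot_iff_exists_ne_one.mp
        (CfsgLib.PGroups.inf_center_ne_bot S.2 (N := R'.subgroupOf (S : Subgroup G)) ((Subgroup.nontrivial_iff_ne_bot _).mp inferInstance))
      obtain ⟨hv1', hv2⟩ := Subgroup.mem_inf.mp hv
      refine Subgroup.ne_bot_iff_exists_ne_one.mpr ⟨⟨(v : G), Subgroup.mem_inf.mpr ⟨mem_subgroupOf.mp hv1', mem_centralizer_iff.mpr fun s hs =>
        congrArg Subtype.val (mem_center_iff.mp hv2 ⟨s, hs⟩)⟩⟩, fun e => hv1 (Subtype.ext (Subtype.ext (congrArg Subtype.val e :)))⟩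
    obtain ⟨z, hz, hz1, hzp, -⟩ := exists_mem_center_order (S.2.to_le (inf_le_left.trans hR'S)) hmeet
    obtain ⟨hzR, hzC⟩ := Subgroup.mem_inf.mp hz
    have hC := h z hz1 (CfsgLib.PGroups.mem_omegaOne (Subgroup.mem_inf.mpr ⟨hR'S hzR, hzC⟩) hzp)
    have hmain := hasCharP_normalizer_of_central (S.2.to_le hR'S) hzR
      (fun x hx => mem_centralizer_singleton_iff.mpr (mem_centralizer_iff.mp hzC x (hR'S hx))) hC
    have := hasCharP_conj g⁻¹ hmain
    rwa [hR', normalizer_conj, conj_conj, inv_mul_cancel, conj_one] at this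

theorem localChar_of (hdiv : p ∣ Nat.card G) (S : Sylow p G)
    (h : ∀ z : G, z ∈ (S : Subgroup G) → orderOf z = p → HasCharP p (centralizer ({z} : Set G))) :
    Cfsg.IsOfLocalCharacteristic p G := by
  refine ⟨hdiv, fun T hT hTne => (hasCharP_iff _).mp ?_⟩
  obtain ⟨T', hT'⟩ := hT.exists_le_sylow
  obtain ⟨g, hg⟩ := MulAction.exists_smul_eq G T' S
  set R := T.map (MulAut.conj g).toMonoidHom with hR
  have hRS : R ≤ (S : Subgroup G) := by rw [← hg]; exact map_mono hT'
  obtain ⟨z, hz, hz1, hzp, hzc⟩ := exists_mem_center_order (S.2.to_le hRS)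
    (fun e => hTne ((map_eq_bot_iff_of_injective T (MulAut.conj g).injective).mp e))
  have hmain := hasCharP_normalizer_of_central (S.2.to_le hRS) hz hzc (h z (hRS hz) (orderOf_eq_prime hzp hz1))
  have := hasCharP_conj g⁻¹ hmain
  rwa [hR, normalizer_conj, conj_conj, inv_mul_cancel, conj_one] at this

end CfsgLib.LocalEven
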