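import Cfsg.Agent.Lib.LocalEven.PpdSL2
import Cfsg.Agent.Lib.Classical.PSLTwoSimple

/-!
# Elementary facts on `PSL₂(q)`

* `psl_pgroup_normal_eq_bot`: no normal `p`-subgroup
* `psl_card_sylow_le`: a `p`-subgroup has order at most `q`
-/

set_option autoImplicit false

namespace CfsgLib.LocalEven.Ppd

open Matrix Subgroup
open scoped MatrixGroups Pointwise

variable {F : Type*} [Field F] [Fintype F] {p : ℕ} [hp : Fact p.Prime] [CharP F p]

theorem exists_root_cover {P : Subgroup (ProjectiveSpecialLinearGroup (Fin 2) F)}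
    (hP : IsPGroup p P) :
    ∃ x, ∃ g : SL(2, F), ∀ y ∈ P, ∃ u ∈ Classical.Two.rootGroup x,
      QuotientGroup.mk' (center SL(2, F)) g * y *
        (QuotientGroup.mk' (center SL(2, F)) g)⁻¹ = QuotientGroup.mk' (center SL(2, F)) u := by
  obtain ⟨R, hR⟩ := hP.exists_le_sylow
  obtain ⟨R₀⟩ : Nonempty (Sylow p SL(2, F)) := inferInstance
  obtain ⟨x, hx⟩ := Classical.Two.exists_point_sylow_SL p R₀
  obtain ⟨c, hc⟩ := MulAction.exists_smul_eq (ProjectiveSpecialLinearGroup (Fin 2) F) R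
    (R₀.mapSurjective (QuotientGroup.mk'_surjective (center SL(2, F))))
  obtain ⟨g, rfl⟩ := QuotientGroup.mk'_surjective _ c
  refine ⟨x, g, fun y hy => ?_⟩
  have h : QuotientGroup.mk' (center SL(2, F)) g * y * (QuotientGroup.mk' (center SL(2, F)) g)⁻¹ ∈
      ((QuotientGroup.mk' (center SL(2, F)) g • R : Sylow p _) : Subgroup _) := ⟨y, hR hy, rfl⟩
  rw [hc] at h
  obtain ⟨u, hu, hu'⟩ := h
  exact ⟨u, hx ▸ hu, hu'.symm⟩

theorem psl_card_le {P : Subgroup (ProjectiveSpecialLinearGroup (Fin 2) F)} (hP : IsPGroup p P) :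
    Nat.card P ≤ Fintype.card F := by
  obtain ⟨x, g, hg⟩ := exists_root_cover hP
  choose f hf hf' using hg
  rw [← Nat.card_eq_fintype_card (α := F), ← Classical.Two.card_rootGroup x]
  refine Nat.card_le_card_of_injective (fun y : P => (⟨f y y.2, hf y y.2⟩ : Classical.Two.rootGroup x))
    fun y y' h => Subtype.ext ?_
  have h' : f y y.2 = f y' y'.2 := congrArg Subtype.val h
  exact mul_left_cancel (mul_right_cancel ((hf' y y.2).trans (h' ▸ (hf' y' y'.2).symm)))

/-- No nontrivial normal `p`-subgroup. -/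
theorem psl_pgroup_normal_eq_bot {P : Subgroup (ProjectiveSpecialLinearGroup (Fin 2) F)}
    (hn : P.Normal) (hP : IsPGroup p P) : P = ⊥ := by
  obtain ⟨x, g, hg⟩ := exists_root_cover hP
  obtain ⟨x', hx'⟩ : ∃ x', x' ≠ x := by
    haveI : Nontrivial (Projectivization F (Fin 2 → F)) := by
      rw [← Finite.one_lt_card_iff_nontrivial, Classical.Two.card_line]
      have := Fintype.one_lt_card (α := F)
      omega
    exact exists_ne x
  obtain ⟨k, hk⟩ := MulAction.exists_smul_eq SL(2, F) x x'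
  obtain ⟨q, hq⟩ : ∃ q, q = QuotientGroup.mk' (center SL(2, F)) := ⟨_, rfl⟩
  rw [← hq] at hg
  have hcover : ∀ y ∈ P, ∃ u ∈ Classical.Two.rootGroup x, y = q u := by
    intro y hy
    obtain ⟨u, hu, hu'⟩ := hg _ (hn.conj_mem y hy (q g)⁻¹)
    exact ⟨u, hu, by rw [← hu']; group⟩
  rw [eq_bot_iff]
  intro y hy
  obtain ⟨u, hu, rfl⟩ := hcover _ hy
  obtain ⟨w, hw, hwy⟩ := hcover _ (hn.conj_mem _ hy (q k)⁻¹)
  obtain ⟨v, hv⟩ : ∃ v, v = k * w * k⁻¹ := ⟨_, rfl⟩
  have hvR : v ∈ Classical.Two.rootGroup x' := by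
    rw [← hk, Classical.Two.rootGroup_smul, mem_pointwise_smul_iff_inv_smul_mem, ← map_inv,
      MulAut.smul_def, MulAut.conj_apply, hv]
    simpa [mul_assoc] using hw
  have huv : q u = q v := by
    rw [hv, map_mul, map_mul, map_inv, ← hwy]
    group
  obtain ⟨z, hz, rfl⟩ : ∃ z ∈ center SL(2, F), v = u * z :=
    ⟨u⁻¹ * v, by rwa [hq, QuotientGroup.mk'_apply, QuotientGroup.mk'_apply, QuotientGroup.eq] at huv,
      (mul_inv_cancel_left u v).symm⟩
  have hu2 : u ^ 2 = 1 := by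
    have h1 : u ^ 2 ∈ Classical.Two.rootGroup x' := by
      have h2 := pow_mem hvR 2
      rwa [(show Commute u z from mem_center_iff.mp hz u).mul_pow, sq_eq_one_of_mem_center hz,
        mul_one] at h2
    have h3 : u ^ 2 ∈ Classical.Two.rootGroup x ⊓ Classical.Two.rootGroup x' :=
      ⟨pow_mem hu 2, h1⟩
    rwa [Classical.Two.rootGroup_disjoint hx'.symm, mem_bot] at h3
  rw [mem_bot]
  obtain ⟨e, he⟩ := (Classical.Two.rootGroup_isPGroup p x) ⟨u, hu⟩
  have he' : u ^ p ^ e = 1 := congrArg Subtype.val he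
  by_cases h2 : p = 2
  · -- the center is trivial
    have hz1 : z = 1 := by
      obtain ⟨c, hc, hzc⟩ := Matrix.SpecialLinearGroup.mem_center_iff.mp hz
      subst h2
      have hc1 : c = 1 := by
        have : c ^ 2 = 1 := by simpa using hc
        rwa [← one_pow 2, ← frobenius_def, ← frobenius_def, (frobenius_inj F 2).eq_iff] at this
      refine Subtype.ext ?_
      rw [← hzc, hc1, map_one]
      rfl
    rw [hz1, mul_one] at hvR
    have h3 : u ∈ Classical.Two.rootGroup x ⊓ Classical.Two.rootGroup x' := ⟨hu, hvR⟩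
    rw [Classical.Two.rootGroup_disjoint hx'.symm, mem_bot] at h3
    rw [h3, map_one]
  · have h1 : orderOf u = 1 := Nat.eq_one_of_dvd_coprimes
      (((Nat.coprime_primes hp.out Nat.prime_two).mpr h2).pow_left e)
      (orderOf_dvd_iff_pow_eq_one.mpr he') (orderOf_dvd_iff_pow_eq_one.mpr hu2)
    rw [orderOf_eq_one_iff.mp h1, map_one]

theorem psl_not_pgroup :
    ¬ IsPGroup p (⊤ : Subgroup (ProjectiveSpecialLinearGroup (Fin 2) F)) := by
  intro h
  have h1 := psl_pgroup_normal_eq_bot inferInstance h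
  obtain ⟨x, y, hxy⟩ := exists_not_commute (F := F)
  have hx : x = 1 := mem_bot.mp (h1 ▸ mem_top x)
  exact hxy (by rw [hx, one_mul, mul_one])

end CfsgLib.LocalEven.Ppd
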