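import Cfsg.Agent.Lib.LocalEven.PpdRelative
import Cfsg.Agent.Lib.LocalEven.PSL2Image
import Cfsg.Agent.Lib.LocalEven.WeaklyClosedCenter
import Cfsg.Agent.Lib.Components.FStar

/-!
# Groups with a unique maximal subgroup over a Sylow subgroup and a `PSL₂(q)` quotient

Baumann's lemma for the abelian Thompson subgroup: the normal form of `C_S(Z(J(S)))`.

* `Setup.dichotomy`, `Setup.pow_central`, `Setup.commutator_central`, `Setup.closure_inf`
-/

set_option autoImplicit false

namespace CfsgLib.LocalEven.EPSL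

open Subgroup Matrix Cfsg CfsgLib.LocalEven.JMeasure
open CfsgLib.PLocal (comm_of_mem zCore_abelian_eq zCore zCore_le_of_max zCore_le zCore_mono_of_max
  goodPred_abelian normalizer_le_normalizer_zCore IsMaxIn)

open scoped commutatorElement

variable {G : Type*} [Group G] [Finite G] {p : ℕ} [Fact p.Prime] {F : Type*} [Field F] [Fintype F]
  [CharP F p]

/-- The configuration. -/
structure Setup (S : Sylow p G) (π : G →* ProjectiveSpecialLinearGroup (Fin 2) F) (n : ℕ) :
    Prop where
  surj : Function.Surjective π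
  card : Fintype.card F = p ^ n
  cQ : centralizer (pCore p G : Set G) ≤ pCore p G
  uniq : ∃! M : Subgroup G, IsCoatom M ∧ (S : Subgroup G) ≤ M

/-- `Z(S)`. -/
abbrev zS (S : Sylow p G) : Subgroup G :=
  (S : Subgroup G) ⊓ centralizer ((S : Subgroup G) : Set G)

/-- `Z(J(S))`. -/
abbrev zJ (S : Sylow p G) : Subgroup G := centerThompsonAOf (S : Subgroup G)

theorem prime_dvd_card {P : Type*} [Group P] {X : Subgroup P} [Finite P] (hX : IsPGroup p X) (h : X ≠ ⊥) :
    p ∣ Nat.card X := by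
  obtain ⟨k, hk⟩ := IsPGroup.iff_card.mp hX
  rw [hk]
  refine dvd_pow_self p fun h0 => h ?_
  rw [h0, pow_zero] at hk
  exact eq_bot_of_card_eq X hk

theorem relIndex_sup_of_normal {P : Type*} [Group P] [Finite P] (H V : Subgroup P) [V.Normal] :
    H.relIndex (H ⊔ V) = H.relIndex V := by
  have h1 := Techniques.card_mul_relIndex' (le_sup_left : H ≤ H ⊔ V)
  have h2 := Techniques.card_mul_relIndex' (inf_le_right : H ⊓ V ≤ V)
  have h3 := Core.card_sup_mul_card_inf H V le_normalizer_of_normal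
  rw [← h1, ← h2, inf_relIndex_right, mul_assoc, mul_comm _ (Nat.card (H ⊓ V : Subgroup P))] at h3
  exact Nat.eq_of_mul_eq_mul_left Nat.card_pos (Nat.eq_of_mul_eq_mul_left Nat.card_pos h3)

variable {S : Sylow p G} {π : G →* ProjectiveSpecialLinearGroup (Fin 2) F} {n : ℕ}

omit [CharP F p] in
theorem normal_of_central {X : Subgroup G} (h : ∀ z ∈ X, ∀ g : G, g * z = z * g) : X.Normal :=
  ⟨fun z hz g => by rw [h z hz g, mul_inv_cancel_right]; exact hz⟩

omit [CharP F p] in
theorem frattini_inf (N : Subgroup G) [N.Normal] :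
    normalizer (((S : Subgroup G) ⊓ N : Subgroup G) : Set G) ⊔ N = ⊤ ∧
      (S : Subgroup G) ≤ normalizer (((S : Subgroup G) ⊓ N : Subgroup G) : Set G) := by
  constructor
  · have hnd : ¬ p ∣ (S : Subgroup G).relIndex N := fun hd =>
      S.not_dvd_index (hd.trans (CfsgLib.HallGen.relIndex_dvd_index_right _ _))
    let T' : Sylow p N := (S.2.comap_subtype).toSylow hnd
    have hT' : (T' : Subgroup N).map N.subtype = (S : Subgroup G) ⊓ N := subgroupOf_map_subtype _ _
    exact hT' ▸ Sylow.normalizer_sup_eq_top T'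
  · exact le_trans (le_inf le_normalizer
      (le_normalizer_of_normal : (S : Subgroup G) ≤ normalizer (N : Set G)))
      Transfer.normalizer_le_normalizer_inf

theorem zJ_eq : zJ S = zCore (fun A => IsMulCommutative A) (S : Subgroup G) :=
  (zCore_abelian_eq _).symm

theorem zS_le_zJ : zS S ≤ zJ S := by
  intro z hz
  obtain ⟨hzS, hzc⟩ := mem_inf.mp hz
  exact mem_inf.mpr ⟨mem_of_central hzS fun t ht => mem_centralizer_iff.mp hzc t ht,
    centralizer_le (SetLike.coe_subset_coe.mpr (thompson_le _)) hzc⟩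

theorem normal_zJ_of_le (hJ : thompsonSubgroupAOf (S : Subgroup G) ≤ pCore p G) : (zJ S).Normal := by
  have hQS : pCore p G ≤ (S : Subgroup G) := by
    haveI := CfsgLib.Components.pCore_normal (G := G) p
    have h := (CfsgLib.Components.pCore_isPGroup p (G := G)).to_sup_of_normal_left S.2
    exact le_sup_left.trans (S.is_maximal' h le_sup_right).le
  have he := Techniques.thompsonAOf_eq_of_le hQS fun A hA => (le_thompson hA).trans hJ
  refine normalizer_eq_top_iff.mp (top_le_iff.mp ?_)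
  show ⊤ ≤ normalizer ((thompsonSubgroupAOf (S : Subgroup G) ⊓
    centralizer (thompsonSubgroupAOf (S : Subgroup G) : Set G) : Subgroup G) : Set G)
  rw [← he]
  intro g _
  have hgc : g ∈ normalizer (pCore p G : Set G) := by
    rw [normalizer_eq_top_iff.mpr (CfsgLib.Components.pCore_normal p)]; exact mem_top g
  have hg : g ∈ normalizer (thompsonSubgroupAOf (pCore p G) : Set G) :=
    normalizer_le (pCore p G) hgc
  exact Transfer.normalizer_le_normalizer_inf
    ⟨hg, Transfer.normalizer_le_normalizer_centralizer _ hg⟩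

variable (c : Setup S π n)
include c

omit [CharP F p] in
theorem Setup.exists_max : ∃ M : Subgroup G, IsCoatom M ∧ (S : Subgroup G) ≤ M ∧
    ∀ X : Subgroup G, (S : Subgroup G) ≤ X → X ≠ ⊤ → X ≤ M := by
  obtain ⟨M, ⟨hM, hSM⟩, huniq⟩ := c.uniq
  refine ⟨M, hM, hSM, fun X hSX hX => ?_⟩
  rcases eq_top_or_exists_le_coatom X with h | ⟨M', hM', hXM'⟩
  · exact absurd h hX
  · exact huniq M' ⟨hM', hSX.trans hXM'⟩ ▸ hXM'

/-- A normal subgroup either supplements `S` or meets it in `O_p(G)`. -/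
theorem Setup.normal_cases (N : Subgroup G) [N.Normal] :
    (S : Subgroup G) ⊔ N = ⊤ ∨ (S : Subgroup G) ⊓ N ≤ pCore p G := by
  obtain ⟨M, hM, hSM, hmax⟩ := c.exists_max
  refine or_iff_not_imp_left.mpr fun hne => ?_
  obtain ⟨hfr, hST⟩ := frattini_inf (S := S) N
  by_cases htop : normalizer (((S : Subgroup G) ⊓ N : Subgroup G) : Set G) = ⊤
  · exact Components.le_pCore (normalizer_eq_top_iff.mp htop) (S.2.to_le inf_le_left)
  · refine absurd ?_ hM.1
    rw [eq_top_iff, ← hfr]
    exact sup_le (hmax _ hST htop) ((le_sup_right : N ≤ (S : Subgroup G) ⊔ N).trans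
      (hmax _ le_sup_left hne))

theorem Setup.ker_ne : (S : Subgroup G) ⊔ π.ker ≠ ⊤ := by
  intro h
  refine Ppd.psl_not_pgroup (F := F) (p := p) ?_
  have h1 := congrArg (Subgroup.map π) h
  rw [Subgroup.map_sup, π.ker.map_eq_bot_iff.mpr le_rfl, sup_bot_eq,
    Subgroup.map_top_of_surjective π c.surj] at h1
  exact h1 ▸ S.2.map π

theorem Setup.inf_ker : (S : Subgroup G) ⊓ π.ker = pCore p G := by
  refine le_antisymm ((c.normal_cases π.ker).resolve_left c.ker_ne) (le_inf ?_ ?_)
  · haveI := CfsgLib.Components.pCore_normal (G := G) p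
    have h := (CfsgLib.Components.pCore_isPGroup p (G := G)).to_sup_of_normal_left S.2
    exact le_sup_left.trans (S.is_maximal' h le_sup_right).le
  · rw [← Subgroup.map_eq_bot_iff]
    exact Ppd.psl_pgroup_normal_eq_bot (p := p)
      ((CfsgLib.Components.pCore_normal p).map _ c.surj) ((CfsgLib.Components.pCore_isPGroup p).map π)

theorem Setup.core_le : pCore p G ≤ (S : Subgroup G) := c.inf_ker ▸ inf_le_left

theorem Setup.relIndex_le : (pCore p G).relIndex (S : Subgroup G) ≤ p ^ n := by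
  rw [← c.inf_ker, inf_relIndex_left, relIndex_ker, ← c.card]
  exact Ppd.psl_card_le (S.2.map π)

theorem Setup.central_of_supplement {N : Subgroup G} (hN : (S : Subgroup G) ⊔ N = ⊤) {z : G}
    (hz : z ∈ zS S) (hzN : N ≤ centralizer {z}) (g : G) : g * z = z * g := by
  have h : (⊤ : Subgroup G) ≤ centralizer {z} := hN ▸ sup_le
    (fun s hs => mem_centralizer_singleton_iff.mpr (mem_centralizer_iff.mp (mem_inf.mp hz).2 s hs))
    hzN
  exact mem_centralizer_singleton_iff.mp (h (mem_top g))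

/-- The case `J(S) ≤ O_p(G)`. -/
theorem Setup.of_le_core (hJ : thompsonSubgroupAOf (S : Subgroup G) ≤ pCore p G) :
    (∀ z ∈ zS S, ∀ g : G, g * z = z * g) ∨
      ((S : Subgroup G) ⊓ centralizer (zJ S : Set G)).Normal := by
  haveI := normal_zJ_of_le hJ
  rcases c.normal_cases (centralizer (zJ S : Set G)) with h | h
  · exact Or.inl fun z hz g => c.central_of_supplement h hz
      (fun t ht => mem_centralizer_singleton_iff.mpr
        (mem_centralizer_iff.mp ht z (zS_le_zJ hz)).symm) g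
  · right
    have he : (S : Subgroup G) ⊓ centralizer (zJ S : Set G) =
        pCore p G ⊓ centralizer (zJ S : Set G) :=
      le_antisymm (le_inf h inf_le_right) (inf_le_inf_right _ c.core_le)
    haveI := CfsgLib.Components.pCore_normal (G := G) p
    rw [he]
    infer_instance

theorem Setup.zS_le_core : zS S ≤ pCore p G := fun z hz => c.cQ
  (centralizer_le (SetLike.coe_subset_coe.mpr c.core_le) (mem_inf.mp hz).2)

theorem Setup.closure_le_core : normalClosure (zS S : Set G) ≤ pCore p G :=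
  haveI := CfsgLib.Components.pCore_normal (G := G) p
  normalClosure_le_normal c.zS_le_core

theorem Setup.core_le_centralizer :
    pCore p G ≤ centralizer (normalClosure (zS S : Set G) : Set G) := by
  haveI : (pCore p G).Normal := CfsgLib.Components.pCore_normal p
  exact le_centralizer_iff.mp (normalClosure_le_normal fun z hz =>
    centralizer_le (SetLike.coe_subset_coe.mpr c.core_le) (mem_inf.mp hz).2)

theorem Setup.closure_comm : IsMulCommutative (normalClosure (zS S : Set G)) :=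
  le_centralizer_iff_isMulCommutative.mp (c.closure_le_core.trans c.core_le_centralizer)

/-- Either `Z(S)` is central or `Z(S)`'s closure is centralized in `S` by `O_p(G)` only. -/
theorem Setup.central_or_inf_le : (∀ z ∈ zS S, ∀ g : G, g * z = z * g) ∨
    (S : Subgroup G) ⊓ centralizer (normalClosure (zS S : Set G) : Set G) ≤ pCore p G := by
  rcases c.normal_cases (centralizer (normalClosure (zS S : Set G) : Set G)) with h | h
  · exact Or.inl fun z hz g => c.central_of_supplement h hz (fun t ht =>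
      mem_centralizer_singleton_iff.mpr (mem_centralizer_iff.mp ht z (subset_normalClosure hz)).symm) g
  · exact Or.inr h

theorem Setup.mem_core_of_mem_ker {a : G} (ha : a ∈ (S : Subgroup G)) (h : π a = 1) :
    a ∈ pCore p G := c.inf_ker ▸ mem_inf.mpr ⟨ha, h⟩

/-- The bounds for a normal subgroup centralized in `S` by `O_p(G)` only. -/
theorem Setup.bounds (hS : ¬ (S : Subgroup G) ≤ pCore p G) {W : Subgroup G} [W.Normal]
    (hW : IsPGroup p W)
    (hC : (S : Subgroup G) ⊓ centralizer (W : Set G) ≤ pCore p G) :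
    (∀ a ∈ (S : Subgroup G), a ∉ pCore p G → p ^ n ≤ Ppd.fixIndex W a) ∧
      (1 < n → (p ^ n) ^ 2 ≤ (W ⊓ centralizer ((⊤ : Subgroup G) : Set G)).relIndex W) := by
  rcases le_or_gt n 1 with hn | hn
  · refine ⟨fun a ha haQ => ?_, fun h => absurd h (not_lt.mpr hn)⟩
    exact le_trans (le_trans (Nat.pow_le_pow_right (Fact.out : p.Prime).pos hn) (pow_one p).le)
      (Ppd.prime_le_fixIndex hW fun h => haQ (hC (mem_inf.mpr ⟨ha, h⟩)))
  have hker : centralizer (W : Set G) ≤ π.ker := by
    have h4 : 4 ≤ Fintype.card F := by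
      rw [c.card]
      calc 4 = 2 ^ 2 := rfl
        _ ≤ p ^ 2 := Nat.pow_le_pow_left (Fact.out : p.Prime).two_le 2
        _ ≤ p ^ n := Nat.pow_le_pow_right (Fact.out : p.Prime).pos hn
    haveI := CfsgLib.Classical.isSimpleGroup_PSL_two h4
    have hn' : ((centralizer (W : Set G)).map π).Normal :=
      Subgroup.Normal.map inferInstance π c.surj
    rcases hn'.eq_bot_or_eq_top with h | h
    · exact (Subgroup.map_eq_bot_iff _).mp h
    · exfalso
      obtain ⟨C, hC'⟩ : ∃ C, C = centralizer (W : Set G) := ⟨_, rfl⟩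
      haveI : C.Normal := hC' ▸ inferInstance
      rw [← hC'] at h hC
      have h1 : π.ker.relIndex C = Nat.card (ProjectiveSpecialLinearGroup (Fin 2) F) := by
        rw [relIndex_ker, h, card_top]
      have h2 : π.ker.relIndex C ∣ (S : Subgroup G).relIndex C := by
        rw [← inf_relIndex_right (S : Subgroup G) C, ← inf_relIndex_right π.ker C]
        exact relIndex_dvd_of_le_left C (le_inf (hC.trans (c.inf_ker ▸ inf_le_right)) inf_le_right)
      have h3 : p ∣ Nat.card ((S : Subgroup G).map π) := by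
        refine CfsgLib.LocalEven.EPSL.prime_dvd_card (S.2.map π) fun hb => hS fun a ha => ?_
        exact c.mem_core_of_mem_ker ha (mem_bot.mp (hb ▸ mem_map_of_mem π ha))
      exact S.not_dvd_index (((h3.trans (card_subgroup_dvd_card _)).trans (h1 ▸ h2)).trans
        (CfsgLib.HallGen.relIndex_dvd_index_right _ _))
  obtain ⟨hb, m, hm⟩ := Ppd.psl2_relative hn c.card hW π c.surj hker
  refine ⟨fun a ha haQ => ?_, fun _ => hm.trans ?_⟩
  · obtain ⟨e, he⟩ := S.2 ⟨a, ha⟩
    exact hb a e (congrArg Subtype.val he) fun h => haQ (c.mem_core_of_mem_ker ha h)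
  · exact relIndex_le_of_le_left (inf_le_inf_left W
      (centralizer_le (Set.singleton_subset_iff.mpr (mem_top m)))) index_ne_zero_of_finite

/-- The facts in the case `J(S) ≰ O_p(G)`. -/
structure Main (S : Sylow p G) (g : G) : Prop where
  normal : (zJ S ⊓ centralizer {x | ∃ t ∈ (S : Subgroup G) ⊓ centralizer (zJ S : Set G),
    x = g * t * g⁻¹}).Normal
  inf_central : ∀ d ∈ (zJ S ⊓ centralizer {x | ∃ t ∈ (S : Subgroup G) ⊓ centralizer (zJ S : Set G),
    x = g * t * g⁻¹}), d ∈ zS S → ∀ h : G, h * d = d * h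
  decomp : ∀ z ∈ zJ S, ∃ d ∈ (zJ S ⊓ centralizer {x | ∃ t ∈ (S : Subgroup G) ⊓
    centralizer (zJ S : Set G), x = g * t * g⁻¹}), ∃ z' ∈ zS S, z = d * z'
  pow : ∀ z ∈ zS S, ∀ h : G, h * z ^ p = z ^ p * h

/-- The main case. -/
theorem Setup.main (hJ : ¬ thompsonSubgroupAOf (S : Subgroup G) ≤ pCore p G)
    (hV : (S : Subgroup G) ⊓ centralizer (normalClosure (zS S : Set G) : Set G) ≤ pCore p G) :
    ∃ g, Main S g := by
  classical
  obtain ⟨Q, hQ⟩ : ∃ Q, Q = pCore p G := ⟨_, rfl⟩
  obtain ⟨V, hVdef⟩ : ∃ V, V = normalClosure (zS S : Set G) := ⟨_, rfl⟩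
  haveI : V.Normal := hVdef ▸ inferInstance
  haveI : Q.Normal := hQ ▸ CfsgLib.Components.pCore_normal p
  rw [← hQ] at hJ
  rw [← hVdef] at hV
  have hQS : Q ≤ (S : Subgroup G) := hQ ▸ c.core_le
  have hS : ¬ (S : Subgroup G) ≤ pCore p G := fun h => hJ (hQ ▸ (thompson_le _).trans h)
  have hVQ : V ≤ Q := hQ ▸ hVdef ▸ c.closure_le_core
  have hQV : Q ≤ centralizer (V : Set G) := hQ ▸ hVdef ▸ c.core_le_centralizer
  have hVab : IsMulCommutative V := hVdef ▸ c.closure_comm
  have hVS : V ≤ (S : Subgroup G) := hVQ.trans hQS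
  have hZV : zS S ≤ V := hVdef ▸ subset_normalClosure
  have hVp : IsPGroup p V := S.2.to_le hVS
  obtain ⟨hlow, hsq⟩ := c.bounds hS hVp hV
  have hq : Q.relIndex (S : Subgroup G) ≤ p ^ n := hQ ▸ c.relIndex_le
  -- a largest abelian subgroup outside `Q`
  have key : ∀ A, MaxAb (S : Subgroup G) A → ¬ A ≤ Q →
      V ⊓ centralizer (A : Set G) = zS S ∧ A ⊔ Q = (S : Subgroup G) ∧
        (V ⊓ centralizer (A : Set G)).relIndex V = p ^ n ∧
        MaxAb (S : Subgroup G) (A ⊓ Q ⊔ V) := by
    intro A hA hAQ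
    obtain ⟨a, ha, haQ⟩ := SetLike.not_le_iff_exists.mp hAQ
    have h1 : p ^ n ≤ (V ⊓ centralizer (A : Set G)).relIndex V :=
      (hlow a (hA.1 ha) (hQ ▸ haQ)).trans (Ppd.fixIndex_le_relIndex_centralizer ha V)
    have h2 := WClosed.offender hVab hVS hA (inf_le_left : A ⊓ Q ≤ A)
    have hfull : V ⊓ centralizer ((A ⊓ Q : Subgroup G) : Set G) = V :=
      inf_eq_left.mpr ((le_centralizer_iff.mp hQV).trans
        (centralizer_le (SetLike.coe_subset_coe.mpr inf_le_right)))
    rw [hfull] at h2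
    have h3 : (A ⊓ Q).relIndex A = Q.relIndex A := inf_relIndex_left A Q
    have h4 : Q.relIndex A ≤ Q.relIndex (S : Subgroup G) :=
      relIndex_le_of_le_right hA.1 index_ne_zero_of_finite
    have e1 : Q.relIndex A = p ^ n := le_antisymm (h4.trans hq) (h1.trans (h3 ▸ h2))
    have e2 : (V ⊓ centralizer (A : Set G)).relIndex V = p ^ n :=
      le_antisymm ((h3 ▸ h2).trans e1.le) h1
    have e3 : A ⊔ Q = (S : Subgroup G) := by
      refine eq_of_le_of_card_ge (sup_le hA.1 hQS) ?_
      rw [← Techniques.card_mul_relIndex' hQS,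
        ← Techniques.card_mul_relIndex' (le_sup_right : Q ≤ A ⊔ Q), relIndex_sup_right, e1]
      exact Nat.mul_le_mul_left _ hq
    have e4 : V ⊓ centralizer (A : Set G) = zS S := by
      refine le_antisymm (fun v hv => mem_inf.mpr ⟨hVS (mem_inf.mp hv).1, ?_⟩)
        (le_inf hZV (inf_le_right.trans (centralizer_le (SetLike.coe_subset_coe.mpr hA.1))))
      have : (S : Subgroup G) ≤ centralizer {v} := e3 ▸ sup_le
        (fun t ht => mem_centralizer_singleton_iff.mpr (mem_centralizer_iff.mp (mem_inf.mp hv).2 t ht))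
        (fun t ht => mem_centralizer_singleton_iff.mpr
          (mem_centralizer_iff.mp (hQV ht) v (mem_inf.mp hv).1).symm)
      exact mem_centralizer_iff.mpr fun s hs => mem_centralizer_singleton_iff.mp (this hs)
    refine ⟨e4, e3, e2, sup_le (inf_le_left.trans hA.1) hVS,
      Techniques.abelian_sup (Techniques.abelian_mono hA.2.1 inf_le_left) hVab
        (inf_le_right.trans hQV), fun D h5 h6 => (hA.2.2 D h5 h6).trans ?_⟩
    have hprod := Core.card_sup_mul_card_inf (A ⊓ Q) V le_normalizer_of_normal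
    have hinf : Nat.card (A ⊓ Q ⊓ V : Subgroup G) ≤
        Nat.card (V ⊓ centralizer (A : Set G) : Subgroup G) :=
      card_le_of_le (le_inf inf_le_right ((inf_le_left.trans inf_le_left).trans
        (le_centralizer_iff_isMulCommutative.mpr hA.2.1)))
    have hcA := Techniques.card_mul_relIndex' (inf_le_left : A ⊓ Q ≤ A)
    have hcV := Techniques.card_mul_relIndex' (inf_le_left : V ⊓ centralizer (A : Set G) ≤ V)
    rw [h3, e1] at hcA
    rw [e2] at hcV
    refine Nat.le_of_mul_le_mul_right ?_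
      (Nat.card_pos (α := (V ⊓ centralizer (A : Set G) : Subgroup G)))
    calc Nat.card A * Nat.card (V ⊓ centralizer (A : Set G) : Subgroup G)
        = Nat.card (A ⊓ Q : Subgroup G) * Nat.card V := by rw [← hcA, ← hcV]; ring
      _ = _ := hprod.symm
      _ ≤ _ := Nat.mul_le_mul_left _ hinf
  obtain ⟨A, hA, hAQ⟩ : ∃ A, MaxAb (S : Subgroup G) A ∧ ¬ A ≤ Q := by
    rw [thompson_le_iff] at hJ
    push Not at hJ
    exact hJ
  obtain ⟨eA, hAS, hidxA, hA'⟩ := key A hA hAQ
  have hA'Q : A ⊓ Q ⊔ V ≤ Q := sup_le inf_le_right hVQ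
  -- the intersection of the largest abelian subgroups of `Q`
  obtain ⟨X, hX⟩ : ∃ X, X = zCore (fun A => IsMulCommutative A) Q := ⟨_, rfl⟩
  have hXn : X.Normal := by
    refine normalizer_eq_top_iff.mp (top_le_iff.mp ?_)
    rw [hX, ← normalizer_eq_top_iff.mpr (inferInstance : Q.Normal)]
    exact normalizer_le_normalizer_zCore (goodPred_abelian 1) Q
  have hVX : V ≤ X := fun v hv => hX ▸ Subgroup.mem_sInf.mpr fun B hB =>
    mem_of_commutes hB (hVQ hv) fun b hb => (mem_centralizer_iff.mp (hQV (hB.1 hb)) v hv).symm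
  have hJX : zJ S ≤ X := by
    rw [hX, zJ_eq]
    exact zCore_mono_of_max hQS hA' hA'Q
  have hXA : X ≤ A ⊓ Q ⊔ V := by
    rw [hX]
    exact zCore_le_of_max ⟨hA'Q, hA'.2.1, fun D h1 h2 => hA'.2.2 D (h1.trans hQS) h2⟩
  have hXA' : ∀ x ∈ X, ∃ b ∈ A, b ∈ X ∧ ∃ v ∈ V, x = b * v := by
    intro x hx
    have h := hXA hx
    rw [← SetLike.mem_coe, coe_mul_of_left_le_normalizer_right _ V le_normalizer_of_normal] at h
    obtain ⟨b, hb, v, hv, rfl⟩ := h
    refine ⟨b, (mem_inf.mp hb).1, ?_, v, hv, rfl⟩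
    simpa using X.mul_mem hx (X.inv_mem (hVX hv))
  -- a conjugate outside the maximal subgroup
  obtain ⟨M, hM, hSM, hmax⟩ := c.exists_max
  obtain ⟨g, hgM⟩ := SetLike.not_le_iff_exists.mp (fun h : (⊤ : Subgroup G) ≤ M => hM.1 (top_le_iff.mp h)) |>
    fun ⟨g, _, hg⟩ => (⟨g, hg⟩ : ∃ g, g ∉ M)
  have hgen : (S : Subgroup G) ⊔ ((g • S : Sylow p G) : Subgroup G) = ⊤ := by
    by_contra hne
    have h1 : ((g • S : Sylow p G) : Subgroup G) ≤ M := le_sup_right.trans (hmax _ le_sup_left hne)
    obtain ⟨m, hm⟩ := MulAction.exists_smul_eq M (S.subtype hSM) ((g • S).subtype h1)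
    have h2 : (m : G) • S = g • S := by
      refine Sylow.ext (le_antisymm ?_ ?_)
      all_goals intro t ht
      · have htM : t ∈ M := by
          obtain ⟨r, hr, rfl⟩ := ht
          exact mul_mem (mul_mem m.2 (hSM hr)) (inv_mem m.2)
        have h3 : (⟨t, htM⟩ : M) ∈ ((m • S.subtype hSM : Sylow p M) : Subgroup M) :=
          Transfer.mem_sylow_smul.mpr (Transfer.mem_sylow_smul.mp ht :)
        rw [hm] at h3
        exact h3
      · have h3 : (⟨t, h1 ht⟩ : M) ∈ ((g • S).subtype h1 : Subgroup M) := ht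
        rw [← hm, Transfer.mem_sylow_smul] at h3
        exact Transfer.mem_sylow_smul.mpr h3
    refine hgM ?_
    have h4 : (m : G)⁻¹ * g ∈ normalizer ((S : Subgroup G) : Set G) := by
      refine Sylow.smul_eq_iff_mem_normalizer.mp ?_
      rw [mul_smul, ← h2, inv_smul_smul]
    have hN : normalizer ((S : Subgroup G) : Set G) ≤ M := by
      refine hmax _ le_normalizer fun htop => hS ?_
      exact Components.le_pCore (normalizer_eq_top_iff.mp htop) S.2
    simpa using M.mul_mem m.2 (hN h4)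
  refine ⟨g, ?_⟩
  have hgQ : ∀ t ∈ Q, g * t * g⁻¹ ∈ Q := fun t ht => Normal.conj_mem inferInstance t ht g
  have hgS : ∀ t, t ∈ ((g • S : Sylow p G) : Subgroup G) ↔ ∃ r ∈ (S : Subgroup G), g * r * g⁻¹ = t :=
    fun t => Iff.rfl
  -- generation by `S` and a conjugate of `A`
  have hgenA : ∀ H : Subgroup G, (S : Subgroup G) ≤ H → (∀ a ∈ A, g * a * g⁻¹ ∈ H) → H = ⊤ := by
    intro H h1 h2
    rw [eq_top_iff, ← hgen]
    refine sup_le h1 ?_
    rintro _ ⟨r, hr, rfl⟩
    rw [← hAS, coe_mul_of_left_le_normalizer_right _ Q le_normalizer_of_normal] at hr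
    obtain ⟨a, ha, q, hq', rfl⟩ := hr
    show g * (a * q) * g⁻¹ ∈ H
    rw [← conj_mul]
    exact mul_mem (h2 a ha) (h1 (hQS (hgQ q hq')))
  -- `W = Z(J(S)) V` is normal
  obtain ⟨W, hW⟩ : ∃ W, W = zJ S ⊔ V := ⟨_, rfl⟩
  have hWX : W ≤ X := hW ▸ sup_le hJX hVX
  have hXab : IsMulCommutative X := Techniques.abelian_mono hA'.2.1 hXA
  have hWn : W.Normal := by
    refine normalizer_eq_top_iff.mp (hgenA _ ?_ ?_)
    · intro s hs
      have h1 : s ∈ normalizer (zJ S : Set G) := by
        rw [zJ_eq]; exact normalizer_le_normalizer_zCore (goodPred_abelian 1) _ (le_normalizer hs)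
      rw [hW, ← Transfer.map_conj_eq_self_iff, Subgroup.map_sup,
        Transfer.map_conj_eq_self_iff.mpr h1, Transfer.map_conj_eq_self_iff.mpr
          (le_normalizer_of_normal (H := V) (mem_top s))]
    · intro a ha
      refine mem_normalizer_fintype fun w hw => ?_
      have hw : w ∈ W := hw
      have hw2 : g⁻¹ * w * g ∈ X := by
        simpa using hXn.conj_mem w (hWX hw) g⁻¹
      obtain ⟨b, hb, -, v, hv, he⟩ := hXA' _ hw2
      have hab : a * b * a⁻¹ = b := by rw [comm_of_mem hA.2.1 ha hb, mul_inv_cancel_right]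
      have h5 : g * a * g⁻¹ * w * (g * a * g⁻¹)⁻¹ =
          w * (g * (v⁻¹ * (a * v * a⁻¹)) * g⁻¹) := by
        have hw3 : w = g * (b * v) * g⁻¹ := by rw [← he]; group
        rw [hw3]
        calc g * a * g⁻¹ * (g * (b * v) * g⁻¹) * (g * a * g⁻¹)⁻¹
            = g * ((a * b * a⁻¹) * (a * v * a⁻¹)) * g⁻¹ := by group
          _ = g * (b * (a * v * a⁻¹)) * g⁻¹ := by rw [hab]
          _ = _ := by group
      rw [h5]
      exact mul_mem hw (hW ▸ mem_sup_right (Normal.conj_mem inferInstance _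
        (mul_mem (inv_mem hv) (Normal.conj_mem inferInstance v hv a)) g))
  haveI := hWn
  have hWQ : W ≤ Q := hWX.trans (hX ▸ zCore_le (goodPred_abelian 1) Q)
  have hWab : IsMulCommutative W := Techniques.abelian_mono hXab hWX
  -- `B = C_S(Z(J(S)))`
  obtain ⟨B, hB⟩ : ∃ B, B = (S : Subgroup G) ⊓ centralizer (zJ S : Set G) := ⟨_, rfl⟩
  have hJB : thompsonSubgroupAOf (S : Subgroup G) ≤ B := hB ▸ le_inf (thompson_le _)
    (le_centralizer_iff.mp inf_le_right)
  have hAB : A ≤ B := (le_thompson hA).trans hJB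
  have hSB : (S : Subgroup G) ≤ normalizer (B : Set G) := by
    rw [hB]
    refine le_trans (le_inf le_normalizer ?_) Transfer.normalizer_le_normalizer_inf
    refine le_trans ?_ (Transfer.normalizer_le_normalizer_centralizer _)
    rw [zJ_eq]
    exact le_normalizer.trans (normalizer_le_normalizer_zCore (goodPred_abelian 1) _)
  obtain ⟨D, hD⟩ : ∃ D, D = zJ S ⊓ centralizer {x | ∃ t ∈ B, x = g * t * g⁻¹} := ⟨_, rfl⟩
  have hDW : D ≤ W := hD ▸ hW ▸ inf_le_left.trans le_sup_left
  have hfixJ : ∀ w ∈ W, (∀ b ∈ B, b * w = w * b) → w ∈ zJ S := by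
    intro w hw hc
    rw [hW, ← SetLike.mem_coe, coe_mul_of_left_le_normalizer_right _ V le_normalizer_of_normal] at hw
    obtain ⟨z, hz, v, hv, rfl⟩ := hw
    refine mul_mem hz (zS_le_zJ ?_)
    rw [← eA]
    refine mem_inf.mpr ⟨hv, mem_centralizer_iff.mpr fun a ha => ?_⟩
    have hza : Commute a z := (mem_centralizer_iff.mp (mem_inf.mp hz).2 a (le_thompson hA ha))
    exact mul_left_cancel (a := z) (by
      rw [← mul_assoc, ← hza.eq, mul_assoc, hc a (hAB ha), mul_assoc])
  have hmemD : ∀ w, w ∈ D ↔ w ∈ W ∧ (∀ b ∈ B, b * w = w * b) ∧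
      ∀ b ∈ B, g * b * g⁻¹ * w = w * (g * b * g⁻¹) := by
    intro w
    constructor
    · intro h
      refine ⟨hDW h, fun b hb => ?_, fun b hb => ?_⟩
      · rw [hB] at hb
        exact (mem_centralizer_iff.mp (mem_inf.mp hb).2 w (mem_inf.mp (hD ▸ h)).1).symm
      · rw [hD] at h
        exact mem_centralizer_iff.mp (mem_inf.mp h).2 _ ⟨b, hb, rfl⟩
    · rintro ⟨h1, h2, h3⟩
      rw [hD]
      refine mem_inf.mpr ⟨hfixJ w h1 h2, mem_centralizer_iff.mpr ?_⟩
      rintro _ ⟨b, hb, rfl⟩
      exact h3 b hb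
  have hfix : ∀ d ∈ D, d ∈ zS S → ∀ h : G, h * d = d * h := by
    intro d hd hdS h
    have htop : centralizer ({d} : Set G) = ⊤ := hgenA _
      (fun s hs => mem_centralizer_singleton_iff.mpr (mem_centralizer_iff.mp (mem_inf.mp hdS).2 s hs))
      (fun a ha => mem_centralizer_singleton_iff.mpr (((hmemD d).mp hd).2.2 a (hAB ha)))
    exact mem_centralizer_singleton_iff.mp (htop ▸ mem_top h)
  -- `D` is normal
  have hDn : D.Normal := by
    refine normalizer_eq_top_iff.mp (hgenA _ ?_ fun a ha => ?_)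
    · rw [← hAS]
      refine sup_le (fun a ha => centralizer_le_normalizer _ (mem_centralizer_iff.mpr fun d hd =>
        (((hmemD d).mp hd).2.1 a (hAB ha)).symm)) fun x hx => ?_
      refine mem_normalizer_fintype fun d hd => ?_
      obtain ⟨hdW, hdB, hdg⟩ := (hmemD d).mp hd
      have hxdW : x * d * x⁻¹ ∈ W := hWn.conj_mem d hdW x
      have hxS : x ∈ (S : Subgroup G) := hQS hx
      -- commutators of `Q` with `B` centralize `W`
      have hcomm : ∀ b ∈ B, ∀ y ∈ Q, ∀ w ∈ W,
          y⁻¹ * b * y * b⁻¹ * w = w * (y⁻¹ * b * y * b⁻¹) := by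
        intro b hb y hy w hw
        have hyB : y⁻¹ * b * y * b⁻¹ ∈ B := mul_mem
          ((mem_normalizer_iff''.mp (hSB (hQS hy)) b).mp hb) (inv_mem hb)
        have hyQ : y⁻¹ * b * y * b⁻¹ ∈ Q := by
          have : y⁻¹ * b * y * b⁻¹ = y⁻¹ * (b * y * b⁻¹) := by group
          rw [this]
          exact mul_mem (inv_mem hy) (Normal.conj_mem inferInstance y hy b)
        have : zJ S ⊔ V ≤ centralizer {y⁻¹ * b * y * b⁻¹} := sup_le
          (fun z hz => mem_centralizer_singleton_iff.mpr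
            (mem_centralizer_iff.mp (mem_inf.mp (hB ▸ hyB)).2 z hz))
          (fun v hv => mem_centralizer_singleton_iff.mpr
            (mem_centralizer_iff.mp (hQV hyQ) v hv))
        exact (mem_centralizer_singleton_iff.mp (this (hW ▸ hw))).symm
      refine (hmemD _).mpr ⟨hxdW, fun b hb => ?_, fun b hb => ?_⟩
      · obtain ⟨k, hk⟩ : ∃ k, k = x⁻¹ * b * x * b⁻¹ := ⟨_, rfl⟩
        have h1 : k * d = d * k := hk ▸ hcomm b hb x hx d hdW
        calc b * (x * d * x⁻¹) = x * (k * (b * d)) * x⁻¹ := by rw [hk]; group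
          _ = x * ((k * d) * b) * x⁻¹ := by rw [hdB b hb]; group
          _ = x * (d * k * b) * x⁻¹ := by rw [h1]
          _ = x * d * x⁻¹ * b := by rw [hk]; group
      · obtain ⟨y, hy⟩ : ∃ y, y = g⁻¹ * x * g := ⟨_, rfl⟩
        have hyQ : y ∈ Q := by
          rw [hy]; simpa using Normal.conj_mem inferInstance x hx g⁻¹
        obtain ⟨k, hk⟩ : ∃ k, k = y⁻¹ * b * y * b⁻¹ := ⟨_, rfl⟩
        have hw' : g⁻¹ * d * g ∈ W := by simpa using hWn.conj_mem d hdW g⁻¹
        have h1 : k * (g⁻¹ * d * g) = g⁻¹ * d * g * k := hk ▸ hcomm b hb y hyQ _ hw'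
        have h2 : g * k * g⁻¹ * d = d * (g * k * g⁻¹) := by
          calc g * k * g⁻¹ * d = g * (k * (g⁻¹ * d * g)) * g⁻¹ := by group
            _ = g * (g⁻¹ * d * g * k) * g⁻¹ := by rw [h1]
            _ = _ := by group
        calc g * b * g⁻¹ * (x * d * x⁻¹)
            = x * (g * k * g⁻¹ * (g * b * g⁻¹ * d)) * x⁻¹ := by rw [hk, hy]; group
          _ = x * ((g * k * g⁻¹ * d) * (g * b * g⁻¹)) * x⁻¹ := by rw [hdg b hb]; group
          _ = x * (d * (g * k * g⁻¹) * (g * b * g⁻¹)) * x⁻¹ := by rw [h2]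
          _ = x * d * x⁻¹ * (g * b * g⁻¹) := by rw [hk, hy]; group
    · exact centralizer_le_normalizer _ (mem_centralizer_iff.mpr fun d hd =>
        (((hmemD d).mp hd).2.2 a (hAB ha)).symm)
  -- orders
  have hZ : (zS S).relIndex V = p ^ n := eA ▸ hidxA
  have hmapV : V.map (MulAut.conj g).toMonoidHom = V :=
    Transfer.map_conj_eq_self_iff.mpr (le_normalizer_of_normal (H := V) (mem_top g))
  have hmapW : W.map (MulAut.conj g).toMonoidHom = W :=
    Transfer.map_conj_eq_self_iff.mpr (le_normalizer_of_normal (H := W) (mem_top g))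
  obtain ⟨Z', hZ'⟩ : ∃ Z', Z' = (zS S).map (MulAut.conj g).toMonoidHom := ⟨_, rfl⟩
  have hD0 : zS S ⊓ Z' = V ⊓ centralizer ((⊤ : Subgroup G) : Set G) := by
    refine le_antisymm (fun t ht => mem_inf.mpr ⟨hZV (mem_inf.mp ht).1, mem_centralizer_iff.mpr fun h _ => ?_⟩) ?_
    · obtain ⟨z, hz, rfl⟩ := hZ' ▸ (mem_inf.mp ht).2
      have htop : centralizer ({(MulAut.conj g).toMonoidHom z} : Set G) = ⊤ := hgenA _
        (fun s hs => mem_centralizer_singleton_iff.mpr
          (mem_centralizer_iff.mp (mem_inf.mp (mem_inf.mp ht).1).2 s hs))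
        (fun a ha => mem_centralizer_singleton_iff.mpr (by
          show g * a * g⁻¹ * (g * z * g⁻¹) = g * z * g⁻¹ * (g * a * g⁻¹)
          rw [conj_mul, mem_centralizer_iff.mp (mem_inf.mp hz).2 a (hA.1 ha), ← conj_mul]))
      exact mem_centralizer_singleton_iff.mp (htop ▸ mem_top h)
    · rintro t ⟨htV, htc⟩
      have h1 : ∀ h : G, h * t = t * h := fun h => mem_centralizer_iff.mp htc h (mem_top h)
      have h2 : t ∈ zS S := mem_inf.mpr ⟨hVS htV, mem_centralizer_iff.mpr fun s _ => h1 s⟩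
      refine mem_inf.mpr ⟨h2, hZ' ▸ ⟨t, h2, ?_⟩⟩
      show g * t * g⁻¹ = t
      rw [h1 g, mul_inv_cancel_right]
  have hZ'idx : Z'.relIndex V = p ^ n := by
    rw [hZ', ← hZ]
    conv_lhs => rw [← hmapV]
    exact relIndex_map_map_of_injective _ _ (MulAut.conj g).injective
  have hD0le : (zS S ⊓ Z').relIndex V ≤ (p ^ n) ^ 2 := by
    refine relIndex_inf_le.trans ?_
    rw [hZ, hZ'idx, pow_two]
  have hne : zS S ⊓ Z' ≠ zS S := by
    intro h
    have hc : zS S ≤ centralizer ((⊤ : Subgroup G) : Set G) := by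
      rw [← h, hD0]; exact inf_le_right
    haveI : (zS S).Normal := normal_of_central fun z hz t =>
      mem_centralizer_iff.mp (hc hz) t (mem_top t)
    refine hS fun s hs => hV (mem_inf.mpr ⟨hs, mem_centralizer_iff.mpr fun v hv => ?_⟩)
    have hvZ : v ∈ zS S := (normalClosure_le_normal le_rfl : normalClosure (zS S : Set G) ≤ zS S)
      (hVdef ▸ hv)
    exact (mem_centralizer_iff.mp (mem_inf.mp hvZ).2 s hs).symm
  have hD0eq : (zS S ⊓ Z').relIndex V = (p ^ n) ^ 2 := by
    refine le_antisymm hD0le ?_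
    by_cases hn : 1 < n
    · rw [hD0]; exact hsq hn
    · have h1 := relIndex_mul_relIndex (zS S ⊓ Z') (zS S) V inf_le_left hZV
      rw [← h1, hZ, pow_two]
      refine Nat.mul_le_mul_right _ ?_
      obtain ⟨k, hk⟩ := IsPGroup.iff_card.mp (hVp.to_le hZV)
      obtain ⟨i, -, hi⟩ := (Nat.dvd_prime_pow (Fact.out : p.Prime)).mp
        (hk ▸ relIndex_dvd_card (zS S ⊓ Z') (zS S))
      rw [hi]
      refine Nat.pow_le_pow_right (Fact.out : p.Prime).pos (le_trans (not_lt.mp hn) ?_)
      by_contra hi0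
      rw [show i = 0 by omega, pow_zero] at hi
      exact hne (le_antisymm inf_le_left (relIndex_eq_one.mp hi))
  -- `W = D V`
  have hJidx : (zJ S).relIndex W ≤ p ^ n := by
    rw [hW, relIndex_sup_of_normal, ← hZ]
    exact relIndex_le_of_le_left zS_le_zJ index_ne_zero_of_finite
  obtain ⟨J', hJ'⟩ : ∃ J', J' = (zJ S).map (MulAut.conj g).toMonoidHom := ⟨_, rfl⟩
  have hJ'W : J' ≤ W := by
    rw [hJ', ← hmapW]
    exact map_mono (hW ▸ le_sup_left)
  have hDeq : zJ S ⊓ J' ≤ D := by
    rintro t ⟨htJ, htJ'⟩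
    obtain ⟨z, hz, rfl⟩ := hJ' ▸ htJ'
    rw [hD]
    refine mem_inf.mpr ⟨htJ, mem_centralizer_iff.mpr ?_⟩
    rintro _ ⟨b, hb, rfl⟩
    show g * b * g⁻¹ * (g * z * g⁻¹) = g * z * g⁻¹ * (g * b * g⁻¹)
    rw [conj_mul, ← mem_centralizer_iff.mp (mem_inf.mp (hB ▸ hb)).2 z hz, ← conj_mul]
  have hDidx : D.relIndex W ≤ (p ^ n) ^ 2 := by
    refine le_trans (relIndex_le_of_le_left hDeq index_ne_zero_of_finite) (relIndex_inf_le.trans ?_)
    rw [pow_two]
    refine Nat.mul_le_mul hJidx (le_trans (le_of_eq ?_) hJidx)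
    rw [hJ']
    conv_lhs => rw [← hmapW]
    exact relIndex_map_map_of_injective _ _ (MulAut.conj g).injective
  have hDV : D ⊓ V ≤ zS S ⊓ Z' := by
    rw [hD0]
    intro t ht
    obtain ⟨htD, htV⟩ := mem_inf.mp ht
    have htJ : t ∈ zJ S := (mem_inf.mp (hD ▸ htD)).1
    have htZ : t ∈ zS S := eA ▸ mem_inf.mpr ⟨htV, mem_centralizer_iff.mpr fun a ha =>
      mem_centralizer_iff.mp (mem_inf.mp htJ).2 a (le_thompson hA ha)⟩
    exact mem_inf.mpr ⟨htV, mem_centralizer_iff.mpr fun h _ => hfix t htD htZ h⟩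
  have hWDV : W = D ⊔ V := by
    refine (eq_of_le_of_card_ge (sup_le hDW (hW ▸ le_sup_right)) ?_).symm
    have h1 := Techniques.card_mul_relIndex' (le_sup_left : D ≤ D ⊔ V)
    have h2 := Techniques.card_mul_relIndex' hDW
    rw [← h1, ← h2]
    refine Nat.mul_le_mul_left _ (hDidx.trans ?_)
    rw [relIndex_sup_of_normal, ← inf_relIndex_right, ← hD0eq]
    exact relIndex_le_of_le_left hDV index_ne_zero_of_finite
  refine ⟨hB ▸ hD ▸ hDn, fun d hd => hfix d (hD ▸ hB ▸ hd), fun z hz => ?_, fun z hz h => ?_⟩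
  · have hzW : z ∈ D ⊔ V := hWDV ▸ (hW ▸ mem_sup_left hz)
    rw [← SetLike.mem_coe, coe_mul_of_left_le_normalizer_right _ V le_normalizer_of_normal] at hzW
    obtain ⟨d, hd, v, hv, rfl⟩ := hzW
    refine ⟨d, hB ▸ hD ▸ hd, v, ?_, rfl⟩
    have hvJ : v ∈ zJ S := by
      have h3 := (zJ S).mul_mem ((zJ S).inv_mem (mem_inf.mp (hD ▸ hd)).1) hz
      rwa [inv_mul_cancel_left] at h3
    exact eA ▸ mem_inf.mpr ⟨hv, mem_centralizer_iff.mpr fun a ha =>
      mem_centralizer_iff.mp (mem_inf.mp hvJ).2 a (le_thompson hA ha)⟩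
  · suffices hall : ∀ v ∈ V, v ^ p ∈ zS S ⊓ Z' by
      have := hD0 ▸ hall z (hZV hz)
      exact mem_centralizer_iff.mp (mem_inf.mp this).2 h (mem_top h)
    letI : CommGroup V := { (inferInstance : Group V) with mul_comm := hVab.is_comm.comm }
    by_cases hn : 1 < n
    · obtain ⟨U, hU⟩ : ∃ U : Subgroup G, ∀ v, v ∈ U ↔ v ∈ V ∧ v ^ p ∈ zS S ⊓ Z' :=
        ⟨{ carrier := {v | v ∈ V ∧ v ^ p ∈ zS S ⊓ Z'}
           one_mem' := ⟨one_mem _, by rw [one_pow]; exact one_mem _⟩
           mul_mem' := fun {u v} hu hv => ⟨mul_mem hu.1 hv.1, by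
             rw [(show Commute u v from comm_of_mem hVab hu.1 hv.1).mul_pow]
             exact mul_mem hu.2 hv.2⟩
           inv_mem' := fun {u} hu => ⟨inv_mem hu.1, by rw [inv_pow]; exact inv_mem hu.2⟩ },
          fun v => Iff.rfl⟩
      have hUV : U ≤ V := fun v hv => ((hU v).mp hv).1
      haveI : U.Normal := ⟨fun v hv t => (hU _).mpr ⟨Normal.conj_mem inferInstance v (hUV hv) t, by
        rw [conj_pow]
        have h1 := ((hU v).mp hv).2
        rw [hD0] at h1
        rw [mem_centralizer_iff.mp (mem_inf.mp h1).2 t (mem_top t), mul_inv_cancel_right, hD0]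
        exact h1⟩⟩
      have hD0U : zS S ⊓ Z' ≤ U := fun v hv =>
        (hU v).mpr ⟨hZV (mem_inf.mp hv).1, pow_mem hv p⟩
      have hUne : ¬ U ≤ zS S ⊓ Z' := by
        intro hle
        haveI : ((zS S ⊓ Z').subgroupOf V).Normal := inferInstance
        have h1 : 1 < (p ^ n) ^ 2 := Nat.one_lt_pow two_ne_zero
          (Nat.one_lt_pow (by omega) (Fact.out : p.Prime).one_lt)
        rw [← hD0eq] at h1
        have hd : p ∣ Nat.card (V ⧸ (zS S ⊓ Z').subgroupOf V) := by
          obtain ⟨k, hk⟩ := IsPGroup.iff_card.mp (hVp.to_quotient ((zS S ⊓ Z').subgroupOf V))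
          rw [hk]
          refine dvd_pow_self p fun h0 => ?_
          rw [h0, pow_zero] at hk
          exact absurd (hk : (zS S ⊓ Z').relIndex V = 1) h1.ne'
        obtain ⟨u, hu⟩ := exists_prime_orderOf_dvd_card' p hd
        obtain ⟨u, rfl⟩ := QuotientGroup.mk_surjective u
        have hup : (u : G) ^ p ∈ zS S ⊓ Z' := by
          have h3 : u ^ p ∈ (zS S ⊓ Z').subgroupOf V := by
            rw [← QuotientGroup.eq_one_iff, QuotientGroup.mk_pow]
            exact orderOf_dvd_iff_pow_eq_one.mp (dvd_of_eq hu)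
          exact h3
        have h4 : u ∈ (zS S ⊓ Z').subgroupOf V := hle ((hU _).mpr ⟨u.2, hup⟩)
        rw [(QuotientGroup.eq_one_iff u).mpr h4, orderOf_one] at hu
        exact (Fact.out : p.Prime).one_lt.ne hu
      have hUC : (S : Subgroup G) ⊓ centralizer (U : Set G) ≤ pCore p G := by
        intro a ha
        by_contra haQ
        refine hUne (le_inf ?_ ?_)
        all_goals
          have hUZ : U ≤ zS S := by
            intro v hv
            have h3 : V ⊓ centralizer ({a} : Set G) = zS S := by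
              refine (eq_of_le_of_card_ge (le_inf hZV (inf_le_right.trans (centralizer_le
                (Set.singleton_subset_iff.mpr (mem_inf.mp ha).1)))) ?_).symm
              have h4 := Techniques.card_mul_relIndex' hZV
              have h5 := Techniques.card_mul_relIndex'
                (inf_le_left : V ⊓ centralizer ({a} : Set G) ≤ V)
              rw [hZ] at h4
              have h6 : p ^ n ≤ (V ⊓ centralizer ({a} : Set G)).relIndex V :=
                hlow a (mem_inf.mp ha).1 haQ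
              refine Nat.le_of_mul_le_mul_right ?_ (pow_pos (Fact.out : p.Prime).pos n)
              rw [h4]
              exact le_trans (Nat.mul_le_mul_left _ h6) h5.le
            exact h3 ▸ mem_inf.mpr ⟨hUV hv, mem_centralizer_singleton_iff.mpr
              (mem_centralizer_iff.mp (mem_inf.mp ha).2 v hv)⟩
        · exact hUZ
        · intro v hv
          refine hZ' ▸ ⟨g⁻¹ * v * g, hUZ (by simpa using Normal.conj_mem inferInstance v hv g⁻¹), ?_⟩
          show g * (g⁻¹ * v * g) * g⁻¹ = v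
          group
      have h2 := (c.bounds hS (hVp.to_le hUV) hUC).2 hn
      have hUD : U ⊓ centralizer ((⊤ : Subgroup G) : Set G) = zS S ⊓ Z' :=
        le_antisymm (hD0 ▸ inf_le_inf_right _ hUV) (le_inf hD0U (hD0 ▸ inf_le_right))
      rw [hUD] at h2
      have hUtop : U = V := by
        refine eq_of_le_of_card_ge hUV ?_
        rw [← Techniques.card_mul_relIndex' (hD0U.trans hUV), ← Techniques.card_mul_relIndex' hD0U,
          hD0eq]
        exact Nat.mul_le_mul_left _ h2
      exact fun v hv => ((hU v).mp (hUtop ▸ hv)).2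
    · have hex : ∀ K : Subgroup G, K.relIndex V = p ^ n → ∀ v ∈ V, v ^ p ∈ K := by
        intro K hK v hv
        have h3 : (⟨v, hv⟩ : V) ^ p ∈ K.subgroupOf V := by
          rcases (show n = 0 ∨ n = 1 by omega) with rfl | rfl
          · rw [pow_zero, relIndex_eq_one] at hK
            exact mem_subgroupOf.mpr (pow_mem (hK hv) p)
          · rw [pow_one] at hK
            rw [← QuotientGroup.eq_one_iff, QuotientGroup.mk_pow,
              show p = (K.subgroupOf V).index from hK.symm]
            exact pow_card_eq_one'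
        exact h3
      exact fun v hv => mem_inf.mpr ⟨hex _ hZ v hv, hex _ hZ'idx v hv⟩

/-- Either `Z(S)` is central, or `C_S(Z(J(S)))` is normal, or we are in the main case. -/
theorem Setup.dichotomy : (∀ z ∈ zS S, ∀ g : G, g * z = z * g) ∨
    ((S : Subgroup G) ⊓ centralizer (zJ S : Set G)).Normal ∨ ∃ g, Main S g := by
  by_cases hJ : thompsonSubgroupAOf (S : Subgroup G) ≤ pCore p G
  · rcases c.of_le_core hJ with h | h
    exacts [Or.inl h, Or.inr (Or.inl h)]
  · rcases c.central_or_inf_le with h | h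
    exacts [Or.inl h, Or.inr (Or.inr (c.main hJ h))]

/-- `[Z(J(S)), S] ∩ Z(S)` is central, unless `C_S(Z(J(S)))` is normal. -/
theorem Setup.commutator_central :
    (⁅zJ S, (S : Subgroup G)⁆ ⊓ zS S).Normal ∨
      ((S : Subgroup G) ⊓ centralizer (zJ S : Set G)).Normal := by
  rcases c.dichotomy with h | h | ⟨g, hg⟩
  · exact Or.inl (normal_of_central fun z hz => h z (mem_inf.mp hz).2)
  · exact Or.inr h
  · refine Or.inl (normal_of_central fun z hz => ?_)
    refine hg.inf_central z ?_ (mem_inf.mp hz).2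
    refine Subgroup.commutator_le.mpr (fun t ht s hs => ?_) (mem_inf.mp hz).1
    obtain ⟨d, hd, z', hz', rfl⟩ := hg.decomp t ht
    have hzs : z' * s * z'⁻¹ = s := by
      rw [← mem_centralizer_iff.mp (mem_inf.mp hz').2 s hs, mul_inv_cancel_right]
    rw [show ⁅d * z', s⁆ = d * (z' * s * z'⁻¹) * d⁻¹ * s⁻¹ by
      rw [commutatorElement_def]; group, hzs, mul_assoc, mul_assoc, ← mul_assoc s]
    exact mul_mem hd (hg.normal.conj_mem _ (inv_mem hd) s)

/-- `℧₁(Z(S))` is central, unless `C_S(Z(J(S)))` is normal. -/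
theorem Setup.pow_central :
    (powerClosure p 1 (zS S)).Normal ∨
      ((S : Subgroup G) ⊓ centralizer (zJ S : Set G)).Normal := by
  have key : (∀ z ∈ zS S, ∀ h : G, h * z ^ p = z ^ p * h) → (powerClosure p 1 (zS S)).Normal := by
    intro h
    refine normal_of_central fun z hz => ?_
    have hle : powerClosure p 1 (zS S) ≤ center G := by
      refine (closure_le _).mpr ?_
      rintro _ ⟨y, hy, rfl⟩
      exact mem_center_iff.mpr fun t => by rw [pow_one]; exact h y hy t
    exact fun t => mem_center_iff.mp (hle hz) t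
  rcases c.dichotomy with h | h | ⟨g, hg⟩
  · exact Or.inl (key fun z hz t => ((show Commute t z from h z hz t).pow_right p).eq)
  · exact Or.inr h
  · exact Or.inl (key hg.pow)

/-- Baumann: `C_S(Z(J(S)))` is Sylow in its normal closure. -/
theorem Setup.closure_inf (hZ : ¬ (zS S).Normal) :
    normalClosure (((S : Subgroup G) ⊓ centralizer (zJ S : Set G) : Subgroup G) : Set G) ⊓
      (S : Subgroup G) = (S : Subgroup G) ⊓ centralizer (zJ S : Set G) := by
  refine le_antisymm ?_ (le_inf (fun t ht => subset_normalClosure ht) inf_le_left)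
  rcases c.dichotomy with h | h | ⟨g, hg⟩
  · exact absurd (normal_of_central h) hZ
  · haveI := h
    exact inf_le_left.trans (normalClosure_le_normal le_rfl)
  · intro s hs
    obtain ⟨D, hD⟩ : ∃ D, D = zJ S ⊓ centralizer {x | ∃ t ∈ (S : Subgroup G) ⊓
      centralizer (zJ S : Set G), x = g * t * g⁻¹} := ⟨_, rfl⟩
    haveI : D.Normal := hD ▸ hg.normal
    have hsC : s ∈ centralizer (D : Set G) := by
      refine normalClosure_le_normal ?_ (mem_inf.mp hs).1
      exact fun t ht => centralizer_le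
        (SetLike.coe_subset_coe.mpr (hD ▸ inf_le_left : D ≤ zJ S)) (mem_inf.mp ht).2
    refine mem_inf.mpr ⟨(mem_inf.mp hs).2, mem_centralizer_iff.mpr fun z hz => ?_⟩
    obtain ⟨d, hd, z', hz', rfl⟩ := hg.decomp z hz
    exact ((show Commute d s from mem_centralizer_iff.mp hsC d (hD ▸ hd)).mul_left
      (mem_centralizer_iff.mp (mem_inf.mp hz').2 s (mem_inf.mp hs).2).symm).eq

end CfsgLib.LocalEven.EPSL
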