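import Cfsg.Agent.Lib.LocalEven.PpdSL2

/-!
# Fixed point indices in groups with a `PSL₂(q)` quotient

* `exists_faithful`: pass to `U ⋊ G/C(U)`
* `psl2_relative`: the bounds for a normal `p`-subgroup with centralizer in the kernel
-/

set_option autoImplicit false

namespace CfsgLib.LocalEven.Ppd

open Matrix Subgroup

variable {G : Type*} [Group G] {p : ℕ}

/-- The bounds for a normal subgroup `U` whose centralizer lies in the kernel. -/
theorem psl2_relative [Finite G] [Fact p.Prime] {F : Type*} [Field F] [Fintype F] [CharP F p]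
    {n : ℕ} (hn : 1 < n) (hF : Fintype.card F = p ^ n) {U : Subgroup G} [U.Normal]
    (hU : IsPGroup p U) (π : G →* ProjectiveSpecialLinearGroup (Fin 2) F)
    (hπ : Function.Surjective π) (hker : centralizer (U : Set G) ≤ π.ker) :
    (∀ (a : G) (e : ℕ), a ^ p ^ e = 1 → π a ≠ 1 → p ^ n ≤ fixIndex U a) ∧
      ∃ m, (p ^ n) ^ 2 ≤ fixIndex U m := by
  have hφ : (MulAut.conjNormal : G →* MulAut U).ker = centralizer (U : Set G) := by
    ext g
    rw [MonoidHom.mem_ker, mem_centralizer_iff]
    constructor
    · intro h v hv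
      have h' := congrArg Subtype.val (DFunLike.congr_fun h ⟨v, hv⟩)
      exact (mul_inv_eq_iff_eq_mul.mp h').symm
    · intro h
      refine MulEquiv.ext fun v => Subtype.ext ?_
      exact mul_inv_eq_iff_eq_mul.mpr (h v v.2).symm
  obtain ⟨C, hC⟩ : ∃ C, C = centralizer (U : Set G) := ⟨_, rfl⟩
  haveI : C.Normal := hC ▸ inferInstance
  rw [← hC] at hker hφ
  let φ : G ⧸ C →* MulAut U := QuotientGroup.lift C MulAut.conjNormal hφ.ge
  let X := SemidirectProduct U (G ⧸ C) φ
  haveI : Finite X := Finite.of_equiv _ SemidirectProduct.equivProd.symm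
  let V : Subgroup X := (SemidirectProduct.inl : U →* X).range
  let H : Subgroup X := (SemidirectProduct.inr : G ⧸ C →* X).range
  let e : G ⧸ C ≃* H := MonoidHom.ofInjective SemidirectProduct.inr_injective
  have hV : IsPGroup p V := IsPGroup.of_surjective hU _ (MonoidHom.rangeRestrict_surjective _)
  have hHV : H ≤ normalizer (V : Set X) := by
    haveI : V.Normal := by
      show (SemidirectProduct.inl : U →* X).range.Normal
      rw [SemidirectProduct.range_inl_eq_ker_rightHom]
      infer_instance
    exact le_normalizer_of_normal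
  have hcomm : ∀ (g : G) (v : U), (SemidirectProduct.inl v : X) *
      SemidirectProduct.inr (g : G ⧸ C) = SemidirectProduct.inr (g : G ⧸ C) * SemidirectProduct.inl v
        ↔ g * (v : G) = v * g := by
    intro g v
    rw [← mul_inv_eq_iff_eq_mul (a := g * (v : G)), eq_comm, ← mul_inv_eq_iff_eq_mul,
      ← map_inv, ← SemidirectProduct.inl_aut]
    exact ⟨fun h => congrArg Subtype.val (SemidirectProduct.inl_injective h),
      fun h => congrArg _ (Subtype.ext h)⟩
  have hf : H ⊓ centralizer (V : Set X) = ⊥ := by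
    rw [eq_bot_iff]
    rintro _ ⟨⟨c, rfl⟩, hc⟩
    induction c using QuotientGroup.induction_on with
    | _ g =>
      have hg : g ∈ C := by
        rw [hC, mem_centralizer_iff]
        intro v hv
        exact ((hcomm g ⟨v, hv⟩).mp (mem_centralizer_iff.mp hc _ ⟨⟨v, hv⟩, rfl⟩)).symm
      rw [mem_bot, (QuotientGroup.eq_one_iff g).mpr hg, map_one]
  let π' : H →* ProjectiveSpecialLinearGroup (Fin 2) F :=
    (QuotientGroup.lift C π hker).comp e.symm.toMonoidHom
  have hπ' : Function.Surjective π' := fun y => by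
    obtain ⟨g, rfl⟩ := hπ y
    exact ⟨e (g : G ⧸ C), by simp [π']⟩
  have hfix : ∀ g : G, fixIndex V (SemidirectProduct.inr (g : G ⧸ C) : X) = fixIndex U g := by
    intro g
    have h1 : V ⊓ centralizer ({(SemidirectProduct.inr (g : G ⧸ C) : X)} : Set X) =
        ((U ⊓ centralizer ({g} : Set G)).subgroupOf U).map SemidirectProduct.inl := by
      ext t
      constructor
      · rintro ⟨⟨v, rfl⟩, hc⟩
        exact ⟨v, mem_subgroupOf.mpr (mem_inf.mpr ⟨v.2, mem_centralizer_singleton_iff.mpr
          ((hcomm g v).mp (mem_centralizer_singleton_iff.mp hc)).symm⟩), rfl⟩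
      · rintro ⟨v, hv, rfl⟩
        exact mem_inf.mpr ⟨⟨v, rfl⟩, mem_centralizer_singleton_iff.mpr ((hcomm g v).mpr
          (mem_centralizer_singleton_iff.mp (mem_inf.mp (mem_subgroupOf.mp hv)).2).symm)⟩
    unfold fixIndex
    rw [h1, show V = (⊤ : Subgroup U).map SemidirectProduct.inl from MonoidHom.range_eq_map _,
      relIndex_map_map_of_injective _ _ SemidirectProduct.inl_injective, relIndex_top_right]
    rfl
  constructor
  · intro a k ha hπa
    rw [← hfix]
    refine le_fixIndex_PSL2 hF hV hHV hf π' hπ' (e (a : G ⧸ C)) (e := k) ?_ ?_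
    · rw [← map_pow, ← QuotientGroup.mk_pow, ha, QuotientGroup.mk_one, map_one]
    · simpa [π'] using hπa
  · obtain ⟨m, ⟨c, rfl⟩, hm⟩ := exists_sq_le_fixIndex_PSL2 hn hF hV hHV hf π' hπ'
    induction c using QuotientGroup.induction_on with
    | _ g => exact ⟨g, hfix g ▸ hm⟩

end CfsgLib.LocalEven.Ppd
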