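import Cfsg.Agent.Lib.LocalEven.FrattiniResidual
import Cfsg.Agent.Lib.Components.FStar
import Cfsg.Agent.Lib.Core.Coprime
import Cfsg.Agent.Lib.LocalEven.Subnormal

/-!
# `p`-groups acting on subnormal subgroups of `F*(H)` with `O_p(H) = 1`

* `layer_le_sup_fixed`, `sup_centralizer_and_commutator_eq`
-/

set_option autoImplicit false

namespace CfsgLib.LocalEven.CommutatorGFitting

open Subgroup
open CfsgLib.Components
open scoped commutatorElement

/-- A component is either in `N` or fixed by automorphisms acting trivially modulo `N`. -/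
theorem component_le_or_fixed {X : Type*} [Group X] [Finite X] (N : Subgroup X) [N.Normal]
    {C : Subgroup X} (hC : Cfsg.IsComponent C) (φ : X ≃* X) (h : ∀ x, x⁻¹ * φ x ∈ N) :
    C ≤ N ∨ ∀ c ∈ C, φ c = c := by
  by_cases hCN : C ≤ N
  · exact Or.inl hCN
  refine Or.inr ?_
  have hperf := IsComponent.commutator_eq_self hC
  have heq : C.map φ.toMonoidHom = C := by
    refine ((components_eq_or_commute (isComponent_map_equiv φ hC) hC).resolve_right ?_)
    intro hb
    refine hCN (hperf ▸ commutator_le.mpr fun a ha b hb' => ?_)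
    rw [← QuotientGroup.eq_one_iff]
    set π := QuotientGroup.mk' N
    have hπ : ∀ x, π (φ x) = π x := fun x => ((QuotientGroup.eq).mpr (h x)).symm
    show π ⁅a, b⁆ = 1
    rw [map_commutatorElement, ← hπ a, ← map_commutatorElement]
    have h1 : ⁅φ a, b⁆ ∈ ⁅C.map φ.toMonoidHom, C⁆ := commutator_mem_commutator ⟨a, ha, rfl⟩ hb'
    rw [hb, mem_bot] at h1
    rw [h1, map_one]
  have hcen : ∀ a ∈ C, ∀ b ∈ C, (a⁻¹ * φ a) * b = b * (a⁻¹ * φ a) := by
    intro a ha b hb
    have hmem : a⁻¹ * φ a ∈ C := C.mul_mem (C.inv_mem ha) (heq.le ⟨a, ha, rfl⟩)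
    haveI : (N.subgroupOf C).Normal := inferInstance
    have hle := IsQuasisimple.le_center_of_ne_top hC.2 (N := N.subgroupOf C) inferInstance
      fun ht => hCN (subgroupOf_eq_top.mp ht)
    have := mem_center_iff.mp (hle (show (⟨_, hmem⟩ : C) ∈ N.subgroupOf C from h a)) ⟨b, hb⟩
    exact (congrArg Subtype.val this).symm
  have hle : ⁅C, C⁆ ≤ φ.toMonoidHom.eqLocus (MonoidHom.id X) := by
    refine commutator_le.mpr fun a ha b hb => ?_
    show φ ⁅a, b⁆ = ⁅a, b⁆
    set z := a⁻¹ * φ a with hz
    set w := b⁻¹ * φ b with hw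
    have h1 : φ a = a * z := (mul_inv_cancel_left _ _).symm
    have h2 : φ b = b * w := (mul_inv_cancel_left _ _).symm
    have e1 : ⁅z, b⁆ = 1 := commutatorElement_eq_one_iff_mul_comm.mpr (hcen a ha b hb)
    have e2 : ⁅a, w⁆ = 1 := commutatorElement_eq_one_iff_mul_comm.mpr (hcen b hb a ha).symm
    have e3 : ⁅z, w⁆ = 1 := commutatorElement_eq_one_iff_mul_comm.mpr
      (hcen a ha w (C.mul_mem (C.inv_mem hb) (heq.le ⟨b, hb, rfl⟩)))
    rw [map_commutatorElement, h1, h2]
    simp [commutatorElement_mul_left_eq_conj_mul, commutatorElement_mul_right_eq_mul_conj,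
      e1, e2, e3]
  intro c hc
  exact hle (hperf.symm ▸ hc)

variable {G : Type*} [Group G] [Finite G] {p : ℕ} [Fact p.Prime]

/-- `L = [L,Y] C_L(Y)` and `[L,Y,Y] = [L,Y]`. -/
theorem sup_centralizer_and_commutator_eq (H : Subgroup G) (hO : Cfsg.pCore p H = ⊥)
    (Y : Subgroup G) (hY : IsPGroup p Y) (L : Subgroup G)
    (hLF : L ≤ (Cfsg.generalizedFittingSubgroup H).map H.subtype)
    (hLsn : (L.subgroupOf H).IsSubnormal) (hYL : Y ≤ normalizer (L : Set G)) :
    ⁅L, Y⁆ ⊔ (L ⊓ centralizer (Y : Set G)) = L ∧ ⁅L, Y⁆ = ⁅⁅L, Y⁆, Y⁆ := by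
  have hLH : L ≤ H := hLF.trans (map_subtype_le _)
  set K := ⁅L, Y⁆ with hK
  have hKL : K ≤ L := le_normalizer_iff_commutator_le_left.mp hYL
  have hKn : L ≤ normalizer (K : Set G) := normalizer_commutator_ge_left L Y
  set D := L ⊓ centralizer (Y : Set G) with hD
  -- the structure of `L`
  set L' := L.subgroupOf H with hL'
  have hgF : Cfsg.generalizedFittingSubgroup L' = ⊤ := by
    refine map_injective L'.subtype_injective ?_
    rw [gFitting_subnormal hLsn, ← MonoidHom.range_eq_map, range_subtype, inf_eq_right]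
    intro x hx
    obtain ⟨y, hy, hyx⟩ := hLF hx
    rwa [← Subtype.ext (hyx : (y : G) = (x : G))]
  let e : L' ≃* L := subgroupOfEquivOfLe hLH
  have hgFL : Cfsg.generalizedFittingSubgroup L = ⊤ := by
    rw [← gFitting_map_equiv e, hgF, ← MonoidHom.range_eq_map]
    exact MonoidHom.range_eq_top.mpr e.surjective
  have hcopF : (Nat.card (Cfsg.fittingSubgroup L)).Coprime p := by
    have h1 : Nat.card (Cfsg.fittingSubgroup L) =
        Nat.card ((Cfsg.fittingSubgroup L').map L'.subtype) := by
      rw [← fitting_map_equiv e, card_map_of_injective e.injective,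
        card_map_of_injective L'.subtype_injective]
    rw [h1]
    haveI := fitting_normal (G := H)
    haveI := fitting_isNilpotent (G := H)
    refine (coprime_card_of_normal_nilpotent hO (Cfsg.fittingSubgroup H)).coprime_dvd_left
      (card_dvd_of_le ?_)
    rw [fitting_subnormal hLsn]
    exact inf_le_left
  -- everything lies in `K ⊔ D`
  have hsup : L ≤ K ⊔ D := by
    have htop : (⊤ : Subgroup L) ≤ (K ⊔ D).subgroupOf L := by
      rw [← hgFL]
      refine sup_le (sSup_le fun C hC => ?_) fun x hx => ?_
      · haveI : (K.subgroupOf L).Normal :=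
          (normal_subgroupOf_iff_le_normalizer hKL).mpr hKn
        by_cases hCK : C ≤ K.subgroupOf L
        · exact hCK.trans fun x hx => mem_sup_left (mem_subgroupOf.mp hx)
        intro c hc
        refine mem_subgroupOf.mpr (mem_sup_right ⟨c.2, mem_centralizer_iff.mpr fun y hy => ?_⟩)
        let φ : L ≃* L :=
          { toFun := fun a => ⟨y * a * y⁻¹, (mem_normalizer_iff.mp (hYL hy) a).mp a.2⟩
            invFun := fun a => ⟨y⁻¹ * a * y, by
              simpa using
                (mem_normalizer_iff.mp ((normalizer (L : Set G)).inv_mem (hYL hy)) a).mp a.2⟩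
            left_inv := fun a => Subtype.ext (by simp [mul_assoc])
            right_inv := fun a => Subtype.ext (by simp [mul_assoc])
            map_mul' := fun a b => Subtype.ext (by simp [mul_assoc]) }
        have hφ : ∀ a : L, a⁻¹ * φ a ∈ K.subgroupOf L := by
          intro a
          rw [mem_subgroupOf]
          have := commutator_mem_commutator (H₁ := L) (H₂ := Y) (L.inv_mem a.2) hy
          rw [← hK] at this
          have e' : ((a⁻¹ * φ a : L) : G) = ⁅(a : G)⁻¹, y⁆ := by
            rw [commutatorElement_def]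
            show (a : G)⁻¹ * (y * a * y⁻¹) = _
            group
          rwa [e']
        have h1 := congrArg Subtype.val
          ((component_le_or_fixed _ hC φ hφ).resolve_left hCK c hc)
        have h2 : y * (c : G) * y⁻¹ = c := h1
        exact mul_inv_eq_iff_eq_mul.mp h2
      · set F := (Cfsg.fittingSubgroup L).map L.subtype with hF
        haveI := fitting_characteristic (G := L)
        have hFn : Y ≤ normalizer (F : Set G) := by
          exact hYL.trans
            (CfsgLib.LocalEven.normalizer_le_normalizer_characteristic L (Cfsg.fittingSubgroup L))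
        obtain ⟨k, hk⟩ := hY.exists_card_eq
        haveI : Group.IsNilpotent Y := hY.isNilpotent
        have hF' := CfsgLib.Core.commutator_sup_centralizer (A := Y) (K := F) hFn
          (by rw [hk, hF, card_map_of_injective L.subtype_injective]
              exact (hcopF.pow_right k).symm) (Or.inl inferInstance)
        have hxF : (x : G) ∈ F := ⟨x, hx, rfl⟩
        rw [← hF'] at hxF
        exact mem_subgroupOf.mpr (SetLike.le_def.mp
          (sup_le_sup (commutator_mono (map_subtype_le _) le_rfl)
            (inf_le_inf_right _ (map_subtype_le _))) hxF)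
    intro x hx
    exact htop (mem_top (⟨x, hx⟩ : L))
  have hsupeq : K ⊔ D = L := le_antisymm (sup_le hKL inf_le_left) hsup
  refine ⟨hsupeq, le_antisymm ?_ (commutator_mono hKL le_rfl)⟩
  rw [hK, commutator_le]
  intro l hl y hy
  obtain ⟨k, hk, c, hc, rfl⟩ :=
    (CfsgLib.Core.mem_sup_iff_mul' (H := D) (N := K) (inf_le_left.trans hKn)).mp
      (sup_comm K D ▸ hsupeq.symm ▸ hl)
  rw [commutatorElement_mul_left_eq_conj_mul,
    (commutatorElement_eq_one_iff_mul_comm (g₁ := c) (g₂ := y)).mpr
      (mem_centralizer_iff.mp hc.2 y hy).symm]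
  simpa using commutator_mem_commutator hk hy

end CfsgLib.LocalEven.CommutatorGFitting
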