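import Cfsg.Prelude.Def_PLocal
import Cfsg.Agent.Lib.Core.Coprime
import Cfsg.Agent.Lib.ClassSizes.Basic

/-! A coprime operator group commuting with `A` and pushed into `[P, A]` acts trivially. -/

namespace CfsgLib.LocalEven

open Subgroup

variable {G : Type*} [Group G] [Finite G] {p : ℕ} [hp : Fact p.Prime]

private theorem coprime_comm_aux {P A B : Subgroup G} [P.Normal] [(P ⊔ A).Normal]
    (hP : IsPGroup p P) (hA : IsPGroup p A) (hB : ¬ p ∣ Nat.card B)
    (hAB : ⁅A, B⁆ = ⊥) (hcomm : ⁅P, B⁆ ≤ ⁅P, A⁆) : ⁅P, B⁆ = ⊥ := by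
  set T : Subgroup G := P ⊔ A with hT
  let Q : ℕ → Subgroup G := fun i => Cfsg.iterCommutator P T i
  have hQn : ∀ i, (Q i).Normal := fun i => by
    induction i with
    | zero => exact ‹P.Normal›
    | succ i ih => haveI := ih; exact Subgroup.commutator_normal (Q i) T
  have hQB : ∀ i, ⁅Q i, B⁆ ≤ Q (i + 1) := by
    intro i
    induction i with
    | zero => exact hcomm.trans (commutator_mono le_rfl le_sup_right)
    | succ i ih =>
      haveI := hQn (i + 2)
      show ⁅⁅Q i, T⁆, B⁆ ≤ Q (i + 2)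
      refine CfsgLib.ClassSizes.three_subgroup_le _ ?_ ?_
      · have h1 : ⁅T, B⁆ ≤ Q 1 := by
          haveI := hQn 1
          have h := (Subgroup.map_eq_bot_iff ⁅T, B⁆ (f := QuotientGroup.mk' (Q 1))).mp ?_
          · rwa [QuotientGroup.ker_mk'] at h
          · rw [map_commutator, hT, Subgroup.map_sup, commutator_eq_bot_iff_le_centralizer, sup_le_iff,
              ← commutator_eq_bot_iff_le_centralizer, ← commutator_eq_bot_iff_le_centralizer,
              ← map_commutator, ← map_commutator, hAB, Subgroup.map_bot]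
            refine ⟨(Subgroup.map_eq_bot_iff _).mpr ?_, rfl⟩
            rw [QuotientGroup.ker_mk']
            exact hcomm.trans (commutator_mono le_rfl le_sup_right)
        refine (commutator_mono h1 le_rfl).trans ?_
        show ⁅⁅P, T⁆, Q i⁆ ≤ Q (i + 2)
        refine CfsgLib.ClassSizes.three_subgroup_le _ ?_ ?_
        · have : ⁅⁅T, Q i⁆, P⁆ ≤ ⁅Q (i + 1), T⁆ := by
            rw [commutator_comm T]
            exact commutator_mono le_rfl le_sup_left
          exact this
        · have : ⁅⁅Q i, P⁆, T⁆ ≤ ⁅Q (i + 1), T⁆ :=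
            commutator_mono (commutator_mono le_rfl le_sup_left) le_rfl
          exact this
      · have : ⁅⁅B, Q i⁆, T⁆ ≤ ⁅Q (i + 1), T⁆ := by
          rw [commutator_comm B]
          exact commutator_mono ih le_rfl
        exact this
  have hBP : B ≤ normalizer (P : Set G) := CfsgLib.Core.le_normalizer_of_normal B P
  have hcop : (Nat.card B).Coprime (Nat.card P) := by
    obtain ⟨k, hk⟩ := hP.exists_card_eq
    rw [hk]
    exact Nat.Coprime.pow_right _ (hp.out.coprime_iff_not_dvd.mpr hB).symm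
  haveI : Group.IsNilpotent P := hP.isNilpotent
  have hle : ∀ i, ⁅P, B⁆ ≤ Q i := fun i => by
    induction i with
    | zero => exact commutator_le_left P B
    | succ i ih =>
      rw [← CfsgLib.Core.commutator_commutator_eq hBP hcop (Or.inr inferInstance)]
      exact (commutator_mono ih le_rfl).trans (hQB i)
  haveI : Group.IsNilpotent T := (hP.to_sup_of_normal_left hA).isNilpotent
  obtain ⟨n, hn⟩ := (Subgroup.isNilpotent_iff_lowerCentralSeries T).mp inferInstance
  have hQT : ∀ i, Q i ≤ T.lowerCentralSeries i := fun i => by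
    induction i with
    | zero => exact le_sup_left
    | succ i ih => exact commutator_mono ih le_rfl
  exact le_bot_iff.mp ((hle n).trans ((hQT n).trans hn.le))

/-- If `A` and `B` commute, `B` has order prime to `p` and `[P, B] ≤ [P, A]`, then `[P, B] = 1`. -/
theorem coprime_comm_eq_bot {P A B : Subgroup G}
    (hP : IsPGroup p P) (hA : IsPGroup p A) (hB : ¬ p ∣ Nat.card B)
    (hnA : A ≤ normalizer (P : Set G)) (hnB : B ≤ normalizer (P : Set G))
    (hAB : ⁅A, B⁆ = ⊥) (hcomm : ⁅P, B⁆ ≤ ⁅P, A⁆) : ⁅P, B⁆ = ⊥ := by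
  let K : Subgroup G := P ⊔ A ⊔ B
  have hPK : P ≤ K := le_sup_left.trans le_sup_left
  have hAK : A ≤ K := le_sup_right.trans le_sup_left
  have hBK : B ≤ K := le_sup_right
  have e : ∀ {X Y : Subgroup G}, X ≤ K → Y ≤ K →
      ⁅X.subgroupOf K, Y.subgroupOf K⁆ = ⁅X, Y⁆.subgroupOf K := by
    intro X Y hX hY
    apply map_injective K.subtype_injective
    rw [map_commutator, map_subgroupOf_eq_of_le hX, map_subgroupOf_eq_of_le hY,
      map_subgroupOf_eq_of_le ((commutator_mono hX hY).trans (commutator_le.mpr fun x hx y hy =>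
        K.mul_mem (K.mul_mem (K.mul_mem hx hy) (K.inv_mem hx)) (K.inv_mem hy)))]
  haveI : (P.subgroupOf K).Normal := (normal_subgroupOf_iff_le_normalizer hPK).mpr
    (sup_le (sup_le le_normalizer hnA) hnB)
  haveI : (P.subgroupOf K ⊔ A.subgroupOf K).Normal := by
    rw [← subgroupOf_sup hPK hAK]
    refine (normal_subgroupOf_iff_le_normalizer (sup_le hPK hAK)).mpr (sup_le le_normalizer ?_)
    intro b hb
    have hbA : b ∈ normalizer (A : Set G) := centralizer_le_normalizer _ ((commutator_eq_bot_iff_le_centralizer.mp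
      ((commutator_comm A B) ▸ hAB)) hb)
    rw [CfsgLib.Core.mem_normalizer_iff_conj_smul_eq, CfsgLib.Core.conj_smul_eq_map, Subgroup.map_sup,
      ← CfsgLib.Core.conj_smul_eq_map, ← CfsgLib.Core.conj_smul_eq_map,
      CfsgLib.Core.mem_normalizer_iff_conj_smul_eq.mp (hnB hb),
      CfsgLib.Core.mem_normalizer_iff_conj_smul_eq.mp hbA]
  have h := coprime_comm_aux (G := ↥K) (P := P.subgroupOf K) (A := A.subgroupOf K) (B := B.subgroupOf K)
    (hP.comap_of_injective _ K.subtype_injective) (hA.comap_of_injective _ K.subtype_injective)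
    (by rwa [Nat.card_congr (subgroupOfEquivOfLe hBK).toEquiv])
    (by rw [e hAK hBK, hAB, bot_subgroupOf])
    (by rw [e hPK hBK, e hPK hAK]; exact fun x hx => hcomm hx)
  rw [e hPK hBK, subgroupOf_eq_bot, disjoint_iff] at h
  rwa [inf_eq_left.mpr ((commutator_le_of_self_mem hPK hBK))] at h
where
  commutator_le_of_self_mem {X Y K : Subgroup G} (hX : X ≤ K) (hY : Y ≤ K) : ⁅X, Y⁆ ≤ K :=
    commutator_le.mpr fun x hx y hy =>
      K.mul_mem (K.mul_mem (K.mul_mem (hX hx) (hY hy)) (K.inv_mem (hX hx))) (K.inv_mem (hY hy))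

end CfsgLib.LocalEven
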