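import Cfsg.Prelude.Def_Solvable
import Cfsg.Agent.Lib.LocalEven.Basic

/-! Basic facts about `O_p` and `O_{p'}` in finite groups. -/

namespace CfsgLib.LocalEven

variable {G : Type*} [Group G] {p : ℕ}

theorem le_pCore {N : Subgroup G} [hN : N.Normal] (h : IsPGroup p N) : N ≤ Cfsg.pCore p G :=
  le_sSup ⟨hN, h⟩

theorem sSup_normal {S : Set (Subgroup G)} (h : ∀ N ∈ S, N.Normal) : (sSup S).Normal := by
  refine Subgroup.Normal.of_conjugate_fixed fun g => ?_
  change (sSup S).map (MulAut.conj g).toMonoidHom = sSup S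
  rw [sSup_eq_iSup, Subgroup.map_iSup]
  refine iSup_congr fun N => ?_
  rw [Subgroup.map_iSup]
  refine iSup_congr fun hN => ?_
  exact mem_normalizer_conj_iff.mp (by rw [Subgroup.normalizer_eq_top_iff.mpr (h N hN)]; trivial)

theorem pCore_normal : (Cfsg.pCore p G).Normal := sSup_normal fun _ h => h.1

theorem pPrimeCore_normal : (Cfsg.pPrimeCore p G).Normal := sSup_normal fun _ h => h.1

theorem pCore_isPGroup [Finite G] : IsPGroup p (Cfsg.pCore p G) := by
  classical
  haveI := Fintype.ofFinite (Subgroup G)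
  let S : Finset (Subgroup G) := Finset.univ.filter fun N => N.Normal ∧ IsPGroup p N
  have : Cfsg.pCore p G = S.sup id := by
    rw [Finset.sup_id_eq_sSup]
    exact congrArg sSup (Set.ext fun N => by simp [S])
  rw [this]
  refine (Finset.sup_induction (p := fun K : Subgroup G => K.Normal ∧ IsPGroup p K) ?_ ?_ ?_).2
  · exact ⟨inferInstance, IsPGroup.of_bot⟩
  · rintro a ⟨ha, ha'⟩ b ⟨hb, hb'⟩
    exact ⟨inferInstance, ha'.to_sup_of_normal_right hb'⟩
  · intro N hN; exact (Finset.mem_filter.mp hN).2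

theorem pPrimeCore_coprime [Finite G] [hp : Fact p.Prime] :
    (Nat.card (Cfsg.pPrimeCore p G)).Coprime p := by
  classical
  haveI := Fintype.ofFinite (Subgroup G)
  let S : Finset (Subgroup G) := Finset.univ.filter fun N => N.Normal ∧ (Nat.card N).Coprime p
  have : Cfsg.pPrimeCore p G = S.sup id := by
    rw [Finset.sup_id_eq_sSup]
    exact congrArg sSup (Set.ext fun N => by simp [S])
  rw [this]
  refine (Finset.sup_induction (p := fun K : Subgroup G => K.Normal ∧ (Nat.card K).Coprime p)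
    ?_ ?_ ?_).2
  · exact ⟨inferInstance, by simp⟩
  · rintro a ⟨ha, ha'⟩ b ⟨hb, hb'⟩
    refine ⟨inferInstance, ?_⟩
    have h1 : a.relIndex (a ⊔ b) ∣ Nat.card b := by
      rw [sup_comm, Subgroup.relIndex_sup_right]
      exact Subgroup.relIndex_dvd_card ..
    rw [← Subgroup.card_mul_index (a.subgroupOf (a ⊔ b)),
      Nat.card_congr (Subgroup.subgroupOfEquivOfLe le_sup_left).toEquiv]
    exact Nat.Coprime.mul_left ha' (hb'.coprime_dvd_left h1)
  · intro N hN; exact (Finset.mem_filter.mp hN).2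

theorem not_dvd_card_pPrimeCore [Finite G] [hp : Fact p.Prime] :
    ¬ p ∣ Nat.card (Cfsg.pPrimeCore p G) :=
  hp.out.coprime_iff_not_dvd.mp pPrimeCore_coprime.symm

end CfsgLib.LocalEven
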