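import Cfsg.Prelude.Def_Amalgam
import Cfsg.Agent.Lib.LocalEven.Basic

/-! The coset graph of two subgroups. -/

namespace CfsgLib.LocalEven

open Subgroup

variable {X : Type*} [Group X] {M₁ M₂ : Subgroup X}

local notation "Γ" => Cfsg.cosetGraph M₁ M₂

theorem cosetGraph_adj {a b : Cfsg.CosetVertex M₁ M₂} :
    (Γ).Adj a b ↔ ∃ x : X, (a = Sum.inl (x : X ⧸ M₁) ∧ b = Sum.inr (x : X ⧸ M₂)) ∨
      (a = Sum.inr (x : X ⧸ M₂) ∧ b = Sum.inl (x : X ⧸ M₁)) := by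
  rw [Cfsg.cosetGraph, SimpleGraph.fromRel_adj]
  constructor
  · rintro ⟨-, ⟨x, h1, h2⟩ | ⟨x, h1, h2⟩⟩
    exacts [⟨x, Or.inl ⟨h1, h2⟩⟩, ⟨x, Or.inr ⟨h2, h1⟩⟩]
  · rintro ⟨x, ⟨rfl, rfl⟩ | ⟨rfl, rfl⟩⟩
    exacts [⟨Sum.inl_ne_inr, Or.inl ⟨x, rfl, rfl⟩⟩, ⟨Sum.inr_ne_inl, Or.inr ⟨x, rfl, rfl⟩⟩]

theorem cosetGraph_adj_smul {a b : Cfsg.CosetVertex M₁ M₂} (g : X) (h : (Γ).Adj a b) :
    (Γ).Adj (g • a) (g • b) := by
  obtain ⟨x, ⟨rfl, rfl⟩ | ⟨rfl, rfl⟩⟩ := cosetGraph_adj.mp h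
  exacts [cosetGraph_adj.mpr ⟨g * x, Or.inl ⟨rfl, rfl⟩⟩, cosetGraph_adj.mpr ⟨g * x, Or.inr ⟨rfl, rfl⟩⟩]

theorem smul_inl_one (x : X) :
    x • (Sum.inl ((1 : X) : X ⧸ M₁) : Cfsg.CosetVertex M₁ M₂) = Sum.inl (x : X ⧸ M₁) :=
  congrArg (fun y : X => (Sum.inl (y : X ⧸ M₁) : Cfsg.CosetVertex M₁ M₂)) (mul_one x)

theorem smul_inr_one (x : X) :
    x • (Sum.inr ((1 : X) : X ⧸ M₂) : Cfsg.CosetVertex M₁ M₂) = Sum.inr (x : X ⧸ M₂) :=
  congrArg (fun y : X => (Sum.inr (y : X ⧸ M₂) : Cfsg.CosetVertex M₁ M₂)) (mul_one x)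

theorem stabilizer_inl (x : X) :
    MulAction.stabilizer X (Sum.inl (x : X ⧸ M₁) : Cfsg.CosetVertex M₁ M₂) =
      M₁.map (MulAut.conj x).toMonoidHom := by
  ext g
  rw [MulAction.mem_stabilizer_iff, mem_conj]
  show (Sum.inl (((g * x : X)) : X ⧸ M₁) : Cfsg.CosetVertex M₁ M₂) = _ ↔ _
  rw [Sum.inl.injEq, eq_comm, QuotientGroup.eq, mul_assoc]

theorem stabilizer_inr (x : X) :
    MulAction.stabilizer X (Sum.inr (x : X ⧸ M₂) : Cfsg.CosetVertex M₁ M₂) =
      M₂.map (MulAut.conj x).toMonoidHom := by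
  ext g
  rw [MulAction.mem_stabilizer_iff, mem_conj]
  show (Sum.inr (((g * x : X)) : X ⧸ M₂) : Cfsg.CosetVertex M₁ M₂) = _ ↔ _
  rw [Sum.inr.injEq, eq_comm, QuotientGroup.eq, mul_assoc]

theorem edgeStabilizer_eq (x : X) :
    Cfsg.edgeStabilizer (Sum.inl (x : X ⧸ M₁) : Cfsg.CosetVertex M₁ M₂) (Sum.inr (x : X ⧸ M₂)) =
      (M₁ ⊓ M₂).map (MulAut.conj x).toMonoidHom := by
  rw [Cfsg.edgeStabilizer, stabilizer_inl, stabilizer_inr,
    Subgroup.map_inf _ _ _ (MulAut.conj x).injective]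

/-- Every edge is a translate of the base edge, in one of its two orientations. -/
theorem adj_cases {a b : Cfsg.CosetVertex M₁ M₂} (h : (Γ).Adj a b) :
    ∃ x : X, Cfsg.edgeStabilizer a b = (M₁ ⊓ M₂).map (MulAut.conj x).toMonoidHom ∧
      (MulAction.stabilizer X a = M₁.map (MulAut.conj x).toMonoidHom ∧
        MulAction.stabilizer X b = M₂.map (MulAut.conj x).toMonoidHom ∨
      MulAction.stabilizer X a = M₂.map (MulAut.conj x).toMonoidHom ∧
        MulAction.stabilizer X b = M₁.map (MulAut.conj x).toMonoidHom) := by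
  obtain ⟨x, ⟨rfl, rfl⟩ | ⟨rfl, rfl⟩⟩ := cosetGraph_adj.mp h
  · exact ⟨x, edgeStabilizer_eq x, Or.inl ⟨stabilizer_inl x, stabilizer_inr x⟩⟩
  · refine ⟨x, ?_, Or.inr ⟨stabilizer_inr x, stabilizer_inl x⟩⟩
    rw [← edgeStabilizer_eq x, Cfsg.edgeStabilizer, Cfsg.edgeStabilizer, inf_comm]

theorem exists_adj (a : Cfsg.CosetVertex M₁ M₂) : ∃ b, (Γ).Adj a b := by
  rcases a with a | a
  · obtain ⟨x, rfl⟩ := QuotientGroup.mk_surjective a
    exact ⟨_, cosetGraph_adj.mpr ⟨x, Or.inl ⟨rfl, rfl⟩⟩⟩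
  · obtain ⟨x, rfl⟩ := QuotientGroup.mk_surjective a
    exact ⟨_, cosetGraph_adj.mpr ⟨x, Or.inr ⟨rfl, rfl⟩⟩⟩

theorem exists_stabilizer_smul {a b c : Cfsg.CosetVertex M₁ M₂} (hb : (Γ).Adj a b) (hc : (Γ).Adj a c) :
    ∃ g ∈ MulAction.stabilizer X a, g • b = c := by
  obtain ⟨x, ⟨rfl, rfl⟩ | ⟨rfl, rfl⟩⟩ := cosetGraph_adj.mp hb <;>
    obtain ⟨y, ⟨hy, rfl⟩ | ⟨hy, rfl⟩⟩ := cosetGraph_adj.mp hc
  · refine ⟨y * x⁻¹, ?_, ?_⟩
    · rw [stabilizer_inl, mem_conj, ← mul_assoc, inv_mul_cancel_right]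
      exact QuotientGroup.eq.mp (Sum.inl_injective hy)
    · show (Sum.inr (((y * x⁻¹ * x : X)) : X ⧸ M₂) : Cfsg.CosetVertex M₁ M₂) = _
      rw [inv_mul_cancel_right]
  · exact absurd hy Sum.inl_ne_inr
  · exact absurd hy Sum.inr_ne_inl
  · refine ⟨y * x⁻¹, ?_, ?_⟩
    · rw [stabilizer_inr, mem_conj, ← mul_assoc, inv_mul_cancel_right]
      exact QuotientGroup.eq.mp (Sum.inr_injective hy)
    · show (Sum.inl (((y * x⁻¹ * x : X)) : X ⧸ M₁) : Cfsg.CosetVertex M₁ M₂) = _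
      rw [inv_mul_cancel_right]

theorem cosetGraph_connected (hgen : M₁ ⊔ M₂ = ⊤) : (Γ).Connected := by
  let f : X → ((Γ) →g (Γ)) := fun g => ⟨fun v => g • v, fun h => cosetGraph_adj_smul g h⟩
  set o : Cfsg.CosetVertex M₁ M₂ := Sum.inl ((1 : X) : X ⧸ M₁) with ho
  have hstep : ∀ x : X, (Γ).Reachable (Sum.inl (x : X ⧸ M₁)) (Sum.inr (x : X ⧸ M₂)) := fun x =>
    (cosetGraph_adj.mpr ⟨x, Or.inl ⟨rfl, rfl⟩⟩).reachable
  have key : ∀ g ∈ M₁ ⊔ M₂, (Γ).Reachable o (g • o) := by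
    intro g hg
    rw [Subgroup.sup_eq_closure] at hg
    induction hg using Subgroup.closure_induction with
    | mem m hm =>
      rcases hm with hm | hm
      · have : m • o = o := by
          rw [← MulAction.mem_stabilizer_iff, ho, stabilizer_inl, mem_conj]
          simpa using hm
        rw [this]
      · refine ((hstep 1).trans ?_).trans ((hstep m).symm.trans (by rw [ho, smul_inl_one]))
        rw [show (Sum.inr (m : X ⧸ M₂) : Cfsg.CosetVertex M₁ M₂) = Sum.inr ((1 : X) : X ⧸ M₂) from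
          congrArg Sum.inr (QuotientGroup.eq.mpr (by simpa using inv_mem hm))]
    | one => rw [one_smul]
    | mul a b _ _ iha ihb =>
      rw [mul_smul]
      exact iha.trans (ihb.map (f a))
    | inv a _ iha =>
      have h := iha.map (f a⁻¹)
      change (Γ).Reachable (a⁻¹ • o) (a⁻¹ • (a • o)) at h
      rw [inv_smul_smul] at h
      exact h.symm
  have hall : ∀ v : Cfsg.CosetVertex M₁ M₂, (Γ).Reachable o v := by
    rintro (a | a)
    · obtain ⟨x, rfl⟩ := QuotientGroup.mk_surjective a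
      have := key x (hgen ▸ mem_top x)
      rwa [ho, smul_inl_one] at this
    · obtain ⟨x, rfl⟩ := QuotientGroup.mk_surjective a
      have := key x (hgen ▸ mem_top x)
      rw [ho, smul_inl_one] at this
      exact this.trans (hstep x)
  haveI : Nonempty (Cfsg.CosetVertex M₁ M₂) := ⟨o⟩
  exact ⟨fun u v => (hall u).symm.trans (hall v)⟩

/-- An element fixing every vertex lies in every normal subgroup obstruction: faithfulness. -/
theorem eq_one_of_fixes (h : ∀ N : Subgroup X, N ≤ M₁ ⊓ M₂ → N.Normal → N = ⊥) {g : X}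
    (hg : ∀ v : Cfsg.CosetVertex M₁ M₂, g • v = v) : g = 1 := by
  have := h (MulAction.toPermHom X (Cfsg.CosetVertex M₁ M₂)).ker ?_ inferInstance
  · have hk : g ∈ (MulAction.toPermHom X (Cfsg.CosetVertex M₁ M₂)).ker :=
      MonoidHom.mem_ker.mpr (Equiv.ext hg)
    exact mem_bot.mp (this ▸ hk)
  · intro x hx
    have hfix : ∀ v : Cfsg.CosetVertex M₁ M₂, x • v = v := fun v =>
      Equiv.ext_iff.mp (MonoidHom.mem_ker.mp hx) v
    have h1 : x ∈ MulAction.stabilizer X (Sum.inl ((1 : X) : X ⧸ M₁) : Cfsg.CosetVertex M₁ M₂) := hfix _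
    have h2 : x ∈ MulAction.stabilizer X (Sum.inr ((1 : X) : X ⧸ M₂) : Cfsg.CosetVertex M₁ M₂) := hfix _
    rw [stabilizer_inl, conj_one] at h1
    rw [stabilizer_inr, conj_one] at h2
    exact ⟨h1, h2⟩

/-- A subgroup of an edge stabilizer with normalizer transitive at both ends is trivial. -/
theorem eq_bot_of_normalizer_transitive (h : Cfsg.IsAmalgamPair M₁ M₂) {a b : Cfsg.CosetVertex M₁ M₂}
    (hab : (Γ).Adj a b) {T : Subgroup X} (hT : T ≤ Cfsg.edgeStabilizer a b)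
    (ha : ∀ v w, (Γ).Adj a v → (Γ).Adj a w →
      ∃ g ∈ normalizer (T : Set X) ⊓ MulAction.stabilizer X a, g • v = w)
    (hb : ∀ v w, (Γ).Adj b v → (Γ).Adj b w →
      ∃ g ∈ normalizer (T : Set X) ⊓ MulAction.stabilizer X b, g • v = w) : T = ⊥ := by
  set N := normalizer (T : Set X)
  let S : Set (Cfsg.CosetVertex M₁ M₂) := {v | ∃ g ∈ N, v = g • a ∨ v = g • b}
  have hnb : ∀ v ∈ S, ∀ w, (Γ).Adj v w → w ∈ S := by
    rintro v ⟨g, hg, rfl | rfl⟩ w hw
    · have hw' : (Γ).Adj a (g⁻¹ • w) := by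
        have := cosetGraph_adj_smul g⁻¹ hw
        rwa [inv_smul_smul] at this
      obtain ⟨k, hk, e⟩ := ha b (g⁻¹ • w) hab hw'
      exact ⟨g * k, mul_mem hg hk.1, Or.inr (by rw [mul_smul, e, smul_inv_smul])⟩
    · have hw' : (Γ).Adj b (g⁻¹ • w) := by
        have := cosetGraph_adj_smul g⁻¹ hw
        rwa [inv_smul_smul] at this
      obtain ⟨k, hk, e⟩ := hb a (g⁻¹ • w) hab.symm hw'
      exact ⟨g * k, mul_mem hg hk.1, Or.inl (by rw [mul_smul, e, smul_inv_smul])⟩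
  have hwalk : ∀ {u v} (_ : (Γ).Walk u v), u ∈ S → v ∈ S := by
    intro u v p
    induction p with
    | nil => exact id
    | cons hadj _ ih => exact fun hu => ih (hnb _ hu _ hadj)
  have hall : ∀ v, v ∈ S := fun v =>
    ((cosetGraph_connected h.1).preconnected a v).elim fun p =>
      hwalk p ⟨1, one_mem _, Or.inl (one_smul X a).symm⟩
  rw [eq_bot_iff]
  intro t ht
  refine mem_bot.mpr (eq_one_of_fixes h.2.2.2 fun v => ?_)
  obtain ⟨g, hg, rfl | rfl⟩ := hall v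
  · have this : (g⁻¹ * t * g) • a = a := (hT ((mem_normalizer_iff''.mp hg t).mp ht)).1
    rw [mul_smul, mul_smul] at this
    exact inv_smul_eq_iff.mp this
  · have this : (g⁻¹ * t * g) • b = b := (hT ((mem_normalizer_iff''.mp hg t).mp ht)).2
    rw [mul_smul, mul_smul] at this
    exact inv_smul_eq_iff.mp this

theorem exists_adj_dist {a b : Cfsg.CosetVertex M₁ M₂} {n : ℕ} (hconn : (Γ).Connected)
    (h : (Γ).dist a b = n + 1) : ∃ c, (Γ).Adj a c ∧ (Γ).dist c b = n := by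
  obtain ⟨p, hp⟩ := hconn.exists_walk_length_eq_dist a b
  cases p with
  | nil => rw [SimpleGraph.dist_self] at h; omega
  | cons hadj q =>
    refine ⟨_, hadj, le_antisymm ?_ ?_⟩
    · refine (SimpleGraph.dist_le q).trans (le_of_eq ?_)
      rw [SimpleGraph.Walk.length_cons, h] at hp
      omega
    · refine Nat.le_of_lt_succ ?_
      obtain ⟨q', hq'⟩ := hconn.exists_walk_length_eq_dist _ b
      have h3 := SimpleGraph.dist_le (SimpleGraph.Walk.cons hadj q')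
      rw [SimpleGraph.Walk.length_cons, hq', h] at h3
      omega

end CfsgLib.LocalEven

namespace CfsgLib.LocalEven

variable {X : Type*} [Group X]

/-- Whoever normalizes `A` normalizes a characteristic subgroup of `A` (no finiteness). -/
theorem normalizer_le_normalizer_characteristic' (A : Subgroup X) (Y : Subgroup ↥A) [hY : Y.Characteristic] :
    Subgroup.normalizer (A : Set X) ≤ Subgroup.normalizer ((Y.map A.subtype : Subgroup X) : Set X) := by
  intro l hl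
  rw [mem_normalizer_conj_iff]
  let e : A ≃* A :=
    { toFun := fun m => ⟨l * m * l⁻¹, (Subgroup.mem_normalizer_iff.mp hl m).mp m.2⟩
      invFun := fun m => ⟨l⁻¹ * m * l, (Subgroup.mem_normalizer_iff''.mp hl m).mp m.2⟩
      left_inv := fun m => Subtype.ext (by simp [mul_assoc])
      right_inv := fun m => Subtype.ext (by simp [mul_assoc])
      map_mul' := fun a b => Subtype.ext (by simp [mul_assoc]) }
  conv_rhs => rw [← Subgroup.characteristic_iff_map_eq.mp hY e]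
  rw [Subgroup.map_map, Subgroup.map_map]
  rfl

end CfsgLib.LocalEven
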