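import Cfsg.Agent.Lib.PGroups.Extraspecial
import Cfsg.Agent.Lib.PGroups.ClassTwo
import Cfsg.Agent.Lib.Core.Coprime

/-!
# Faithful coprime modules of extraspecial groups

* `le_card_of_fixedPointFree_center`, `le_card_of_faithful`
-/

set_option autoImplicit false

namespace CfsgLib.LocalEven.ExtraspecialDegree

open Finset
open scoped commutatorElement

variable {E U : Type*} [Group E] [Finite E] [CommGroup U] [Finite U] {p r : ℕ}

/-- The fixed points of a set of elements. -/
def fix (φ : E →* MulAut U) (a : E) : Subgroup U :=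
  MonoidHom.eqLocus (φ a).toMonoidHom (MonoidHom.id U)

theorem mem_fix {φ : E →* MulAut U} {a : E} {u : U} : u ∈ fix φ a ↔ φ a u = u := Iff.rfl

theorem norm_fixed (φ : E →* MulAut U) {a : E} (ha : a ^ p = 1) (u : U) :
    φ a (∏ i ∈ range p, φ (a ^ i) u) = ∏ i ∈ range p, φ (a ^ i) u := by
  rw [map_prod]
  have h : ∀ i, φ a (φ (a ^ i) u) = φ (a ^ (i + 1)) u := fun i => by
    rw [← MulAut.mul_apply, ← map_mul, pow_succ']
  simp only [h]
  have h1 := prod_range_succ (fun i => φ (a ^ i) u) p
  have h2 := prod_range_succ' (fun i => φ (a ^ i) u) p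
  rw [h1, ha, pow_zero] at h2
  exact (mul_right_cancel h2).symm

variable [hp : Fact p.Prime] [hr : Fact r.Prime]

theorem fix_eq_one_of_center (φ : E →* MulAut U) (hE : Cfsg.IsExtraspecial p E)
    (hfree : ∀ u : U, (∀ c ∈ Subgroup.center E, φ c u = u) → u = 1) {d : E}
    (hd : d ∈ Subgroup.center E) (hd1 : d ≠ 1) {u : U} (hu : φ d u = u) : u = 1 := by
  refine hfree u fun c hc => ?_
  have hz := CfsgLib.PGroups.IsExtraspecial.eq_center_of_le hE (Z := Subgroup.zpowers d)
    (Subgroup.zpowers_le.mpr hd) (by simpa using hd1)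
  obtain ⟨i, rfl⟩ := Subgroup.mem_zpowers_iff.mp (hz.ge hc)
  have h : φ d ∈ MulAction.stabilizer (MulAut U) u := hu
  have := Subgroup.zpow_mem _ h i
  rw [← map_zpow] at this
  exact this

/-- A noncentral element of order `p` exists in `P` unless `P` is a Sylow-like `Q₈` case. -/
theorem exists_order_p (hE : Cfsg.IsExtraspecial p E) (w : ℕ) (hw : w ≠ 0 ∨ p ≠ 2)
    (P : Subgroup E) (hCP : Subgroup.centralizer (P : Set E) ≤ P)
    (hP : Nat.card P = p ^ (2 * (w + 1)) * Nat.card (Subgroup.centralizer (P : Set E))) :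
    ∃ x ∈ P, x ∉ Subgroup.centralizer (P : Set E) ∧ x ^ p = 1 := by
  set C := Subgroup.centralizer (P : Set E) with hC
  have hCpos : 0 < Nat.card C := Nat.card_pos
  have hZC : Subgroup.center E ≤ C := Subgroup.center_le_centralizer _
  obtain ⟨x, hxP, hxC⟩ : ∃ x ∈ P, x ∉ C := by
    by_contra h
    push Not at h
    have := Subgroup.card_le_of_le (show P ≤ C from h)
    rw [hP] at this
    have h2 : 2 ≤ p ^ (2 * (w + 1)) := le_trans hp.out.two_le (Nat.le_self_pow (by omega) p)
    nlinarith
  by_cases hx : x ^ p = 1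
  · exact ⟨x, hxP, hxC, hx⟩
  have hxz : x ^ p ∈ Subgroup.center E := CfsgLib.PGroups.IsExtraspecial.pow_mem_center hE x
  -- the size of `C ⊔ ⟨x⟩`
  have hCx : Nat.card ↥(C ⊔ Subgroup.zpowers x) ≤ Nat.card C * p := by
    haveI : C.Normal := CfsgLib.PGroups.IsExtraspecial.normal_of_center_le hE hZC
    have hsub : ((C ⊔ Subgroup.zpowers x : Subgroup E) : Set E) ⊆
        (fun q : C × Fin p => (q.1 : E) * x ^ (q.2 : ℕ)) '' Set.univ := by
      intro g hg
      obtain ⟨c, hc, b, hb, rfl⟩ := Subgroup.mem_sup_of_normal_left.mp hg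
      obtain ⟨i, rfl⟩ : b ∈ Submonoid.powers x := mem_powers_iff_mem_zpowers.mpr hb
      refine ⟨(⟨c * (x ^ p) ^ (i / p), C.mul_mem hc (C.pow_mem (hZC hxz) _)⟩,
        ⟨i % p, Nat.mod_lt _ hp.out.pos⟩), trivial, ?_⟩
      show c * (x ^ p) ^ (i / p) * x ^ (i % p) = c * x ^ i
      rw [mul_assoc, ← pow_mul, ← pow_add, Nat.div_add_mod]
    calc Nat.card ↥(C ⊔ Subgroup.zpowers x)
        = ((C ⊔ Subgroup.zpowers x : Subgroup E) : Set E).ncard := Nat.card_coe_set_eq _
      _ ≤ _ := Set.ncard_le_ncard hsub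
      _ ≤ (Set.univ : Set (C × Fin p)).ncard := Set.ncard_image_le
      _ = Nat.card C * p := by rw [Set.ncard_univ, Nat.card_prod, Nat.card_fin]
  -- a second element, commuting with `x` when `w ≠ 0`
  obtain ⟨y, hyP, hy, hyx⟩ : ∃ y ∈ P, y ∉ C ⊔ Subgroup.zpowers x ∧ (w ≠ 0 → y * x = x * y) := by
    by_cases hw0 : w = 0
    · by_contra h
      push Not at h
      have hle : P ≤ C ⊔ Subgroup.zpowers x := fun y hy => by
        by_contra h'
        exact (h y hy h').1 hw0
      have := (Subgroup.card_le_of_le hle).trans hCx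
      rw [hP, hw0, mul_comm (Nat.card C)] at this
      have := Nat.le_of_mul_le_mul_right this hCpos
      have h4 : p * 2 ≤ p * p := Nat.mul_le_mul_left _ hp.out.two_le
      have h5 : p ^ (2 * (0 + 1)) = p * p := by ring
      have := hp.out.pos
      omega
    · by_contra h
      push Not at h
      have hle : P ⊓ Subgroup.centralizer {x} ≤ C ⊔ Subgroup.zpowers x := fun y hy => by
        by_contra h'
        exact (h y hy.1 h').2 (Subgroup.mem_centralizer_singleton_iff.mp hy.2)
      have h1 := (Subgroup.card_le_of_le hle).trans hCx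
      have h2 : Nat.card P ≤ Nat.card ↥(P ⊓ Subgroup.centralizer {x}) * p := by
        rw [← CfsgLib.PGroups.card_mul_relIndex (H := P ⊓ Subgroup.centralizer {x}) (K := P)
          inf_le_left, Subgroup.inf_relIndex_left]
        refine Nat.mul_le_mul_left _ ?_
        refine (Subgroup.relIndex_le_of_le_right le_top ?_).trans ?_
        · rw [Subgroup.relIndex_top_right]; exact Subgroup.index_ne_zero_of_finite
        · rw [Subgroup.relIndex_top_right,
            CfsgLib.PGroups.IsExtraspecial.index_centralizer_singleton hE fun h' => hxC (hZC h')]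
      rw [hP] at h2
      have h3 : p ^ 4 ≤ p ^ (2 * (w + 1)) := Nat.pow_le_pow_right hp.out.pos (by omega)
      have h4 : p ^ 4 * Nat.card C ≤ Nat.card C * p * p :=
        (Nat.mul_le_mul_right _ h3).trans (h2.trans (Nat.mul_le_mul_right _ h1))
      have h5 : p ^ 4 ≤ p ^ 2 := by nlinarith
      have := (Nat.pow_le_pow_iff_right hp.out.one_lt).mp h5
      omega
  by_cases hy1 : y ^ p = 1
  · exact ⟨y, hyP, fun h => hy (Subgroup.mem_sup_left h), hy1⟩
  have hgen := CfsgLib.PGroups.IsExtraspecial.eq_center_of_le hE (Z := Subgroup.zpowers (x ^ p))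
    (Subgroup.zpowers_le.mpr hxz) (by simpa using hx)
  obtain ⟨i, hi⟩ := Subgroup.mem_zpowers_iff.mp
    (hgen.ge (CfsgLib.PGroups.IsExtraspecial.pow_mem_center hE y))
  refine ⟨y * (x ^ i)⁻¹, P.mul_mem hyP (P.inv_mem (P.zpow_mem hxP i)), fun h => hy ?_, ?_⟩
  · have h2 := (C ⊔ Subgroup.zpowers x).mul_mem (Subgroup.mem_sup_left h)
      (Subgroup.mem_sup_right (Subgroup.zpow_mem _ (Subgroup.mem_zpowers x) i))
    rwa [inv_mul_cancel_right] at h2
  · have e : (y * (x ^ i)⁻¹) ^ p = y ^ p * ((x ^ i)⁻¹) ^ p := by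
      by_cases hw0 : w = 0
      · refine CfsgLib.PGroups.mul_pow_of_central_odd (CfsgLib.PGroups.IsExtraspecial.comm_mem hE _ _)
          (hp.out.odd_of_ne_two (hw.resolve_left (not_not.mpr hw0))) ?_
        exact CfsgLib.PGroups.IsExtraspecial.comm_pow hE _ _
      · exact Commute.mul_pow ((Commute.zpow_right (hyx hw0) i).inv_right) p
    rw [e, ← hi, inv_pow, ← zpow_natCast (x ^ i), ← zpow_mul, mul_comm i, zpow_mul, zpow_natCast,
      mul_inv_cancel]

/-- The inductive statement. -/
theorem le_card_aux (hE : Cfsg.IsExtraspecial p E) (φ : E →* MulAut U) (hU : IsPGroup r U)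
    (hpr : p ≠ r) (hfree : ∀ u : U, (∀ c ∈ Subgroup.center E, φ c u = u) → u = 1)
    (n : ℕ) (hmin : ∀ k : ℕ, 1 ≤ k → p ∣ r ^ k - 1 → n ≤ k) :
    ∀ (w : ℕ) (P : Subgroup E), Subgroup.centralizer (P : Set E) ≤ P →
      Nat.card P = p ^ (2 * w) * Nat.card (Subgroup.centralizer (P : Set E)) →
      ∀ W : Subgroup U, W ≠ ⊥ → (∀ g ∈ P, ∀ u ∈ W, φ g u ∈ W) → r ^ (n * p ^ w) ≤ Nat.card W := by
  classical
  obtain ⟨z, hzc, hz1⟩ : ∃ z ∈ Subgroup.center E, z ≠ (1 : E) := by
    by_contra h
    push Not at h
    have h1 := CfsgLib.PGroups.IsExtraspecial.card_center hE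
    rw [(Subgroup.eq_bot_iff_forall _).mpr h, Subgroup.card_bot] at h1
    exact hp.out.ne_one h1.symm
  have hrcop : ∀ u : U, u ^ p = 1 → u = 1 := fun u hu => by
    obtain ⟨k, hk⟩ := hU u
    have := pow_gcd_eq_one.mpr ⟨hu, hk⟩
    rwa [Nat.Coprime.gcd_eq_one (((Nat.coprime_primes hp.out hr.out).mpr hpr).pow_right k),
      pow_one] at this
  -- the base case, used also for `Q₈`
  have base : ∀ W : Subgroup U, W ≠ ⊥ → (∀ u ∈ W, φ z u ∈ W) → r ^ n ≤ Nat.card W := by
    intro W hW hinv
    haveI := Fintype.ofFinite W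
    obtain ⟨u, hu⟩ := (hU.to_subgroup W).exists_card_eq
    rw [hu]
    refine Nat.pow_le_pow_right hr.out.pos (hmin u ?_ ?_)
    · by_contra h0
      rw [show u = 0 by omega, pow_zero] at hu
      exact hW (Subgroup.card_eq_one.mp hu)
    · let f : Function.End W := fun v => ⟨φ z v, hinv v v.2⟩
      have hf : ∀ (k : ℕ) (v : W), ((f ^ k) v : U) = φ (z ^ k) v := by
        intro k
        induction k with
        | zero => intro v; simp; rfl
        | succ k ih =>
          intro v; rw [pow_succ', pow_succ', map_mul, MulAut.mul_apply, ← ih]; rfl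
      have h := Equiv.Perm.card_fixedPoints_modEq (f := f) (p := p) (n := 1)
        (funext fun v => Subtype.ext (by
          rw [pow_one, hf, CfsgLib.PGroups.IsExtraspecial.center_pow hE hzc, map_one]; rfl))
      have h1 : Fintype.card (Function.fixedPoints f) = 1 := by
        refine Fintype.card_eq_one_iff.mpr ⟨⟨1, Subtype.ext (map_one _)⟩, fun v => ?_⟩
        exact Subtype.ext (Subtype.ext (fix_eq_one_of_center φ hE hfree hzc hz1
          (congrArg Subtype.val v.2)))
      rw [h1, ← Nat.card_eq_fintype_card, hu] at h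
      exact (Nat.modEq_iff_dvd' (Nat.one_le_pow _ _ hr.out.pos)).mp h.symm
  intro w
  induction w with
  | zero =>
    intro P hCP _ W hW hinv
    rw [pow_zero, mul_one]
    exact base W hW fun u hu => hinv z (hCP (Subgroup.center_le_centralizer _ hzc)) u hu
  | succ w ih =>
    intro P hCP hP W hW hinv
    have hzP : ∀ c ∈ Subgroup.center E, c ∈ P := fun c hc =>
      hCP (Subgroup.center_le_centralizer _ hc)
    by_cases hQ : w = 0 ∧ p = 2
    · -- the quaternion case
      obtain ⟨rfl, hp2⟩ := hQ
      have hn1 : n ≤ 1 := hmin 1 le_rfl (by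
        rw [pow_one, hp2]
        have hr2 : r ≠ 2 := fun h => hpr (hp2.trans h.symm)
        obtain ⟨k, hk⟩ := hr.out.odd_of_ne_two hr2
        exact ⟨k, by omega⟩)
      obtain ⟨u, hu⟩ := (hU.to_subgroup W).exists_card_eq
      rw [hu]
      refine Nat.pow_le_pow_right hr.out.pos ?_
      have hu2 : 2 ≤ u := by
        by_contra hlt
        haveI : IsCyclic W := by
          rcases (show u = 0 ∨ u = 1 by omega) with rfl | rfl
          · haveI : Subsingleton W := (Nat.card_eq_one_iff_unique.mp (by simpa using hu)).1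
            infer_instance
          · exact isCyclic_of_prime_card (p := r) (by simpa using hu)
        obtain ⟨x, hxP, hxC⟩ : ∃ x ∈ P, x ∉ Subgroup.centralizer (P : Set E) := by
          by_contra h
          push Not at h
          have := Subgroup.card_le_of_le (show P ≤ Subgroup.centralizer (P : Set E) from h)
          rw [hP, hp2] at this
          norm_num at this
        obtain ⟨y, hyP, hxy⟩ : ∃ y ∈ P, y * x ≠ x * y := by
          by_contra h
          push Not at h
          exact hxC (Subgroup.mem_centralizer_iff.mpr h)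
        refine hW ((Subgroup.eq_bot_iff_forall _).mpr fun v hv =>
          fix_eq_one_of_center φ hE hfree (CfsgLib.PGroups.IsExtraspecial.comm_mem hE x y)
            (fun h => hxy (commutatorElement_eq_one_iff_mul_comm.mp h).symm) ?_)
        obtain ⟨g, hg⟩ := IsCyclic.exists_generator (α := W)
        have hpw : ∀ a ∈ P, ∃ i : ℤ, ∀ v ∈ W, φ a v = v ^ i := by
          intro a ha
          obtain ⟨i, hi⟩ := Subgroup.mem_zpowers_iff.mp (hg ⟨φ a g, hinv a ha g g.2⟩)
          refine ⟨i, fun v hv => ?_⟩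
          obtain ⟨j, hj⟩ := Subgroup.mem_zpowers_iff.mp (hg ⟨v, hv⟩)
          have hi' : (g : U) ^ i = φ a g := congrArg Subtype.val hi
          have hj' : (g : U) ^ j = v := congrArg Subtype.val hj
          rw [← hj', map_zpow, ← hi', ← zpow_mul, ← zpow_mul, mul_comm]
        obtain ⟨i, hi⟩ := hpw x hxP
        obtain ⟨j, hj⟩ := hpw y hyP
        have hcomm : ∀ v ∈ W, φ (x * y) v = φ (y * x) v := by
          intro v hv
          rw [map_mul, map_mul, MulAut.mul_apply, MulAut.mul_apply, hi _ (hinv y hyP v hv),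
            hj v hv, hj _ (hinv x hxP v hv), hi v hv, ← zpow_mul, ← zpow_mul, mul_comm]
        have hv' : φ (y * x)⁻¹ v ∈ W :=
          hinv _ (P.inv_mem (P.mul_mem hyP hxP)) v hv
        have e := hcomm _ hv'
        rw [← MulAut.mul_apply, ← map_mul, ← MulAut.mul_apply, ← map_mul, mul_inv_cancel,
          map_one, MulAut.one_apply] at e
        rwa [commutatorElement_def, mul_assoc, ← mul_inv_rev]
      calc n * p ^ (0 + 1) ≤ 1 * 2 := by rw [hp2]; exact Nat.mul_le_mul hn1 le_rfl
        _ ≤ u := by omega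
    obtain ⟨x₀, hx₀P, hx₀C, hx₀p⟩ := exists_order_p hE w (not_and_or.mp hQ) P hCP hP
    -- some `x₀ z^j` has fixed points on `W`
    obtain ⟨x, hxP, hxC, hxp, u₀, hu₀W, hu₀1, hu₀⟩ : ∃ x ∈ P,
        x ∉ Subgroup.centralizer (P : Set E) ∧ x ^ p = 1 ∧ ∃ u ∈ W, u ≠ 1 ∧ φ x u = u := by
      by_contra h
      push Not at h
      refine hW ((Subgroup.eq_bot_iff_forall _).mpr fun u hu => hrcop u ?_)
      have hzc' : ∀ j : ℕ, z ^ j ∈ Subgroup.center E := fun j => Subgroup.pow_mem _ hzc j
      have hmem : ∀ g ∈ P, φ g u ∈ W := fun g hg => hinv g hg u hu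
      have hj : ∀ j : ℕ, ∏ i ∈ range p, φ ((x₀ * z ^ j) ^ i) u = 1 := by
        intro j
        have hxP' : x₀ * z ^ j ∈ P := P.mul_mem hx₀P (hzP _ (hzc' j))
        have hord : (x₀ * z ^ j) ^ p = 1 := by
          rw [Commute.mul_pow (Subgroup.mem_center_iff.mp (hzc' j) x₀), hx₀p, one_mul,
            CfsgLib.PGroups.IsExtraspecial.center_pow hE (hzc' j)]
        by_contra hne
        refine h (x₀ * z ^ j) hxP' (fun hc => hx₀C ?_) hord _
          (Subgroup.prod_mem _ fun i _ => hmem _ (P.pow_mem hxP' i)) hne (norm_fixed φ hord u)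
        have := (Subgroup.centralizer (P : Set E)).mul_mem hc
          ((Subgroup.centralizer (P : Set E)).inv_mem (Subgroup.center_le_centralizer _ (hzc' j)))
        rwa [mul_inv_cancel_right] at this
      have h1 : ∏ j ∈ range p, ∏ i ∈ range p, φ ((x₀ * z ^ j) ^ i) u = 1 :=
        prod_eq_one fun j _ => hj j
      rw [prod_comm, prod_eq_single 0] at h1
      · simpa using h1
      · intro i hi hi0
        have e : ∀ j, φ ((x₀ * z ^ j) ^ i) u = φ (x₀ ^ i) (φ ((z ^ i) ^ j) u) := fun j => by
          rw [Commute.mul_pow (Subgroup.mem_center_iff.mp (hzc' j) x₀), ← pow_mul, mul_comm j i,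
            pow_mul, map_mul, MulAut.mul_apply]
        simp only [e]
        rw [← map_prod]
        have hzi : z ^ i ≠ 1 := fun h' => hi0 (Nat.eq_zero_of_dvd_of_lt
          ((orderOf_eq_prime (CfsgLib.PGroups.IsExtraspecial.center_pow hE hzc) hz1) ▸
            orderOf_dvd_of_pow_eq_one h') (mem_range.mp hi))
        rw [fix_eq_one_of_center φ hE hfree (hzc' i) hzi
          (norm_fixed φ (CfsgLib.PGroups.IsExtraspecial.center_pow hE (hzc' i)) u), map_one]
      · intro h0; simp [hp.out.pos] at h0
    clear hx₀P hx₀C hx₀p x₀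
    set C := Subgroup.centralizer (P : Set E) with hC
    have hxc : x ∉ Subgroup.center E := fun h => hxC (Subgroup.center_le_centralizer _ h)
    obtain ⟨y, hyP, hxy⟩ : ∃ y ∈ P, y * x ≠ x * y := by
      by_contra h
      push Not at h
      exact hxC (Subgroup.mem_centralizer_iff.mpr h)
    -- the centralizer of `x` in `P`
    set P' := P ⊓ Subgroup.centralizer {x} with hP'
    have hidx : P'.relIndex P = p := by
      rw [hP', Subgroup.inf_relIndex_left]
      have h1 : (Subgroup.centralizer {x}).relIndex P ∣ p := by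
        haveI : (Subgroup.centralizer {x}).Normal :=
          CfsgLib.PGroups.IsExtraspecial.normal_of_center_le hE (Subgroup.center_le_centralizer _)
        rw [← CfsgLib.PGroups.IsExtraspecial.index_centralizer_singleton hE hxc]
        exact Subgroup.relIndex_dvd_index_of_normal _ _
      refine ((Nat.dvd_prime hp.out).mp h1).resolve_left fun h => hxy ?_
      exact Subgroup.mem_centralizer_singleton_iff.mp (Subgroup.relIndex_eq_one.mp h hyP)
    have hcP' : Nat.card P' * p = Nat.card P := by
      conv_lhs => rw [← hidx]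
      exact CfsgLib.PGroups.card_mul_relIndex inf_le_left
    have hZP' : Subgroup.center E ≤ P' := le_inf hzP (Subgroup.center_le_centralizer _)
    have hCc : Nat.card (Subgroup.centralizer (P' : Set E)) = p * Nat.card C := by
      have e1 := CfsgLib.PGroups.IsExtraspecial.card_centralizer_mul_card hE hZP'
      rw [← CfsgLib.PGroups.IsExtraspecial.card_centralizer_mul_card hE (A := P) hzP, ← hcP',
        ← hC] at e1
      refine Nat.eq_of_mul_eq_mul_right (Nat.card_pos (α := P')) ?_
      rw [e1]; ring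
    have hle : C ⊔ Subgroup.zpowers x ≤ Subgroup.centralizer (P' : Set E) := by
      refine sup_le (Subgroup.centralizer_le inf_le_left) (Subgroup.zpowers_le.mpr ?_)
      rw [Subgroup.mem_centralizer_iff]
      exact fun g hg => Subgroup.mem_centralizer_singleton_iff.mp hg.2
    have hlt : Nat.card C < Nat.card ↥(C ⊔ Subgroup.zpowers x) := by
      refine lt_of_le_of_ne (Subgroup.card_le_of_le le_sup_left) fun h => hxC ?_
      rw [Subgroup.eq_of_le_of_card_ge le_sup_left h.ge]
      exact Subgroup.mem_sup_right (Subgroup.mem_zpowers x)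
    have heq : C ⊔ Subgroup.zpowers x = Subgroup.centralizer (P' : Set E) := by
      refine Subgroup.eq_of_le_of_card_ge hle ?_
      rw [hCc]
      obtain ⟨i, hi⟩ := IsPGroup.iff_card.mp
        ((CfsgLib.PGroups.IsExtraspecial.isPGroup hE).to_subgroup C)
      obtain ⟨j, hj⟩ := IsPGroup.iff_card.mp
        ((CfsgLib.PGroups.IsExtraspecial.isPGroup hE).to_subgroup (C ⊔ Subgroup.zpowers x))
      rw [hi, hj] at hlt ⊢
      rw [← pow_succ']
      exact Nat.pow_le_pow_right hp.out.pos ((Nat.pow_lt_pow_iff_right hp.out.one_lt).mp hlt)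
    have hC' : Subgroup.centralizer (P' : Set E) ≤ P' := by
      rw [← heq]
      refine sup_le (le_inf hCP fun g hg => ?_) (Subgroup.zpowers_le.mpr ⟨hxP,
        Subgroup.mem_centralizer_singleton_iff.mpr rfl⟩)
      exact Subgroup.mem_centralizer_singleton_iff.mpr
        (Subgroup.mem_centralizer_iff.mp hg x hxP).symm
    have hPcard : Nat.card P' = p ^ (2 * w) * Nat.card (Subgroup.centralizer (P' : Set E)) := by
      refine Nat.eq_of_mul_eq_mul_right hp.out.pos ?_
      rw [hcP', hP, hCc]; ring
    -- the fixed points of `x`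
    set W' := W ⊓ fix φ x with hW'
    have hW'ne : W' ≠ ⊥ := fun h => hu₀1 (Subgroup.mem_bot.mp (h ▸ ⟨hu₀W, hu₀⟩))
    have hinv' : ∀ g ∈ P', ∀ u ∈ W', φ g u ∈ W' := by
      rintro g hg u ⟨huW, hux⟩
      refine ⟨hinv g hg.1 u huW, mem_fix.mpr ?_⟩
      rw [← MulAut.mul_apply, ← map_mul, ← Subgroup.mem_centralizer_singleton_iff.mp hg.2,
        map_mul, MulAut.mul_apply, mem_fix.mp hux]
    have hW'card := ih P' hC' hPcard W' hW'ne hinv'
    -- the conjugates of `W'` are independent
    set c := y * x * y⁻¹ * x⁻¹ with hc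
    have hcc : c ∈ Subgroup.center E := by
      simpa [commutatorElement_def, hc] using CfsgLib.PGroups.IsExtraspecial.comm_mem hE y x
    have hc1 : c ≠ 1 := fun h => hxy (by rwa [hc, mul_inv_eq_one, mul_inv_eq_iff_eq_mul] at h)
    have hcord : orderOf c = p :=
      orderOf_eq_prime (CfsgLib.PGroups.IsExtraspecial.center_pow hE hcc) hc1
    have hconj : ∀ i : ℕ, c ^ i * x * y ^ i = y ^ i * x := by
      intro i
      induction i with
      | zero => simp
      | succ i ihi =>
        have hyx : c * x * y = y * x := by rw [hc]; group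
        calc c ^ (i + 1) * x * y ^ (i + 1) = c * (c ^ i * x * y ^ i) * y := by
              rw [pow_succ', pow_succ]; group
          _ = y ^ i * (c * x * y) := by
              rw [ihi, ← mul_assoc c, ← Subgroup.mem_center_iff.mp hcc (y ^ i)]; group
          _ = y ^ (i + 1) * x := by rw [hyx, pow_succ]; group
    have hfix_i : ∀ (i : ℕ) (v : U), v ∈ W' → φ (c ^ i * x) (φ (y ^ i) v) = φ (y ^ i) v := by
      intro i v hv
      rw [← MulAut.mul_apply, ← map_mul, hconj, map_mul, MulAut.mul_apply, mem_fix.mp hv.2]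
    have key : ∀ (s : Finset (Fin p)) (v : Fin p → U), (∀ i, v i ∈ W') →
        ∏ i ∈ s, φ (y ^ (i : ℕ)) (v i) = 1 → ∀ i ∈ s, v i = 1 := by
      intro s
      induction s using Finset.induction_on with
      | empty => simp
      | @insert a s ha ihs =>
        intro v hv hprod
        have hs : ∀ i ∈ s, v i = 1 := by
          let ψ : U →* U := (φ (c ^ (a : ℕ) * x)).toMonoidHom / MonoidHom.id U
          have hψ : ∀ t, ψ t = φ (c ^ (a : ℕ) * x) t / t := fun t => rfl
          have h2 : ∏ i ∈ s, ψ (φ (y ^ (i : ℕ)) (v i)) = 1 := by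
            have h3 := congrArg ψ hprod
            rw [prod_insert ha, map_mul, map_one, map_prod] at h3
            have h4 : ψ (φ (y ^ (a : ℕ)) (v a)) = 1 := by
              rw [hψ, hfix_i _ _ (hv a), div_self']
            rwa [h4, one_mul] at h3
          let v' : Fin p → U := fun (i : Fin p) => φ ((c ^ (i : ℕ))⁻¹ * c ^ (a : ℕ)) (v i) / v i
          have hv' : ∀ i, v' i ∈ W' := fun i =>
            W'.div_mem (hinv' _ (hZP' (Subgroup.mul_mem _
              (Subgroup.inv_mem _ (Subgroup.pow_mem _ hcc _)) (Subgroup.pow_mem _ hcc _))) _ (hv i))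
              (hv i)
          have h5 : ∀ i : Fin p, ψ (φ (y ^ (i : ℕ)) (v i)) = φ (y ^ (i : ℕ)) (v' i) := by
            intro i
            rw [hψ, map_div]
            congr 1
            set d := (c ^ (i : ℕ))⁻¹ * c ^ (a : ℕ) with hd
            have hdc : d ∈ Subgroup.center E := Subgroup.mul_mem _
              (Subgroup.inv_mem _ (Subgroup.pow_mem _ hcc _)) (Subgroup.pow_mem _ hcc _)
            have e1 : c ^ (a : ℕ) = c ^ (i : ℕ) * d := by rw [hd, mul_inv_cancel_left]
            have e2 : c ^ (a : ℕ) * x * y ^ (i : ℕ) = y ^ (i : ℕ) * x * d := by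
              rw [← hconj, e1, mul_assoc (c ^ (i : ℕ)), ← Subgroup.mem_center_iff.mp hdc x,
                ← mul_assoc (c ^ (i : ℕ)), mul_assoc (c ^ (i : ℕ) * x),
                ← Subgroup.mem_center_iff.mp hdc (y ^ (i : ℕ))]
              group
            rw [← MulAut.mul_apply, ← map_mul, e2, mul_assoc, map_mul, MulAut.mul_apply]
            congr 1
            rw [Subgroup.mem_center_iff.mp hdc x, map_mul, MulAut.mul_apply, mem_fix.mp (hv i).2]
          simp only [h5] at h2
          intro i hi
          have h6 := ihs v' hv' h2 i hi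
          rw [div_eq_one] at h6
          refine fix_eq_one_of_center φ hE hfree (Subgroup.mul_mem _
            (Subgroup.inv_mem _ (Subgroup.pow_mem _ hcc _)) (Subgroup.pow_mem _ hcc _)) ?_ h6
          intro h7
          rw [inv_mul_eq_one] at h7
          have := pow_inj_mod.mp h7
          rw [hcord, Nat.mod_eq_of_lt i.2, Nat.mod_eq_of_lt a.2] at this
          exact ha (Fin.ext this ▸ hi)
        intro i hi
        rcases mem_insert.mp hi with rfl | hi
        · rw [prod_insert ha, prod_eq_one fun j hj => by rw [hs j hj, map_one], mul_one] at hprod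
          exact (map_eq_one_iff (φ (y ^ (i : ℕ))) (MulEquiv.injective _)).mp hprod
        · exact hs i hi
    let F : (Fin p → W') → W := fun v => ⟨∏ i : Fin p, φ (y ^ (i : ℕ)) (v i : U),
      Subgroup.prod_mem _ fun i _ => hinv _ (P.pow_mem hyP _) _ (v i).2.1⟩
    have hF : Function.Injective F := by
      intro v v' h
      funext i
      have h' : ∏ j : Fin p, φ (y ^ (j : ℕ)) (v j : U) = ∏ j : Fin p, φ (y ^ (j : ℕ)) (v' j : U) :=
        congrArg Subtype.val h
      have := key Finset.univ (fun i => (v i : U) / (v' i : U))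
        (fun i => W'.div_mem (v i).2 (v' i).2)
        (by simp only [map_div, prod_div_distrib]; rw [h', div_self']) i (mem_univ i)
      exact Subtype.ext (div_eq_one.mp this)
    have hcard := Nat.card_le_card_of_injective F hF
    rw [Nat.card_fun, Nat.card_fin] at hcard
    refine le_trans ?_ hcard
    rw [pow_succ, ← mul_assoc, pow_mul]
    exact Nat.pow_le_pow_left hW'card p

end CfsgLib.LocalEven.ExtraspecialDegree

namespace CfsgLib.LocalEven.ExtraspecialDegree

open scoped commutatorElement

/-- A faithful elementary abelian module of `p^(1+2w)` in characteristic `r ≠ p` has order at least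
`r^(n p^w)`. -/
theorem le_card_of_faithful {G : Type*} [Group G] [Finite G] {p r : ℕ} [hp : Fact p.Prime]
    [hr : Fact r.Prime] (hpr : p ≠ r) (E A : Subgroup G) (w : ℕ) (hE : Cfsg.IsExtraspecial p E)
    (hEcard : Nat.card E = p ^ (2 * w + 1)) [IsMulCommutative A] (hA : IsPGroup r A)
    (hnorm : E ≤ Subgroup.normalizer (A : Set G))
    (hfaith : E ⊓ Subgroup.centralizer (A : Set G) = ⊥) (n : ℕ)
    (hmin : ∀ k : ℕ, 1 ≤ k → p ∣ r ^ k - 1 → n ≤ k) : r ^ (n * p ^ w) ≤ Nat.card A := by
  set Z : Subgroup G := (Subgroup.center E).map E.subtype with hZ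
  have hZE : Z ≤ E := Subgroup.map_subtype_le _
  have hZn : Z ≤ Subgroup.normalizer (A : Set G) := hZE.trans hnorm
  have hZcard : Nat.card Z = p := by
    rw [hZ, Subgroup.card_map_of_injective E.subtype_injective]
    exact CfsgLib.PGroups.IsExtraspecial.card_center hE
  obtain ⟨a, ha⟩ := hA.exists_card_eq
  have hcop : (Nat.card Z).Coprime (Nat.card A) := by
    rw [hZcard, ha]; exact ((Nat.coprime_primes hp.out hr.out).mpr hpr).pow_right a
  set U : Subgroup G := ⁅A, Z⁆ with hU
  have hUA : U ≤ A := Subgroup.le_normalizer_iff_commutator_le_left.mp hZn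
  have hUE : ∀ e ∈ E, ∀ u ∈ U, e * u * e⁻¹ ∈ U := by
    intro e he u hu
    have h1 : U.map (MulAut.conj e : G →* G) = U := by
      have hA' : A.map (MulAut.conj e : G →* G) = A :=
        Subgroup.mem_normalizer_iff_map_conj_eq.mp (hnorm he)
      have hZ' : Z.map (MulAut.conj e : G →* G) = Z := by
        refine Subgroup.mem_normalizer_iff_map_conj_eq.mp ?_
        rw [Subgroup.mem_normalizer_iff]
        intro x
        constructor
        · rintro ⟨x₀, hx₀, rfl⟩
          refine ⟨x₀, hx₀, ?_⟩
          have := congrArg Subtype.val (Subgroup.mem_center_iff.mp hx₀ ⟨e, he⟩)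
          simp only [Subgroup.coe_mul] at this
          show (x₀ : G) = e * x₀ * e⁻¹
          rw [this, mul_inv_cancel_right]
        · rintro ⟨x₀, hx₀, hxe⟩
          refine ⟨x₀, hx₀, ?_⟩
          have := congrArg Subtype.val (Subgroup.mem_center_iff.mp hx₀ ⟨e, he⟩)
          simp only [Subgroup.coe_mul] at this
          have hxe' : (x₀ : G) = e * x * e⁻¹ := hxe
          have h2 : e * (x₀ : G) = e * (e * x * e⁻¹) := by rw [← hxe']
          have h3 : (x₀ : G) * e = e * x := by rw [hxe', inv_mul_cancel_right]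
          exact mul_left_cancel (this.trans h3)
      rw [hU, Subgroup.map_commutator, hA', hZ']
    rw [← h1]; exact ⟨u, hu, rfl⟩
  haveI : IsMulCommutative U :=
    ⟨⟨fun a b => Subtype.ext (setLike_mul_comm (hUA a.2) (hUA b.2))⟩⟩
  letI : CommGroup U := { (inferInstance : Group U) with mul_comm := fun a b => mul_comm' a b }
  let φ : E →* MulAut U :=
    { toFun := fun e =>
        { toFun := fun u => ⟨(e : G) * u * (e : G)⁻¹, hUE e e.2 u u.2⟩
          invFun := fun u => ⟨(e : G)⁻¹ * u * (e : G), by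
            simpa using hUE (e : G)⁻¹ (E.inv_mem e.2) u u.2⟩
          left_inv := fun u => Subtype.ext (by simp [mul_assoc])
          right_inv := fun u => Subtype.ext (by simp [mul_assoc])
          map_mul' := fun u v => Subtype.ext (by simp [mul_assoc]) }
      map_one' := MulEquiv.ext fun u => Subtype.ext (by simp)
      map_mul' := fun e f => MulEquiv.ext fun u => Subtype.ext (by simp [mul_assoc]) }
  have hfree : ∀ u : U, (∀ c ∈ Subgroup.center E, φ c u = u) → u = 1 := by
    intro u hu
    have h0 := CfsgLib.Core.abelian_inf_eq_bot (A := Z) (V := A) hZn hcop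
    have hmem : (u : G) ∈ (A ⊓ Subgroup.centralizer (Z : Set G)) ⊓ ⁅A, Z⁆ := by
      refine ⟨⟨hUA u.2, ?_⟩, u.2⟩
      show (u : G) ∈ Subgroup.centralizer (Z : Set G)
      rw [Subgroup.mem_centralizer_iff]
      rintro _ ⟨c, hc, rfl⟩
      exact mul_inv_eq_iff_eq_mul.mp (congrArg Subtype.val (hu c hc))
    rw [h0, Subgroup.mem_bot] at hmem
    exact Subtype.ext hmem
  have hUne : (⊤ : Subgroup U) ≠ ⊥ := by
    intro h
    have hbot : U = ⊥ := by
      rw [Subgroup.eq_bot_iff_forall]
      intro x hx
      have h2 : (⟨x, hx⟩ : U) ∈ (⊥ : Subgroup U) := h ▸ Subgroup.mem_top _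
      exact congrArg Subtype.val (Subgroup.mem_bot.mp h2)
    have hle : Z ≤ E ⊓ Subgroup.centralizer (A : Set G) :=
      le_inf hZE (Subgroup.le_centralizer_iff.mp
        (Subgroup.commutator_eq_bot_iff_le_centralizer.mp (hU ▸ hbot)))
    rw [hfaith, le_bot_iff] at hle
    rw [hle, Subgroup.card_bot] at hZcard
    exact hp.out.ne_one hZcard.symm
  have hC : Subgroup.centralizer ((⊤ : Subgroup E) : Set E) = Subgroup.center E := by
    rw [Subgroup.coe_top, Subgroup.centralizer_univ]
  have h := le_card_aux hE φ (hA.to_le hUA) hpr hfree n hmin w ⊤ le_top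
    (by rw [Subgroup.card_top, hC, CfsgLib.PGroups.IsExtraspecial.card_center hE, hEcard, pow_succ])
    ⊤ hUne fun g _ u _ => Subgroup.mem_top _
  rw [Subgroup.card_top] at h
  exact h.trans (Subgroup.card_le_of_le hUA)

end CfsgLib.LocalEven.ExtraspecialDegree
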