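import Cfsg.Agent.Lib.LocalEven.Qd
import Cfsg.Agent.Lib.Fusion.Sections
import Cfsg.Agent.Lib.PLocal.SLTwo.Basic
import Mathlib.GroupTheory.Sylow

/-!
# `F(p)` from a plane with a torus and a transvection

* `involves_fOver_of_plane`: elements `a`, `h` acting on an elementary abelian plane `⟨e₁, e₂⟩` by a
  transvection and by a diagonal element of order `p - 1` give a section `F(p)`
-/

set_option autoImplicit false
set_option linter.all false

namespace CfsgLib.LocalEven.FInv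

open Subgroup Cfsg Matrix
open CfsgLib.PLocal.SLTwo (U S2)

variable {Γ : Type*} [Group Γ] {p : ℕ} [Fact p.Prime]

theorem pow_val_add {e : Γ} (he : e ^ p = 1) (i j : ZMod p) :
    e ^ (i + j).val = e ^ i.val * e ^ j.val := by
  rw [← pow_add, ZMod.val_add, ← pow_eq_pow_mod _ he]

/-- The map `v ↦ e₁ ^ v₀ * e₂ ^ v₁`. -/
def E (e₁ e₂ : Γ) (v : Fin 2 → ZMod p) : Γ := e₁ ^ (v 0).val * e₂ ^ (v 1).val

section Plane

variable {e₁ e₂ : Γ}

theorem E_zero : E e₁ e₂ (0 : Fin 2 → ZMod p) = 1 := by simp [E]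

theorem E_add (hc : Commute e₁ e₂) (h₁ : e₁ ^ p = 1) (h₂ : e₂ ^ p = 1) (v w : Fin 2 → ZMod p) :
    E e₁ e₂ (v + w) = E e₁ e₂ v * E e₁ e₂ w := by
  simp only [E, Pi.add_apply, pow_val_add h₁, pow_val_add h₂]
  have h := (hc.pow_pow (w 0).val (v 1).val).eq
  calc e₁ ^ (v 0).val * e₁ ^ (w 0).val * (e₂ ^ (v 1).val * e₂ ^ (w 1).val)
      = e₁ ^ (v 0).val * (e₁ ^ (w 0).val * e₂ ^ (v 1).val) * e₂ ^ (w 1).val := by group
    _ = e₁ ^ (v 0).val * (e₂ ^ (v 1).val * e₁ ^ (w 0).val) * e₂ ^ (w 1).val := by rw [h]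
    _ = _ := by group

theorem E_nsmul (hc : Commute e₁ e₂) (h₁ : e₁ ^ p = 1) (h₂ : e₂ ^ p = 1) (v : Fin 2 → ZMod p) (n : ℕ) :
    E e₁ e₂ (n • v) = E e₁ e₂ v ^ n := by
  induction n with
  | zero => simp [E_zero]
  | succ n ih => rw [add_nsmul, one_nsmul, E_add hc h₁ h₂, ih, pow_succ]

theorem E_neg (hc : Commute e₁ e₂) (h₁ : e₁ ^ p = 1) (h₂ : e₂ ^ p = 1) (v : Fin 2 → ZMod p) :
    E e₁ e₂ (-v) = (E e₁ e₂ v)⁻¹ := by
  refine eq_inv_of_mul_eq_one_left ?_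
  rw [← E_add hc h₁ h₂, neg_add_cancel, E_zero]

/-- `y` acts on the plane by the matrix `A`. -/
def Act (e₁ e₂ y : Γ) (A : S2 (ZMod p)) : Prop :=
  ∀ v : Fin 2 → ZMod p, y * E e₁ e₂ v * y⁻¹ = E e₁ e₂ (A.1.mulVec v)

theorem act_one : Act e₁ e₂ (1 : Γ) (1 : S2 (ZMod p)) := fun v => by simp

theorem act_mul {y y' : Γ} {A A' : S2 (ZMod p)} (h : Act e₁ e₂ y A) (h' : Act e₁ e₂ y' A') :
    Act e₁ e₂ (y * y') (A * A') := fun v => by
  rw [Matrix.SpecialLinearGroup.coe_mul, ← Matrix.mulVec_mulVec, ← h, ← h']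
  group

theorem act_inv {y : Γ} {A : S2 (ZMod p)} (h : Act e₁ e₂ y A) : Act e₁ e₂ y⁻¹ A⁻¹ := fun v => by
  have hv := h ((A⁻¹).1.mulVec v)
  rw [Matrix.mulVec_mulVec, ← Matrix.SpecialLinearGroup.coe_mul, mul_inv_cancel,
    Matrix.SpecialLinearGroup.coe_one, Matrix.one_mulVec] at hv
  rw [← hv]
  group

theorem act_pow {y : Γ} {A : S2 (ZMod p)} (h : Act e₁ e₂ y A) : ∀ n : ℕ, Act e₁ e₂ (y ^ n) (A ^ n)
  | 0 => by rw [pow_zero, pow_zero]; exact act_one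
  | n + 1 => by rw [pow_succ, pow_succ]; exact act_mul (act_pow h n) h

theorem act_of_gens (hc : Commute e₁ e₂) (h₁ : e₁ ^ p = 1) (h₂ : e₂ ^ p = 1) {y : Γ} {A : S2 (ZMod p)}
    (he₁ : y * e₁ * y⁻¹ = E e₁ e₂ ![A.1 0 0, A.1 1 0])
    (he₂ : y * e₂ * y⁻¹ = E e₁ e₂ ![A.1 0 1, A.1 1 1]) : Act e₁ e₂ y A := by
  intro v
  have e : y * E e₁ e₂ v * y⁻¹ = (y * e₁ * y⁻¹) ^ (v 0).val * (y * e₂ * y⁻¹) ^ (v 1).val := by
    rw [conj_pow, conj_pow, E]; group
  rw [e, he₁, he₂, ← E_nsmul hc h₁ h₂, ← E_nsmul hc h₁ h₂, ← E_add hc h₁ h₂]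
  congr 1
  ext i
  fin_cases i <;>
    simp [Matrix.mulVec, dotProduct, Fin.sum_univ_two, nsmul_eq_mul, ZMod.natCast_zmod_val, mul_comm]

end Plane

/-- the diagonal matrix with entries `k`, `k⁻¹` -/
def diag (k : (ZMod p)ˣ) : S2 (ZMod p) :=
  ⟨!![(k : ZMod p), 0; 0, (k : ZMod p)⁻¹], by
    rw [Matrix.det_fin_two_of, mul_inv_cancel₀ k.ne_zero]; ring⟩

@[simp] theorem diag00 (k : (ZMod p)ˣ) : (diag k).1 0 0 = (k : ZMod p) := rfl
@[simp] theorem diag01 (k : (ZMod p)ˣ) : (diag k).1 0 1 = 0 := rfl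
@[simp] theorem diag10 (k : (ZMod p)ˣ) : (diag k).1 1 0 = 0 := rfl
@[simp] theorem diag11 (k : (ZMod p)ˣ) : (diag k).1 1 1 = (k : ZMod p)⁻¹ := rfl

theorem diag_pow (k : (ZMod p)ˣ) (n : ℕ) : diag k ^ n = diag (k ^ n) := by
  induction n with
  | zero =>
    refine CfsgLib.PLocal.SLTwo.ext2 ?_ ?_ ?_ ?_ <;> simp [-ZMod.inv_coe_unit]
  | succ n ih =>
    rw [pow_succ, ih, pow_succ]
    refine CfsgLib.PLocal.SLTwo.ext2 ?_ ?_ ?_ ?_ <;>
      simp [-ZMod.inv_coe_unit, CfsgLib.PLocal.SLTwo.m00, CfsgLib.PLocal.SLTwo.m01, CfsgLib.PLocal.SLTwo.m10,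
        CfsgLib.PLocal.SLTwo.m11, mul_comm]

/-- a generator of the units has `(p-1)/2`-th power `-1` -/
theorem gen_pow_half (hp : p ≠ 2) (k : (ZMod p)ˣ) (hk : ∀ u, u ∈ Subgroup.zpowers k) :
    k ^ ((p - 1) / 2) = -1 := by
  have h2 : 2 ≤ p := (Fact.out : p.Prime).two_le
  have hodd : p % 2 = 1 := ((Fact.out : p.Prime).eq_two_or_odd).resolve_left hp
  have hord : orderOf k = p - 1 := by
    rw [orderOf_eq_card_of_forall_mem_zpowers hk, Nat.card_eq_fintype_card, ZMod.card_units]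
  have hsq : (k ^ ((p - 1) / 2)) ^ 2 = 1 := by
    rw [← pow_mul, show (p - 1) / 2 * 2 = p - 1 by omega, ← hord, pow_orderOf_eq_one]
  have hne : k ^ ((p - 1) / 2) ≠ 1 := pow_ne_one_of_lt_orderOf (by omega) (by omega)
  have h' : ((k ^ ((p - 1) / 2) : (ZMod p)ˣ) : ZMod p) ^ 2 = 1 := by
    rw [← Units.val_pow_eq_pow_val, hsq, Units.val_one]
  rcases sq_eq_one_iff.1 h' with h | h
  · exact absurd (Units.ext h) hne
  · exact Units.ext (by rw [h, Units.val_neg, Units.val_one])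

variable [Finite Γ]

open CfsgLib.LocalEven.Qd in
/-- A plane with a transvection `a` and a diagonal element `h` of order `p - 1` gives `F(p)`. -/
theorem involves_fOver_of_plane (hp : p ≠ 2) {e₁ e₂ a h : Γ} (k : (ZMod p)ˣ)
    (hk : ∀ u, u ∈ Subgroup.zpowers k) (hc : Commute e₁ e₂) (h₁ : e₁ ^ p = 1) (h₂ : e₂ ^ p = 1)
    (he : e₁ ≠ 1) (ha₁ : a * e₁ * a⁻¹ = e₁) (ha₂ : a * e₂ * a⁻¹ = e₂ * e₁)
    (hh₁ : h * e₁ * h⁻¹ = e₁ ^ (k : ZMod p).val)
    (hh₂ : h * e₂ * h⁻¹ = e₂ ^ ((k : ZMod p)⁻¹).val) :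
    Involves ↥(Cfsg.fOver (ZMod p)) Γ := by
  classical
  haveI : Fact (Nat.Prime 2) := ⟨Nat.prime_two⟩
  have hpp : p.Prime := Fact.out
  haveI : Fact (1 < p) := ⟨hpp.one_lt⟩
  let Ev : (Fin 2 → ZMod p) → Γ := E e₁ e₂
  have hAa : Act e₁ e₂ a (U (1 : ZMod p)) := by
    refine act_of_gens hc h₁ h₂ ?_ ?_
    · rw [ha₁]; simp [E, ZMod.val_one]
    · rw [ha₂]; simp [E, ZMod.val_one, hc.eq]
  have hAh : Act e₁ e₂ h (diag k) := by
    refine act_of_gens hc h₁ h₂ ?_ ?_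
    · rw [hh₁]; simp [E]
    · rw [hh₂]; simp [E, -ZMod.inv_coe_unit]
  -- the plane is faithful
  have hinj : ∀ v : Fin 2 → ZMod p, Ev v = 1 → v = 0 := by
    intro v hv
    have h' := hAa v
    rw [show E e₁ e₂ v = 1 from hv, mul_one, mul_inv_cancel] at h'
    have e : (U (1 : ZMod p)).1.mulVec v = v + ![v 1, 0] := by
      ext i; fin_cases i <;> simp [Matrix.mulVec, dotProduct, Fin.sum_univ_two]
    rw [e, E_add hc h₁ h₂, show E e₁ e₂ v = 1 from hv, one_mul] at h'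
    have hpow : ∀ i : ZMod p, e₁ ^ i.val = 1 → i = 0 := by
      intro i hi
      have hd := orderOf_dvd_of_pow_eq_one hi
      rw [orderOf_eq_prime h₁ he] at hd
      exact (ZMod.val_eq_zero i).1 (Nat.eq_zero_of_dvd_of_lt hd (ZMod.val_lt i))
    have h1 : v 1 = 0 := hpow _ (by simpa [E] using h'.symm)
    have h0 : v 0 = 0 := hpow _ (by simpa [Ev, E, h1] using hv)
    ext i; fin_cases i <;> simp [h0, h1]
  -- a `2`-element inverting the plane
  obtain ⟨m, hm⟩ : ∃ m, m = (p - 1) / 2 := ⟨_, rfl⟩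
  have hneg : diag k ^ m = -1 := by
    rw [diag_pow, hm, gen_pow_half hp k hk]
    refine CfsgLib.PLocal.SLTwo.ext2 ?_ ?_ ?_ ?_ <;> simp [-ZMod.inv_coe_unit, inv_neg]
  obtain ⟨s, r, hr, hord⟩ := Nat.exists_eq_pow_mul_and_not_dvd (orderOf_pos (h ^ m)).ne' 2 (by norm_num)
  obtain ⟨z, hz⟩ : ∃ z, z = (h ^ m) ^ r := ⟨_, rfl⟩
  have hzA : Act e₁ e₂ z (-1 : S2 (ZMod p)) := by
    have := act_pow (act_pow hAh m) r
    rwa [hneg, Odd.neg_one_pow (Nat.odd_iff.2 (by omega)), ← hz] at this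
  have hz2 : IsPGroup 2 ↥(zpowers z) := by
    refine IsPGroup.of_card (n := s) ?_
    rw [Nat.card_zpowers, hz, orderOf_pow' _ (fun h0 => hr (by rw [h0]; exact dvd_zero 2)), hord,
      Nat.gcd_eq_right (dvd_mul_left r _), Nat.mul_div_cancel _ (Nat.pos_of_ne_zero fun h0 => hr (by rw [h0]; exact dvd_zero 2))]
  -- the stabilizer and the elements acting as `± 1`
  let S3 : Subgroup Γ :=
    { carrier := {y | ∃ A : S2 (ZMod p), Act e₁ e₂ y A}
      one_mem' := ⟨1, act_one⟩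
      mul_mem' := fun ⟨A, hA⟩ ⟨B, hB⟩ => ⟨A * B, act_mul hA hB⟩
      inv_mem' := fun ⟨A, hA⟩ => ⟨A⁻¹, act_inv hA⟩ }
  let K' : Subgroup ↥S3 :=
    { carrier := {y | Act e₁ e₂ (y : Γ) (1 : S2 (ZMod p)) ∨ Act e₁ e₂ (y : Γ) (-1 : S2 (ZMod p))}
      one_mem' := Or.inl act_one
      mul_mem' := by
        rintro x y (hx | hx) (hy | hy)
        · left; simpa using act_mul hx hy
        · right; simpa using act_mul hx hy
        · right; simpa using act_mul hx hy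
        · left; simpa using act_mul hx hy
      inv_mem' := by
        rintro x (hx | hx)
        · left; simpa using act_inv hx
        · right
          have hni : (-1 : S2 (ZMod p))⁻¹ = -1 := inv_eq_of_mul_eq_one_right (by simp)
          have := act_inv hx
          rw [hni] at this
          exact this }
  haveI hK'n : K'.Normal := ⟨fun x hx g => by
    obtain ⟨A, hA⟩ := g.2
    rcases hx with hx | hx
    · left
      have := act_mul (act_mul hA hx) (act_inv hA)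
      simpa using this
    · right
      have hcj : A * (-1 : S2 (ZMod p)) * A⁻¹ = -1 := by simp
      have := act_mul (act_mul hA hx) (act_inv hA)
      rw [hcj] at this
      exact this⟩
  let zS : ↥S3 := ⟨z, -1, hzA⟩
  let zK : ↥K' := ⟨zS, Or.inr hzA⟩
  have hzp : IsPGroup 2 ↥(zpowers zK) := by
    refine (IsPGroup.iff_card (p := 2)).2 ?_
    obtain ⟨i, hi⟩ := (IsPGroup.iff_card (p := 2)).1 hz2
    refine ⟨i, ?_⟩
    rw [← hi, Nat.card_zpowers, Nat.card_zpowers]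
    exact (orderOf_injective (S3.subtype.comp K'.subtype)
      (S3.subtype_injective.comp K'.subtype_injective) zK).symm
  obtain ⟨Q₂, hQ₂⟩ := hzp.exists_le_sylow
  obtain ⟨Q, hQ⟩ : ∃ Q, Q = ((Q₂ : Subgroup ↥K').map K'.subtype).map S3.subtype := ⟨_, rfl⟩
  have hzQ : z ∈ Q := hQ ▸ ⟨zS, ⟨zK, hQ₂ (mem_zpowers _), rfl⟩, rfl⟩
  have hzN : z ∈ normalizer (Q : Set Γ) := le_normalizer hzQ
  have hQp : IsPGroup 2 ↥Q := hQ ▸ (Q₂.2.map _).map _
  -- move into the normalizer of `Q`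
  have hmove : ∀ y : Γ, ∀ A : S2 (ZMod p), Act e₁ e₂ y A → ∃ y', y' ∈ normalizer (Q : Set Γ) ∧ Act e₁ e₂ y' A := by
    intro y A hA
    have hy : (⟨y, A, hA⟩ : ↥S3) ∈ normalizer ((Q₂ : Subgroup ↥K').map K'.subtype : Set ↥S3) ⊔ K' :=
      (Sylow.normalizer_sup_eq_top Q₂).ge (mem_top _)
    obtain ⟨n, hn, c, hc', hnc⟩ := mem_sup_of_normal_right.1 hy
    have hnQ : (n : Γ) ∈ normalizer (Q : Set Γ) := hQ ▸ le_normalizer_map S3.subtype ⟨n, hn, rfl⟩
    have e : (n : Γ) = y * (c : Γ)⁻¹ := by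
      rw [eq_mul_inv_iff_mul_eq]
      exact congrArg Subtype.val hnc
    rcases hc' with hc1 | hc1
    · refine ⟨n, hnQ, ?_⟩
      rw [e]
      simpa using act_mul hA (act_inv hc1)
    · refine ⟨n * z, mul_mem hnQ hzN, ?_⟩
      have hni : (-1 : S2 (ZMod p))⁻¹ = -1 := inv_eq_of_mul_eq_one_right (by simp)
      have := act_mul (act_mul hA (act_inv hc1)) hzA
      rw [hni] at this
      rw [e]
      simpa using this
  obtain ⟨a', ha'N, ha'⟩ := hmove a _ hAa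
  obtain ⟨h', hh'N, hh'⟩ := hmove h _ hAh
  -- the plane meets the normalizer trivially
  have hfree : ∀ v : Fin 2 → ZMod p, Ev v ∈ normalizer (Q : Set Γ) → v = 0 := by
    intro v hv
    have h1 : Ev v * z * (Ev v)⁻¹ * z⁻¹ ∈ Q :=
      mul_mem ((mem_normalizer_iff.1 hv z).1 hzQ) (inv_mem hzQ)
    have e : Ev v * z * (Ev v)⁻¹ * z⁻¹ = Ev (v + v) := by
      show E e₁ e₂ v * z * (E e₁ e₂ v)⁻¹ * z⁻¹ = E e₁ e₂ (v + v)
      rw [← E_neg hc h₁ h₂, mul_assoc, mul_assoc, ← mul_assoc z, hzA, E_add hc h₁ h₂]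
      congr 1
      simp [Matrix.neg_mulVec]
    rw [e] at h1
    obtain ⟨j, hj⟩ := hQp ⟨_, h1⟩
    have hj' : E e₁ e₂ (v + v) ^ 2 ^ j = 1 := congrArg Subtype.val hj
    rw [← E_nsmul hc h₁ h₂] at hj'
    have h2 := hinj _ hj'
    have h2ne : (2 : ZMod p) ≠ 0 := fun h0 => hp ((Nat.prime_dvd_prime_iff_eq hpp Nat.prime_two).1
      ((ZMod.natCast_eq_zero_iff 2 p).1 (by simpa using h0)))
    ext i
    have h3 := congrFun h2 i
    simp only [Pi.smul_apply, Pi.add_apply, nsmul_eq_mul, Nat.cast_pow, Nat.cast_ofNat, Pi.zero_apply,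
      mul_eq_zero, ← two_mul, pow_eq_zero_iff', h2ne, false_and, false_or] at h3
    simpa [h2ne] using h3
  -- the graph of the map onto `F(p)`
  let R : Subgroup (Γ × ↥(Cfsg.qdOver (ZMod p))) :=
    { carrier := {x | ∃ y ∈ normalizer (Q : Set Γ), x.1 = Ev (trans x.2) * y ∧ Act e₁ e₂ y (block (ZMod p) x.2)}
      one_mem' := ⟨1, one_mem _, by
        have : trans (1 : ↥(Cfsg.qdOver (ZMod p))) = 0 := by
          ext i; fin_cases i <;> simp [CfsgLib.LocalEven.Qd.trans]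
        show (1 : Γ) = E e₁ e₂ (trans 1) * 1
        rw [this, E_zero, one_mul], (map_one (block (ZMod p))).symm ▸ act_one⟩
      mul_mem' := by
        rintro ⟨x, M⟩ ⟨x', M'⟩ ⟨y, hy, hx, hA⟩ ⟨y', hy', hx', hA'⟩
        refine ⟨y * y', mul_mem hy hy', ?_, (map_mul (block (ZMod p)) M M').symm ▸ act_mul hA hA'⟩
        show x * x' = E e₁ e₂ (trans (M * M')) * (y * y')
        rw [trans_mul, add_comm, E_add hc h₁ h₂, show x = _ from hx, show x' = _ from hx']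
        show E e₁ e₂ (trans M) * y * (E e₁ e₂ (trans M') * y') = _
        rw [← hA]
        group
      inv_mem' := by
        rintro ⟨x, M⟩ ⟨y, hy, hx, hA⟩
        refine ⟨y⁻¹, inv_mem hy, ?_, (map_inv (block (ZMod p)) M).symm ▸ act_inv hA⟩
        show x⁻¹ = E e₁ e₂ (trans M⁻¹) * y⁻¹
        have h0 : trans (M * M⁻¹) = 0 := by
          rw [mul_inv_cancel]; ext i; fin_cases i <;> simp [CfsgLib.LocalEven.Qd.trans]
        rw [trans_mul] at h0
        have h3 : E e₁ e₂ ((block (ZMod p) M).1.mulVec (trans M⁻¹)) = (E e₁ e₂ (trans M))⁻¹ := by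
          rw [← E_neg hc h₁ h₂]
          exact congrArg _ (eq_neg_of_add_eq_zero_left h0)
        rw [← hA] at h3
        have h4 : E e₁ e₂ (trans M⁻¹) = y⁻¹ * (E e₁ e₂ (trans M))⁻¹ * y := by rw [← h3]; group
        rw [h4, show x = _ from hx]
        show (E e₁ e₂ (trans M) * y)⁻¹ = _
        group }
  have hRinj : Function.Injective ((MonoidHom.fst Γ _).comp R.subtype) := by
    rw [← MonoidHom.ker_eq_bot_iff, eq_bot_iff]
    rintro ⟨⟨x, M⟩, y, hy, hx, hA⟩ hker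
    have hx1 : x = 1 := hker
    have hv : trans M = 0 := by
      refine hfree _ ?_
      have e : Ev (trans M) = y⁻¹ := by
        refine eq_inv_of_mul_eq_one_left ?_
        rw [← show x = Ev (trans M) * y from hx, hx1]
      rw [e]; exact inv_mem hy
    have hy1 : y = 1 := by
      have h9 : x = E e₁ e₂ (trans M) * y := hx
      rw [hx1, hv, E_zero, one_mul] at h9
      exact h9.symm
    have hb : block (ZMod p) M = 1 := by
      have hcol : ∀ w : Fin 2 → ZMod p, (block (ZMod p) M).1.mulVec w = w := by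
        intro w
        have h5 : y * E e₁ e₂ w * y⁻¹ = E e₁ e₂ ((block (ZMod p) M).1.mulVec w) := hA w
        rw [hy1, one_mul, inv_one, mul_one] at h5
        refine (sub_eq_zero.1 (hinj _ ?_))
        show E e₁ e₂ _ = 1
        rw [sub_eq_add_neg, E_add hc h₁ h₂, E_neg hc h₁ h₂, ← h5, mul_inv_cancel]
      exact Subtype.ext (Matrix.toLin'.injective (LinearMap.ext fun w => by simpa using hcol w))
    have hM : M = 1 := by
      refine ext_parts (by rw [hb, map_one]) ?_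
      rw [hv]; ext i; fin_cases i <;> simp [CfsgLib.LocalEven.Qd.trans]
    rw [mem_bot]
    exact Subtype.ext (Prod.ext hx1 hM)
  let T3 : Subgroup ↥(Cfsg.qdOver (ZMod p)) := R.map (MonoidHom.snd Γ _)
  have hfle : Cfsg.fOver (ZMod p) ≤ T3.map (Cfsg.qdOver (ZMod p)).subtype := by
    refine (closure_le _).2 ?_
    rintro M ⟨h10, h20, h21, h22⟩
    let M' : ↥(Cfsg.qdOver (ZMod p)) := ⟨M, subset_closure ⟨h20, h21, h22⟩⟩
    refine ⟨M', ?_, rfl⟩
    have hdec : M' = mkElt (ZMod p) 1 (trans M') * mkElt (ZMod p) (block (ZMod p) M') 0 := by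
      refine ext_parts ?_ ?_
      · rw [map_mul, block_mkElt, block_mkElt, one_mul]
      · rw [trans_mul, trans_mkElt, trans_mkElt, block_mkElt, Matrix.mulVec_zero, zero_add]
    rw [hdec]
    refine mul_mem ⟨(Ev (trans M'), _), ⟨1, one_mem _, ?_, ?_⟩, rfl⟩ ?_
    · show Ev (trans M') = Ev (trans (mkElt (ZMod p) 1 (trans M'))) * 1
      rw [trans_mkElt, mul_one]
    · exact (block_mkElt (1 : S2 (ZMod p)) (trans M')).symm ▸ act_one
    obtain ⟨A, hAdef⟩ : ∃ A, A = block (ZMod p) M' := ⟨_, rfl⟩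
    have hA10 : A.1 1 0 = 0 := by rw [hAdef, block_coe]; exact h10
    rw [← hAdef]
    have hmem : ∀ y ∈ normalizer (Q : Set Γ), ∀ B, Act e₁ e₂ y B → mkElt (ZMod p) B 0 ∈ T3 := by
      intro y hy B hB
      refine ⟨(y, _), ⟨y, hy, ?_, ?_⟩, rfl⟩
      · show y = Ev (trans (mkElt (ZMod p) B 0)) * y
        rw [trans_mkElt, show Ev (0 : Fin 2 → ZMod p) = 1 from E_zero, one_mul]
      · exact (block_mkElt B (0 : Fin 2 → ZMod p)).symm ▸ hB
    have hd := CfsgLib.PLocal.SLTwo.det2 A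
    rw [hA10, mul_zero, sub_zero] at hd
    have hu0 : A.1 0 0 ≠ 0 := fun h0 => by rw [h0, zero_mul] at hd; exact zero_ne_one hd
    obtain ⟨i, hi⟩ := mem_powers_iff_mem_zpowers.2 (hk (Units.mk0 _ hu0))
    have hi' : k ^ i = Units.mk0 _ hu0 := hi
    have hUpow : ∀ n : ℕ, U (1 : ZMod p) ^ n = U (n : ZMod p) := fun n => by
      rw [CfsgLib.PLocal.SLTwo.U_pow, mul_one]
    have hAeq : A = diag k ^ i * U (1 : ZMod p) ^ (A.1 0 1 / A.1 0 0).val := by
      rw [hUpow, ZMod.natCast_zmod_val, diag_pow, hi']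
      have h11 : A.1 1 1 = (A.1 0 0)⁻¹ := eq_inv_of_mul_eq_one_right hd
      refine CfsgLib.PLocal.SLTwo.ext2 ?_ ?_ ?_ ?_ <;>
        simp [-ZMod.inv_coe_unit, CfsgLib.PLocal.SLTwo.m00, CfsgLib.PLocal.SLTwo.m01, CfsgLib.PLocal.SLTwo.m10,
          CfsgLib.PLocal.SLTwo.m11, hA10, h11]
      field_simp
    rw [hAeq]
    exact hmem _ (mul_mem (pow_mem hh'N i) (pow_mem ha'N _)) _ (act_mul (act_pow hh' i) (act_pow ha' _))
  let fF : R →* Matrix.SpecialLinearGroup (Fin 3) (ZMod p) :=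
    ((Cfsg.qdOver (ZMod p)).subtype.comp (MonoidHom.snd Γ _)).comp R.subtype
  refine CfsgLib.Fusion.involves_of_surjective
    (((MonoidHom.fst Γ _).comp R.subtype).comp ((Cfsg.fOver (ZMod p)).comap fF).subtype)
    (hRinj.comp (Subgroup.subtype_injective _)) (fF.subgroupComap (Cfsg.fOver (ZMod p))) ?_
  intro ⟨M, hM⟩
  obtain ⟨M', ⟨⟨x, M''⟩, hxR, rfl⟩, rfl⟩ := hfle hM
  exact ⟨⟨⟨(x, M''), hxR⟩, hM⟩, rfl⟩

end CfsgLib.LocalEven.FInv
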