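import Cfsg.Prelude.Def_LocalStructure
import Cfsg.Agent.Lib.LocalEven.CharPWeak
import Cfsg.Agent.Lib.LocalEven.LargestReduced
import Cfsg.Agent.Lib.Core.Nilpotent

/-! Minimal groups `H` with `Y ≰ O_p(H)`, `Y ≤ O ≤ H`. -/

namespace CfsgLib.LocalEven

open Subgroup
open scoped commutatorElement

variable {G : Type*} [Group G] [Finite G] {p : ℕ} [Fact p.Prime]

theorem pResidualOf_sup_sylow_eq {H : Subgroup G} {N : Subgroup G} (hNH : N ≤ H)
    (hn : H ≤ normalizer (N : Set G)) {A : Subgroup G} (hA : IsPGroup p A) (h : H ≤ N ⊔ A)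
    (hAH : A ≤ H) : (Cfsg.pResidual p ↥H).map H.subtype ≤ N := by
  haveI : (N.subgroupOf H).Normal := (normal_subgroupOf_iff_le_normalizer hNH).mpr hn
  rw [map_le_iff_le_comap]
  refine pResidual_le_of_sup_eq_top (N := N.subgroupOf H) (T := A.subgroupOf H) (hA.comap_of_injective _ H.subtype_injective) ?_
  rw [eq_top_iff, ← subgroupOf_self (H := H)]
  show H.subgroupOf H ≤ N.subgroupOf H ⊔ A.subgroupOf H
  rw [← subgroupOf_sup hNH hAH]
  exact comap_mono h

/-- Elements of order prime to `p`: `O^p(H) O` normal-closure statements. -/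
theorem frakH_normalClosure {Y O H : Subgroup G} (hYO : Y ≤ O) (hOH : O ≤ H)
    (hYH : ¬ Y ≤ Cfsg.pCoreOf p H)
    (hmin : ∀ P : Subgroup G, O ≤ P → P < H → Y ≤ Cfsg.pCoreOf p P)
    {N : Subgroup G} (hON : O ≤ N) (hNH : N ≤ H) (hn : H ≤ normalizer (N : Set G)) : N = H := by
  by_contra hne
  refine hYH (le_trans (hmin N hON (lt_of_le_of_ne hNH hne)) ?_)
  exact le_pCoreOf_of_le_normal hNH hn (CfsgLib.LocalEvenB.pCoreOf_le N)
    (CfsgLib.LocalEvenB.isPGroup_pCoreOf N) (CfsgLib.LocalEvenB.le_normalizer_pCoreOf N)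

theorem frakH_residual_sup {Y O H : Subgroup G} (hYO : Y ≤ O) (hOp : IsPGroup p O) (hOH : O ≤ H)
    (hYH : ¬ Y ≤ Cfsg.pCoreOf p H)
    (hmin : ∀ P : Subgroup G, O ≤ P → P < H → Y ≤ Cfsg.pCoreOf p P) :
    (Cfsg.pResidual p ↥H).map H.subtype ⊔ O = H := by
  set R := (Cfsg.pResidual p ↥H).map H.subtype with hR
  have hRH : R ≤ H := map_subtype_le _
  by_contra hne
  have hle : R ⊔ O ≤ H := sup_le hRH hOH
  apply hYH
  have hsn : ((R ⊔ O).subgroupOf H).IsSubnormal := by
    have hge : Cfsg.pResidual p ↥H ≤ (R ⊔ O).subgroupOf H :=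
      (comap_map_eq_self_of_injective H.subtype_injective _).symm.trans_le (comap_mono le_sup_left)
    set π := QuotientGroup.mk' (Cfsg.pResidual p ↥H)
    haveI : Group.IsNilpotent (↥H ⧸ Cfsg.pResidual p ↥H) :=
      (CfsgLib.Transfer.isPGroup_quotient_pResidual (p := p) (G := ↥H)).isNilpotent
    have h := (CfsgLib.Core.isSubnormal_of_isNilpotent (((R ⊔ O).subgroupOf H).map π)).comap π
    rwa [comap_map_eq_self (by rw [QuotientGroup.ker_mk']; exact hge)] at h
  have h1 := CfsgLib.Components.subnormal_pGroup_le_pCore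
    ((IsSubnormal.trans' ((normal_of_characteristic (Cfsg.pCore p ↥((R ⊔ O).subgroupOf H))).isSubnormal) hsn))
    ((CfsgLib.Core.isPGroup_pCore p _).map _)
  intro y hy
  have hy' := hmin (R ⊔ O) le_sup_right (lt_of_le_of_ne hle hne) hy
  obtain ⟨z, hz, rfl⟩ := hy'
  refine ⟨⟨z, hle z.2⟩, h1 ⟨⟨⟨z, hle z.2⟩, z.2⟩, ?_, rfl⟩, rfl⟩
  rw [← CfsgLib.Core.map_equiv_pCore (subgroupOfEquivOfLe hle).symm]
  exact ⟨z, hz, rfl⟩

theorem frakH_structure {Y O H : Subgroup G} (hYO : Y ≤ O) (hOY : O ≤ centralizer (Y : Set G))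
    (hOp : IsPGroup p O) (hOH : O ≤ H) (hYH : ¬ Y ≤ Cfsg.pCoreOf p H)
    (hmin : ∀ P : Subgroup G, O ≤ P → P < H → Y ≤ Cfsg.pCoreOf p P) :
    ⁅(Cfsg.pResidual p ↥H).map H.subtype, Y⁆ = (Cfsg.pResidual p ↥H).map H.subtype ∧
      (Cfsg.pResidual p ↥H).map H.subtype ⊔ O = H ∧
      (Cfsg.pResidual p ↥H).map H.subtype ⊔ Y =
        (normalClosure ((Y.subgroupOf H : Subgroup ↥H) : Set ↥H)).map H.subtype ∧
      (normalClosure ((O.subgroupOf H : Subgroup ↥H) : Set ↥H)).map H.subtype = H := by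
  have hRO := frakH_residual_sup hYO hOp hOH hYH hmin
  set R := (Cfsg.pResidual p ↥H).map H.subtype with hR
  have hRH : R ≤ H := map_subtype_le _
  have hYH' : Y ≤ H := hYO.trans hOH
  have hRn : H ≤ normalizer (R : Set G) := le_normalizer_map_of_normal H _
  set D := ⁅R, Y⁆ with hD
  have hDR : D ≤ R := le_normalizer_iff_commutator_le_left.mp (hYH'.trans hRn)
  have hRD : R ≤ normalizer (D : Set G) := normalizer_commutator_ge_left R Y
  have hYD : Y ≤ normalizer (D : Set G) := normalizer_commutator_ge_right R Y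
  have hOYn : O ≤ normalizer (Y : Set G) := hOY.trans (centralizer_le_normalizer _)
  have hOD : O ≤ normalizer (D : Set G) := by
    intro o ho
    rw [mem_normalizer_conj_iff, hD, Subgroup.map_commutator,
      mem_normalizer_conj_iff.mp (hRn (hOH ho)), mem_normalizer_conj_iff.mp (hOYn ho)]
  have hHD : H ≤ normalizer (D : Set G) := hRO.ge.trans (sup_le hRD hOD)
  have hDY : H ≤ normalizer ((D ⊔ Y : Subgroup G) : Set G) := by
    refine hRO.ge.trans (sup_le ?_
      ((le_inf hOD hOYn).trans (normalizer_inf_normalizer_le_normalizer_sup _ _)))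
    rw [le_normalizer_iff_commutator_le_right, commutator_le]
    intro r hr x hx
    rw [← SetLike.mem_coe, coe_mul_of_right_le_normalizer_left D Y hYD] at hx
    obtain ⟨d, hd, y, hy, rfl⟩ := hx
    rw [show ⁅r, d * y⁆ = (r * d * r⁻¹) * ⁅r, y⁆ * d⁻¹ by simp only [commutatorElement_def]; group]
    exact mem_sup_left (mul_mem (mul_mem ((mem_normalizer_iff.mp (hRD hr) d).mp hd)
      (commutator_mem_commutator hr hy)) (inv_mem hd))
  have hDYH : D ⊔ Y ≤ H := sup_le (hDR.trans hRH) hYH'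
  have hK : D ⊔ O = H := by
    by_contra hne
    have hY1 := hmin (D ⊔ O) le_sup_right (lt_of_le_of_ne (sup_le (hDR.trans hRH) hOH) hne)
    apply hYH
    set K := D ⊔ O with hKdef
    have h2 : Y ≤ Cfsg.pCoreOf p K ⊓ (D ⊔ Y) := le_inf hY1 le_sup_right
    refine h2.trans (le_pCoreOf_of_le_normal hDYH hDY inf_le_right
      ((CfsgLib.LocalEvenB.isPGroup_pCoreOf K).to_le inf_le_left) ?_)
    refine (le_inf ?_ le_normalizer).trans inf_normalizer_le_normalizer_inf
    exact (sup_le le_sup_left (hYO.trans le_sup_right)).trans (CfsgLib.LocalEvenB.le_normalizer_pCoreOf K)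
  have hDeq : D = R := le_antisymm hDR
    (pResidualOf_sup_sylow_eq (hDR.trans hRH) hHD hOp hK.ge hOH)
  refine ⟨hDeq, hRO, le_antisymm ?_ ?_, ?_⟩
  · have hYn : Y ≤ (normalClosure ((Y.subgroupOf H : Subgroup ↥H) : Set ↥H)).map H.subtype := fun y hy =>
      ⟨⟨y, hYH' hy⟩, subset_normalClosure hy, rfl⟩
    refine sup_le ?_ hYn
    rw [← hDeq, hD]
    refine le_trans (commutator_mono le_rfl hYn)
      (le_normalizer_iff_commutator_le_right.mp (hRH.trans (le_normalizer_map_of_normal H _)))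
  · rw [map_le_iff_le_comap]
    haveI : ((R ⊔ Y).subgroupOf H).Normal :=
      normal_subgroupOf_of_le_normalizer (by rw [← hDeq]; exact hDY)
    exact normalClosure_le_normal (N := (R ⊔ Y).subgroupOf H) fun y hy => mem_sup_right (S := R) hy
  · refine frakH_normalClosure hYO hOH hYH hmin (fun o ho => ⟨⟨o, hOH ho⟩, subset_normalClosure ho, rfl⟩)
      (map_subtype_le _) (le_normalizer_map_of_normal H _)

end CfsgLib.LocalEven
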