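import Cfsg.Agent.Lib.Known.AutPSL.Classify
import Cfsg.Agent.Lib.Known.AutPSL.Structure
import Cfsg.Agent.Lib.Classical.SL2Structure
import Cfsg.Agent.Lib.Techniques2.SFourFree

/-!
# Elementary abelian `2`-groups of automorphisms of `PSL₂(3 ^ (2 n + 1))`

* `exists_step`: at most four elements, and a hyperplane fixes an element moved by a commutator of order not a power of `2`
-/

set_option autoImplicit false
set_option linter.all false

namespace CfsgLib.LocalEven.PSLFourAut

open Subgroup CfsgLib.Known.AutPSL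
open Matrix hiding mul_smul

variable {F : Type*} [Field F] [Fintype F] {n : ℕ}

theorem charThree (hF : Fintype.card F = 3 ^ (2 * n + 1)) : CharP F 3 := by
  obtain ⟨p, hp⟩ := CharP.exists F
  obtain ⟨k, hpp, hk⟩ := FiniteField.card F p
  rw [hF] at hk
  obtain rfl := (Nat.prime_dvd_prime_iff_eq hpp Nat.prime_three).1
    (hpp.dvd_of_dvd_pow (hk ▸ dvd_pow_self p k.pos.ne'))
  exact hp

theorem card_mod (hF : Fintype.card F = 3 ^ (2 * n + 1)) : Fintype.card F % 8 = 3 := by
  rw [hF, pow_succ, pow_mul, Nat.mul_mod, Nat.pow_mod]; norm_num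

/-- an automorphism of order two is induced by a matrix -/
theorem exists_semilin_refl (hF : Fintype.card F = 3 ^ (2 * n + 1)) {a : MulAut (PSL 2 F)} (ha : a * a = 1) :
    ∃ g : GL (Fin 2) F, a = semilin g (RingEquiv.refl F) := by
  haveI := charThree hF
  haveI : Fact (Nat.Prime 3) := ⟨Nat.prime_three⟩
  obtain ⟨g, σ, h | ⟨h3, -⟩⟩ := exists_eq_semilin le_rfl a
  swap
  · omega
  subst h
  rw [semilin_mul, semilin_eq_one_iff le_rfl] at ha
  have hσ2 : (σ : RingAut F) ^ 2 = 1 := by rw [pow_two]; exact ha.1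
  have hcard : Nat.card (RingAut F) = 2 * n + 1 := (card_ringAut hF (by omega : 1 ≤ 2 * n + 1)).1
  have : (σ : RingAut F) = 1 := by
    rw [← orderOf_eq_one_iff]
    exact Nat.eq_one_of_dvd_coprimes (Nat.coprime_two_left.2 ⟨n, rfl⟩) (orderOf_dvd_of_pow_eq_one hσ2)
      (hcard ▸ orderOf_dvd_natCard _)
  exact ⟨g, by rw [show σ = RingEquiv.refl F from this]⟩

theorem refl_trans : (RingEquiv.refl F).trans (RingEquiv.refl F) = RingEquiv.refl F := rfl

theorem glMap_refl (g : GL (Fin 2) F) : glMap (RingEquiv.refl F) g = g :=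
  Units.ext (by rw [coe_glMap]; ext i j; rfl)

/-- the matrix of an involutory automorphism -/
theorem exists_mat (hF : Fintype.card F = 3 ^ (2 * n + 1)) {a : MulAut (PSL 2 F)} (ha : a * a = 1) (ha1 : a ≠ 1) :
    ∃ (g : GL (Fin 2) F) (p q r : F), a = semilin g (RingEquiv.refl F) ∧ (g : Matrix (Fin 2) (Fin 2) F) = !![p, q; r, -p] ∧
      p * p + q * r ≠ 0 := by
  haveI := charThree hF
  obtain ⟨g, rfl⟩ := exists_semilin_refl hF ha
  rw [semilin_mul, semilin_eq_one_iff le_rfl, glMap_refl] at ha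
  obtain ⟨c, hc⟩ := ha.2
  have hns : ¬ ∃ c : F, (g : Matrix (Fin 2) (Fin 2) F) = c • 1 := fun h =>
    ha1 ((semilin_eq_one_iff le_rfl g _).2 ⟨rfl, h⟩)
  have hd : (g : Matrix (Fin 2) (Fin 2) F).det ≠ 0 := ((Matrix.isUnit_iff_isUnit_det _).1 g.isUnit).ne_zero
  rw [Units.val_mul] at hc
  have e00 := congrFun (congrFun hc 0) 0
  have e01 := congrFun (congrFun hc 0) 1
  have e10 := congrFun (congrFun hc 1) 0
  have e11 := congrFun (congrFun hc 1) 1
  simp [Matrix.mul_apply, Fin.sum_univ_two] at e00 e01 e10 e11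
  obtain ⟨M, hM⟩ : ∃ M, M = (g : Matrix (Fin 2) (Fin 2) F) := ⟨_, rfl⟩
  rw [← hM] at hns hd e00 e01 e10 e11
  have htr : M 1 1 = - M 0 0 := by
    by_contra hne
    have hne' : M 0 0 + M 1 1 ≠ 0 := fun h => hne (eq_neg_of_add_eq_zero_right h)
    have h01 : M 0 1 = 0 := (mul_eq_zero.1 (show (M 0 0 + M 1 1) * M 0 1 = 0 by linear_combination e01)).resolve_left hne'
    have h10 : M 1 0 = 0 := (mul_eq_zero.1 (show (M 0 0 + M 1 1) * M 1 0 = 0 by linear_combination e10)).resolve_left hne'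
    rw [h01, h10] at e00 e11
    have heq : M 0 0 = M 1 1 :=
      sub_eq_zero.1 ((mul_eq_zero.1 (show (M 0 0 + M 1 1) * (M 0 0 - M 1 1) = 0 by linear_combination e00 - e11)).resolve_left hne')
    refine hns ⟨M 0 0, ?_⟩
    ext i j
    fin_cases i <;> fin_cases j <;> simp [h01, h10, ← heq]
  refine ⟨g, M 0 0, M 0 1, M 1 0, rfl, ?_, fun h0 => hd ?_⟩
  · rw [← hM]
    ext i j
    fin_cases i <;> fin_cases j <;> simp [htr]
  · rw [Matrix.det_fin_two, htr]; linear_combination -h0

/-- commuting distinct involutory automorphisms have orthogonal matrices -/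
theorem orth (hF : Fintype.card F = 3 ^ (2 * n + 1)) {g h : GL (Fin 2) F} {p q r p' q' r' : F}
    (hg : (g : Matrix (Fin 2) (Fin 2) F) = !![p, q; r, -p]) (hh : (h : Matrix (Fin 2) (Fin 2) F) = !![p', q'; r', -p'])
    (hg0 : p * p + q * r ≠ 0)
    (hc : Commute (semilin g (RingEquiv.refl F)) (semilin h (RingEquiv.refl F)))
    (hne : semilin g (RingEquiv.refl F) ≠ semilin h (RingEquiv.refl F)) : 2 * p * p' + q * r' + r * q' = 0 := by
  by_contra hB
  refine hne ?_
  have h1 := hc.eq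
  rw [semilin_mul, semilin_mul, glMap_refl, glMap_refl, refl_trans] at h1
  have h2 : semilin (n := 2) ((g * h) * (h * g)⁻¹) (RingEquiv.refl F) = 1 := by
    have h3 := semilin_mul (g * h) ((h * g)⁻¹) (RingEquiv.refl F) (RingEquiv.refl F)
    rw [glMap_refl, refl_trans] at h3
    rw [← h3, h1]
    have h4 := semilin_mul (h * g) ((h * g)⁻¹) (RingEquiv.refl F) (RingEquiv.refl F)
    rw [glMap_refl, refl_trans, mul_inv_cancel, semilin_one] at h4
    exact h4
  obtain ⟨-, c, hc⟩ := (semilin_eq_one_iff le_rfl _ _).1 h2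
  have h5 : ((g * h : GL (Fin 2) F) : Matrix (Fin 2) (Fin 2) F) = c • ((h * g : GL (Fin 2) F) : Matrix (Fin 2) (Fin 2) F) := by
    have h6 : ((g * h : GL (Fin 2) F) : Matrix (Fin 2) (Fin 2) F) =
        ((g * h * (h * g)⁻¹ : GL (Fin 2) F) : Matrix (Fin 2) (Fin 2) F) * ((h * g : GL (Fin 2) F) : Matrix (Fin 2) (Fin 2) F) := by
      rw [← Units.val_mul, inv_mul_cancel_right]
    rw [h6, hc, smul_mul_assoc, one_mul]
  rw [Units.val_mul, Units.val_mul, hg, hh] at h5
  have e00 := congrFun (congrFun h5 0) 0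
  have e01 := congrFun (congrFun h5 0) 1
  have e10 := congrFun (congrFun h5 1) 0
  have e11 := congrFun (congrFun h5 1) 1
  simp [Matrix.mul_apply, Fin.sum_univ_two] at e00 e01 e10 e11
  -- `h` is a multiple of `g`
  obtain ⟨B, hBd⟩ : ∃ B, B = 2 * p * p' + q * r' + r * q' := ⟨_, rfl⟩
  rw [← hBd] at hB
  obtain ⟨lam, hlam⟩ : ∃ lam, lam = B / (2 * (p * p + q * r)) := ⟨_, rfl⟩
  haveI := charThree hF
  have h2' : (2 : F) ≠ 0 := by
    intro h
    have h' : ((2 : ℕ) : F) = 0 := by exact_mod_cast h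
    have := (CharP.cast_eq_zero_iff F 3 2).1 h'
    norm_num at this
  have hu : p * q' - q * p' = 0 := by
    rcases eq_or_ne (1 + c) 0 with h | h
    · have hc' : c = -1 := by linear_combination h
      exact absurd ((mul_eq_zero.1 (show (2 : F) * B = 0 by rw [hBd]; linear_combination e00 + e11 + (p * p' + q * r' + r * q' + p * p') * (hc'))).resolve_left h2') hB
    · exact (mul_eq_zero.1 (show (1 + c) * (p * q' - q * p') = 0 by linear_combination e01)).resolve_left h
  have hv : r * p' - p * r' = 0 := by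
    rcases eq_or_ne (1 + c) 0 with h | h
    · have hc' : c = -1 := by linear_combination h
      exact absurd ((mul_eq_zero.1 (show (2 : F) * B = 0 by rw [hBd]; linear_combination e00 + e11 + (p * p' + q * r' + r * q' + p * p') * (hc'))).resolve_left h2') hB
    · exact (mul_eq_zero.1 (show (1 + c) * (r * p' - p * r') = 0 by linear_combination e10)).resolve_left h
  have hw : q * r' - r * q' = 0 := by
    rcases eq_or_ne (1 + c) 0 with h | h
    · have hc' : c = -1 := by linear_combination h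
      exact absurd ((mul_eq_zero.1 (show (2 : F) * B = 0 by rw [hBd]; linear_combination e00 + e11 + (p * p' + q * r' + r * q' + p * p') * (hc'))).resolve_left h2') hB
    · exact (mul_eq_zero.1 (show (1 + c) * (q * r' - r * q') = 0 by linear_combination e00 - e11)).resolve_left h
  have hl : lam * (2 * (p * p + q * r)) = B := by rw [hlam, div_mul_cancel₀ _ (mul_ne_zero h2' hg0)]
  have hne2 := mul_ne_zero h2' hg0
  have hsm : (h : Matrix (Fin 2) (Fin 2) F) = lam • (g : Matrix (Fin 2) (Fin 2) F) := by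
    rw [hg, hh]
    have i1 : p' = lam * p := mul_right_cancel₀ hne2 (by rw [mul_right_comm, hl, hBd]; linear_combination r * (-hu) + q * hv)
    have i2 : q' = lam * q := mul_right_cancel₀ hne2 (by rw [mul_right_comm, hl, hBd]; linear_combination 2 * p * hu - q * hw)
    have i3 : r' = lam * r := mul_right_cancel₀ hne2 (by rw [mul_right_comm, hl, hBd]; linear_combination -2 * p * hv + r * hw)
    ext i j
    fin_cases i <;> fin_cases j <;> simp [i1, i2, i3]
  have h7 : semilin (n := 2) (h * g⁻¹) (RingEquiv.refl F) = 1 := (semilin_eq_one_iff le_rfl _ _).2 ⟨rfl, lam, by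
    rw [Units.val_mul, hsm, smul_mul_assoc, ← Units.val_mul, mul_inv_cancel, Units.val_one]⟩
  have h8 := semilin_mul (h * g⁻¹) g (RingEquiv.refl F) (RingEquiv.refl F)
  rw [glMap_refl, refl_trans, inv_mul_cancel_right, h7, one_mul] at h8
  exact h8

/-- at most four commuting involutory automorphisms -/
theorem card_le_four (hF : Fintype.card F = 3 ^ (2 * n + 1)) {A : Subgroup (MulAut (PSL 2 F))}
    (hA : Cfsg.IsElementaryAbelian 2 A) [Finite A] : Nat.card A ≤ 4 := by
  classical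
  haveI : Fintype A := Fintype.ofFinite _
  haveI := charThree hF
  have hsq : ∀ a : A, (a : MulAut (PSL 2 F)) * a = 1 := fun a => by rw [← pow_two]; exact hA.2 _ a.2
  let ι := {a : A // a ≠ 1}
  have hex : ∀ a : ι, ∃ v : Fin 3 → F, ∃ g : GL (Fin 2) F, (a.1 : MulAut (PSL 2 F)) = semilin g (RingEquiv.refl F) ∧
      (g : Matrix (Fin 2) (Fin 2) F) = !![v 0, v 1; v 2, -v 0] ∧ v 0 * v 0 + v 1 * v 2 ≠ 0 := fun a => by
    obtain ⟨g, p, q, r, h1, h2, h3⟩ := exists_mat hF (hsq a.1) (fun h => a.2 (Subtype.ext h))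
    exact ⟨![p, q, r], g, h1, h2, h3⟩
  choose v g hg hgm hne using hex
  have hli : LinearIndependent F v := by
    rw [Fintype.linearIndependent_iff]
    intro c hc j
    have h0 := congrFun hc 0
    have h1 := congrFun hc 1
    have h2 := congrFun hc 2
    simp only [Finset.sum_apply, Pi.smul_apply, smul_eq_mul, Pi.zero_apply] at h0 h1 h2
    have hsum : ∑ i, c i * (2 * v j 0 * v i 0 + v j 1 * v i 2 + v j 2 * v i 1) = 0 := by
      calc ∑ i, c i * (2 * v j 0 * v i 0 + v j 1 * v i 2 + v j 2 * v i 1)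
          = 2 * v j 0 * ∑ i, c i * v i 0 + v j 1 * ∑ i, c i * v i 2 + v j 2 * ∑ i, c i * v i 1 := by
            rw [Finset.mul_sum, Finset.mul_sum, Finset.mul_sum, ← Finset.sum_add_distrib, ← Finset.sum_add_distrib]
            exact Finset.sum_congr rfl fun i _ => by ring
        _ = 0 := by rw [h0, h1, h2]; ring
    rw [Finset.sum_eq_single j] at hsum
    · refine (mul_eq_zero.1 hsum).resolve_right fun h => hne j ?_
      have h2' : (2 : F) ≠ 0 := by
        intro h
        have h' : ((2 : ℕ) : F) = 0 := by exact_mod_cast h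
        have := (CharP.cast_eq_zero_iff F 3 2).1 h'
        norm_num at this
      exact (mul_eq_zero.1 (show (2 : F) * _ = 0 by linear_combination h)).resolve_left h2'
    · intro i _ hij
      rw [orth hF (hgm j) (hgm i) (hne j) (by rw [← hg, ← hg]; exact congrArg Subtype.val (hA.1.is_comm.comm j.1 i.1))
        (by rw [← hg, ← hg]; exact fun h => hij (Subtype.ext (Subtype.ext h.symm))), mul_zero]
    · simp
  have h3 := hli.fintype_card_le_finrank
  rw [Module.finrank_fin_fun, Fintype.card_subtype_compl, Fintype.card_subtype_eq] at h3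
  rw [Nat.card_eq_fintype_card]
  omega

/-- the order of a `2`-element of `PSL₂(q)`, `q ≡ 3 (mod 8)`, divides two -/
theorem exists_odd_prime_dvd (hF : Fintype.card F = 3 ^ (2 * n + 1)) {w : PSL 2 F} (hw : w * w ≠ 1) :
    ∃ r : ℕ, r.Prime ∧ r ≠ 2 ∧ r ∣ orderOf w := by
  haveI : Fact (Nat.Prime 2) := ⟨Nat.prime_two⟩
  by_contra h
  push Not at h
  refine hw ?_
  have hp : IsPGroup 2 (zpowers w) := by
    obtain ⟨k, hk⟩ : ∃ k, orderOf w = 2 ^ k := by
      refine ⟨(orderOf w).primeFactorsList.length, Nat.eq_prime_pow_of_unique_prime_dvd (orderOf_pos w).ne' ?_⟩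
      intro d hd hdw
      by_contra hd2
      exact h d hd hd2 hdw
    exact IsPGroup.of_card (n := k) (by rw [Nat.card_zpowers, hk])
  obtain ⟨P, hP⟩ := hp.exists_le_sylow
  haveI hK := Classical.Two.isKleinFour_sylow_PSL rfl (Or.inl (card_mod hF)) P
  exact congrArg Subtype.val (IsKleinFour.mul_self (⟨w, hP (mem_zpowers w)⟩ : ↥(P : Subgroup _)))

/-- commutators from a traceless matrix commuting with the element to be moved -/
theorem exists_moved (hF : Fintype.card F = 3 ^ (2 * n + 1)) (hn : 1 ≤ n) {g h : GL (Fin 2) F} {p q r a b c : F}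
    (hg : (g : Matrix (Fin 2) (Fin 2) F) = !![p, q; r, -p]) (hg0 : p * p + q * r ≠ 0)
    (hh : (h : Matrix (Fin 2) (Fin 2) F) = !![a, b; c, -a]) (hh0 : a * a + b * c ≠ 0)
    (horth : 2 * p * a + q * c + r * b = 0) :
    ∃ (x : PSL 2 F) (s : ℕ), semilin h (RingEquiv.refl F) x = x ∧ s.Prime ∧ s ≠ 2 ∧
      s ∣ orderOf (x⁻¹ * semilin g (RingEquiv.refl F) x) := by
  classical
  haveI := charThree hF
  obtain ⟨β, hβ⟩ : ∃ β, β = a * a + b * c := ⟨_, rfl⟩
  rw [← hβ] at hh0
  -- a parameter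
  obtain ⟨u, hu0, hu4⟩ : ∃ u : F, u ≠ 0 ∧ u ^ 4 ≠ β ^ 2 := by
    by_contra hall
    push Not at hall
    obtain ⟨P, hP⟩ : ∃ P : Polynomial F, P = Polynomial.X ^ 5 - Polynomial.C (β ^ 2) * Polynomial.X := ⟨_, rfl⟩
    have hdeg : P.natDegree = 5 := by
      rw [hP]; compute_degree!
    have hle : Fintype.card F ≤ 5 := by
      rw [← hdeg]
      refine (Finset.card_le_card (t := P.roots.toFinset) fun u _ => ?_).trans
        ((Multiset.toFinset_card_le _).trans (Polynomial.card_roots' P))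
      rw [Multiset.mem_toFinset, Polynomial.mem_roots (by intro h0; rw [h0] at hdeg; simp at hdeg)]
      rcases eq_or_ne u 0 with rfl | hu
      · simp [hP]
      · simp [hP, ← hall u hu, pow_succ]
    have : 3 ^ 3 ≤ Fintype.card F := hF ▸ Nat.pow_le_pow_right (by norm_num) (by omega)
    omega
  have hneg : ¬ IsSquare (-1 : F) := by
    rw [FiniteField.isSquare_neg_one_iff, not_ne_iff]
    have := card_mod hF
    omega
  have hm : u * u + β ≠ 0 := fun h0 => hu4 (by linear_combination (u * u - β) * h0)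
  have hd : u * u - β ≠ 0 := fun h0 => hu4 (by linear_combination (u * u + β) * h0)
  have hA4 : u ^ 4 + β ^ 2 ≠ 0 := fun h0 => hneg ⟨u * u / β, by field_simp; linear_combination -h0⟩
  obtain ⟨N, hN⟩ : ∃ N, N = u * u - β := ⟨_, rfl⟩
  rw [← hN] at hd
  -- the element
  obtain ⟨z, hz⟩ : ∃ z : SL 2 F, (z : Matrix (Fin 2) (Fin 2) F) =
      N⁻¹ • !![u * u + β + 2 * u * a, 2 * u * b; 2 * u * c, u * u + β - 2 * u * a] :=
    ⟨⟨N⁻¹ • !![u * u + β + 2 * u * a, 2 * u * b; 2 * u * c, u * u + β - 2 * u * a], by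
      rw [Matrix.det_smul, Matrix.det_fin_two, Fintype.card_fin]
      simp only [Matrix.of_apply, Matrix.cons_val', Matrix.cons_val_zero, Matrix.cons_val_one, Matrix.empty_val',
        Matrix.cons_val_fin_one]
      field_simp
      rw [hN, hβ]; ring⟩, rfl⟩
  have hfix : slConjHom h (RingEquiv.refl F) z = z := by
    refine Subtype.ext ?_
    rw [coe_slConjHom, show ((z : Matrix (Fin 2) (Fin 2) F).map (RingEquiv.refl F)) = (z : Matrix (Fin 2) (Fin 2) F) from rfl]
    have hc : (h : Matrix (Fin 2) (Fin 2) F) * (z : Matrix (Fin 2) (Fin 2) F) = (z : Matrix (Fin 2) (Fin 2) F) * h := by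
      rw [hz, hh, smul_mul_assoc, mul_smul_comm]
      congr 1
      ext i j
      fin_cases i <;> fin_cases j <;> simp [Matrix.mul_apply, Fin.sum_univ_two] <;> ring
    rw [hc, mul_assoc, ← Units.val_mul, mul_inv_cancel, Units.val_one, mul_one]
  have hinv : slConjHom g (RingEquiv.refl F) z = z⁻¹ := by
    refine Subtype.ext ?_
    rw [coe_slConjHom, show ((z : Matrix (Fin 2) (Fin 2) F).map (RingEquiv.refl F)) = (z : Matrix (Fin 2) (Fin 2) F) from rfl,
      Matrix.SpecialLinearGroup.coe_inv]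
    have hc : (g : Matrix (Fin 2) (Fin 2) F) * (z : Matrix (Fin 2) (Fin 2) F) =
        Matrix.adjugate (z : Matrix (Fin 2) (Fin 2) F) * g := by
      rw [hz, hg, Matrix.adjugate_smul, Fintype.card_fin, Matrix.adjugate_fin_two]
      simp only [pow_one, smul_mul_assoc, mul_smul_comm, Nat.add_one_sub_one]
      congr 1
      ext i j
      fin_cases i <;> fin_cases j <;> simp [Matrix.mul_apply, Fin.sum_univ_two] <;>
        first | linear_combination (2 * u) * horth | linear_combination (-2 * u) * horth | ring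
    rw [hc, mul_assoc, ← Units.val_mul, mul_inv_cancel, Units.val_one, mul_one]
  refine ⟨proj 2 F z, ?_⟩
  obtain ⟨s, hs, hs2, hsd⟩ := exists_odd_prime_dvd hF (w := (proj 2 F z)⁻¹ * semilin g (RingEquiv.refl F) (proj 2 F z)) (by
    rw [semilin_proj, hinv, map_inv, ← map_inv, ← map_mul, ← map_mul, ← map_one (proj 2 F)]
    intro heq
    obtain ⟨k, -, hk⟩ := (proj_eq_iff _ _).1 heq.symm
    have e01 := congrFun (congrFun hk 0) 1
    have e10 := congrFun (congrFun hk 1) 0
    have e00 := congrFun (congrFun hk 0) 0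
    have e11 := congrFun (congrFun hk 1) 1
    simp only [Matrix.SpecialLinearGroup.coe_mul, Matrix.SpecialLinearGroup.coe_inv, Matrix.SpecialLinearGroup.coe_one, hz,
      Matrix.adjugate_smul, Fintype.card_fin, Matrix.adjugate_fin_two] at e00 e01 e10 e11
    simp [Matrix.mul_apply, Fin.sum_univ_two] at e00 e01 e10 e11
    field_simp at e00 e01 e10 e11
    have hnz : u * (u * u + β) * (u ^ 4 + β ^ 2) ≠ 0 := mul_ne_zero (mul_ne_zero hu0 hm) hA4
    have k3 : (3 : F) = 0 := by
      have := CharP.cast_eq_zero F 3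
      exact_mod_cast this
    have hb : b = 0 := (mul_eq_zero.1 (show u * (u * u + β) * (u ^ 4 + β ^ 2) * b = 0 by
      linear_combination e01 + (u * b * (u * u + β) * (3 * (u ^ 4 + β ^ 2) + 16 * u ^ 2 * β)) * k3 + (-32 * u ^ 3 * b * (u * u + β)) * hβ)).resolve_left hnz
    have hc : c = 0 := (mul_eq_zero.1 (show u * (u * u + β) * (u ^ 4 + β ^ 2) * c = 0 by
      linear_combination e10 + (u * c * (u * u + β) * (3 * (u ^ 4 + β ^ 2) + 16 * u ^ 2 * β)) * k3 + (-32 * u ^ 3 * c * (u * u + β)) * hβ)).resolve_left hnz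
    have ha : a = 0 := (mul_eq_zero.1 (show u * (u * u + β) * (u ^ 4 + β ^ 2) * a = 0 by
      linear_combination -(e00 - e11) - (u * a * (u * u + β) * (5 * (u ^ 4 + β ^ 2) + 32 * u ^ 2 * β)) * k3 + (64 * u ^ 3 * a * (u * u + β)) * hβ)).resolve_left hnz
    exact hh0 (by rw [hβ, ha, hb, hc]; ring))
  exact ⟨s, by rw [semilin_proj, hfix], hs, hs2, hsd⟩

/-- a hyperplane fixing an element moved far by a given involution -/
theorem exists_step_at (hF : Fintype.card F = 3 ^ (2 * n + 1)) (hn : 1 ≤ n) {A : Subgroup (MulAut (PSL 2 F))}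
    (hA : Cfsg.IsElementaryAbelian 2 A) [Finite A] {a : MulAut (PSL 2 F)} (ha : a ∈ A) (ha1' : a ≠ 1) :
    ∃ h ∈ A, ∃ (x : PSL 2 F) (s : ℕ), h x = x ∧ Nat.card A ≤ 2 * orderOf h ∧ s.Prime ∧ s ≠ 2 ∧
      s ∣ orderOf (x⁻¹ * a x) := by
  classical
  haveI := charThree hF
  have hsq : ∀ {a}, a ∈ A → a * a = 1 := fun {a} ha => by rw [← pow_two]; exact hA.2 _ ha
  obtain ⟨g, p, q, r, rfl, hg, hg0⟩ := exists_mat hF (hsq ha) ha1'
  by_cases hb : ∃ b ∈ A, b ≠ 1 ∧ b ≠ semilin g (RingEquiv.refl F)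
  · obtain ⟨b, hb, hb1, hba⟩ := hb
    obtain ⟨h, p', q', r', rfl, hh, hh0⟩ := exists_mat hF (hsq hb) hb1
    have ho := orth hF hg hh hg0 (congrArg Subtype.val (hA.1.is_comm.comm ⟨_, ha⟩ ⟨_, hb⟩)) hba.symm
    obtain ⟨x, s, hx, hs, hs2, hsd⟩ := exists_moved hF hn hg hg0 hh hh0 ho
    refine ⟨_, hb, x, s, hx, ?_, hs, hs2, hsd⟩
    rw [orderOf_eq_prime (hA.2 _ hb) hb1]
    exact card_le_four hF hA
  · push Not at hb
    have hcard : Nat.card A ≤ 2 := by
      haveI : Fintype A := Fintype.ofFinite _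
      rw [Nat.card_eq_fintype_card]
      refine (Finset.card_le_card (t := {1, ⟨_, ha⟩}) fun b _ => ?_).trans (Finset.card_le_two)
      by_cases h : b = 1
      · simp [h]
      · simp [Subtype.ext (hb b b.2 (fun h' => h (Subtype.ext h'))) (a2 := (⟨_, ha⟩ : A))]
    obtain ⟨h, a', b', c', hh, hh0, ho⟩ : ∃ (h : GL (Fin 2) F) (a' b' c' : F),
        (h : Matrix (Fin 2) (Fin 2) F) = !![a', b'; c', -a'] ∧ a' * a' + b' * c' ≠ 0 ∧ 2 * p * a' + q * c' + r * b' = 0 := by
      have mk : ∀ a' b' c' : F, a' * a' + b' * c' ≠ 0 → 2 * p * a' + q * c' + r * b' = 0 → ∃ (h : GL (Fin 2) F) (a' b' c' : F),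
          (h : Matrix (Fin 2) (Fin 2) F) = !![a', b'; c', -a'] ∧ a' * a' + b' * c' ≠ 0 ∧ 2 * p * a' + q * c' + r * b' = 0 :=
        fun a' b' c' h0 h1 => ⟨Matrix.GeneralLinearGroup.mkOfDetNeZero !![a', b'; c', -a'] (by
          rw [Matrix.det_fin_two_of]; intro h; exact h0 (by linear_combination -h)), a', b', c', rfl, h0, h1⟩
      have h2 : (2 : F) ≠ 0 := by
        intro h
        have h' : ((2 : ℕ) : F) = 0 := by exact_mod_cast h
        have := (CharP.cast_eq_zero_iff F 3 2).1 h'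
        norm_num at this
      by_cases hqr : q * r = 0
      · have hp : p ≠ 0 := fun h => hg0 (by rw [h, hqr]; ring)
        rcases mul_eq_zero.1 hqr with h | h
        · refine mk r (-2 * p) ((r * r - 1) / (2 * p)) ?_ (by rw [h]; ring)
          field_simp
          ring_nf
          exact one_ne_zero
        · refine mk q ((q * q - 1) / (2 * p)) (-2 * p) ?_ (by rw [h]; ring)
          field_simp
          ring_nf
          exact one_ne_zero
      · exact mk 0 q (-r) (by intro h; exact hqr (by linear_combination -h)) (by ring)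
    obtain ⟨x, s, -, hs, hs2, hsd⟩ := exists_moved hF hn hg hg0 hh hh0 ho
    exact ⟨1, one_mem A, x, s, rfl, by rw [orderOf_one]; omega, hs, hs2, hsd⟩

/-- a hyperplane of an elementary group of automorphisms fixing an element moved far -/
theorem exists_step (hF : Fintype.card F = 3 ^ (2 * n + 1)) (hn : 1 ≤ n) {A : Subgroup (MulAut (PSL 2 F))}
    (hA : Cfsg.IsElementaryAbelian 2 A) [Finite A] (hA1 : A ≠ ⊥) :
    ∃ h ∈ A, ∃ a ∈ A, ∃ (x : PSL 2 F) (s : ℕ), h x = x ∧ Nat.card A ≤ 2 * orderOf h ∧ s.Prime ∧ s ≠ 2 ∧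
      s ∣ orderOf (x⁻¹ * a x) := by
  obtain ⟨⟨a, ha⟩, ha1⟩ := (ne_bot_iff_exists_ne_one).1 hA1
  obtain ⟨h, hh, r⟩ := exists_step_at hF hn hA ha (fun h => ha1 (Subtype.ext h))
  exact ⟨h, hh, a, ha, r⟩

end CfsgLib.LocalEven.PSLFourAut
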