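import Mathlib
import Cfsg.Agent.Lib.LocalEven.Zsigmondy

/-!
# Indices of fixed points of elements acting on `p`-groups

An element whose order is a prime power `r ^ (e + 1)` not dividing `p ^ j - 1` for `0 < j < N`
moves at least a `p ^ N`-th of the group it acts on; indices are submultiplicative in products.

* `pow_le_relIndex_of_dvd_orderOf`
* `relIndex_mul_le`, `relIndex_conj_eq`
* `exists_ppd_pow`
-/

set_option autoImplicit false

namespace CfsgLib.LocalEven.Ppd

open Subgroup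

variable {G : Type*} [Group G]

/-- The index in `V` of the fixed points of `a`. -/
noncomputable def fixIndex (V : Subgroup G) (a : G) : ℕ :=
  (V ⊓ centralizer ({a} : Set G)).relIndex V

theorem fixIndex_one (V : Subgroup G) : fixIndex V 1 = 1 := by
  have : centralizer ({(1 : G)} : Set G) = ⊤ := by
    rw [eq_top_iff]; intro x _; simp [mem_centralizer_iff]
  rw [fixIndex, this, inf_top_eq, relIndex_self]

theorem fixIndex_ne_zero [Finite G] (V : Subgroup G) (a : G) : fixIndex V a ≠ 0 :=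
  index_ne_zero_of_finite

theorem fixIndex_le_card [Finite G] (V : Subgroup G) (a : G) : fixIndex V a ≤ Nat.card V :=
  Nat.le_of_dvd Nat.card_pos (relIndex_dvd_card (V ⊓ centralizer ({a} : Set G)) V)

theorem fixIndex_pow_le [Finite G] (V : Subgroup G) (a : G) (n : ℕ) :
    fixIndex V (a ^ n) ≤ fixIndex V a := by
  refine relIndex_le_of_le_left (inf_le_inf_left V fun x hx => ?_) (fixIndex_ne_zero V a)
  rw [mem_centralizer_singleton_iff] at hx ⊢
  exact Commute.pow_right hx n

theorem fixIndex_inv [Finite G] (V : Subgroup G) (a : G) : fixIndex V a⁻¹ = fixIndex V a := by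
  have h : ∀ b : G, fixIndex V b⁻¹ ≤ fixIndex V b := fun b => by
    refine relIndex_le_of_le_left (inf_le_inf_left V fun x hx => ?_) (fixIndex_ne_zero V b)
    rw [mem_centralizer_singleton_iff] at hx ⊢
    exact Commute.inv_right hx
  exact le_antisymm (h a) (by simpa using h a⁻¹)

theorem fixIndex_mul_le [Finite G] (V : Subgroup G) (a b : G) :
    fixIndex V (a * b) ≤ fixIndex V a * fixIndex V b := by
  refine le_trans (relIndex_le_of_le_left (H := (V ⊓ centralizer ({a} : Set G)) ⊓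
    (V ⊓ centralizer ({b} : Set G))) (fun x hx => ?_) index_ne_zero_of_finite) relIndex_inf_le
  obtain ⟨hxV, ha⟩ := mem_inf.mp (mem_inf.mp hx).1
  have hb := (mem_inf.mp (mem_inf.mp hx).2).2
  refine mem_inf.mpr ⟨hxV, ?_⟩
  rw [mem_centralizer_singleton_iff] at ha hb ⊢
  exact Commute.mul_right ha hb

theorem fixIndex_conj {V : Subgroup G} {k : G} (hk : k ∈ normalizer (V : Set G)) (a : G) :
    fixIndex V (k * a * k⁻¹) = fixIndex V a := by
  have hV : V.map (MulAut.conj k).toMonoidHom = V := by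
    ext x
    rw [mem_map_equiv, MulAut.conj_symm_apply]
    exact (mem_normalizer_iff''.mp hk x).symm
  have hC : (V ⊓ centralizer ({a} : Set G)).map (MulAut.conj k).toMonoidHom =
      V ⊓ centralizer ({k * a * k⁻¹} : Set G) := by
    rw [map_inf _ _ _ (MulAut.conj k).injective, hV]
    congr 1
    ext x
    rw [mem_map_equiv, MulAut.conj_symm_apply, mem_centralizer_singleton_iff,
      mem_centralizer_singleton_iff]
    constructor <;> intro h
    · calc x * (k * a * k⁻¹) = k * ((k⁻¹ * x * k) * a) * k⁻¹ := by group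
        _ = _ := by rw [h]; group
    · calc k⁻¹ * x * k * a = k⁻¹ * (x * (k * a * k⁻¹)) * k := by group
        _ = _ := by rw [h]; group
  have h := relIndex_map_map_of_injective (V ⊓ centralizer ({a} : Set G)) V
    (f := (MulAut.conj k).toMonoidHom) (MulAut.conj k).injective
  rw [hC, hV] at h
  exact h

variable [Finite G] {p : ℕ} [hp : Fact p.Prime] {V : Subgroup G}

theorem prime_le_fixIndex (hV : IsPGroup p V) {a : G} (ha : a ∉ centralizer (V : Set G)) :
    p ≤ fixIndex V a := by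
  obtain ⟨n, hn⟩ := IsPGroup.iff_card.mp hV
  have hd : fixIndex V a ∣ p ^ n :=
    hn ▸ relIndex_dvd_card (V ⊓ centralizer ({a} : Set G)) V
  obtain ⟨i, -, hi⟩ := (Nat.dvd_prime_pow hp.out).mp hd
  rcases Nat.eq_zero_or_pos i with rfl | hi0
  · refine absurd (fun v hv => ?_) ha
    have : V ≤ V ⊓ centralizer ({a} : Set G) := relIndex_eq_one.mp (by simpa [fixIndex] using hi)
    exact mem_centralizer_singleton_iff.mp (mem_inf.mp (this hv)).2
  · rw [hi]; exact Nat.le_self_pow (by omega) p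

omit [Finite G] in
/-- The conjugation action of an element on the points it moves is semiregular. -/
theorem pow_mem_of_pow_fix {r e : ℕ} (hr : r.Prime) {g x : G} (hord : orderOf g = r ^ (e + 1))
    {n : ℕ} (hne : g ^ n ≠ 1) (hn : g ^ n ∈ centralizer ({x} : Set G)) :
    g ^ r ^ e ∈ centralizer ({x} : Set G) := by
  have h1 : g ^ (r ^ (e + 1)) = 1 := by rw [← hord, pow_orderOf_eq_one]
  have hgcd : g ^ (Nat.gcd n (r ^ (e + 1))) ∈ centralizer ({x} : Set G) := by
    have : (g ^ (Nat.gcd n (r ^ (e + 1)) : ℤ)) ∈ centralizer ({x} : Set G) := by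
      rw [Nat.gcd_eq_gcd_ab, zpow_add, zpow_mul, zpow_mul, zpow_natCast, zpow_natCast, h1, one_zpow,
        mul_one]
      exact zpow_mem hn _
    exact_mod_cast this
  obtain ⟨f, hf, hfe⟩ := (Nat.dvd_prime_pow hr).mp (Nat.gcd_dvd_right n (r ^ (e + 1)))
  have hfle : f ≤ e := by
    by_contra hc
    obtain rfl : f = e + 1 := by omega
    exact hne (orderOf_dvd_iff_pow_eq_one.mp (hord ▸ hfe ▸ Nat.gcd_dvd_left n _))
  rw [show r ^ e = r ^ f * r ^ (e - f) by rw [← pow_add]; congr 1; omega, pow_mul]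
  exact pow_mem (hfe ▸ hgcd) _

theorem pow_le_fixIndex_of_orderOf (hV : IsPGroup p V) {g : G} (hg : g ∈ normalizer (V : Set G))
    {r e N : ℕ} (hr : r.Prime) (hrp : r ≠ p) (hord : orderOf g = r ^ (e + 1))
    (hmove : g ^ r ^ e ∉ centralizer (V : Set G))
    (hppd : ∀ j, 0 < j → j < N → ¬ r ^ (e + 1) ∣ p ^ j - 1) :
    p ^ N ≤ fixIndex V (g ^ r ^ e) := by
  classical
  set h := g ^ r ^ e with hh
  let C : Subgroup G := V ⊓ centralizer ({h} : Set G)
  have hgh : Commute g h := Commute.self_pow g _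
  let X := {x : G // x ∈ V ∧ x ∉ C}
  have hcl : ∀ k ∈ zpowers g, ∀ x, x ∈ V ∧ x ∉ C → k * x * k⁻¹ ∈ V ∧ k * x * k⁻¹ ∉ C := by
    intro k hk x hx
    have hkV : k ∈ normalizer (V : Set G) := (zpowers_le.mpr hg) hk
    have hkh : Commute k h := by
      obtain ⟨i, rfl⟩ := mem_zpowers_iff.mp hk
      exact hgh.zpow_left i
    refine ⟨(mem_normalizer_iff.mp hkV x).mp hx.1, fun hc => hx.2 (mem_inf.mpr ⟨hx.1, ?_⟩)⟩
    have hc2 := (mem_inf.mp hc).2
    rw [mem_centralizer_singleton_iff] at hc2 ⊢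
    have h2 : Commute (k⁻¹ * (k * x * k⁻¹) * k) h :=
      ((hkh.inv_left).mul_left hc2).mul_left hkh
    simpa [Commute, SemiconjBy, mul_assoc] using h2
  letI : MulAction (zpowers g) X :=
    { smul := fun k x => ⟨(k : G) * x.1 * (k : G)⁻¹, hcl k k.2 x.1 x.2⟩
      one_smul := fun x => Subtype.ext (by show (1 : G) * x.1 * (1 : G)⁻¹ = x.1; simp)
      mul_smul := fun k l x => Subtype.ext (by
        show ((k : G) * l) * x.1 * ((k : G) * l)⁻¹ = k * ((l : G) * x.1 * (l : G)⁻¹) * (k : G)⁻¹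
        group) }
  have hfree : ∀ x : X, MulAction.stabilizer (zpowers g) x = ⊥ := by
    intro x
    rw [eq_bot_iff]
    rintro ⟨k, hk⟩ hkx
    rw [mem_bot]
    refine Subtype.ext ?_
    by_contra hk1
    obtain ⟨n, hn⟩ : ∃ n : ℕ, g ^ n = k := by
      obtain ⟨n, -, hn⟩ := (isOfFinOrder_of_finite g).mem_zpowers_iff_mem_range_orderOf.mp hk |>
        Finset.mem_image.mp
      exact ⟨n, hn⟩
    have hfix : k * x.1 * k⁻¹ = x.1 := congrArg Subtype.val hkx
    have hkC : k ∈ centralizer ({x.1} : Set G) := by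
      rw [mem_centralizer_singleton_iff]
      calc k * x.1 = k * x.1 * k⁻¹ * k := by group
        _ = x.1 * k := by rw [hfix]
    have := pow_mem_of_pow_fix hr hord (n := n) (hn ▸ hk1) (hn ▸ hkC)
    refine x.2.2 (mem_inf.mpr ⟨x.2.1, ?_⟩)
    rw [mem_centralizer_singleton_iff]
    exact ((mem_centralizer_singleton_iff.mp this)).symm
  have hcount : r ^ (e + 1) ∣ Nat.card X := by
    rw [Nat.card_congr (MulAction.selfEquivOrbitsQuotientProd hfree), Nat.card_prod,
      Nat.card_zpowers, hord]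
    exact dvd_mul_left _ _
  have hsum : Nat.card X + Nat.card C = Nat.card V := by
    have h1 : Nat.card ({x : G | x ∈ V ∧ x ∉ C} : Set G) + Nat.card (C : Set G) =
        Nat.card (V : Set G) := by
      rw [Nat.card_coe_set_eq, Nat.card_coe_set_eq, Nat.card_coe_set_eq]
      exact Set.ncard_sdiff_add_ncard_of_subset (s := (C : Set G)) (t := (V : Set G))
        inf_le_left (Set.toFinite _)
    exact h1
  obtain ⟨n, hn⟩ := IsPGroup.iff_card.mp hV
  obtain ⟨i, hin, hi⟩ := (Nat.dvd_prime_pow hp.out).mp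
    (hn ▸ relIndex_dvd_card C V : C.relIndex V ∣ p ^ n)
  have hmul : Nat.card C * p ^ i = Nat.card V := by
    rw [← hi, ← relIndex_bot_left, ← relIndex_bot_left,
      relIndex_mul_relIndex _ _ _ bot_le inf_le_left]
  obtain ⟨j, hj⟩ := IsPGroup.iff_card.mp (hV.to_le (inf_le_left : C ≤ V))
  have hX : Nat.card X = p ^ j * (p ^ i - 1) := by
    rw [← hj, Nat.mul_sub, mul_one, hmul, ← hsum]; exact (Nat.add_sub_cancel (Nat.card X) (Nat.card C)).symm
  have hcop : (r ^ (e + 1)).Coprime (p ^ j) :=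
    ((Nat.coprime_primes hr hp.out).mpr hrp).pow _ _
  have hd : r ^ (e + 1) ∣ p ^ i - 1 := hcop.dvd_of_dvd_mul_left (hX ▸ hcount)
  have hi0 : 0 < i := by
    rcases Nat.eq_zero_or_pos i with rfl | hi0
    · refine absurd ?_ hmove
      intro v hv
      have : V ≤ C := relIndex_eq_one.mp (by simpa using hi)
      exact mem_centralizer_singleton_iff.mp (mem_inf.mp (this hv)).2
    · exact hi0
  have hiN : N ≤ i := by
    by_contra hc
    exact hppd i hi0 (not_le.mp hc) hd
  calc p ^ N ≤ p ^ i := Nat.pow_le_pow_right hp.out.pos hiN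
    _ = _ := hi.symm

/-- The prime power dividing the order of an element acting faithfully bounds its index. -/
theorem pow_le_fixIndex_of_dvd_orderOf (hV : IsPGroup p V) {H : Subgroup G}
    (hHV : H ≤ normalizer (V : Set G)) (hf : H ⊓ centralizer (V : Set G) = ⊥) {m : G} (hm : m ∈ H)
    {r e N : ℕ} (hr : r.Prime) (hrp : r ≠ p) (hdvd : r ^ (e + 1) ∣ orderOf m)
    (hppd : ∀ j, 0 < j → j < N → ¬ r ^ (e + 1) ∣ p ^ j - 1) :
    p ^ N ≤ fixIndex V m := by
  obtain ⟨g, hgm, hord⟩ : ∃ g ∈ zpowers m, orderOf g = r ^ (e + 1) := by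
    refine ⟨m ^ (orderOf m / r ^ (e + 1)), ⟨_, zpow_natCast _ _⟩, ?_⟩
    rw [orderOf_pow_orderOf_div (orderOf_pos m).ne' hdvd]
  have hgH : g ∈ H := zpowers_le.mpr hm hgm
  have hmove : g ^ r ^ e ∉ centralizer (V : Set G) := by
    intro hc
    have h1 : g ^ r ^ e ∈ H ⊓ centralizer (V : Set G) := ⟨pow_mem hgH _, hc⟩
    rw [hf, mem_bot] at h1
    have h2 := Nat.le_of_dvd (pow_pos hr.pos _) (orderOf_dvd_iff_pow_eq_one.mpr h1)
    rw [hord] at h2
    exact absurd h2 (not_le.mpr (Nat.pow_lt_pow_right hr.one_lt (Nat.lt_succ_self e)))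
  refine (pow_le_fixIndex_of_orderOf hV (hHV hgH) hr hrp hord hmove hppd).trans
    ((fixIndex_pow_le V g _).trans ?_)
  classical
  obtain ⟨i, -, hi⟩ := Finset.mem_image.mp
    ((isOfFinOrder_of_finite m).mem_zpowers_iff_mem_range_orderOf.mp hgm)
  rw [← hi]
  exact fixIndex_pow_le V m i

/-- A substitute for a primitive prime divisor of `p ^ (2 n) - 1`. -/
theorem exists_ppd_pow {p n : ℕ} (hp : p.Prime) (hn : 2 ≤ n) :
    ∃ r e : ℕ, r.Prime ∧ r ≠ 2 ∧ r ≠ p ∧ r ^ (e + 1) ∣ p ^ (2 * n) - 1 ∧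
      ∀ j, 0 < j → j < 2 * n → ¬ r ^ (e + 1) ∣ p ^ j - 1 := by
  by_cases h : p = 2 ∧ 2 * n = 6
  · obtain ⟨rfl, hn6⟩ := h
    rw [hn6]
    refine ⟨3, 1, Nat.prime_three, by norm_num, by norm_num, by norm_num, fun j hj hj' => ?_⟩
    interval_cases j <;> norm_num
  · obtain ⟨r, hr, hrd, hrk⟩ :=
      CfsgLib.Zsigmondy.exists_primitive_prime_divisor hp.one_lt (by omega : 1 < 2 * n) h
        (by rintro ⟨h2, -⟩; omega)
    have hrp : r ≠ p := by
      rintro rfl
      have h1 : 1 ≤ r ^ (2 * n) := Nat.one_le_pow _ _ hr.pos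
      have h2 : r ∣ r ^ (2 * n) := dvd_pow_self r (by omega)
      have := Nat.dvd_sub h2 hrd
      rw [Nat.sub_sub_self h1] at this
      exact hr.one_lt.ne' (Nat.dvd_one.mp this)
    refine ⟨r, 0, hr, ?_, hrp, by simpa using hrd, fun j hj hj' => by simpa using hrk j hj hj'⟩
    rintro rfl
    refine hrk 1 one_pos (by omega) ?_
    obtain ⟨k, hk⟩ := hp.odd_of_ne_two (Ne.symm hrp)
    exact ⟨k, by rw [pow_one]; omega⟩

end CfsgLib.LocalEven.Ppd
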