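import Mathlib
import Cfsg.Agent.Lib.LocalEven.PpdAction
import Cfsg.Agent.Lib.LocalEven.Cores
import Cfsg.Agent.Lib.Classical.SL2Sylow
import Cfsg.Agent.Lib.Classical.SL2Structure

/-!
# Groups with a `PSL₂(q)` image acting faithfully on a `p`-group

* `exists_conj_dvd_orderOf`: products of two conjugate unipotent elements of large order
* `le_fixIndex_PSL2`: `q ≤ |V : C_V(a)|`
* `sq_le_card_PSL2`: `q ^ 2 ≤ |V|`
-/

set_option autoImplicit false

namespace CfsgLib.LocalEven.Ppd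

open Matrix
open scoped MatrixGroups

variable {F : Type*} [Field F]

theorem sq_eq_trace_smul (x : SL(2, F)) :
    (x : Matrix (Fin 2) (Fin 2) F) * x =
      (x : Matrix (Fin 2) (Fin 2) F).trace • (x : Matrix (Fin 2) (Fin 2) F) - 1 := by
  have hd := x.2
  rw [det_fin_two] at hd
  ext i j
  fin_cases i <;> fin_cases j <;> simp [Matrix.mul_apply, Fin.sum_univ_two, trace_fin_two] <;>
    first | ring1 | linear_combination (-1 : F) * hd | linear_combination hd

theorem pow_coeffs (t : F) (n : ℕ) :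
    ∃ α β : F, ∀ x : SL(2, F), (x : Matrix (Fin 2) (Fin 2) F).trace = t →
      ((x ^ n : SL(2, F)) : Matrix (Fin 2) (Fin 2) F) =
        α • (x : Matrix (Fin 2) (Fin 2) F) + β • 1 := by
  induction n with
  | zero => exact ⟨0, 1, fun x _ => by simp⟩
  | succ n ih =>
    obtain ⟨α, β, h⟩ := ih
    refine ⟨α * t + β, -α, fun x hx => ?_⟩
    rw [pow_succ, Matrix.SpecialLinearGroup.coe_mul, h x hx, add_mul, smul_mul_assoc, sq_eq_trace_smul,
      hx, smul_mul_assoc, one_mul, smul_sub, smul_smul, add_smul, neg_smul]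
    abel

/-- Elements with the same trace, one with a nonzero entry off the diagonal. -/
theorem pow_eq_one_of_trace {m h : SL(2, F)} (hm : (m : Matrix (Fin 2) (Fin 2) F) 1 0 ≠ 0)
    (ht : (m : Matrix (Fin 2) (Fin 2) F).trace = (h : Matrix (Fin 2) (Fin 2) F).trace) {n : ℕ}
    (hn : m ^ n = 1) : h ^ n = 1 := by
  obtain ⟨α, β, hc⟩ := pow_coeffs (m : Matrix (Fin 2) (Fin 2) F).trace n
  have h1 := hc m rfl
  rw [hn, Matrix.SpecialLinearGroup.coe_one] at h1
  have h10 := congrFun (congrFun h1 1) 0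
  simp [hm] at h10
  have h00 := congrFun (congrFun h1 0) 0
  simp [h10] at h00
  refine Subtype.ext ?_
  rw [hc h ht.symm, h10, ← h00]
  simp

theorem sq_eq_one_of_mem_center {z : SL(2, F)} (hz : z ∈ Subgroup.center SL(2, F)) : z ^ 2 = 1 := by
  obtain ⟨c, hc, hzc⟩ := Matrix.SpecialLinearGroup.mem_center_iff.mp hz
  refine Subtype.ext ?_
  rw [Matrix.SpecialLinearGroup.coe_pow, ← hzc, ← map_pow, Matrix.SpecialLinearGroup.coe_one]
  rw [show c ^ 2 = 1 by simpa using hc, map_one]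

/-- An upper unitriangular matrix. -/
def up (b : F) : SL(2, F) := ⟨!![1, b; 0, 1], by simp [det_fin_two]⟩

/-- A lower unitriangular matrix. -/
def lo (b : F) : SL(2, F) := ⟨!![1, 0; b, 1], by simp [det_fin_two]⟩

theorem up_eq (b : F) :
    Matrix.SpecialLinearGroup.transvection (zero_ne_one : (0 : Fin 2) ≠ 1) b = up b := by
  ext i j
  fin_cases i <;> fin_cases j <;>
    simp [up, Matrix.SpecialLinearGroup.transvection, Matrix.transvection, Matrix.single]

theorem exists_conj_dvd_orderOf_up {b : F} (hb : b ≠ 0) {h : SL(2, F)} {M : ℕ} (hM : 4 < M)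
    (hodd : Odd M) (hh : orderOf h = M) :
    ∃ k : SL(2, F), M ∣ orderOf (QuotientGroup.mk' (Subgroup.center SL(2, F))
      (up b * (k * up b * k⁻¹))) := by
  set s := (h : Matrix (Fin 2) (Fin 2) F).trace with hs
  have hne : ∀ n, 0 < n → n < M → h ^ n ≠ 1 := fun n h0 h1 hc =>
    absurd (Nat.le_of_dvd h0 (hh ▸ orderOf_dvd_iff_pow_eq_one.mpr hc)) (not_le.mpr h1)
  have hs0 : s ≠ 0 := by
    intro h0
    refine hne 4 (by norm_num) hM (Subtype.ext ?_)
    have h2 := sq_eq_trace_smul h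
    rw [← hs, h0, zero_smul, zero_sub] at h2
    rw [Matrix.SpecialLinearGroup.coe_pow, pow_succ, pow_succ, pow_two, h2]
    simp [h2]
  set c := s / b with hc
  have hc0 : c ≠ 0 := div_ne_zero hs0 hb
  refine ⟨lo c, ?_⟩
  set m := up b * (lo c * up b * (lo c)⁻¹) with hm
  have hmv : (m : Matrix (Fin 2) (Fin 2) F) =
      !![1 - b * c - b * b * c * c, b + b * (1 + b * c); -(b * c * c), 1 + b * c] := by
    have hi : ((lo c)⁻¹ : SL(2, F)) = lo (-c) := by
      refine inv_eq_of_mul_eq_one_right (Subtype.ext ?_)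
      ext i j
      rw [Matrix.SpecialLinearGroup.coe_mul]
      fin_cases i <;> fin_cases j <;> simp [lo, Matrix.mul_apply, Fin.sum_univ_two]
    rw [hm, hi]
    ext i j
    simp only [Matrix.SpecialLinearGroup.coe_mul]
    fin_cases i <;> fin_cases j <;>
      simp [up, lo, Matrix.mul_apply, Fin.sum_univ_two] <;>
        (first | ring1 | exact Or.inl trivial | exact Or.inl (by ring1) | (ring_nf; simp))
  have hbc : b * c = s := by rw [hc]; field_simp
  let g : SL(2, F) := -(h ^ 2)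
  have hg : (g : Matrix (Fin 2) (Fin 2) F).trace = (m : Matrix (Fin 2) (Fin 2) F).trace := by
    rw [hmv]
    show (-((h ^ 2 : SL(2, F)) : Matrix (Fin 2) (Fin 2) F)).trace = _
    rw [trace_neg, pow_two, Matrix.SpecialLinearGroup.coe_mul, sq_eq_trace_smul, trace_sub, trace_smul,
      trace_one, ← hs, smul_eq_mul]
    simp [trace_fin_two, ← hbc]
    ring
  set j := orderOf (QuotientGroup.mk' (Subgroup.center SL(2, F)) m) with hj
  have hmj : (m ^ j) ^ 2 = 1 := sq_eq_one_of_mem_center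
    ((QuotientGroup.eq_one_iff _).mp (by
      rw [← QuotientGroup.mk'_apply, map_pow, hj]; exact pow_orderOf_eq_one _))
  rw [← pow_mul] at hmj
  have hm10 : (m : Matrix (Fin 2) (Fin 2) F) 1 0 ≠ 0 := by
    rw [hmv]; simp [hb, hc0]
  have h2 := pow_eq_one_of_trace hm10 hg.symm hmj
  have h3 : h ^ (4 * j) = 1 := by
    refine Subtype.ext ?_
    have h4 := congrArg (fun x : SL(2, F) => (x : Matrix (Fin 2) (Fin 2) F)) h2
    simp only [g, Matrix.SpecialLinearGroup.coe_pow, Matrix.SpecialLinearGroup.coe_neg,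
      Matrix.SpecialLinearGroup.coe_one, (even_two.mul_left j).neg_pow, ← pow_mul] at h4
    rw [Matrix.SpecialLinearGroup.coe_pow, Matrix.SpecialLinearGroup.coe_one, ← h4]
    congr 1
    ring
  refine (Nat.Coprime.dvd_of_dvd_mul_left ?_ (hh ▸ orderOf_dvd_iff_pow_eq_one.mpr h3))
  exact (Nat.coprime_two_right.mpr hodd).pow_right 2

variable [Fintype F] {p : ℕ} [hp : Fact p.Prime] [CharP F p]

theorem exists_conj_eq_up {y : SL(2, F)} {e : ℕ} (hy : y ^ p ^ e = 1) :
    ∃ (k : SL(2, F)) (b : F), k * y * k⁻¹ = up b := by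
  obtain ⟨P, hP⟩ : ∃ P : Sylow p SL(2, F), Subgroup.zpowers y ≤ P := by
    refine IsPGroup.exists_le_sylow ?_
    obtain ⟨i, -, hi⟩ := (Nat.dvd_prime_pow hp.out).mp (orderOf_dvd_iff_pow_eq_one.mpr hy)
    exact IsPGroup.of_card (n := i) (by rw [Nat.card_zpowers, hi])
  obtain ⟨x, hx⟩ := Classical.Two.exists_point_sylow_SL p P
  obtain ⟨g, rfl⟩ := MulAction.exists_smul_eq SL(2, F) (Classical.Two.basePoint F 0) x
  have hy' : y ∈ Classical.Two.rootGroup (g • Classical.Two.basePoint F 0) :=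
    hx ▸ hP (Subgroup.mem_zpowers y)
  rw [Classical.Two.rootGroup_smul, Subgroup.mem_pointwise_smul_iff_inv_smul_mem, ← map_inv,
    MulAut.smul_def, MulAut.conj_apply, inv_inv] at hy'
  have h2 : g⁻¹ * y * g ∈ Set.range (fun b : F =>
      Matrix.SpecialLinearGroup.transvection (zero_ne_one : (0 : Fin 2) ≠ 1) b) := by
    rw [← Classical.Two.rootGroup_basePoint]; exact hy'
  obtain ⟨b, hb⟩ := h2
  exact ⟨g⁻¹, b, by rw [inv_inv, ← hb]; exact up_eq b⟩

theorem exists_orderOf_eq {r e : ℕ} (hr : r.Prime) (hr2 : r ≠ 2) (hrp : r ≠ p)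
    (hdvd : r ^ (e + 1) ∣ Fintype.card F ^ 2 - 1) : ∃ h : SL(2, F), orderOf h = r ^ (e + 1) := by
  haveI := Fact.mk hr
  let R : Sylow r SL(2, F) := default
  haveI := Classical.Two.isCyclic_sylow_odd p r hr2 hrp R
  obtain ⟨x, hx⟩ := IsCyclic.exists_ofOrder_eq_natCard (α := (R : Subgroup SL(2, F)))
  have hd : r ^ (e + 1) ∣ orderOf x := by
    rw [hx, R.card_eq_multiplicity]
    refine pow_dvd_pow r ((hr.pow_dvd_iff_le_factorization Nat.card_pos.ne').mp ?_)
    rw [Classical.Two.card_SL_two]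
    exact hdvd.trans (dvd_mul_left _ _)
  refine ⟨((x ^ (orderOf x / r ^ (e + 1)) : (R : Subgroup SL(2, F))) : SL(2, F)), ?_⟩
  rw [Subgroup.orderOf_coe, orderOf_pow_orderOf_div (orderOf_pos x).ne' hd]

variable {G : Type*} [Group G] [Finite G] {V H : Subgroup G}

/-- `q ≤ |V : C_V(a)|` for elements `a` of `p`-power order with nontrivial image in `PSL₂(q)`. -/
theorem le_fixIndex_PSL2 {n : ℕ} (hF : Fintype.card F = p ^ n) (hV : IsPGroup p V)
    (hHV : H ≤ Subgroup.normalizer (V : Set G)) (hf : H ⊓ Subgroup.centralizer (V : Set G) = ⊥)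
    (π : H →* ProjectiveSpecialLinearGroup (Fin 2) F) (hπ : Function.Surjective π) (a : H) {e : ℕ}
    (ha : a ^ p ^ e = 1) (hπa : π a ≠ 1) : p ^ n ≤ fixIndex V (a : G) := by
  rcases le_or_gt n 1 with hn | hn
  · refine le_trans (Nat.pow_le_pow_right hp.out.pos hn) ?_
    rw [pow_one]
    refine prime_le_fixIndex hV fun hc => hπa ?_
    have h1 : (a : G) ∈ H ⊓ Subgroup.centralizer (V : Set G) := ⟨a.2, hc⟩
    rw [hf, Subgroup.mem_bot] at h1
    rw [show a = 1 from Subtype.ext h1, map_one]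
  obtain ⟨r, f, hr, hr2, hrp, hdvd, hppd⟩ := exists_ppd_pow hp.out hn
  obtain ⟨h, hh⟩ := exists_orderOf_eq (F := F) (p := p) hr hr2 hrp
    (by rw [hF, ← pow_mul, mul_comm n 2]; exact hdvd)
  obtain ⟨x, hx⟩ := QuotientGroup.mk'_surjective (Subgroup.center SL(2, F)) (π a)
  have hx2 : (x ^ p ^ e) ^ 2 = 1 := sq_eq_one_of_mem_center ((QuotientGroup.eq_one_iff _).mp (by
    rw [← QuotientGroup.mk'_apply, map_pow, hx, ← map_pow, ha, map_one]))
  -- a unipotent lift of a power of `π a`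
  obtain ⟨d, y, hy, hyd, hyne⟩ : ∃ (d : ℕ) (y : SL(2, F)),
      QuotientGroup.mk' (Subgroup.center SL(2, F)) y = π (a ^ d) ∧ (∃ i, y ^ p ^ i = 1) ∧
        π (a ^ d) ≠ 1 := by
    by_cases h2 : p = 2
    · exact ⟨1, x, by rw [pow_one, hx], ⟨e + 1, by rw [pow_succ, pow_mul]; subst h2; exact hx2⟩,
        by rwa [pow_one]⟩
    · refine ⟨2, x ^ 2, by rw [map_pow, map_pow, hx], ⟨e, by rw [← pow_mul, mul_comm, pow_mul, hx2]⟩,
        fun hc => hπa ?_⟩
      rw [map_pow] at hc
      refine orderOf_eq_one_iff.mp (Nat.eq_one_of_dvd_coprimes ?_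
        (orderOf_dvd_iff_pow_eq_one.mpr (by rw [← map_pow, ha, map_one] : π a ^ p ^ e = 1))
        (orderOf_dvd_iff_pow_eq_one.mpr hc))
      exact ((Nat.coprime_primes hp.out Nat.prime_two).mpr h2).pow_left e
  obtain ⟨i, hi⟩ := hyd
  obtain ⟨k, b, hk⟩ := exists_conj_eq_up hi
  have hb : b ≠ 0 := by
    rintro rfl
    have : up (0 : F) = 1 := Subtype.ext (by ext i j; fin_cases i <;> fin_cases j <;> simp [up])
    rw [this, conj_eq_one_iff] at hk
    exact hyne (by rw [← hy, hk, map_one])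
  have hM4 : 4 < r ^ (f + 1) := by
    by_contra hc
    have h3 : 3 ≤ r := by have := hr.two_le; omega
    have hf0 : f = 0 := by
      by_contra hf0
      have := Nat.pow_le_pow_right hr.pos (show 2 ≤ f + 1 by omega)
      nlinarith
    subst hf0
    rw [zero_add, pow_one] at hc hppd
    have hr3 : r = 3 := by
      rcases (show r = 3 ∨ r = 4 by omega) with h | h
      · exact h
      · subst h; norm_num at hr
    subst hr3
    refine hppd 2 two_pos (by omega) ?_
    have hp3 : ¬ 3 ∣ p := fun hd => hrp ((Nat.prime_dvd_prime_iff_eq hr hp.out).mp hd)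
    have h1 : p ^ 2 % 3 = 1 := by
      rw [Nat.pow_mod]
      rcases (show p % 3 = 1 ∨ p % 3 = 2 by omega) with h | h <;> rw [h]
    omega
  obtain ⟨k', hk'⟩ := exists_conj_dvd_orderOf_up hb hM4 ((hr.odd_of_ne_two hr2).pow) hh
  obtain ⟨c, hc⟩ := hπ (QuotientGroup.mk' _ (k⁻¹ * k' * k))
  -- the product of `a ^ d` and a conjugate
  let m : H := a ^ d * (c * a ^ d * c⁻¹)
  have hπm : r ^ (f + 1) ∣ orderOf m := by
    refine dvd_trans ?_ (orderOf_map_dvd π m)
    have e1 : π m = QuotientGroup.mk' _ (k⁻¹ * (up b * (k' * up b * k'⁻¹)) * k) := by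
      simp only [m, map_mul, map_inv, hc, ← hy, ← hk]
      simp only [← map_inv, ← map_mul]
      congr 1
      group
    rw [e1, map_mul, map_mul, map_inv, ← orderOf_injective (MulAut.conj
      (QuotientGroup.mk' (Subgroup.center SL(2, F)) k)).toMonoidHom (MulEquiv.injective _)]
    simpa [mul_assoc] using hk'
  have h1 := pow_le_fixIndex_of_dvd_orderOf hV hHV hf m.2 hr hrp (by rwa [Subgroup.orderOf_coe])
    hppd
  have h2 : fixIndex V (m : G) ≤ fixIndex V (a : G) ^ 2 := by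
    rw [pow_two]
    refine (fixIndex_mul_le V _ _).trans (Nat.mul_le_mul ?_ ?_)
    · rw [SubgroupClass.coe_pow]; exact fixIndex_pow_le V _ _
    · simp only [Subgroup.coe_mul, Subgroup.coe_inv, SubgroupClass.coe_pow]
      rw [fixIndex_conj (hHV c.2)]; exact fixIndex_pow_le V _ _
  have h3 : (p ^ n) ^ 2 ≤ fixIndex V (a : G) ^ 2 := by
    rw [← pow_mul, mul_comm n 2]; exact h1.trans h2
  exact (Nat.pow_le_pow_iff_left two_ne_zero).mp h3

theorem exists_not_commute :
    ∃ x y : ProjectiveSpecialLinearGroup (Fin 2) F, x * y ≠ y * x := by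
  refine ⟨QuotientGroup.mk (up 1), QuotientGroup.mk (lo 1), fun h => ?_⟩
  rw [← QuotientGroup.mk_mul, ← QuotientGroup.mk_mul, QuotientGroup.eq] at h
  obtain ⟨c, -, hc⟩ := Matrix.SpecialLinearGroup.mem_center_iff.mp h
  have h2 : ((lo (1 : F) * up 1 : SL(2, F)) : Matrix (Fin 2) (Fin 2) F) =
      ((up (1 : F) * lo 1 : SL(2, F)) : Matrix (Fin 2) (Fin 2) F) * scalar (Fin 2) c := by
    rw [hc, ← Matrix.SpecialLinearGroup.coe_mul, mul_inv_cancel_left]
  simp only [Matrix.SpecialLinearGroup.coe_mul] at h2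
  have h01 := congrFun (congrFun h2 0) 1
  simp [up, lo, Matrix.mul_apply, Fin.sum_univ_two] at h01
  have h00 := congrFun (congrFun h2 0) 0
  simp [up, lo, Matrix.mul_apply, Fin.sum_univ_two, ← h01] at h00

/-- An element moving at least a `q ^ 2`-th. -/
theorem exists_sq_le_fixIndex_PSL2 {n : ℕ} (hn : 1 < n) (hF : Fintype.card F = p ^ n)
    (hV : IsPGroup p V) (hHV : H ≤ Subgroup.normalizer (V : Set G))
    (hf : H ⊓ Subgroup.centralizer (V : Set G) = ⊥)
    (π : H →* ProjectiveSpecialLinearGroup (Fin 2) F) (hπ : Function.Surjective π) :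
    ∃ m ∈ H, (p ^ n) ^ 2 ≤ fixIndex V m := by
  obtain ⟨r, f, hr, hr2, hrp, hdvd, hppd⟩ := exists_ppd_pow hp.out hn
  obtain ⟨h, hh⟩ := exists_orderOf_eq (F := F) (p := p) hr hr2 hrp
    (by rw [hF, ← pow_mul, mul_comm n 2]; exact hdvd)
  obtain ⟨h', hh'⟩ := hπ (QuotientGroup.mk' _ h)
  have hd : r ^ (f + 1) ∣ orderOf h' := by
    refine dvd_trans ?_ (orderOf_map_dvd π h')
    rw [hh']
    set j := orderOf (QuotientGroup.mk' (Subgroup.center SL(2, F)) h) with hj
    have h2 : (h ^ j) ^ 2 = 1 := sq_eq_one_of_mem_center ((QuotientGroup.eq_one_iff _).mp (by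
      rw [← QuotientGroup.mk'_apply, map_pow, hj]; exact pow_orderOf_eq_one _))
    rw [← pow_mul] at h2
    exact Nat.Coprime.dvd_of_dvd_mul_right
      (Nat.coprime_two_right.mpr (hr.odd_of_ne_two hr2).pow) (hh ▸ orderOf_dvd_iff_pow_eq_one.mpr h2)
  refine ⟨h', h'.2, le_trans ?_ (pow_le_fixIndex_of_dvd_orderOf hV hHV hf h'.2 hr hrp
    (by rwa [Subgroup.orderOf_coe]) hppd)⟩
  rw [← pow_mul, mul_comm n 2]


/-- `q ^ 2 ≤ |V|`. -/
theorem sq_le_card_PSL2 {n : ℕ} (hF : Fintype.card F = p ^ n) (hV : IsPGroup p V)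
    (hHV : H ≤ Subgroup.normalizer (V : Set G)) (hf : H ⊓ Subgroup.centralizer (V : Set G) = ⊥)
    (π : H →* ProjectiveSpecialLinearGroup (Fin 2) F) (hπ : Function.Surjective π) :
    (p ^ n) ^ 2 ≤ Nat.card V := by
  rcases le_or_gt n 1 with hn | hn
  · refine le_trans (Nat.pow_le_pow_left ((Nat.pow_le_pow_right hp.out.pos hn).trans
      (pow_one p).le) 2) ?_
    obtain ⟨i, hi⟩ := IsPGroup.iff_card.mp hV
    rw [hi]
    refine Nat.pow_le_pow_right hp.out.pos ?_
    by_contra hi2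
    haveI : IsCyclic V := by
      rcases (show i = 0 ∨ i = 1 by omega) with rfl | rfl
      · haveI : Subsingleton V := (Nat.card_eq_one_iff_unique.mp (by simpa using hi)).1
        infer_instance
      · exact isCyclic_of_prime_card (p := p) (by simpa using hi)
    obtain ⟨x, y, hxy⟩ := exists_not_commute (F := F)
    obtain ⟨x', rfl⟩ := hπ x
    obtain ⟨y', rfl⟩ := hπ y
    refine hxy ?_
    rw [← map_mul, ← map_mul]
    congr 1
    let ψ : H →* MulAut V := V.normalizerMonoidHom.comp (Subgroup.inclusion hHV)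
    have hψ : Function.Injective ψ := by
      rw [injective_iff_map_eq_one]
      intro g hg
      have h1 : Subgroup.inclusion hHV g ∈ V.normalizerMonoidHom.ker := hg
      rw [Subgroup.normalizerMonoidHom_ker, Subgroup.mem_subgroupOf] at h1
      have h2 : (g : G) ∈ H ⊓ Subgroup.centralizer (V : Set G) := ⟨g.2, h1⟩
      rw [hf, Subgroup.mem_bot] at h2
      exact Subtype.ext h2
    refine hψ ?_
    refine (IsCyclic.mulAutMulEquiv V).injective ?_
    simp only [map_mul]
    exact mul_comm _ _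
  obtain ⟨m, -, hm⟩ := exists_sq_le_fixIndex_PSL2 hn hF hV hHV hf π hπ
  exact hm.trans (fixIndex_le_card V m)

end CfsgLib.LocalEven.Ppd

namespace CfsgLib.LocalEven.Ppd

open Matrix
open scoped MatrixGroups

variable {F : Type*} [Field F] [Fintype F] {p : ℕ} [hp : Fact p.Prime] [CharP F p]
variable {G : Type*} [Group G] [Finite G] {V H : Subgroup G}

theorem exists_pow_eq_one (S : Sylow p H) {a : H} (ha : a ∈ S) : ∃ e : ℕ, a ^ p ^ e = 1 := by
  obtain ⟨e, he⟩ := S.isPGroup' ⟨a, ha⟩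
  exact ⟨e, congrArg Subtype.val he⟩

theorem sylow_mk_ne_one (S : Sylow p H) [(Cfsg.pPrimeCore p H).Normal] {a : H} (ha : a ∈ S)
    (ha1 : a ≠ 1) : QuotientGroup.mk' (Cfsg.pPrimeCore p H) a ≠ 1 := by
  intro hc
  obtain ⟨e, he⟩ := exists_pow_eq_one S ha
  refine ha1 (orderOf_eq_one_iff.mp (Nat.eq_one_of_dvd_coprimes ?_
    (orderOf_dvd_iff_pow_eq_one.mpr he)
    (Subgroup.orderOf_dvd_natCard _ ((QuotientGroup.eq_one_iff a).mp hc))))
  exact (hp.out.coprime_iff_not_dvd.mpr not_dvd_card_pPrimeCore).pow_left e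

theorem psl2_bounds [(Cfsg.pPrimeCore p H).Normal] {n : ℕ} (hF : Fintype.card F = p ^ n)
    (hV : IsPGroup p V)
    (hHV : H ≤ Subgroup.normalizer (V : Set G)) (hf : H ⊓ Subgroup.centralizer (V : Set G) = ⊥)
    (hiso : Nonempty (H ⧸ Cfsg.pPrimeCore p H ≃* ProjectiveSpecialLinearGroup (Fin 2) F))
    (S : Sylow p H) :
    (p ^ n) ^ 2 ≤ Nat.card V ∧
      ∀ s ∈ (S : Subgroup H).map H.subtype, s ≠ 1 →
        p ^ n ≤ (V ⊓ Subgroup.centralizer ({s} : Set G)).relIndex V := by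
  obtain ⟨φ⟩ := hiso
  let π : H →* ProjectiveSpecialLinearGroup (Fin 2) F :=
    φ.toMonoidHom.comp (QuotientGroup.mk' (Cfsg.pPrimeCore p H))
  have hπ : Function.Surjective π := φ.surjective.comp (QuotientGroup.mk'_surjective _)
  refine ⟨sq_le_card_PSL2 hF hV hHV hf π hπ, ?_⟩
  rintro s ⟨a, ha, rfl⟩ hs
  obtain ⟨e, he⟩ := exists_pow_eq_one S ha
  refine le_fixIndex_PSL2 hF hV hHV hf π hπ a he fun hc => ?_
  refine sylow_mk_ne_one S ha (fun h => hs (by rw [h, map_one])) (φ.injective ?_)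
  rw [map_one]; exact hc

omit [Finite G] in
theorem exists_ne_one_of_card {A : Subgroup G} {k : ℕ} (hA : Nat.card A = k) (hk : 2 ≤ k) :
    ∃ a ∈ A, a ≠ 1 := by
  by_contra h
  push Not at h
  have : A = ⊥ := (Subgroup.eq_bot_iff_forall _).mpr h
  rw [this, Subgroup.card_bot] at hA
  omega

theorem fixIndex_le_relIndex_centralizer {A : Subgroup G} {a : G} (ha : a ∈ A) (V : Subgroup G) :
    fixIndex V a ≤ (V ⊓ Subgroup.centralizer (A : Set G)).relIndex V :=
  Subgroup.relIndex_le_of_le_left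
    (inf_le_inf_left V (Subgroup.centralizer_le (Set.singleton_subset_iff.mpr ha)))
    Subgroup.index_ne_zero_of_finite

end CfsgLib.LocalEven.Ppd
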