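import Mathlib
import Cfsg.Agent.Lib.Recog.SuzukiFix
import Cfsg.Agent.Lib.Known.SuzukiLaw
import Cfsg.Agent.Lib.LocalEven.PpdSL2

/-!
# Groups with a Suzuki image acting faithfully on a `2`-group

* `centralUp`: involutions commuting with the unitriangular part of `Sz(q)`
* `exists_conj_dvd_orderOf_sz`: products of two conjugate involutions of large order
* `suzuki_bounds`: `q ^ 4 ≤ |V|` and `q ^ 2 ≤ |V : C_V(s)|`
-/

set_option autoImplicit false

namespace CfsgLib.LocalEven.SzPpd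

open Cfsg.Lie CfsgLib.Recog.SuzukiFix
open scoped Matrix

variable {F : Type*} [Field F] [CharP F 2]

/-- The involutory unitriangular elements. -/
def upB (e : ℕ) (b : F) : Matrix (Fin 4) (Fin 4) F :=
  !![1, 0, b, b ^ e; 0, 1, 0, b; 0, 0, 1, 0; 0, 0, 0, 1]

/-- Their conjugates under the reversing permutation. -/
def loB (e : ℕ) (b : F) : Matrix (Fin 4) (Fin 4) F :=
  !![1, 0, 0, 0; 0, 1, 0, 0; b, 0, 1, 0; b ^ e, b, 0, 1]

/-- The reversing permutation matrix. -/
def revM : Matrix (Fin 4) (Fin 4) F :=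
  !![0, 0, 0, 1; 0, 0, 1, 0; 0, 1, 0, 0; 1, 0, 0, 0]

/-- A unitriangular element of order four. -/
def upOne : Matrix (Fin 4) (Fin 4) F :=
  !![1, 1, 0, 1; 0, 1, 1, 1; 0, 0, 1, 1; 0, 0, 0, 1]

theorem upB_mul_self (e : ℕ) (b : F) : upB e b * upB e b = 1 := by
  ext i j
  fin_cases i <;> fin_cases j <;>
    simp [upB, Matrix.mul_apply, Fin.sum_univ_four, CharTwo.add_self_eq_zero]

theorem loB_mul_self (e : ℕ) (b : F) : loB e b * loB e b = 1 := by
  ext i j
  fin_cases i <;> fin_cases j <;>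
    simp [loB, Matrix.mul_apply, Fin.sum_univ_four, CharTwo.add_self_eq_zero]

theorem revM_mul_self : (revM : Matrix (Fin 4) (Fin 4) F) * revM = 1 := by
  ext i j
  fin_cases i <;> fin_cases j <;> simp [revM, Matrix.mul_apply, Fin.sum_univ_four]

theorem rev_conj (e : ℕ) (b : F) : revM * upB e b * revM = loB e b := by
  ext i j
  fin_cases i <;> fin_cases j <;> simp [revM, upB, loB, Matrix.mul_apply, Fin.sum_univ_four]

theorem mem_sz {e : ℕ} (he : e ≠ 0) {g : GL (Fin 4) F}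
    (hB : ∀ u v, altForm4 ((g : Matrix (Fin 4) (Fin 4) F) *ᵥ u) ((g : Matrix (Fin 4) (Fin 4) F) *ᵥ v) =
      altForm4 u v)
    (hs : star4 (g : Matrix (Fin 4) (Fin 4) F) =
      (g : Matrix (Fin 4) (Fin 4) F).map (fun x => x ^ e)) : g ∈ Sz F e := by
  clear he
  exact Subgroup.subset_closure ⟨hB, hs⟩

/-- `upB` in the group. -/
def upG (e : ℕ) (b : F) : GL (Fin 4) F := ⟨upB e b, upB e b, upB_mul_self e b, upB_mul_self e b⟩

/-- `revM` in the group. -/
def revG (F : Type*) [Field F] [CharP F 2] : GL (Fin 4) F :=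
  ⟨revM, revM, revM_mul_self, revM_mul_self⟩

theorem upOne_pow_four : (upOne : Matrix (Fin 4) (Fin 4) F) * (upOne * upOne * upOne) = 1 := by
  ext i j
  fin_cases i <;> fin_cases j <;>
    simp [upOne, Matrix.mul_apply, Fin.sum_univ_four, CharTwo.add_self_eq_zero]

theorem upOne_pow_four' : (upOne : Matrix (Fin 4) (Fin 4) F) * upOne * upOne * upOne = 1 := by
  rw [← upOne_pow_four (F := F), mul_assoc, mul_assoc, mul_assoc]

/-- `upOne` in the group. -/
def oneG (F : Type*) [Field F] [CharP F 2] : GL (Fin 4) F :=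
  ⟨upOne, upOne * upOne * upOne, upOne_pow_four, upOne_pow_four'⟩

theorem revG_mem {e : ℕ} (he : e ≠ 0) : revG F ∈ Sz F e := by
  refine mem_sz he (fun u v => ?_) ?_
  · simp [revG, revM, altForm4, Matrix.mulVec, dotProduct, Fin.sum_univ_four]
    ring
  · ext p r
    fin_cases p <;> fin_cases r <;>
      simp [star4, pairOf, revG, revM, he, CharTwo.neg_eq]

theorem oneG_mem {e : ℕ} (he : e ≠ 0) : oneG F ∈ Sz F e := by
  have h2 : (2 : F) = 0 := CharTwo.two_eq_zero
  refine mem_sz he (fun u v => ?_) ?_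
  · simp [oneG, upOne, altForm4, Matrix.mulVec, dotProduct, Fin.sum_univ_four]
    grind
  · ext p r
    fin_cases p <;> fin_cases r <;>
      simp [star4, pairOf, oneG, upOne, he, CharTwo.neg_eq, CharTwo.add_self_eq_zero]

theorem upG_mem {e : ℕ} (he : e ≠ 0) (hee : ∀ x : F, (x ^ e) ^ e = x ^ 2) (b : F) :
    upG e b ∈ Sz F e := by
  have h2 : (2 : F) = 0 := CharTwo.two_eq_zero
  refine mem_sz he (fun u v => ?_) ?_
  · simp [upG, upB, altForm4, Matrix.mulVec, dotProduct, Fin.sum_univ_four]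
    grind
  · ext p r
    fin_cases p <;> fin_cases r <;>
      simp [star4, pairOf, upG, upB, he, CharTwo.neg_eq, hee, pow_two]

/-- The unitriangular group. -/
def triGroup (F : Type*) [Field F] [CharP F 2] : Submonoid (GL (Fin 4) F) where
  carrier := {g | ∀ i j : Fin 4, j ≤ i → (g : Matrix (Fin 4) (Fin 4) F) i j = if i = j then 1 else 0}
  one_mem' := fun i j _ => by rw [Units.val_one, Matrix.one_apply]
  mul_mem' := fun {g k} hg hk i j hij => by
    rw [Units.val_mul, Matrix.mul_apply]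
    by_cases h : i = j
    · subst h
      rw [if_pos rfl, Finset.sum_eq_single i, hg i i le_rfl, hk i i le_rfl, if_pos rfl, mul_one]
      · intro b _ hb
        rcases lt_or_gt_of_ne hb with h' | h'
        · rw [hg i b h'.le, if_neg hb.symm, zero_mul]
        · rw [hk b i h'.le, if_neg hb, mul_zero]
      · simp
    · rw [if_neg h]
      refine Finset.sum_eq_zero fun b _ => ?_
      rcases lt_or_ge b i with h' | h'
      · rw [hg i b h'.le, if_neg (ne_of_gt h'), zero_mul]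
      · rw [hk b j (hij.trans h'), if_neg (by rintro rfl; exact h (le_antisymm h' hij)), mul_zero]

theorem triGroup_pow_four {g : GL (Fin 4) F} (hg : g ∈ triGroup F) : g ^ 4 = 1 := by
  have hbt : ((g : Matrix (Fin 4) (Fin 4) F)).BlockTriangular id := fun i j (hij : j < i) => by
    rw [hg i j hij.le, if_neg (ne_of_gt hij)]
  have h := Matrix.aeval_self_charpoly (g : Matrix (Fin 4) (Fin 4) F)
  rw [Matrix.charpoly_of_upperTriangular _ hbt] at h
  simp only [fun i => (hg i i le_rfl).trans (if_pos rfl), Finset.prod_const, Finset.card_univ,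
    Fintype.card_fin, map_pow, map_sub, Polynomial.aeval_X, map_one] at h
  have h' := sub_pow_char_pow_of_commute (p := 2) 2
    (Commute.one_right (g : Matrix (Fin 4) (Fin 4) F))
  norm_num at h'
  rw [h', sub_eq_zero] at h
  exact Units.ext (by rw [Units.val_pow_eq_pow_val, Units.val_one]; exact h)

theorem upG_tri (e : ℕ) (b : F) : upG e b ∈ triGroup F := fun i j hij => by
  fin_cases i <;> fin_cases j <;> simp [upG, upB] at hij ⊢

theorem oneG_tri : oneG F ∈ triGroup F := fun i j hij => by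
  fin_cases i <;> fin_cases j <;> simp [oneG, upOne] at hij ⊢

/-- An involution commuting with `upG` and `oneG`. -/
theorem centralUp {e : ℕ} (he : e ≠ 0) (φ : F →+* F) (hφ : ∀ x, φ x = x ^ e) {g : GL (Fin 4) F}
    (hg : g ∈ Sz F e) (hinv : g ^ 2 = 1) (hc : ∀ b, g * upG e b = upG e b * g)
    (hc1 : g * oneG F = oneG F * g) {c : F} (hc0 : c ≠ 0) (hc01 : c ^ e ≠ c) :
    ∃ γ, g = upG e γ := by
  obtain ⟨hs, hstar⟩ := sz_star4 φ hφ hg
  obtain ⟨M, hM⟩ : ∃ M : Matrix (Fin 4) (Fin 4) F, M = (g : Matrix (Fin 4) (Fin 4) F) := ⟨_, rfl⟩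
  rw [← hM] at hs hstar
  have hcomm : ∀ b, M * upB e b = upB e b * M := fun b => by
    have := congrArg Units.val (hc b)
    rw [Units.val_mul, Units.val_mul, ← hM] at this
    exact this
  have hcomm1 : M * upOne = upOne * M := by
    have := congrArg Units.val hc1
    rw [Units.val_mul, Units.val_mul, ← hM] at this
    exact this
  have hsq : M * M = 1 := by
    have := congrArg Units.val hinv
    rwa [pow_two, Units.val_mul, Units.val_one, ← hM] at this
  -- separate the two parts of `upB`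
  have hA : M * !![0, 0, 1, 0; 0, 0, 0, 1; 0, 0, 0, 0; 0, 0, 0, 0] =
      !![0, 0, 1, 0; 0, 0, 0, 1; 0, 0, 0, 0; 0, 0, 0, 0] * M ∧
      M * !![0, 0, 0, 1; 0, 0, 0, 0; 0, 0, 0, 0; 0, 0, 0, 0] =
      !![0, 0, 0, 1; 0, 0, 0, 0; 0, 0, 0, 0; 0, 0, 0, 0] * M := by
    set A : Matrix (Fin 4) (Fin 4) F := !![0, 0, 1, 0; 0, 0, 0, 1; 0, 0, 0, 0; 0, 0, 0, 0] with hA
    set C : Matrix (Fin 4) (Fin 4) F := !![0, 0, 0, 1; 0, 0, 0, 0; 0, 0, 0, 0; 0, 0, 0, 0] with hC
    have hup : ∀ b : F, upB e b = 1 + b • A + b ^ e • C := fun b => by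
      ext i j
      fin_cases i <;> fin_cases j <;> simp [upB, hA, hC]
    have hd : ∀ b : F, b • (M * A - A * M) + b ^ e • (M * C - C * M) = 0 := fun b => by
      have := hcomm b
      rw [hup, mul_add, mul_add, add_mul, add_mul, mul_one, one_mul, Matrix.mul_smul,
        Matrix.mul_smul, Matrix.smul_mul, Matrix.smul_mul, ← sub_eq_zero] at this
      rw [← this, smul_sub, smul_sub]; abel
    have h1 := hd 1
    rw [one_pow, one_smul, one_smul, add_eq_zero_iff_eq_neg] at h1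
    have h2 := hd c
    rw [h1, smul_neg, ← sub_eq_neg_add, ← sub_smul] at h2
    have hC0 : M * C - C * M = 0 :=
      (smul_eq_zero.mp h2).resolve_left (sub_ne_zero.mpr hc01)
    rw [hC0, neg_zero] at h1
    exact ⟨sub_eq_zero.mp h1, sub_eq_zero.mp hC0⟩
  obtain ⟨hA, hC⟩ := hA
  have a20 := congrFun (congrFun hA 0) 0
  have a21 := congrFun (congrFun hA 0) 1
  have a22 := congrFun (congrFun hA 0) 2
  have a23 := congrFun (congrFun hA 0) 3
  have a30 := congrFun (congrFun hA 1) 0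
  have a31 := congrFun (congrFun hA 1) 1
  have a32 := congrFun (congrFun hA 1) 2
  have a33 := congrFun (congrFun hA 1) 3
  have c10 := congrFun (congrFun hC 1) 3
  have c00 := congrFun (congrFun hC 0) 3
  simp [Matrix.mul_apply, Fin.sum_univ_four] at a20 a21 a22 a23 a30 a31 a32 a33 c10 c00
  have o02 := congrFun (congrFun hcomm1 0) 2
  have o03 := congrFun (congrFun hcomm1 0) 3
  simp [upOne, Matrix.mul_apply, Fin.sum_univ_four] at o02 o03
  have s00 := congrFun (congrFun hsq 0) 0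
  have s02 := congrFun (congrFun hsq 0) 2
  simp [Matrix.mul_apply, Fin.sum_univ_four] at s00 s02
  have st := congrFun (congrFun hstar 0) 2
  simp [star4, pairOf, hφ] at st
  have h2 : (2 : F) = 0 := CharTwo.two_eq_zero
  have h00 : M 0 0 = 1 := by
    have h1 : (M 0 0 - 1) ^ 2 = 0 := by grind
    exact sub_eq_zero.mp (pow_eq_zero_iff two_ne_zero |>.mp h1)
  have h01 : M 0 1 = 0 := by
    have h1 : (M 0 1) ^ 2 = 0 := by grind
    exact pow_eq_zero_iff two_ne_zero |>.mp h1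
  refine ⟨M 0 2, Units.ext ?_⟩
  rw [← hM]
  show M = upB e (M 0 2)
  ext i j
  fin_cases i <;> fin_cases j <;> simp [upB] <;> grind

variable [Fintype F]

theorem exists_eq_algebraMap {K : Type*} [Field K] [Algebra F K] {x : K}
    (hx : x ^ Fintype.card F = x) : ∃ y : F, algebraMap F K y = x := by
  have h1 : (Polynomial.X ^ Fintype.card F - Polynomial.X : Polynomial F).Splits := by
    rw [Polynomial.splits_iff_card_roots, FiniteField.roots_X_pow_card_sub_X]
    rw [FiniteField.X_pow_card_sub_X_natDegree_eq F Fintype.one_lt_card]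
    rfl
  have h2 := h1.roots_map (algebraMap F K)
  rw [FiniteField.roots_X_pow_card_sub_X, Polynomial.map_sub, Polynomial.map_pow,
    Polynomial.map_X] at h2
  have h3 : x ∈ (Polynomial.X ^ Fintype.card F - Polynomial.X : Polynomial K).roots := by
    rw [Polynomial.mem_roots (FiniteField.X_pow_card_sub_X_ne_zero K Fintype.one_lt_card)]
    simp [hx]
  rw [h2] at h3
  obtain ⟨y, -, hy⟩ := Multiset.mem_map.mp h3
  exact ⟨y, hy⟩

open Polynomial in
/-- A quartic with a root of large order. -/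
theorem exists_quartic {m : ℕ} (hF : Fintype.card F = 2 ^ (2 * m + 1)) {r : ℕ} (hr : r.Prime)
    (hr4 : 4 < r) (hdvd : r ∣ Fintype.card F ^ 2 + 1)
    (hppd : ∀ d, 0 < d → d < 4 → ¬ r ∣ Fintype.card F ^ d - 1) :
    ∃ T : F, T ≠ 0 ∧ ∀ g h : Matrix (Fin 4) (Fin 4) F,
      g * h = 1 → h * g = 1 → (g + h) * (g + h) + T • (g + h) + (T ^ 2 ^ (m + 1)) • 1 = 0 →
      ∀ j, g ^ j = 1 → r ∣ j := by
  classical
  obtain ⟨Q, hQ⟩ : ∃ Q, Q = Fintype.card F := ⟨_, rfl⟩
  rw [← hQ] at hF hdvd hppd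
  obtain ⟨e, he⟩ : ∃ e, e = 2 ^ (m + 1) := ⟨_, rfl⟩
  rw [← he]
  haveI : CharP (AlgebraicClosure F) 2 :=
    charP_of_injective_ringHom (algebraMap F (AlgebraicClosure F)).injective 2
  have h2 : (2 : AlgebraicClosure F) = 0 := CharTwo.two_eq_zero
  haveI : NeZero (r : AlgebraicClosure F) := ⟨fun h => by
    rcases (Nat.dvd_prime hr).mp ((CharP.cast_eq_zero_iff (AlgebraicClosure F) 2 r).mp h) with h | h
      <;> omega⟩
  obtain ⟨z, hz⟩ : ∃ z : AlgebraicClosure F, IsPrimitiveRoot z r := by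
    obtain ⟨z, hz⟩ := IsAlgClosed.exists_root (cyclotomic r (AlgebraicClosure F))
      (by rw [degree_cyclotomic]; exact_mod_cast (Nat.totient_pos.mpr hr.pos).ne')
    exact ⟨z, isRoot_cyclotomic_iff.mp hz⟩
  have hzr : z ^ r = 1 := hz.pow_eq_one
  have hz0 : z ≠ 0 := hz.ne_zero hr.ne_zero
  -- the Frobenius orbit
  obtain ⟨w, hw⟩ : ∃ w, w = z ^ Q := ⟨_, rfl⟩
  have hw0 : w ≠ 0 := hw ▸ pow_ne_zero _ hz0
  have hQQ : z ^ (Q * Q) = z⁻¹ := by
    refine eq_inv_of_mul_eq_one_left ?_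
    rw [← pow_succ]
    obtain ⟨k, hk⟩ := hdvd
    rw [show Q * Q + 1 = r * k by rw [← hk]; ring, pow_mul, hzr, one_pow]
  have hwQ : w ^ Q = z⁻¹ := by rw [hw, ← pow_mul, hQQ]
  obtain ⟨t, ht⟩ : ∃ t, t = z + z⁻¹ + (w + w⁻¹) := ⟨_, rfl⟩
  have hadd : ∀ a b : AlgebraicClosure F, (a + b) ^ Q = a ^ Q + b ^ Q := fun a b => by
    rw [hF, add_pow_char_pow]
  have htQ : t ^ Q = t := by
    rw [ht, hadd, hadd, hadd, inv_pow, inv_pow, hwQ, ← hw, inv_inv]; ring
  obtain ⟨T, hT⟩ := exists_eq_algebraMap (F := F) (K := AlgebraicClosure F) (x := t) (hQ ▸ htQ)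
  have hte : t ^ e = (z + z⁻¹) * (w + w⁻¹) := by
    have hsplit : Q * Q + 1 = (Q + e + 1) * (Q + 1 - e) := by
      have he2 : e * e = 2 * Q := by
        rw [he, hF, ← pow_add, ← pow_succ']; congr 1; ring
      have hle : e ≤ Q := by rw [he, hF]; exact Nat.pow_le_pow_right two_pos (by omega)
      zify [show e ≤ Q + 1 by omega]
      have he2' : (e : ℤ) * e = 2 * Q := by exact_mod_cast he2
      linear_combination he2'
    have hexp : t ^ e = z ^ e + (z ^ e)⁻¹ + (w ^ e + (w ^ e)⁻¹) := by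
      rw [ht, he, add_pow_char_pow, add_pow_char_pow, add_pow_char_pow, inv_pow, inv_pow]
    rw [hexp]
    rcases (Nat.Prime.dvd_mul hr).mp (hsplit ▸ (by rwa [pow_two] at hdvd : r ∣ Q * Q + 1)) with hd | hd
    · obtain ⟨k, hk⟩ := hd
      have h1 : z ^ e = (z * w)⁻¹ := by
        refine eq_inv_of_mul_eq_one_left ?_
        rw [hw, ← pow_succ', ← pow_add, show e + (Q + 1) = r * k by rw [← hk]; ring, pow_mul, hzr,
          one_pow]
      have h1' : w ^ e = (w * z⁻¹)⁻¹ := by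
        rw [hw, ← pow_mul, mul_comm, pow_mul, h1, inv_pow, mul_pow, ← hw, hwQ]
      rw [h1, h1']
      field_simp
      ring
    · obtain ⟨k, hk⟩ := hd
      have h1 : z ^ e = z * w := by
        have hle : e ≤ Q + 1 := by
          rw [he, hF]; exact le_trans (Nat.pow_le_pow_right two_pos (by omega)) (Nat.le_succ _)
        have h3 : z ^ (Q + 1 - e) = 1 := by rw [hk, pow_mul, hzr, one_pow]
        calc z ^ e = z ^ (Q + 1 - e) * z ^ e := by rw [h3, one_mul]
          _ = z * w := by rw [← pow_add, Nat.sub_add_cancel hle, hw, pow_succ']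
      have h1' : w ^ e = w * z⁻¹ := by
        rw [hw, ← pow_mul, mul_comm, pow_mul, h1, mul_pow, ← hw, hwQ]
      rw [h1, h1']
      field_simp
      ring
  obtain ⟨f, hf⟩ : ∃ f : F[X], f = X ^ 4 + C T * X ^ 3 + C (T ^ e) * X ^ 2 + C T * X + 1 :=
    ⟨_, rfl⟩
  have hfm : f.Monic := by rw [hf]; monicity!
  have hfd : f.natDegree = 4 := by rw [hf]; compute_degree!
  have hfz : aeval z f = 0 := by
    rw [hf]
    simp only [map_add, map_mul, map_pow, aeval_X, aeval_C, map_one, hT, hte]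
    rw [ht]
    field_simp
    grind
  have hdeg : 4 ≤ (minpoly F z).natDegree := by
    have hint : IsIntegral F z := Algebra.IsIntegral.isIntegral z
    let L := IntermediateField.adjoin F {z}
    haveI : FiniteDimensional F L := IntermediateField.adjoin.finiteDimensional hint
    haveI : Finite L := Module.finite_of_finite F
    letI := Fintype.ofFinite L
    have hcard : Fintype.card L = Q ^ (minpoly F z).natDegree := by
      rw [Module.card_eq_pow_finrank (K := F), IntermediateField.adjoin.finrank hint, hQ]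
    have hzL : (⟨z, IntermediateField.mem_adjoin_simple_self F z⟩ : L) ≠ 0 := fun h =>
      hz0 (congrArg Subtype.val h)
    have h1 := congrArg Subtype.val (FiniteField.pow_card_sub_one_eq_one _ hzL)
    simp only [SubmonoidClass.coe_pow, OneMemClass.coe_one] at h1
    rw [hcard] at h1
    have h3 := hz.dvd_of_pow_eq_one _ h1
    by_contra hlt
    exact hppd _ (minpoly.natDegree_pos hint) (not_le.mp hlt) h3
  have hfmin : minpoly F z = f := eq_of_monic_of_associated (minpoly.monic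
    (Algebra.IsIntegral.isIntegral z)) hfm
    (associated_of_dvd_of_natDegree_le (minpoly.dvd F z hfz) hfm.ne_zero (by rw [hfd]; exact hdeg))
  have hfi : Irreducible f := hfmin ▸ minpoly.irreducible (Algebra.IsIntegral.isIntegral z)
  refine ⟨T, fun hT0 => ?_, fun g h hgh hhg hquad j hj => ?_⟩
  · rw [hT0, map_zero] at hT
    have h4 : z ^ 4 + 1 = 0 := by
      have h5 := hfz
      rw [hf, hT0] at h5
      simpa [he] using h5
    have h6 : (z + 1) ^ 4 = 0 := by
      rw [show (4 : ℕ) = 2 ^ 2 from rfl, add_pow_char_pow, one_pow]; exact h4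
    have h7 : z = 1 := by
      have := pow_eq_zero_iff (by norm_num : (4 : ℕ) ≠ 0) |>.mp h6
      rw [← CharTwo.neg_eq (1 : AlgebraicClosure F)]
      linear_combination this
    exact hr.one_lt.ne' (hz.eq_orderOf.trans (by rw [h7, orderOf_one]))
  have hgf : aeval g f = 0 := by
    haveI : CharP (Matrix (Fin 4) (Fin 4) F) 2 :=
      charP_of_injective_ringHom (algebraMap F (Matrix (Fin 4) (Fin 4) F)).injective 2
    have h3 : g * g * ((g + h) * (g + h) + T • (g + h) + (T ^ e) • 1) = 0 := by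
      rw [hquad, mul_zero]
    have e1 : g * g * ((g + h) * (g + h)) = g * g * g * g + 1 := by
      have q1 : g * g * g * h = g * g := by rw [mul_assoc, hgh, mul_one]
      have q2 : g * g * h * g = g * g := by rw [mul_assoc, hhg, mul_one]
      have q3 : g * g * h * h = 1 := by rw [mul_assoc g g h, hgh, mul_one, hgh]
      rw [← mul_assoc]
      simp only [mul_add, add_mul, ← mul_assoc, q1, q2, q3]
      calc g * g * g * g + g * g + (g * g + 1)
          = g * g * g * g + 1 + (g * g + g * g) := by abel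
        _ = _ := by rw [CharTwo.add_self_eq_zero, add_zero]
    have e2 : g * g * (g + h) = g * g * g + g := by
      rw [mul_add, mul_assoc g g h, hgh, mul_one]
    rw [mul_add, mul_add, e1, mul_smul_comm, e2, mul_smul_comm, mul_one] at h3
    rw [hf]
    generalize T ^ e = S at h3 ⊢
    simp only [map_add, map_mul, map_pow, aeval_X, aeval_C, map_one,
      Algebra.algebraMap_eq_smul_one, smul_one_mul, pow_succ, pow_zero, one_mul]
    rw [← h3, smul_add]
    abel
  have hmg : minpoly F g = f := (minpoly.eq_of_irreducible_of_monic hfi hgf hfm).symm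
  have hd : f ∣ X ^ j - 1 :=
    hmg ▸ minpoly.dvd F g (by rw [map_sub, map_pow, aeval_X, map_one, hj, sub_self])
  obtain ⟨u, hu⟩ := hd
  have h5 := congrArg (aeval z) hu
  rw [map_mul, hfz, zero_mul, map_sub, map_pow, aeval_X, map_one, sub_eq_zero] at h5
  exact hz.dvd_of_pow_eq_one _ h5

omit [Fintype F] in
theorem upB_loB_add (e : ℕ) (b c : F) : upB e b * loB e c + loB e c * upB e b =
    !![b * c + b ^ e * c ^ e, b ^ e * c, 0, 0; b * c ^ e, b * c, 0, 0;
      0, 0, b * c, c * b ^ e; 0, 0, c ^ e * b, b * c + b ^ e * c ^ e] := by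
  have h2 : (2 : F) = 0 := CharTwo.two_eq_zero
  ext i j
  fin_cases i <;> fin_cases j <;> simp [upB, loB, Matrix.mul_apply, Fin.sum_univ_four] <;> grind

omit [Fintype F] in
theorem quad_block (e : ℕ) (b c : F) :
    let D : Matrix (Fin 4) (Fin 4) F :=
      !![b * c + b ^ e * c ^ e, b ^ e * c, 0, 0; b * c ^ e, b * c, 0, 0;
        0, 0, b * c, c * b ^ e; 0, 0, c ^ e * b, b * c + b ^ e * c ^ e]
    D * D + (b ^ e * c ^ e) • D + (b * c * (b * c)) • 1 = 0 := by
  intro D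
  have h2 : (2 : F) = 0 := CharTwo.two_eq_zero
  ext i j
  fin_cases i <;> fin_cases j <;> simp [D, Matrix.mul_apply, Fin.sum_univ_four] <;> grind

set_option maxHeartbeats 1000000 in
/-- Products of two conjugate involutions of large order. -/
theorem exists_conj_dvd_orderOf_sz {m : ℕ} (hF : Fintype.card F = 2 ^ (2 * m + 1)) {r : ℕ}
    (hr : r.Prime) (hr4 : 4 < r) (hdvd : r ∣ Fintype.card F ^ 2 + 1)
    (hppd : ∀ d, 0 < d → d < 4 → ¬ r ∣ Fintype.card F ^ d - 1) {γ : F} (hγ : γ ≠ 0) :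
    ∃ k ∈ Sz F (2 ^ (m + 1)), r ∣
      orderOf (upG (2 ^ (m + 1)) γ * (k * upG (2 ^ (m + 1)) γ * k⁻¹)) := by
  obtain ⟨T, hT0, hT⟩ := exists_quartic hF hr hr4 hdvd hppd
  obtain ⟨e, he⟩ : ∃ e, e = 2 ^ (m + 1) := ⟨_, rfl⟩
  rw [← he] at hT ⊢
  have he0 : e ≠ 0 := he ▸ (Nat.two_pow_pos _).ne'
  have he1 : 1 ≤ e := Nat.one_le_iff_ne_zero.mpr he0
  have hee : ∀ x : F, (x ^ e) ^ e = x ^ 2 := fun x => by
    rw [← pow_mul, show e * e = Fintype.card F * 2 by rw [hF, he]; ring, pow_mul,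
      FiniteField.pow_card]
  obtain ⟨s, hs⟩ := FiniteField.isSquare_of_char_two (ringChar.eq F 2) T
  have hs0 : s ≠ 0 := fun h => hT0 (by rw [hs, h, mul_zero])
  obtain ⟨t, ht⟩ : ∃ t : Fˣ, (t : F) = s / γ ^ e :=
    ⟨Units.mk0 _ (div_ne_zero hs0 (pow_ne_zero _ hγ)), rfl⟩
  obtain ⟨b, hb⟩ : ∃ b, b = (t : F) ^ e * γ := ⟨_, rfl⟩
  have hxx : γ ^ e * b ^ e = T := by
    rw [hb, mul_pow, hee, ht, hs]; field_simp
  let τ : GL (Fin 4) F := CfsgLib.Known.SuzukiLaw.torus (e - 1) t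
  have hτ : τ ∈ Sz F e := by
    show CfsgLib.Known.SuzukiLaw.torus (e - 1) t ∈ Sz F e
    rw [he]
    exact CfsgLib.Known.SuzukiLaw.torus_mem hF t
  refine ⟨revG F * τ, mul_mem (revG_mem he0) hτ, ?_⟩
  have hconj : τ * upG e γ * τ⁻¹ = upG e b := by
    rw [mul_inv_eq_iff_eq_mul]
    refine Units.ext ?_
    show Matrix.diagonal (fun k => ((t ^ CfsgLib.Known.SuzukiLaw.wt (e - 1) k : Fˣ) : F)) *
      upB e γ = upB e b * Matrix.diagonal _
    ext i j
    rw [Matrix.diagonal_mul, Matrix.mul_diagonal]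
    have h02 : ((t ^ (1 : ℤ) : Fˣ) : F) * γ = b * ((t ^ (-((e - 1 : ℕ) : ℤ)) : Fˣ) : F) := by
      rw [hb, show (1 : ℤ) = (e : ℤ) + -((e - 1 : ℕ) : ℤ) by omega, zpow_add, Units.val_mul,
        zpow_natCast, Units.val_pow_eq_pow_val]
      ring
    have h13 : ((t ^ ((e - 1 : ℕ) : ℤ) : Fˣ) : F) * γ = b * ((t ^ (-1 : ℤ) : Fˣ) : F) := by
      rw [hb, show ((e - 1 : ℕ) : ℤ) = (e : ℤ) + (-1 : ℤ) by omega, zpow_add, Units.val_mul,
        zpow_natCast, Units.val_pow_eq_pow_val]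
      ring
    have h03 : ((t ^ (1 : ℤ) : Fˣ) : F) * γ ^ e = b ^ e * ((t ^ (-1 : ℤ) : Fˣ) : F) := by
      rw [hb, mul_pow, hee, show (1 : ℤ) = 2 + (-1 : ℤ) by norm_num, zpow_add, Units.val_mul]
      norm_num
      ring
    fin_cases i <;> fin_cases j <;> simp [upB, CfsgLib.Known.SuzukiLaw.wt] <;>
      first
        | simpa using h02
        | simpa using h13
        | simpa using h03
  have hval : ((upG e γ * (revG F * τ * upG e γ * (revG F * τ)⁻¹) : GL (Fin 4) F) :
      Matrix (Fin 4) (Fin 4) F) = upB e γ * loB e b := by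
    rw [mul_inv_rev, show revG F * τ * upG e γ * (τ⁻¹ * (revG F)⁻¹) =
      revG F * (τ * upG e γ * τ⁻¹) * (revG F)⁻¹ by group, hconj]
    show upB e γ * (revM * upB e b * revM) = _
    rw [rev_conj]
  refine hT (upB e γ * loB e b) (loB e b * upB e γ) ?_ ?_ ?_ _ ?_
  · rw [mul_assoc, ← mul_assoc (loB e b), loB_mul_self, one_mul, upB_mul_self]
  · rw [mul_assoc, ← mul_assoc (upB e γ), upB_mul_self, one_mul, loB_mul_self]
  · have hS : T ^ e = (γ * b) * (γ * b) := by
      rw [← hxx, ← mul_pow, hee, pow_two]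
    rw [hS, ← hxx, upB_loB_add]
    exact quad_block e γ b
  · rw [← hval, ← Units.val_pow_eq_pow_val, pow_orderOf_eq_one, Units.val_one]

end CfsgLib.LocalEven.SzPpd

namespace CfsgLib.LocalEven.Ppd

open Cfsg.Lie

variable {F : Type*} [Field F] [Fintype F]
variable {G : Type*} [Group G] [Finite G] {V H : Subgroup G}

/-- `q ^ 4 ≤ |V|`, and `q ^ 2 ≤ |V : C_V(s)|` for `s` central in a Sylow `2`-subgroup. -/
theorem suzuki_bounds [(Cfsg.pPrimeCore 2 H).Normal] {m : ℕ} (hm : 1 ≤ m) {q : ℕ}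
    (hq : q = 2 ^ (2 * m + 1)) (hF : Fintype.card F = q) (hV : IsPGroup 2 V)
    (hHV : H ≤ Subgroup.normalizer (V : Set G)) (hf : H ⊓ Subgroup.centralizer (V : Set G) = ⊥)
    (hiso : Nonempty (H ⧸ Cfsg.pPrimeCore 2 H ≃* Sz F (2 ^ (m + 1)))) (S : Sylow 2 H) :
    q ^ 4 ≤ Nat.card V ∧
      ∀ s ∈ (S : Subgroup H).map H.subtype ⊓
        Subgroup.centralizer (((S : Subgroup H).map H.subtype : Subgroup G) : Set G), s ≠ 1 →
        q ^ 2 ≤ (V ⊓ Subgroup.centralizer ({s} : Set G)).relIndex V := by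
  classical
  haveI : Fact (Nat.Prime 2) := ⟨Nat.prime_two⟩
  subst hq
  haveI : CharP F 2 := charP_of_card_eq_prime_pow hF
  obtain ⟨φ⟩ := hiso
  obtain ⟨r, hr, hrd, hrk⟩ := CfsgLib.Zsigmondy.exists_primitive_prime_divisor (a := 2)
    (n := 4 * (2 * m + 1)) one_lt_two (by omega) (by omega) (by omega)
  have hr2 : r ≠ 2 := by
    rintro rfl
    have h1 : 1 ≤ 2 ^ (4 * (2 * m + 1)) := Nat.one_le_two_pow
    have h2 : 2 ∣ 2 ^ (4 * (2 * m + 1)) := dvd_pow_self 2 (by omega)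
    omega
  have hr4 : 4 < r := by
    have h3 : r ≠ 3 := by rintro rfl; exact hrk 2 two_pos (by omega) (by norm_num)
    have h4 : r ≠ 4 := by rintro rfl; norm_num at hr
    have := hr.two_le
    omega
  have hdvd : r ∣ Fintype.card F ^ 2 + 1 := by
    have h1 : 2 ^ (4 * (2 * m + 1)) - 1 =
        ((2 ^ (2 * m + 1)) ^ 2 + 1) * ((2 ^ (2 * m + 1)) ^ 2 - 1) := by
      rw [← Nat.sq_sub_sq, one_pow, ← pow_mul, ← pow_mul]
      congr 2
      ring
    rw [h1] at hrd
    rw [hF]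
    refine (hr.dvd_mul.mp hrd).resolve_right ?_
    rw [← pow_mul]
    exact hrk _ (by omega) (by omega)
  have hppd : ∀ d, 0 < d → d < 4 → ¬ r ∣ Fintype.card F ^ d - 1 := fun d hd hd4 => by
    rw [hF, ← pow_mul]
    exact hrk _ (by positivity) (by nlinarith)
  let π : H →* GL (Fin 4) F := (Sz F (2 ^ (m + 1))).subtype.comp
    (φ.toMonoidHom.comp (QuotientGroup.mk' (Cfsg.pPrimeCore 2 H)))
  have hπrange : ∀ g ∈ Sz F (2 ^ (m + 1)), ∃ h : H, π h = g := fun g hg => by
    obtain ⟨h, hh⟩ := QuotientGroup.mk'_surjective _ (φ.symm ⟨g, hg⟩)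
    refine ⟨h, ?_⟩
    show ((φ (QuotientGroup.mk' _ h) : Sz F (2 ^ (m + 1))) : GL (Fin 4) F) = g
    rw [hh, MulEquiv.apply_symm_apply]
  have hπmem : ∀ h : H, π h ∈ Sz F (2 ^ (m + 1)) := fun h => SetLike.coe_mem _
  have he0 : (2 : ℕ) ^ (m + 1) ≠ 0 := (Nat.two_pow_pos _).ne'
  have hee : ∀ x : F, (x ^ 2 ^ (m + 1)) ^ 2 ^ (m + 1) = x ^ 2 := fun x => by
    rw [← pow_mul, show 2 ^ (m + 1) * 2 ^ (m + 1) = Fintype.card F * 2 by rw [hF]; ring, pow_mul,
      FiniteField.pow_card]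
  -- a bound from each conjugate of an `upG`
  have hbound : ∀ (a : H) (γ : F), γ ≠ 0 → π a = SzPpd.upG (2 ^ (m + 1)) γ →
      (2 ^ (2 * m + 1)) ^ 4 ≤ fixIndex V (a : G) ^ 2 ∧ (2 ^ (2 * m + 1)) ^ 4 ≤ Nat.card V := by
    intro a γ hγ hπa
    obtain ⟨k, hk, hkord⟩ := SzPpd.exists_conj_dvd_orderOf_sz hF hr hr4 hdvd hppd hγ
    obtain ⟨c, hc⟩ := hπrange k hk
    have h1 := pow_le_fixIndex_of_dvd_orderOf (p := 2) (r := r) (e := 0) (N := 4 * (2 * m + 1))
      hV hHV hf (a * (c * a * c⁻¹)).2 hr hr2 (by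
        rw [zero_add, pow_one, Subgroup.orderOf_coe]
        refine dvd_trans ?_ (orderOf_map_dvd π _)
        rw [map_mul, map_mul, map_mul, map_inv, hπa, hc]
        exact hkord)
      (fun j hj hj' => by simpa using hrk j hj hj')
    rw [← pow_mul, mul_comm]
    refine ⟨h1.trans ?_, h1.trans (fixIndex_le_card V _)⟩
    rw [pow_two]
    refine (fixIndex_mul_le V _ _).trans (Nat.mul_le_mul le_rfl ?_)
    simp only [Subgroup.coe_mul, Subgroup.coe_inv]
    rw [fixIndex_conj (hHV c.2)]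
  constructor
  · obtain ⟨a, ha⟩ := hπrange _ (SzPpd.upG_mem he0 hee 1)
    exact (hbound a 1 one_ne_zero ha).2
  rintro s ⟨⟨a, ha, rfl⟩, hsc⟩ hs1
  have hac : ∀ y ∈ S, a * y = y * a := fun y hy => Subtype.ext
    (Subgroup.mem_centralizer_iff.mp hsc (y : G) ⟨y, hy, rfl⟩).symm
  -- the unitriangular part of the Suzuki group
  let U : Subgroup (Sz F (2 ^ (m + 1))) :=
    { carrier := {g | (g : GL (Fin 4) F) ∈ SzPpd.triGroup F}
      one_mem' := (SzPpd.triGroup F).one_mem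
      mul_mem' := fun hg hk => (SzPpd.triGroup F).mul_mem hg hk
      inv_mem' := fun {g} hg => by
        have h1 : (g : GL (Fin 4) F)⁻¹ = (g : GL (Fin 4) F) ^ 3 :=
          inv_eq_of_mul_eq_one_right (by rw [← pow_succ']; exact SzPpd.triGroup_pow_four hg)
        show ((g⁻¹ : Sz F (2 ^ (m + 1))) : GL (Fin 4) F) ∈ SzPpd.triGroup F
        rw [Subgroup.coe_inv, h1]
        exact pow_mem hg 3 }
  have hU : IsPGroup 2 U := fun g => ⟨2, Subtype.ext (Subtype.ext (by
    simpa using SzPpd.triGroup_pow_four g.2))⟩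
  have hπ' : Function.Surjective (φ.toMonoidHom.comp (QuotientGroup.mk' (Cfsg.pPrimeCore 2 H))) :=
    φ.surjective.comp (QuotientGroup.mk'_surjective _)
  let P' : Sylow 2 (Sz F (2 ^ (m + 1))) := S.mapSurjective hπ'
  obtain ⟨P0, hP0⟩ := hU.exists_le_sylow
  obtain ⟨g, hg⟩ := MulAction.exists_smul_eq (Sz F (2 ^ (m + 1))) P0 P'
  obtain ⟨c, hc⟩ := hπrange _ g.2
  -- an element of order two
  obtain ⟨k, hk⟩ := exists_pow_eq_one S ha
  obtain ⟨i, hik, hi⟩ := (Nat.dvd_prime_pow Nat.prime_two).mp (orderOf_dvd_iff_pow_eq_one.mpr hk)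
  have hi0 : i ≠ 0 := by
    rintro rfl
    exact hs1 (by rw [(orderOf_eq_one_iff.mp (by simpa using hi) : a = 1), map_one])
  obtain ⟨a', ha'⟩ : ∃ a', a' = a ^ 2 ^ (i - 1) := ⟨_, rfl⟩
  have ha'2 : a' ^ 2 = 1 := by
    rw [ha', ← pow_mul, ← pow_succ, Nat.sub_add_cancel (Nat.one_le_iff_ne_zero.mpr hi0), ← hi,
      pow_orderOf_eq_one]
  have ha'1 : a' ≠ 1 := by
    rw [ha']
    intro hc
    have h1 := Nat.le_of_dvd (by positivity) (orderOf_dvd_iff_pow_eq_one.mpr hc)
    rw [hi] at h1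
    exact absurd h1 (not_le.mpr (Nat.pow_lt_pow_right one_lt_two (by omega)))
  have ha'S : a' ∈ S := by rw [ha']; exact pow_mem ha _
  have hπa' : π a' ≠ 1 := fun h => sylow_mk_ne_one S ha'S ha'1
    (φ.injective (Subtype.ext (by simpa [π] using h)))
  have hcomm : ∀ x : GL (Fin 4) F, x ∈ Sz F (2 ^ (m + 1)) → x ∈ SzPpd.triGroup F →
      π (c⁻¹ * a' * c) * x = x * π (c⁻¹ * a' * c) := by
    intro x hx hxt
    have h1 : g * ⟨x, hx⟩ * g⁻¹ ∈ P' := by
      rw [← hg]
      exact ⟨⟨x, hx⟩, hP0 (show (⟨x, hx⟩ : Sz F (2 ^ (m + 1))) ∈ U from hxt), rfl⟩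
    obtain ⟨y, hy, hyx⟩ := h1
    have hyx' : π y = π c * x * (π c)⁻¹ := by
      rw [hc]; exact congrArg Subtype.val hyx
    have h2 : Commute (π a') (π y) := by
      have : Commute a' y := by rw [ha']; exact Commute.pow_left (hac y hy) _
      exact this.map π
    rw [hyx'] at h2
    rw [map_mul, map_mul, map_inv]
    calc (π c)⁻¹ * π a' * π c * x = (π c)⁻¹ * (π a' * (π c * x * (π c)⁻¹)) * π c := by group
      _ = _ := by rw [h2.eq]; group
  obtain ⟨c₀, hc₀, hc₀1⟩ : ∃ c₀ : F, c₀ ≠ 0 ∧ c₀ ^ 2 ^ (m + 1) ≠ c₀ := by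
    obtain ⟨z, hz⟩ : ∃ z : F, z ≠ 0 ∧ z ≠ 1 := by
      by_contra hno
      push Not at hno
      have : (Finset.univ : Finset F) ⊆ {0, 1} := fun z _ => by
        by_cases hz : z = 0
        · simp [hz]
        · simp [hno z hz]
      have h1 := (Finset.card_le_card this).trans Finset.card_le_two
      rw [Finset.card_univ, hF] at h1
      have := Nat.pow_le_pow_right two_pos (show 3 ≤ 2 * m + 1 by omega)
      omega
    refine ⟨z, hz.1, fun h => hz.2 ?_⟩
    have h1 : z ^ 2 = z := by rw [← hee, h, h]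
    exact mul_left_cancel₀ hz.1 (by rw [← pow_two, h1, mul_one])
  obtain ⟨γ, hγ⟩ := SzPpd.centralUp he0 (iterateFrobenius F 2 (m + 1))
    (fun x => iterateFrobenius_def 2 (m + 1) x) (hπmem (c⁻¹ * a' * c))
    (by rw [← map_pow]; simp only [pow_two] at ha'2 ⊢
        rw [show c⁻¹ * a' * c * (c⁻¹ * a' * c) = c⁻¹ * (a' * a') * c by group, ha'2]; simp)
    (fun b => hcomm _ (SzPpd.upG_mem he0 hee b) (SzPpd.upG_tri _ b))
    (hcomm _ (SzPpd.oneG_mem he0) SzPpd.oneG_tri) hc₀ hc₀1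
  have hγ0 : γ ≠ 0 := by
    rintro rfl
    refine hπa' ?_
    have h1 : SzPpd.upG (2 ^ (m + 1)) (0 : F) = 1 := Units.ext (by
      ext i j
      fin_cases i <;> fin_cases j <;> simp [SzPpd.upG, SzPpd.upB])
    rw [h1, map_mul, map_mul, map_inv] at hγ
    simpa [mul_assoc] using congrArg (fun x => π c * x * (π c)⁻¹) hγ
  have h1 := (hbound _ γ hγ0 hγ).1
  simp only [Subgroup.coe_mul, Subgroup.coe_inv] at h1
  have h2 : fixIndex V ((c : G)⁻¹ * a' * c) = fixIndex V (a' : G) := by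
    simpa using fixIndex_conj (hHV (inv_mem c.2)) (a' : G)
  rw [h2, ha', SubgroupClass.coe_pow] at h1
  have h3 := h1.trans (Nat.pow_le_pow_left (fixIndex_pow_le V _ _) 2)
  rw [show ∀ x : ℕ, x ^ 4 = (x ^ 2) ^ 2 from fun x => by rw [← pow_mul]] at h3
  exact (Nat.pow_le_pow_iff_left two_ne_zero).mp h3

end CfsgLib.LocalEven.Ppd
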