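import Cfsg.Agent.Lib.Known.SuzukiAut
import Cfsg.Agent.Lib.Lie.Suzuki.ElementaryTI
import Cfsg.Agent.Lib.LocalEven.SuzukiPpd
import Cfsg.Agent.Lib.LocalEven.Zsigmondy

/-!
# Elementary abelian `2`-groups of automorphisms of `Sz(q)`

* `exists_step`: at most `q` elements, and a commutator of order divisible by a primitive divisor of `q ^ 4 - 1`
-/

set_option autoImplicit false
set_option linter.all false

namespace CfsgLib.LocalEven.SuzukiInvolutionAut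

open Subgroup CfsgLib.Lie.Suzuki

variable {F : Type*} [Field F] [CharP F 2] [Fintype F] {m : ℕ}

/-- involutions are conjugates of central unipotent elements -/
theorem exists_center_form (hF : Fintype.card F = 2 ^ (2 * m + 1)) (hm : 1 ≤ m) {s : Cfsg.Sz F m} (hs : s ^ 2 = 1)
    (hs1 : s ≠ 1) : ∃ h : Cfsg.Sz F m, s ∈ cj h (uSub hF) := by
  rcases cases_of_ne_one hF hm s with hfree | h | ⟨h, ht⟩
  · obtain ⟨p, hp, -⟩ := involution_fix hF hm hs hs1
    exact absurd hp (hfree p)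
  · exact h
  · exfalso
    have h2 : orderOf s = 2 := orderOf_eq_prime hs hs1
    have h3 : orderOf s ∣ Fintype.card F - 1 := by
      rw [← card_tSub hF, ← card_cj h, ← Subgroup.orderOf_mk s ht]
      exact orderOf_dvd_natCard _
    exact (Nat.not_even_iff_odd.mpr (odd_card_sub_one hF)) (even_iff_two_dvd.mpr (h2 ▸ h3))

/-- the elementary abelian subgroup through a given involution -/
theorem exists_forms (hF : Fintype.card F = 2 ^ (2 * m + 1)) (hm : 1 ≤ m) {E : Subgroup (Cfsg.Sz F m)}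
    (hE : Cfsg.IsElementaryAbelian 2 E) {e₁ : Cfsg.Sz F m} (he₁ : e₁ ∈ E) (he₁1 : e₁ ≠ 1) :
    ∃ h : Cfsg.Sz F m, ∀ e ∈ E, ∃ b, e = h * uS hF 0 b * h⁻¹ := by
  obtain ⟨h, hu⟩ := exists_center_form hF hm (hE.2 e₁ he₁) he₁1
  refine ⟨h, fun e he => ?_⟩
  obtain ⟨a, b, hab⟩ := mem_cj.mp (centralizer_cj_uS hF hm hu he₁1
    (congrArg Subtype.val ((isMulCommutative_iff.mp hE.1) ⟨e₁, he₁⟩ ⟨e, he⟩)))
  have h2 : uS hF a b ^ 2 = 1 := by
    rw [← hab, sq, show h⁻¹ * e * h * (h⁻¹ * e * h) = h⁻¹ * (e * e) * h by group, ← sq, hE.2 e he]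
    group
  rw [uS_sq, uS_eq_one_iff, mul_eq_zero, map_eq_zero, or_self] at h2
  exact ⟨b, by rw [← h2.2, ← hab]; group⟩

set_option maxHeartbeats 1000000 in
theorem exists_step (hF : Fintype.card F = 2 ^ (2 * m + 1)) (hm : 1 ≤ m)
    {A : Subgroup (MulAut (Cfsg.Sz F m))} (hA : Cfsg.IsElementaryAbelian 2 A) (hA1 : A ≠ ⊥) :
    ∃ a ∈ A, ∃ (x : Cfsg.Sz F m) (r : ℕ), r.Prime ∧ r ≠ 2 ∧ Nat.card A ≤ 2 ^ (2 * m + 1) ∧
      r ∣ orderOf (x⁻¹ * a x) ∧ ∀ i, 0 < i → i < 4 * (2 * m + 1) → ¬ r ∣ 2 ^ i - 1 := by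
  haveI : IsSimpleGroup (Cfsg.Sz F m) := isSimple hF hm
  haveI : Finite (MulAut (Cfsg.Sz F m)) := Finite.of_injective (fun e : MulAut (Cfsg.Sz F m) => (e : Cfsg.Sz F m → Cfsg.Sz F m))
    DFunLike.coe_injective
  -- inner
  have hinner : A ≤ (MulAut.conj : Cfsg.Sz F m →* MulAut (Cfsg.Sz F m)).range := by
    intro a ha
    have h1 : ((QuotientGroup.mk a : Cfsg.Out (Cfsg.Sz F m))) = 1 := by
      rw [← orderOf_eq_one_iff]
      refine Nat.eq_one_of_dvd_coprimes (Nat.coprime_two_left.2 ⟨m, rfl⟩) ?_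
        (CfsgLib.Known.SuzukiAut.card_out hF hm ▸ orderOf_dvd_natCard _)
      exact orderOf_dvd_of_pow_eq_one (by rw [← QuotientGroup.mk_pow, hA.2 a ha]; rfl)
    exact (QuotientGroup.eq_one_iff a).1 h1
  -- injectivity
  have hz : Function.Injective (MulAut.conj : Cfsg.Sz F m →* MulAut (Cfsg.Sz F m)) := by
    rw [injective_iff_map_eq_one]
    intro z hz
    have hc : z ∈ Subgroup.center (Cfsg.Sz F m) := mem_center_iff.2 fun g => by
      have := DFunLike.congr_fun hz g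
      rw [MulAut.conj_apply, MulAut.one_apply, mul_inv_eq_iff_eq_mul] at this
      exact this.symm
    rcases (inferInstance : (Subgroup.center (Cfsg.Sz F m)).Normal).eq_bot_or_eq_top with h | h
    · rwa [h, mem_bot] at hc
    · exfalso
      have hcomm := fun g : Cfsg.Sz F m => mem_center_iff.1 (h ▸ Subgroup.mem_top g : g ∈ Subgroup.center _)
      obtain ⟨c, hc0, hc1⟩ := exists_ne hm hF
      have key : ∀ x : F, th F m x = x := fun x => by
        have e := hcomm (uS hF 1 0) (uS hF x 0)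
        rw [uS_mul, uS_mul] at e
        have e2 := congrFun (congrFun (congrArg (fun g : Cfsg.Sz F m =>
          ((g : Matrix.SpecialLinearGroup (Fin 4) F) : Matrix (Fin 4) (Fin 4) F)) e) 1) 3
        simp [uS, uM] at e2
        exact e2
      have h2 : c ^ 2 = c := by rw [← th_tits hF c, key, key]
      rw [pow_two] at h2
      exact absurd (mul_left_eq_self₀.1 h2) (by simp [hc0, hc1])
  obtain ⟨E, hE⟩ : ∃ E, E = A.comap (MulAut.conj : Cfsg.Sz F m →* MulAut (Cfsg.Sz F m)) := ⟨_, rfl⟩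
  have hEe : Cfsg.IsElementaryAbelian 2 E := by
    refine ⟨⟨⟨fun u v => Subtype.ext (hz ?_)⟩⟩, fun u hu => hz ?_⟩
    · rw [coe_mul, coe_mul, map_mul, map_mul]
      exact congrArg Subtype.val (hA.1.is_comm.comm ⟨_, (show MulAut.conj (u : Cfsg.Sz F m) ∈ A from mem_comap.1 (hE ▸ u.2 : (u : Cfsg.Sz F m) ∈ A.comap _))⟩ ⟨_, (show MulAut.conj (v : Cfsg.Sz F m) ∈ A from mem_comap.1 (hE ▸ v.2 : (v : Cfsg.Sz F m) ∈ A.comap _))⟩)
    · rw [map_pow, map_one]; exact hA.2 _ (mem_comap.1 (hE ▸ hu : u ∈ A.comap _))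
  have hmap : E.map (MulAut.conj : Cfsg.Sz F m →* MulAut (Cfsg.Sz F m)) = A := by
    rw [hE, map_comap_eq, inf_eq_right.2 hinner]
  have hcard : Nat.card A = Nat.card E := by rw [← hmap, card_map_of_injective hz]
  obtain ⟨⟨e₁, he₁⟩, he₁1⟩ := (ne_bot_iff_exists_ne_one).1 (show E ≠ ⊥ by
    intro h; rw [h, Subgroup.map_bot] at hmap; exact hA1 hmap.symm)
  have he₁1' : e₁ ≠ 1 := fun h => he₁1 (Subtype.ext h)
  obtain ⟨h, hform⟩ := exists_forms hF hm hEe he₁ he₁1'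
  have hle : Nat.card A ≤ 2 ^ (2 * m + 1) := by
    rw [hcard, ← hF, ← Nat.card_eq_fintype_card]
    choose β hβ using hform
    refine Nat.card_le_card_of_injective (fun e : E => β e e.2) fun e e' hee => Subtype.ext ?_
    rw [hβ e e.2, hβ e' e'.2]
    simp only at hee
    rw [hee]
  obtain ⟨γ, hγ⟩ := hform e₁ he₁
  have hγ0 : γ ≠ 0 := fun h0 => he₁1' (by rw [hγ, h0, (uS_eq_one_iff hF).2 ⟨rfl, rfl⟩]; group)
  obtain ⟨f, hf⟩ : ∃ f, f = 2 * m + 1 := ⟨_, rfl⟩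
  obtain ⟨r, hr, hrd, hrn⟩ := CfsgLib.Zsigmondy.exists_primitive_prime_divisor (a := 2) (n := 4 * f) one_lt_two
    (by omega) (by omega) (by rintro ⟨h, -⟩; omega)
  have hq : Fintype.card F = 2 ^ f := hf ▸ hF
  have hr2 : r ≠ 2 := by
    rintro rfl
    have : 2 ∣ 2 ^ (4 * f) := dvd_pow_self 2 (by omega)
    have := Nat.dvd_sub this hrd
    rw [Nat.sub_sub_self Nat.one_le_two_pow] at this
    omega
  have hr4 : 4 < r := by
    have h2 := hr.two_le
    by_contra hle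
    interval_cases r
    · exact hr2 rfl
    · exact hrn 2 two_pos (by omega) (by norm_num)
    · norm_num at hr
  have hdvd : r ∣ Fintype.card F ^ 2 + 1 := by
    have e : 2 ^ (4 * f) - 1 = (2 ^ (2 * f) - 1) * (2 ^ (2 * f) + 1) := by
      rw [show 4 * f = 2 * f + 2 * f by ring, pow_add]
      obtain ⟨k, hk⟩ := Nat.exists_eq_add_of_le' (Nat.one_le_two_pow (n := 2 * f))
      rw [hk]; simp; ring_nf; omega
    rw [e] at hrd
    rw [hq, ← pow_mul, mul_comm f]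
    exact (hr.dvd_mul.1 hrd).resolve_left (hrn _ (by omega) (by omega))
  obtain ⟨k, hk, hkd⟩ := SzPpd.exists_conj_dvd_orderOf_sz hF hr hr4 hdvd (fun d hd hd4 h => by
    rw [hq, ← pow_mul] at h
    exact hrn (f * d) (Nat.mul_pos (by omega) hd) (by nlinarith) h) hγ0
  -- pull back
  obtain ⟨k', hk'⟩ : ∃ k' : Cfsg.Sz F m, ((equivLie hm hF k' : ↥(Cfsg.Lie.Sz F (2 ^ (m + 1)))) : GL (Fin 4) F) = k :=
    ⟨(equivLie hm hF).symm ⟨k, hk⟩, by rw [MulEquiv.apply_symm_apply]⟩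
  have hu : ((equivLie hm hF (uS hF 0 γ) : ↥(Cfsg.Lie.Sz F (2 ^ (m + 1)))) : GL (Fin 4) F) =
      SzPpd.upG (2 ^ (m + 1)) γ := by
    refine Units.ext ?_
    show uM (th F m) 0 γ = SzPpd.upB (2 ^ (m + 1)) γ
    ext i j
    fin_cases i <;> fin_cases j <;> simp [uM, fQ, SzPpd.upB, th_apply]
  have hord : r ∣ orderOf (uS hF 0 γ * (k' * uS hF 0 γ * k'⁻¹)) := by
    rw [← (equivLie hm hF).orderOf_eq, ← Subgroup.orderOf_coe]
    simpa [hu, hk'] using hkd
  refine ⟨MulAut.conj e₁, hmap ▸ mem_map_of_mem _ he₁, h * k' * h⁻¹, r, hr, hr2, hle, ?_, fun i hi hi4 => ?_⟩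
  · have e : (h * k' * h⁻¹)⁻¹ * MulAut.conj e₁ (h * k' * h⁻¹) =
        (h * k'⁻¹) * (uS hF 0 γ * (k' * uS hF 0 γ * k'⁻¹)) * (h * k'⁻¹)⁻¹ := by
      have hs : e₁⁻¹ = e₁ := inv_eq_of_mul_eq_one_right (by rw [← pow_two]; exact hEe.2 e₁ he₁)
      have hu2 : (uS hF 0 γ)⁻¹ = uS hF 0 γ := inv_eq_of_mul_eq_one_right (by
        rw [← pow_two, uS_sq]; simp [uS_eq_one_iff])
      rw [MulAut.conj_apply, hγ]
      simp only [mul_inv_rev, inv_inv, mul_assoc, inv_mul_cancel_left, mul_inv_cancel_left, hu2, inv_mul_cancel, mul_one]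
    rw [e]
    rwa [← (SemiconjBy.conj_mk (h * k'⁻¹) (uS hF 0 γ * (k' * uS hF 0 γ * k'⁻¹))).orderOf_eq]
  · exact hrn i hi (hf ▸ hi4)

end CfsgLib.LocalEven.SuzukiInvolutionAut
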