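import Cfsg.Agent.Lib.LocalEven.OffenderStep
import Cfsg.Agent.Lib.LocalEven.PSLFourAut
import Cfsg.Agent.Lib.LocalEven.SuzukiInvolutionAut
import Cfsg.Agent.Lib.Components.FStar
import Cfsg.Agent.Lib.Components.Component
import Cfsg.Agent.Lib.Components.Quasisimple
import Cfsg.Agent.Lib.CharDegree.VanishingPSingular
import Cfsg.Agent.Lib.Signalizer.Basic
import Cfsg.Agent.S0251

/-!
# Steps exist when every non-abelian composition factor is `Sz(q)` or `PSL₂(3 ^ (2 n + 1))`

* `simple_step`, `exists_step`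
-/

set_option autoImplicit false
set_option linter.all false

namespace CfsgLib.LocalEven.SFreeOffender

open Subgroup CfsgLib.Components

universe u

variable {G : Type u} [Group G] [Finite G]

theorem congr_apply' {S T : Type*} [Group S] [Group T] (e : S ≃* T) (a : MulAut S) (x : S) :
    MulAut.congr e a (e x) = e (a x) := by
  show e (a (e.symm (e x))) = _
  rw [e.symm_apply_apply]

/-- the step in the automorphism group of a simple group of the list -/
theorem simple_step {S : Type u} [Group S] [Finite S] [IsSimpleGroup S] (hna : ¬ IsMulCommutative S)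
    (hS : Cfsg.IsSuzukiOrPSL2OddPowerThree S) (A : Subgroup (MulAut S)) (hA : Cfsg.IsElementaryAbelian 2 A)
    (hA1 : A ≠ ⊥) :
    ∃ h ∈ A, ∃ a ∈ A, ∃ (x : S) (r e : ℕ), h x = x ∧ 0 < e ∧ Nat.card A ≤ 2 ^ e * orderOf h ∧ r.Prime ∧ r ≠ 2 ∧
      r ∣ orderOf (x⁻¹ * a x) ∧ (e = 1 ∨ h = 1 ∧ ∀ i, 0 < i → i + 1 < 4 * e → ¬ r ∣ 2 ^ i - 1) := by
  haveI : Finite (MulAut S) := Finite.of_injective (fun e : MulAut S => (e : S → S)) DFunLike.coe_injective
  have transport : ∀ {T : Type} [Group T] (e : S ≃* T),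
      Cfsg.IsElementaryAbelian 2 (A.map (MulAut.congr e).toMonoidHom) ∧
        (A.map (MulAut.congr e).toMonoidHom) ≠ ⊥ ∧
        Nat.card ↥(A.map (MulAut.congr e).toMonoidHom) = Nat.card A := by
    intro T _ e
    refine ⟨⟨⟨⟨?_⟩⟩, ?_⟩, ?_, card_map_of_injective (MulAut.congr e).injective⟩
    · rintro ⟨_, u, hu, rfl⟩ ⟨_, v, hv, rfl⟩
      exact Subtype.ext (((show Commute u v from comm_of_elementary hA hu hv).map (MulAut.congr e).toMonoidHom).eq)
    · rintro _ ⟨u, hu, rfl⟩
      rw [← map_pow, hA.2 u hu, map_one]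
    · rwa [Ne, map_eq_bot_iff_of_injective _ (MulAut.congr e).injective]
  have back : ∀ {T : Type} [Group T] (e : S ≃* T) (a : MulAut S) (x : T),
      orderOf (x⁻¹ * MulAut.congr e a x) = orderOf ((e.symm x)⁻¹ * a (e.symm x)) := by
    intro T _ e a x
    rw [← e.orderOf_eq ((e.symm x)⁻¹ * a (e.symm x)), map_mul, map_inv, ← congr_apply', e.apply_symm_apply]
  rcases hS with hSz | ⟨F, iF, iF', n, hF, ⟨e⟩⟩
  · obtain ⟨F, iF, iF', m, hm, hF, ⟨e⟩⟩ := hSz
    haveI := CfsgLib.Lie.Suzuki.charTwo_of_card hF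
    let e' := e.trans (CfsgLib.Lie.Suzuki.equivLie hm hF).symm
    obtain ⟨hA', hA1', hcard⟩ := transport e'
    obtain ⟨_, ⟨a, ha, rfl⟩, x, r, hr, hr2, hle, hd, hppd⟩ := SuzukiInvolutionAut.exists_step hF hm hA' hA1'
    refine ⟨1, one_mem A, a, ha, e'.symm x, r, 2 * m + 1, rfl, by omega, ?_, hr, hr2, ?_,
      Or.inr ⟨rfl, fun i hi hi4 => hppd i hi (by omega)⟩⟩
    · rw [orderOf_one, mul_one, ← hcard]; exact hle
    · rw [← back]; exact hd
  · have hn : 1 ≤ n := by
      by_contra hn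
      obtain rfl : n = 0 := by omega
      obtain ⟨f⟩ := Cfsg.Agent.S0251.result (F := F) (by rw [hF]; rfl)
      let g := e.trans f
      haveI : IsSimpleGroup (alternatingGroup (Fin 4)) := IsSimpleGroup.isSimpleGroup_of_surjective g.toMonoidHom g.surjective
      have h4 : Nat.card (Fin 4) = 4 := by simp
      have hc := alternatingGroup.kleinFour_card_of_card_eq_four (α := Fin 4) h4
      have h12 : Nat.card (alternatingGroup (Fin 4)) = 12 := by
        rw [nat_card_alternatingGroup, h4]; rfl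
      rcases (alternatingGroup.normal_kleinFour (α := Fin 4) h4).eq_bot_or_eq_top with h | h <;> rw [h] at hc
      · simp at hc
      · rw [card_top, h12] at hc; omega
    obtain ⟨hA', hA1', hcard⟩ := transport e
    obtain ⟨_, ⟨h, hh, rfl⟩, _, ⟨a, ha, rfl⟩, x, r, hx, hle, hr, hr2, hd⟩ := PSLFourAut.exists_step hF hn hA' hA1'
    refine ⟨h, hh, a, ha, e.symm x, r, 1, ?_, one_pos, ?_, hr, hr2, ?_, Or.inl rfl⟩
    · refine e.injective ?_
      rw [← congr_apply', e.apply_symm_apply]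
      exact hx
    · rw [← hcard, pow_one]
      refine hle.trans (le_of_eq ?_)
      rw [MulEquiv.toMonoidHom_eq_coe, MonoidHom.coe_coe, MulEquiv.orderOf_eq]
    · rw [← back]; exact hd

/-- an elementary abelian subgroup has complements -/
theorem exists_complement_ge {A C D₀ : Subgroup G} (hA : Cfsg.IsElementaryAbelian 2 A) (hC : C ≤ A)
    (h₀ : D₀ ≤ A) (h₀C : D₀ ⊓ C = ⊥) :
    ∃ D ≤ A, D₀ ≤ D ∧ D ⊓ C = ⊥ ∧ ∀ a ∈ A, ∃ d ∈ D, ∃ c ∈ C, a = d * c := by
  obtain ⟨D, ⟨hDA, hD₀, hDC⟩, hmax⟩ := (Set.toFinite {D : Subgroup G | D ≤ A ∧ D₀ ≤ D ∧ D ⊓ C = ⊥}).exists_maximal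
    ⟨D₀, h₀, le_rfl, h₀C⟩
  refine ⟨D, hDA, hD₀, hDC, fun a ha => ?_⟩
  let T : Subgroup G :=
    { carrier := {g | ∃ d ∈ D, ∃ c ∈ C, g = d * c}
      one_mem' := ⟨1, one_mem D, 1, one_mem C, (mul_one 1).symm⟩
      mul_mem' := by
        rintro _ _ ⟨d, hd, c, hc, rfl⟩ ⟨d', hd', c', hc', rfl⟩
        exact ⟨d * d', mul_mem hd hd', c * c', mul_mem hc hc', by
          rw [mul_assoc d c, ← mul_assoc c d', comm_of_elementary hA (hC hc) (hDA hd'), mul_assoc d' c, mul_assoc]⟩
      inv_mem' := by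
        rintro _ ⟨d, hd, c, hc, rfl⟩
        exact ⟨d⁻¹, inv_mem hd, c⁻¹, inv_mem hc, by
          rw [mul_inv_rev, comm_of_elementary hA (inv_mem (hC hc)) (inv_mem (hDA hd))]⟩ }
  by_contra hcon
  have haT : a ∉ T := hcon
  let D' : Subgroup G :=
    { carrier := {g | g ∈ D ∨ a * g ∈ D}
      one_mem' := Or.inl (one_mem D)
      mul_mem' := by
        have haa : a * a = 1 := by rw [← pow_two]; exact hA.2 a ha
        intro u v hu hv
        have mem : ∀ w, (w ∈ D ∨ a * w ∈ D) → w ∈ A := fun w hw => hw.elim (fun h => hDA h) (fun h => by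
          have := mul_mem ha (hDA h); rwa [← mul_assoc, haa, one_mul] at this)
        rcases hu with hu | hu <;> rcases hv with hv | hv
        · exact Or.inl (mul_mem hu hv)
        · refine Or.inr ?_
          rw [← mul_assoc, comm_of_elementary hA ha (hDA hu), mul_assoc]
          exact mul_mem hu hv
        · exact Or.inr (by rw [← mul_assoc]; exact mul_mem hu hv)
        · refine Or.inl ?_
          have := mul_mem hu hv
          rwa [mul_assoc, ← mul_assoc u a v, ← comm_of_elementary hA ha (mem u (Or.inr hu)), mul_assoc a u v,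
            ← mul_assoc a a, haa, one_mul] at this
      inv_mem' := by
        have haa : a * a = 1 := by rw [← pow_two]; exact hA.2 a ha
        intro u hu
        have : u ∈ A := hu.elim (fun h => hDA h) (fun h => by
          have := mul_mem ha (hDA h); rwa [← mul_assoc, haa, one_mul] at this)
        show u⁻¹ ∈ D ∨ a * u⁻¹ ∈ D
        rw [inv_eq_of_elementary hA this]; exact hu }
  have haa : a * a = 1 := by rw [← pow_two]; exact hA.2 a ha
  have hD'A : D' ≤ A := fun w hw => hw.elim (fun h => hDA h) (fun h => by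
    have := mul_mem ha (hDA h); rwa [← mul_assoc, haa, one_mul] at this)
  have hDD' : D ≤ D' := fun w hw => Or.inl hw
  have haD' : a ∈ D' := Or.inr (by rw [haa]; exact one_mem D)
  have hD'C : D' ⊓ C = ⊥ := (eq_bot_iff_forall _).2 fun w hw => by
    obtain ⟨hwD', hwC⟩ := mem_inf.1 hw
    rcases hwD' with h | h
    · have : w ∈ D ⊓ C := ⟨h, hwC⟩
      rwa [hDC, mem_bot] at this
    · exact absurd ⟨a * w, h, w⁻¹, inv_mem hwC, by group⟩ haT
  exact haT ⟨a, hmax ⟨hD'A, hD₀.trans hDD', hD'C⟩ hDD' haD', 1, one_mem C, (mul_one a).symm⟩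

/-- an elementary abelian subgroup has complements -/
theorem exists_complement {A C : Subgroup G} (hA : Cfsg.IsElementaryAbelian 2 A) (hC : C ≤ A) :
    ∃ D ≤ A, D ⊓ C = ⊥ ∧ ∀ a ∈ A, ∃ d ∈ D, ∃ c ∈ C, a = d * c := by
  obtain ⟨D, hDA, -, hDC, hdec⟩ := exists_complement_ge hA hC bot_le (bot_inf_eq _)
  exact ⟨D, hDA, hDC, hdec⟩

/-- odd primes dividing a nonabelian simple group -/
theorem exists_odd_prime_order {S : Type u} [Group S] [Finite S] [IsSimpleGroup S] (hna : ¬ IsMulCommutative S) :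
    ∃ (x : S) (r : ℕ), r.Prime ∧ r ≠ 2 ∧ orderOf x = r := by
  haveI : Fact (Nat.Prime 2) := ⟨Nat.prime_two⟩
  by_cases h : ∃ r : ℕ, r.Prime ∧ r ≠ 2 ∧ r ∣ Nat.card S
  · obtain ⟨r, hr, hr2, hrd⟩ := h
    haveI : Fact r.Prime := ⟨hr⟩
    obtain ⟨x, hx⟩ := exists_prime_orderOf_dvd_card' r hrd
    exact ⟨x, r, hr, hr2, hx⟩
  · push Not at h
    exfalso
    have hp : IsPGroup 2 S := IsPGroup.of_card (n := (Nat.card S).primeFactorsList.length)
      (Nat.eq_prime_pow_of_unique_prime_dvd Nat.card_pos.ne' fun {d} hd hdS => by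
        by_contra hd2; exact h d hd hd2 hdS)
    haveI := hp.center_nontrivial
    rcases (inferInstance : (center S).Normal).eq_bot_or_eq_top with h0 | h0
    · exact ((nontrivial_iff_ne_bot _).1 inferInstance) h0
    · exact hna ⟨⟨fun u v => mem_center_iff.1 (h0 ▸ mem_top v : v ∈ center S) u⟩⟩

/-- automorphisms induced on the central quotient -/
noncomputable def barAut (L : Type*) [Group L] : MulAut L →* MulAut (L ⧸ center L) where
  toFun φ := QuotientGroup.congr _ _ φ (characteristic_iff_map_eq.1 inferInstance φ)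
  map_one' := MulEquiv.ext fun x => by obtain ⟨y, rfl⟩ := QuotientGroup.mk_surjective x; rfl
  map_mul' φ ψ := MulEquiv.ext fun x => by obtain ⟨y, rfl⟩ := QuotientGroup.mk_surjective x; rfl

theorem barAut_mk (L : Type*) [Group L] (φ : MulAut L) (x : L) :
    barAut L φ (x : L ⧸ center L) = ((φ x : L) : L ⧸ center L) := rfl

/-- an automorphism of a perfect group trivial modulo the centre is trivial -/
theorem eq_one_of_barAut {L : Type*} [Group L] [Group.IsPerfect L] {φ : MulAut L} (h : barAut L φ = 1) : φ = 1 := by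
  have hc : ∀ x : L, x⁻¹ * φ x ∈ center L := fun x => by
    have := DFunLike.congr_fun h (x : L ⧸ center L)
    rw [barAut_mk, MulAut.one_apply] at this
    exact QuotientGroup.eq.1 this.symm
  let f : L →* ↥(center L) :=
    { toFun := fun x => ⟨x⁻¹ * φ x, hc x⟩
      map_one' := Subtype.ext (by simp)
      map_mul' := fun x y => Subtype.ext (by
        show (x * y)⁻¹ * φ (x * y) = x⁻¹ * φ x * (y⁻¹ * φ y)
        rw [map_mul, mul_inv_rev, mul_assoc y⁻¹, ← mul_assoc x⁻¹, ← mul_assoc y⁻¹ (x⁻¹ * φ x),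
          mem_center_iff.1 (hc x) y⁻¹, mul_assoc (x⁻¹ * φ x)]) }
  have hk : commutator L ≤ f.ker := by
    rw [commutator_def, Subgroup.commutator_le]
    intro u _ v _
    rw [MonoidHom.mem_ker, commutatorElement_def, map_mul, map_mul, map_mul, map_inv, map_inv]
    apply Subtype.ext
    have h1 : Commute ((f u : L)) (f v : L) := (mem_center_iff.1 (f u).2 _).symm
    push_cast
    rw [h1.eq, mul_inv_cancel_right, mul_inv_cancel]
  refine MulEquiv.ext fun x => ?_
  have hx : x ∈ f.ker := hk (Group.IsPerfect.commutator_eq_top (G := L) ▸ mem_top x)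
  exact (inv_mul_eq_one.1 (congrArg Subtype.val (MonoidHom.mem_ker.1 hx))).symm

set_option maxHeartbeats 1000000 in
/-- the product of the conjugates of a component over a subgroup meeting its normalizer trivially -/
theorem exists_diag {A A₁ : Subgroup G} (hA : Cfsg.IsElementaryAbelian 2 A) (hA₁ : A₁ ≤ A) {L : Subgroup G}
    (hL : Cfsg.IsComponent L) (hmeet : ∀ c ∈ A₁, c ∈ normalizer (L : Set G) → c = 1) :
    ∃ φ : ↥L →* G, (∀ c ∈ A₁, ∀ x, c * φ x * c⁻¹ = φ x) ∧
      (∀ b ∈ A, ∀ hb : b ∈ normalizer (L : Set G), ∀ x, b * φ x * b⁻¹ = φ (normalizerMonoidHom L ⟨b, hb⟩ x)) ∧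
      (∀ x : ↥L, (x : G)⁻¹ * φ x ∈ centralizer (L : Set G)) ∧
      ∀ a ∈ A, (∀ c ∈ A₁, a * c ∉ normalizer (L : Set G)) → ∀ x, a * φ x * a⁻¹ ∈ centralizer (L : Set G) := by
  classical
  haveI : Fintype ↥A₁ := Fintype.ofFinite _
  have hcomp : ∀ g : G, Cfsg.IsComponent (L.map (MulAut.conj g).toMonoidHom) := fun g =>
    isComponent_map_equiv (MulAut.conj g) hL
  have hsep : ∀ g : G, g ∉ normalizer (L : Set G) → ∀ (x y : G), x ∈ L → y ∈ L → Commute y (g * x * g⁻¹) := by
    intro g hg x y hx hy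
    have hne : L ≠ L.map (MulAut.conj g).toMonoidHom := fun h => hg (by
      rw [mem_normalizer_iff_map_conj_eq]; exact h.symm)
    have h0 := (components_eq_or_commute hL (hcomp g)).resolve_left hne
    rw [commutator_eq_bot_iff_le_centralizer] at h0
    exact (mem_centralizer_iff.1 (h0 hy) _ ⟨x, hx, rfl⟩).symm
  let ι : ↥A₁ → (↥L →* G) := fun c => (MulAut.conj (c : G)).toMonoidHom.comp L.subtype
  have hι : ∀ (c : ↥A₁) (x : ↥L), ι c x = (c : G) * x * (c : G)⁻¹ := fun c x => rfl
  have hcommι : Pairwise fun i j => ∀ x y, Commute (ι i x) (ι j y) := by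
    intro i j hij x y
    have hg : (i : G)⁻¹ * j ∉ normalizer (L : Set G) := fun h =>
      hij (Subtype.ext (inv_mul_eq_one.1 (hmeet _ (mul_mem (inv_mem i.2) j.2) h)))
    have h1 := (hsep _ hg y x y.2 x.2).map (MulAut.conj (i : G)).toMonoidHom
    simpa [hι, mul_assoc] using h1
  let Φ := MonoidHom.noncommPiCoprod ι hcommι
  let φ : ↥L →* G := Φ.comp (Pi.monoidHom fun _ => MonoidHom.id ↥L)
  have hφ : ∀ x, φ x = Φ (fun _ => x) := fun x => rfl
  refine ⟨φ, ?_, ?_, ?_, ?_⟩
  · intro c hc x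
    let c' : ↥A₁ := ⟨c, hc⟩
    let re : (↥A₁ → ↥L) →* (↥A₁ → ↥L) := Pi.monoidHom fun i => Pi.evalMonoidHom (fun _ => ↥L) (c'⁻¹ * i)
    have key : (MulAut.conj c).toMonoidHom.comp Φ = Φ.comp re := by
      refine MonoidHom.pi_ext fun i y => ?_
      have : re (Pi.mulSingle i y) = Pi.mulSingle (c' * i) y := by
        funext j
        show (Pi.mulSingle i y : ↥A₁ → ↥L) (c'⁻¹ * j) = _
        by_cases h : j = c' * i
        · subst h; simp
        · rw [Pi.mulSingle_eq_of_ne h, Pi.mulSingle_eq_of_ne (fun h' => h (by rw [← h', mul_inv_cancel_left]))]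
      simp only [MonoidHom.comp_apply, this, Φ, MonoidHom.noncommPiCoprod_mulSingle, hι, MulEquiv.coe_toMonoidHom,
        MulAut.conj_apply, Subgroup.coe_mul]
      show c * ((i : G) * y * (i : G)⁻¹) * c⁻¹ = c * i * y * (c * i)⁻¹
      group
    exact DFunLike.congr_fun key (fun _ => x)
  · intro b hb hbN x
    let re : (↥A₁ → ↥L) →* (↥A₁ → ↥L) :=
      Pi.monoidHom fun i => (normalizerMonoidHom L ⟨b, hbN⟩).toMonoidHom.comp (Pi.evalMonoidHom (fun _ => ↥L) i)
    have key : (MulAut.conj b).toMonoidHom.comp Φ = Φ.comp re := by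
      refine MonoidHom.pi_ext fun i y => ?_
      have : re (Pi.mulSingle i y) = Pi.mulSingle i (normalizerMonoidHom L ⟨b, hbN⟩ y) := by
        funext j
        show normalizerMonoidHom L ⟨b, hbN⟩ ((Pi.mulSingle i y : ↥A₁ → ↥L) j) = _
        by_cases h : j = i
        · subst h; simp
        · rw [Pi.mulSingle_eq_of_ne h, Pi.mulSingle_eq_of_ne h, map_one]
      simp only [MonoidHom.comp_apply, this, Φ, MonoidHom.noncommPiCoprod_mulSingle, hι, MulEquiv.coe_toMonoidHom,
        MulAut.conj_apply]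
      show b * ((i : G) * y * (i : G)⁻¹) * b⁻¹ = (i : G) * (b * y * b⁻¹) * (i : G)⁻¹
      rw [show b * ((i : G) * y * (i : G)⁻¹) * b⁻¹ = (b * i) * y * (b * i)⁻¹ by group,
        comm_of_elementary hA hb (hA₁ i.2)]
      group
    exact DFunLike.congr_fun key (fun _ => x)
  · intro x
    have hdec : (fun _ => x : ↥A₁ → ↥L) = Pi.mulSingle 1 x * Function.update (fun _ => x : ↥A₁ → ↥L) 1 1 := by
      funext j
      by_cases h : j = 1
      · subst h; simp
      · simp [Pi.mul_apply, Pi.mulSingle_eq_of_ne h, Function.update_of_ne h]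
    rw [hφ, hdec, map_mul]
    simp only [Φ, MonoidHom.noncommPiCoprod_mulSingle]
    rw [show ι 1 x = (x : G) by simp [hι], inv_mul_cancel_left, mem_centralizer_iff]
    intro y hy
    have hc : ∀ f : ↥A₁ → ↥L, f 1 = 1 → Commute y (Φ f) := fun f hf =>
      Finset.noncommProd_commute _ _ (fun _ _ _ _ h => hcommι h _ _) _ fun i _ => by
        by_cases hi : i = 1
        · subst hi; rw [hf, map_one]; exact Commute.one_right y
        · exact hsep _ (fun h => hi (Subtype.ext (hmeet _ i.2 h))) _ y (SetLike.coe_mem _) hy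
    exact (hc _ (Function.update_self ..)).eq
  · intro a ha hac x
    rw [mem_centralizer_iff]
    intro y hy
    show y * MulAut.conj a (Φ (fun _ => x)) = MulAut.conj a (Φ (fun _ => x)) * y
    have h1 : Commute (a⁻¹ * y * a) (Φ (fun _ => x)) := MonoidHom.commute_noncommPiCoprod ι (hcomm := hcommι)
      (fun i z => by
        have h2 := (hsep (a * i) (hac _ i.2) z y z.2 hy).map (MulAut.conj a⁻¹).toMonoidHom
        simpa [hι, mul_assoc] using h2) _
    have h3 := h1.map (MulAut.conj a).toMonoidHom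
    simpa [mul_assoc] using h3.eq

/-- an order dividing through a diagonal homomorphism -/
theorem dvd_orderOf_diag {L : Subgroup G} [(center ↥L).Normal] (φ : ↥L →* G)
    (hφ : ∀ x : ↥L, (x : G)⁻¹ * φ x ∈ centralizer (L : Set G)) {y : ↥L} {r : ℕ}
    (hr : r ∣ orderOf (y : ↥L ⧸ center ↥L)) : r ∣ orderOf (φ y) := by
  refine hr.trans (orderOf_dvd_of_pow_eq_one ?_)
  rw [← QuotientGroup.mk_pow, QuotientGroup.eq_one_iff, mem_center_iff]
  intro z
  have h1 : φ (y ^ orderOf (φ y)) = 1 := by rw [map_pow, pow_orderOf_eq_one]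
  have h2 := hφ (y ^ orderOf (φ y))
  rw [h1, mul_one, inv_mem_iff] at h2
  exact Subtype.ext (mem_centralizer_iff.1 h2 z z.2)

set_option maxHeartbeats 1000000 in
/-- `S₃`-free groups with trivial `O₂` and composition factors `Sz(q)`, `PSL₂(3 ^ (2 n + 1))` have steps -/
theorem exists_step (ha : Cfsg.pCore 2 G = ⊥) (hb : ¬ Cfsg.Involves (Equiv.Perm (Fin 3)) G)
    (hc : Cfsg.IsCompositionKGroupWith Cfsg.IsSuzukiOrPSL2OddPowerThree G) (A : Subgroup G)
    (hA : Cfsg.IsElementaryAbelian 2 A) (hA1 : A ≠ ⊥) : Step A := by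
  classical
  haveI : Fact (Nat.Prime 2) := ⟨Nat.prime_two⟩
  haveI : Fintype G := Fintype.ofFinite G
  by_cases hF : Cfsg.fittingSubgroup G ≤ centralizer (A : Set G)
  swap
  · by_contra hno
    refine hF ?_
    have hodd := CfsgLib.CharDegree.not_dvd_card_fittingSubgroup (G := G) Nat.prime_two ha
    haveI := fitting_normal (G := G)
    refine CfsgLib.Signalizer.le_of_hyperplanes_le (p := 2) hA hodd le_normalizer_of_normal fun B hBA hB x hx => ?_
    rw [mem_centralizer_iff]
    intro a haA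
    by_contra hne
    refine hno ?_
    obtain ⟨w, hw⟩ : ∃ w, w = x⁻¹ * (a * x * a⁻¹) := ⟨_, rfl⟩
    have hwF : w ∈ Cfsg.fittingSubgroup G := by
      rw [hw]; exact mul_mem (inv_mem hx.1) ((fitting_normal (G := G)).conj_mem x hx.1 a)
    have hw1 : orderOf w ≠ 1 := fun h => hne (by
      rw [orderOf_eq_one_iff, hw, inv_mul_eq_one, eq_mul_inv_iff_mul_eq] at h
      exact h.symm)
    obtain ⟨r, hr, hrd⟩ := Nat.exists_prime_and_dvd hw1
    have hr2 : r ≠ 2 := by
      rintro rfl
      exact hodd (hrd.trans (by rw [← Subgroup.orderOf_mk w hwF]; exact orderOf_dvd_natCard _))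
    refine step_of_commutator hb hA hBA ?_ haA hx.2 hr hr2 (hw ▸ hrd)
    rw [← relIndex_bot_left A, ← relIndex_mul_relIndex ⊥ B A bot_le hBA, relIndex_bot_left, mul_comm]
    exact Nat.mul_le_mul_right _ hB
  -- a component moved by `A`
  obtain ⟨L, hL, hAL⟩ : ∃ L : Subgroup G, Cfsg.IsComponent L ∧ ¬ L ≤ centralizer (A : Set G) := by
    by_contra hall
    push Not at hall
    have h1 : Cfsg.generalizedFittingSubgroup G ≤ centralizer (A : Set G) := sup_le (sSup_le hall) hF
    have h2 : A ≤ Cfsg.generalizedFittingSubgroup G :=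
      (le_centralizer_iff.1 h1).trans centralizer_gFitting_le
    obtain ⟨Z, hZ⟩ : ∃ Z, Z = Cfsg.generalizedFittingSubgroup G ⊓ centralizer (Cfsg.generalizedFittingSubgroup G : Set G) :=
      ⟨_, rfl⟩
    haveI := gFitting_normal (G := G)
    have hZn : Z.Normal := hZ ▸ inferInstance
    haveI : IsMulCommutative ↥Z := ⟨⟨fun u v => by
      have hu := (SetLike.ext_iff.1 hZ (u : G)).1 u.2
      have hv := (SetLike.ext_iff.1 hZ (v : G)).1 v.2
      exact Subtype.ext (mem_centralizer_iff.1 hv.2 _ hu.1)⟩⟩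
    have hZF : Z ≤ Cfsg.fittingSubgroup G := le_fitting hZn
      (by letI : CommGroup ↥Z := { (inferInstance : Group ↥Z) with mul_comm := fun u v => mul_comm' u v }
          exact CommGroup.isNilpotent)
    have hAZ : A ≤ Cfsg.fittingSubgroup G := fun a haA =>
      hZF (hZ ▸ mem_inf.2 ⟨h2 haA, le_centralizer_iff.1 h1 haA⟩)
    refine hA1 ((eq_bot_iff_forall _).2 fun a haA => ?_)
    by_contra ha1
    have ho : orderOf a = 2 := orderOf_eq_prime (hA.2 a haA) ha1
    exact CfsgLib.CharDegree.not_dvd_card_fittingSubgroup (G := G) Nat.prime_two ha (by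
      rw [← ho, ← Subgroup.orderOf_mk a (hAZ haA)]; exact orderOf_dvd_natCard _)
  haveI : IsSimpleGroup (↥L ⧸ center ↥L) := hL.2.2
  haveI : Group.IsPerfect ↥L := hL.2.1
  have hna : ¬ IsMulCommutative (↥L ⧸ center ↥L) := by
    intro h
    refine IsQuasisimple.center_ne_top hL.2 (top_le_iff.1 ?_)
    rw [← Group.IsPerfect.commutator_eq_top (G := ↥L), _root_.commutator_def, Subgroup.commutator_le]
    intro u _ v _
    rw [← QuotientGroup.eq_one_iff, commutatorElement_def]
    rw [QuotientGroup.mk_mul, QuotientGroup.mk_mul, QuotientGroup.mk_mul, QuotientGroup.mk_inv, QuotientGroup.mk_inv,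
      h.is_comm.comm (u : ↥L ⧸ center ↥L) v, mul_inv_cancel_right, mul_inv_cancel]
  have hS := hc L hL.1 (center ↥L) inferInstance hna
  -- the normalizer of the component in `A`
  obtain ⟨AL, hALdef⟩ : ∃ AL, AL = A ⊓ normalizer (L : Set G) := ⟨_, rfl⟩
  have hALA : AL ≤ A := hALdef ▸ inf_le_left
  have hALN : AL ≤ normalizer (L : Set G) := hALdef ▸ inf_le_right
  let θ : ↥AL →* MulAut (↥L ⧸ center ↥L) :=
    (barAut ↥L).comp ((normalizerMonoidHom L).comp (inclusion hALN))
  by_cases hθ : θ.range = ⊥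
  · -- `A` moves `L`
    have hcen : ∀ b ∈ AL, ∀ x : G, x ∈ L → b * x * b⁻¹ = x := fun b hb x hx => by
      have h1 : θ ⟨b, hb⟩ = 1 := by
        have : θ ⟨b, hb⟩ ∈ θ.range := ⟨_, rfl⟩
        rwa [hθ, mem_bot] at this
      exact congrArg Subtype.val (DFunLike.congr_fun (eq_one_of_barAut h1) ⟨x, hx⟩)
    obtain ⟨a, haA, haN⟩ : ∃ a ∈ A, a ∉ AL := by
      by_contra hall
      push Not at hall
      exact hAL fun x hx => mem_centralizer_iff.2 fun b hb => mul_inv_eq_iff_eq_mul.1 (hcen b (hall b hb) x hx)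
    -- a hyperplane avoiding `a`
    obtain ⟨H, ⟨hHA, hALH, haH⟩, hmax⟩ := (Set.toFinite {H : Subgroup G | H ≤ A ∧ AL ≤ H ∧ a ∉ H}).exists_maximal
      ⟨AL, hALA, le_rfl, haN⟩
    obtain ⟨D, hDA, hDH, hdec⟩ := exists_complement hA hHA
    have hidx : Nat.card A ≤ 2 * Nat.card H := by
      have hu : ∀ u ∈ A, u ∈ H ∨ a * u ∈ H := by
        intro u hu
        by_contra hcon
        push Not at hcon
        have haa : a * a = 1 := by rw [← pow_two]; exact hA.2 a haA
        have hcu : ∀ h ∈ H, u * h = h * u := fun h hh => comm_of_elementary hA hu (hHA hh)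
        let H' : Subgroup G :=
          { carrier := {g | g ∈ H ∨ u * g ∈ H}
            one_mem' := Or.inl (one_mem H)
            mul_mem' := by
              have huu : u * u = 1 := by rw [← pow_two]; exact hA.2 u hu
              intro x y hx hy
              have memA : ∀ w, (w ∈ H ∨ u * w ∈ H) → w ∈ A := fun w hw => hw.elim (fun h => hHA h) (fun h => by
                have := mul_mem hu (hHA h); rwa [← mul_assoc, huu, one_mul] at this)
              rcases hx with hx | hx <;> rcases hy with hy | hy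
              · exact Or.inl (mul_mem hx hy)
              · exact Or.inr (by rw [← mul_assoc, hcu x hx, mul_assoc]; exact mul_mem hx hy)
              · exact Or.inr (by rw [← mul_assoc]; exact mul_mem hx hy)
              · refine Or.inl ?_
                have := mul_mem hx hy
                rwa [mul_assoc, ← mul_assoc x u y, ← comm_of_elementary hA hu (memA x (Or.inr hx)), mul_assoc u x y,
                  ← mul_assoc u u, huu, one_mul] at this
            inv_mem' := by
              intro x hx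
              have huu : u * u = 1 := by rw [← pow_two]; exact hA.2 u hu
              have : x ∈ A := hx.elim (fun h => hHA h) (fun h => by
                have := mul_mem hu (hHA h); rwa [← mul_assoc, huu, one_mul] at this)
              show x⁻¹ ∈ H ∨ u * x⁻¹ ∈ H
              rw [inv_eq_of_elementary hA this]; exact hx }
        have huu : u * u = 1 := by rw [← pow_two]; exact hA.2 u hu
        have hH'A : H' ≤ A := fun w hw => hw.elim (fun h => hHA h) (fun h => by
          have := mul_mem hu (hHA h); rwa [← mul_assoc, huu, one_mul] at this)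
        have haH' : a ∉ H' := fun h => h.elim haH (fun h => hcon.2 (by rwa [comm_of_elementary hA haA hu]))
        exact hcon.1 (hmax ⟨hH'A, hALH.trans (fun w hw => Or.inl hw), haH'⟩ (fun w hw => Or.inl hw)
          (Or.inr (by rw [huu]; exact one_mem H)))
      let g : Bool × ↥H → G := fun z => if z.1 then a * (z.2 : G) else (z.2 : G)
      have hsub : (A : Set G) ⊆ Set.range g := fun u huA => by
        rcases hu u huA with h | h
        · exact ⟨(false, ⟨u, h⟩), rfl⟩
        · exact ⟨(true, ⟨_, h⟩), by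
            show a * (a * u) = u
            rw [← mul_assoc, ← pow_two, hA.2 a haA, one_mul]⟩
      calc Nat.card A ≤ Nat.card ↥(Set.range g) := Nat.card_mono (Set.toFinite _) hsub
        _ ≤ Nat.card (Bool × ↥H) := Finite.card_range_le g
        _ = 2 * Nat.card H := by rw [Nat.card_prod, Nat.card_eq_fintype_card, Fintype.card_bool]
    obtain ⟨A₁, hA₁H, hA₁, hdec'⟩ := exists_complement hA (hALA : AL ≤ A)
    obtain ⟨A₂, hA₂⟩ : ∃ A₂, A₂ = A₁ ⊓ H := ⟨_, rfl⟩
    have hA₁n : ∀ c ∈ A₁, c ∈ normalizer (L : Set G) → c = 1 := fun c hc hcN => by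
      have : c ∈ A₁ ⊓ AL := ⟨hc, hALdef ▸ mem_inf.2 ⟨hA₁H hc, hcN⟩⟩
      rwa [hA₁, mem_bot] at this
    obtain ⟨φ, hφ1, hφ2, hφ3, hφ4⟩ := exists_diag hA (A₁ := A₂) (hA₂ ▸ inf_le_left.trans hA₁H) hL
      (fun c hc => hA₁n c (hA₂ ▸ hc : c ∈ A₁ ⊓ H).1)
    obtain ⟨xb, r, hr, hr2, hxb⟩ := exists_odd_prime_order hna
    obtain ⟨x, rfl⟩ := QuotientGroup.mk_surjective xb
    refine step_of_commutator hb hA hHA hidx haA (x := φ x) ?_ hr hr2 ?_
    · rw [mem_centralizer_iff]
      intro b hbH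
      obtain ⟨d, hd, c, hc, rfl⟩ := hdec' b (hHA hbH)
      have hdH : d ∈ A₂ := hA₂ ▸ mem_inf.2 ⟨hd, by
        have := mul_mem (SetLike.mem_coe.1 hbH) (inv_mem (hALH hc))
        rwa [mul_inv_cancel_right] at this⟩
      have e1 : c * φ x = φ x * c := by
        have := hφ2 c (hALA hc) (hALN hc) x
        rw [show normalizerMonoidHom L ⟨c, hALN hc⟩ x = x from Subtype.ext (hcen c hc x x.2)] at this
        exact mul_inv_eq_iff_eq_mul.1 this
      rw [mul_assoc, e1, ← mul_assoc, mul_inv_eq_iff_eq_mul.1 (hφ1 d hdH x), mul_assoc]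
    · have hout : a * φ x * a⁻¹ ∈ centralizer (L : Set G) := hφ4 a haA (fun c hc hN => haH (by
        have hcA : c ∈ A₁ ⊓ H := hA₂ ▸ hc
        have := mul_mem (hALH (hALdef ▸ mem_inf.2 ⟨mul_mem haA (hA₁H hcA.1), hN⟩ : a * c ∈ AL)) (inv_mem hcA.2)
        rwa [mul_inv_cancel_right] at this)) x
      obtain ⟨t, ht⟩ : ∃ t, t = (φ x)⁻¹ * (a * φ x * a⁻¹) := ⟨_, rfl⟩
      rw [← ht]
      have hr' : r ∣ orderOf ((x : ↥L ⧸ center ↥L)⁻¹) := by rw [orderOf_inv, hxb]
      refine hr'.trans (orderOf_dvd_of_pow_eq_one ?_)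
      rw [← QuotientGroup.mk_inv, ← QuotientGroup.mk_pow, QuotientGroup.eq_one_iff, mem_center_iff]
      intro z
      obtain ⟨rest, hrest⟩ : ∃ rest, rest = (x : G)⁻¹ * φ x := ⟨_, rfl⟩
      have hrC : rest ∈ centralizer (L : Set G) := hrest ▸ hφ3 x
      obtain ⟨u, hu⟩ : ∃ u, u = rest⁻¹ * (a * φ x * a⁻¹) := ⟨_, rfl⟩
      have huC : u ∈ centralizer (L : Set G) := hu ▸ mul_mem (inv_mem hrC) hout
      have hcx : Commute u (x : G)⁻¹ := Commute.inv_right (show Commute u (x : G) from (mem_centralizer_iff.1 huC x x.2).symm)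
      have htu : t = (x : G)⁻¹ * u := by
        rw [ht, show φ x = (x : G) * rest by rw [hrest, mul_inv_cancel_left], mul_inv_rev, hu, hrest, mul_inv_cancel_left]
        have h3 : rest⁻¹ * (x : G)⁻¹ = (x : G)⁻¹ * rest⁻¹ := by
          have h4 : Commute rest (x : G) := (mem_centralizer_iff.1 hrC x x.2).symm
          exact (h4.inv_inv).eq
        rw [← hrest, h3, mul_assoc]
      have h1 := pow_orderOf_eq_one t
      nth_rewrite 1 [htu] at h1
      rw [hcx.symm.mul_pow] at h1
      have hmem : ((x : G)⁻¹) ^ orderOf t ∈ centralizer (L : Set G) := by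
        rw [eq_inv_of_mul_eq_one_left h1]; exact inv_mem (pow_mem huC _)
      exact Subtype.ext (by push_cast; exact mem_centralizer_iff.1 hmem z z.2)
  · -- the normalizer of `L` moves it
    haveI : Finite (MulAut (↥L ⧸ center ↥L)) :=
      Finite.of_injective (fun e : MulAut (↥L ⧸ center ↥L) => ((e : (↥L ⧸ center ↥L) → (↥L ⧸ center ↥L)))) DFunLike.coe_injective
    have hre : Cfsg.IsElementaryAbelian 2 θ.range := by
      refine ⟨⟨⟨?_⟩⟩, ?_⟩
      · rintro ⟨_, u, rfl⟩ ⟨_, v, rfl⟩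
        refine Subtype.ext ?_
        show θ u * θ v = θ v * θ u
        rw [← map_mul, ← map_mul, show u * v = v * u from Subtype.ext (comm_of_elementary hA (hALA u.2) (hALA v.2))]
      · rintro _ ⟨u, rfl⟩
        rw [← map_pow, show u ^ 2 = 1 from Subtype.ext (hA.2 u (hALA u.2)), map_one]
    obtain ⟨_, ⟨h0, rfl⟩, _, ⟨a0, rfl⟩, xb, r, e, hfix, he, hle, hr, hr2, hd, hkind⟩ :=
      simple_step hna hS θ.range hre hθ
    obtain ⟨x0, rfl⟩ := QuotientGroup.mk_surjective xb
    -- a lift fixed by `h0`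
    obtain ⟨ψ, hψ⟩ : ∃ ψ : MulAut ↥L, ψ = normalizerMonoidHom L (inclusion hALN h0) := ⟨_, rfl⟩
    have hθψ : θ h0 = barAut ↥L ψ := hψ ▸ rfl
    have hψ2 : ∀ z, ψ (ψ z) = z := fun z => by
      rw [← MulAut.mul_apply, hψ, ← map_mul, ← map_mul, show h0 * h0 = 1 from Subtype.ext (by
        show (h0 : G) * h0 = 1
        rw [← pow_two]; exact hA.2 _ (hALA h0.2)), map_one, map_one, MulAut.one_apply]
    obtain ⟨x, hx, hψx⟩ : ∃ x : ↥L, (x : ↥L ⧸ center ↥L) = x0 ∧ ψ x = x := by
      obtain ⟨z, hz⟩ : ∃ z, z = x0⁻¹ * ψ x0 := ⟨_, rfl⟩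
      have hzc : z ∈ center ↥L := hz ▸ QuotientGroup.eq.1 (by
        rw [← barAut_mk, ← hθψ]; exact hfix.symm)
      have hψz : ψ z = z⁻¹ := by rw [hz, map_mul, map_inv, hψ2, mul_inv_rev, inv_inv]
      have hzo : Odd (orderOf z) := by
        rw [← Nat.not_even_iff_odd, even_iff_two_dvd]
        intro h
        refine CfsgLib.CharDegree.not_dvd_card_fittingSubgroup (G := G) Nat.prime_two ha ?_
        have hle' : (center ↥L).map L.subtype ≤ Cfsg.fittingSubgroup G := by
          refine subnormal_nilpotent_le_fitting ?_ ((Group.isNilpotent_congr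
            ((center ↥L).equivMapOfInjective L.subtype L.subtype_injective)).1 (by
              letI : CommGroup ↥(center ↥L) := { (inferInstance : Group ↥(center ↥L)) with mul_comm := fun u v => mul_comm' u v }
              exact CommGroup.isNilpotent))
          exact (isSubnormal_map_subtype_iff hL.1).2 (Subgroup.Normal.isSubnormal inferInstance)
        have h' : 2 ∣ orderOf (⟨(z : G), hle' (mem_map_of_mem L.subtype hzc)⟩ : ↥(Cfsg.fittingSubgroup G)) := by
          rw [Subgroup.orderOf_mk, Subgroup.orderOf_coe]; exact h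
        exact h'.trans (orderOf_dvd_natCard _)
      obtain ⟨k, hk⟩ := hzo
      refine ⟨x0 * z ^ (k + 1), ?_, ?_⟩
      · rw [QuotientGroup.mk_mul, (QuotientGroup.eq_one_iff _).2 (pow_mem hzc _), mul_one]
      · have hx0 : ψ x0 = x0 * z := by rw [hz, mul_inv_cancel_left]
        rw [map_mul, map_pow, hψz, hx0, mul_assoc]
        congr 1
        have h1 : z ^ (k + 1) * z ^ (k + 1) = z := by
          rw [← pow_add, show k + 1 + (k + 1) = (2 * k + 1) + 1 by ring, pow_succ, ← hk, pow_orderOf_eq_one, one_mul]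
        rw [inv_pow, mul_inv_eq_iff_eq_mul]
        exact h1.symm
    -- the subgroups
    obtain ⟨A₁, hA₁A, hA₁, hdec⟩ := exists_complement hA (hALA : AL ≤ A)
    have hA₁n : ∀ c ∈ A₁, c ∈ normalizer (L : Set G) → c = 1 := fun c hc hcN => by
      have : c ∈ A₁ ⊓ AL := ⟨hc, hALdef ▸ mem_inf.2 ⟨hA₁A hc, hcN⟩⟩
      rwa [hA₁, mem_bot] at this
    obtain ⟨φ, hφ1, hφ2, hφ3, -⟩ := exists_diag hA hA₁A hL hA₁n
    obtain ⟨BL, hBL⟩ : ∃ BL, BL = ((zpowers (θ h0)).comap θ).map AL.subtype := ⟨_, rfl⟩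
    have hBLA : BL ≤ AL := hBL ▸ map_subtype_le _
    have hBA : A₁ ⊔ BL ≤ A := sup_le hA₁A (hBLA.trans hALA)
    have hfixBL : ∀ b ∈ BL, b * φ x * b⁻¹ = φ x := by
      intro b hb
      rw [hBL] at hb
      obtain ⟨b, hb, rfl⟩ := hb
      obtain ⟨i, hi⟩ := mem_comap.1 hb
      rw [Subgroup.coe_subtype, hφ2 (b : G) (hALA b.2) (hALN b.2) x]
      congr 1
      have h1 : barAut ↥L (normalizerMonoidHom L (inclusion hALN b) * (ψ ^ i)⁻¹) = 1 := by
        rw [map_mul, map_inv, map_zpow, ← hθψ]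
        show θ b * (θ h0 ^ i)⁻¹ = 1
        rw [← hi, mul_inv_cancel]
      have h2 := eq_one_of_barAut h1
      rw [mul_inv_eq_one] at h2
      show normalizerMonoidHom L (inclusion hALN b) x = x
      rw [h2]
      have hfx : ψ ∈ MulAction.stabilizer (MulAut ↥L) x := hψx
      exact zpow_mem hfx i
    have hcard : Nat.card A ≤ 2 ^ e * Nat.card ↥(A₁ ⊔ BL) := by
      have h1 : Nat.card A ≤ Nat.card A₁ * Nat.card AL := by
        let g : ↥A₁ × ↥AL → G := fun z => (z.1 : G) * z.2
        calc Nat.card A ≤ Nat.card ↥(Set.range g) := Nat.card_mono (Set.toFinite _) (fun u hu => by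
              obtain ⟨d, hd, c, hc, rfl⟩ := hdec u hu
              exact ⟨(⟨d, hd⟩, ⟨c, hc⟩), rfl⟩)
          _ ≤ Nat.card (↥A₁ × ↥AL) := Finite.card_range_le g
          _ = _ := Nat.card_prod _ _
      have h2 : Nat.card AL ≤ 2 ^ e * Nat.card BL := by
        have hk : Nat.card ↥((zpowers (θ h0)).comap θ) = orderOf (θ h0) * Nat.card θ.ker := by
          rw [← card_mul_index (θ.ker.subgroupOf ((zpowers (θ h0)).comap θ)),
            Nat.card_congr (subgroupOfEquivOfLe (θ.ker_le_comap _)).toEquiv, ← relIndex, mul_comm]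
          congr 1
          rw [← MonoidHom.comap_bot, relIndex_comap, map_comap_eq, inf_eq_right.2 (zpowers_le.2 (MonoidHom.mem_range.2 ⟨h0, rfl⟩)),
            relIndex_bot_left, Nat.card_zpowers]
        have hAL' : Nat.card AL = Nat.card θ.range * Nat.card θ.ker := by
          rw [← Nat.card_congr (QuotientGroup.quotientKerEquivRange θ).toEquiv, mul_comm]
          exact (card_mul_index θ.ker).symm
        rw [hBL, card_subtype, hk, hAL', ← mul_assoc]
        exact Nat.mul_le_mul_right _ hle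
      have h3 : Nat.card A₁ * Nat.card BL ≤ Nat.card ↥(A₁ ⊔ BL) := by
        rw [← Nat.card_prod]
        refine Nat.card_le_card_of_injective (fun z : ↥A₁ × ↥BL => (⟨(z.1 : G) * z.2, mul_mem (mem_sup_left z.1.2) (mem_sup_right z.2.2)⟩ : ↥(A₁ ⊔ BL))) ?_
        rintro ⟨u, v⟩ ⟨u', v'⟩ h
        have h' : (u : G) * v = u' * v' := congrArg Subtype.val h
        have h4 : (u' : G)⁻¹ * u = v' * (v : G)⁻¹ := by
          rw [inv_mul_eq_iff_eq_mul, ← mul_assoc, eq_mul_inv_iff_mul_eq, h']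
        have h5 : (u' : G)⁻¹ * u ∈ A₁ ⊓ AL :=
          Subgroup.mem_inf.2 ⟨mul_mem (inv_mem u'.2) u.2, h4 ▸ mul_mem (hBLA v'.2) (inv_mem (hBLA v.2))⟩
        rw [hA₁, mem_bot] at h5
        rw [h5] at h4
        exact Prod.ext (Subtype.ext (inv_mul_eq_one.1 h5).symm) (Subtype.ext (mul_inv_eq_one.1 h4.symm).symm)
      calc Nat.card A ≤ Nat.card A₁ * (2 ^ e * Nat.card BL) := h1.trans (Nat.mul_le_mul_left _ h2)
        _ = 2 ^ e * (Nat.card A₁ * Nat.card BL) := by ring
        _ ≤ _ := Nat.mul_le_mul_left _ h3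
    have hxB : φ x ∈ centralizer ((A₁ ⊔ BL : Subgroup G) : Set G) := by
      have h1 : A₁ ⊔ BL ≤ centralizer ({φ x} : Set G) := sup_le
        (fun c hc => mem_centralizer_singleton_iff.2 (mul_inv_eq_iff_eq_mul.1 (hφ1 c hc x)))
        (fun b hb => mem_centralizer_singleton_iff.2 (mul_inv_eq_iff_eq_mul.1 (hfixBL b hb)))
      exact mem_centralizer_iff.2 fun b hb => mem_centralizer_singleton_iff.1 (h1 hb)
    have hdvd : r ∣ orderOf ((φ x)⁻¹ * ((a0 : G) * φ x * (a0 : G)⁻¹)) := by
      rw [hφ2 (a0 : G) (hALA a0.2) (hALN a0.2) x, ← map_inv, ← map_mul]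
      refine dvd_orderOf_diag φ hφ3 ?_
      rw [QuotientGroup.mk_mul, QuotientGroup.mk_inv, ← barAut_mk, hx]
      exact hd
    rcases hkind with rfl | ⟨h1, hppd⟩
    · exact step_of_commutator hb hA hBA (by simpa using hcard) (hALA a0.2) hxB hr hr2 hdvd
    · exact ⟨_, _, _, r, e, hBA, hALA a0.2, hxB, hr, hr2, he, hcard, hdvd, hppd⟩

end CfsgLib.LocalEven.SFreeOffender
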