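import Cfsg.Prelude.Def_LocalEven
import Cfsg.Agent.Lib.LocalEven.Basic
import Cfsg.Agent.Lib.ThreeTrans.Braid
import Cfsg.Agent.Lib.Fusion.Sections
import Cfsg.Agent.Lib.Core.Coprime
import Cfsg.Agent.Lib.Core.Cores
import Cfsg.Agent.Lib.Signalizer.Involutions
import Cfsg.Agent.Lib.TwoGroups.Recognition

/-! Sections isomorphic to the symmetric group of degree `4`. -/

set_option autoImplicit false
set_option linter.all false

namespace CfsgLib.LocalEven

open Subgroup

/-- The map from the symmetric group of degree `4` onto that of degree `3`. -/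
theorem exists_four_to_three : ∃ ψ : Equiv.Perm (Fin 4) →* Equiv.Perm (Fin 3), Function.Surjective ψ ∧
    ψ (Equiv.swap 0 1 * Equiv.swap 2 3) = 1 ∧ Nat.card ψ.ker = 4 ∧
    ∀ σ : Equiv.Perm (Fin 4), (∀ τ, ψ τ = 1 → σ * τ = τ * σ) → ψ σ = 1 := by
  obtain ⟨ψ, h1, h2, h3⟩ := ThreeTrans.exists_hom_perm_four (G := Equiv.Perm (Fin 3))
    (a := Equiv.swap 0 1) (b := Equiv.swap 1 2) (c := Equiv.swap 0 1)
    (by decide) (by decide) (by decide) (by decide) (by decide) (by decide)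
  have hker : ψ (Equiv.swap 0 1 * Equiv.swap 2 3) = 1 := by rw [map_mul, h1, h3]; decide
  have hsurj : Function.Surjective ψ := by
    intro σ
    have key : ∀ σ : Equiv.Perm (Fin 3), σ = 1 ∨ σ = Equiv.swap 0 1 ∨ σ = Equiv.swap 1 2 ∨
        σ = Equiv.swap 0 1 * Equiv.swap 1 2 ∨ σ = Equiv.swap 1 2 * Equiv.swap 0 1 ∨
        σ = Equiv.swap 0 1 * Equiv.swap 1 2 * Equiv.swap 0 1 := by decide
    rcases key σ with rfl | rfl | rfl | rfl | rfl | rfl
    · exact ⟨1, map_one ψ⟩
    · exact ⟨_, h1⟩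
    · exact ⟨_, h2⟩
    · exact ⟨Equiv.swap 0 1 * Equiv.swap 1 2, by rw [map_mul, h1, h2]⟩
    · exact ⟨Equiv.swap 1 2 * Equiv.swap 0 1, by rw [map_mul, h1, h2]⟩
    · exact ⟨Equiv.swap 0 1 * Equiv.swap 1 2 * Equiv.swap 0 1, by rw [map_mul, map_mul, h1, h2]⟩
  refine ⟨ψ, hsurj, hker, ?_, fun σ hσ => ?_⟩
  · have h := Subgroup.card_eq_card_quotient_mul_card_subgroup ψ.ker
    rw [Nat.card_congr (QuotientGroup.quotientKerEquivOfSurjective ψ hsurj).toEquiv] at h
    rw [show Nat.card (Equiv.Perm (Fin 4)) = 24 by rw [Nat.card_eq_fintype_card, Fintype.card_perm]; rfl,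
      show Nat.card (Equiv.Perm (Fin 3)) = 6 by rw [Nat.card_eq_fintype_card, Fintype.card_perm]; rfl] at h
    omega
  · have key : ∀ σ : Equiv.Perm (Fin 4),
        (∀ g : Equiv.Perm (Fin 4), σ * (g * (Equiv.swap 0 1 * Equiv.swap 2 3) * g⁻¹) =
          (g * (Equiv.swap 0 1 * Equiv.swap 2 3) * g⁻¹) * σ) →
        σ = 1 ∨ ∃ g : Equiv.Perm (Fin 4), σ = g * (Equiv.swap 0 1 * Equiv.swap 2 3) * g⁻¹ := by decide +kernel
    rcases key σ (fun g => hσ _ (by rw [map_mul, map_mul, hker, mul_one, map_inv, mul_inv_cancel])) with rfl | ⟨g, rfl⟩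
    · exact map_one ψ
    · rw [map_mul, map_mul, hker, mul_one, map_inv, mul_inv_cancel]

theorem nonempty_perm_three_dihedral : Nonempty (Equiv.Perm (Fin 3) ≃* DihedralGroup 3) := by
  haveI : Fact (Nat.Prime 3) := ⟨by norm_num⟩
  refine TwoGroups.nonempty_mulEquiv_dihedralGroup (a := Equiv.swap 0 1 * Equiv.swap 1 2) (b := Equiv.swap 0 1)
    (orderOf_eq_prime (by decide) (by decide)) (by decide) ?_ (by decide) ?_
  · intro h
    obtain ⟨k, hk⟩ := h
    simp only at hk
    have h1 : Equiv.Perm.sign ((Equiv.swap (0 : Fin 3) 1 * Equiv.swap 1 2) ^ k) = 1 := by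
      rw [map_zpow, map_mul, Equiv.Perm.sign_swap (by decide), Equiv.Perm.sign_swap (by decide)]; simp
    rw [hk, Equiv.Perm.sign_swap (by decide)] at h1
    exact absurd h1 (by decide)
  · rw [Nat.card_eq_fintype_card, Fintype.card_perm]; rfl

universe u w

/-- Pull back a section of a quotient of a subgroup. -/
theorem involves_of_section {S : Type w} [Group S] {G : Type u} [Group G] {A : Type*} [Group A] {B : Type*} [Group B]
    (j : A →* G) (hj : Function.Injective j) (f : A →* B) (hf : Function.Surjective f)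
    (h : Cfsg.Involves S B) : Cfsg.Involves S G := by
  obtain ⟨K, R, hn, ⟨e⟩⟩ := h
  refine Fusion.involves_of_surjective (j.comp (K.comap f).subtype) (hj.comp (K.comap f).subtype_injective)
    (e.toMonoidHom.comp ((QuotientGroup.mk' (R.subgroupOf K)).comp (f.subgroupComap K)))
    (e.surjective.comp ((QuotientGroup.mk'_surjective _).comp ?_))
  rintro ⟨b, hb⟩
  obtain ⟨a, rfl⟩ := hf b
  exact ⟨⟨a, hb⟩, rfl⟩

/-- An inverted element of odd prime power order lifts to an inverted element. -/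
theorem exists_inverting_lift {N Q : Type*} [Group N] [Finite N] [Group Q] (q : N →* Q)
    (hq : Function.Surjective q) {p : ℕ} [Fact p.Prime] (hp : p ≠ 2) {xb yb : Q}
    (hy : ∃ j : ℕ, orderOf yb = p ^ j) (hy1 : yb ≠ 1) (hxy : xb * yb * xb⁻¹ = yb⁻¹) :
    ∃ t z : N, (∃ k : ℕ, orderOf t = 2 ^ k) ∧ (∃ j : ℕ, orderOf z = p ^ j) ∧ t * z * t⁻¹ = z⁻¹ ∧ q z ≠ 1 := by
  have hp2 : Nat.Coprime 2 p := (Nat.coprime_primes Nat.prime_two Fact.out).mpr hp.symm
  set Y := zpowers yb with hY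
  set M := Y.comap q with hM
  obtain ⟨x, rfl⟩ := hq xb
  have hYx : ∀ v ∈ Y, q x * v * (q x)⁻¹ = v⁻¹ := by
    rintro _ ⟨l, rfl⟩
    exact CfsgLib.Signalizer.conj_zpow_of_inverts hxy l |>.trans (by rw [zpow_neg])
  have hxM : M.map (MulAut.conj x).toMonoidHom = M := by
    refine Subgroup.eq_of_le_of_card_ge ?_ (card_map_of_injective (MulAut.conj x).injective).ge
    rintro _ ⟨m, hm, rfl⟩
    show q (x * m * x⁻¹) ∈ Y
    rw [map_mul, map_mul, map_inv, hYx _ hm]
    exact Y.inv_mem hm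
  obtain ⟨P⟩ := (inferInstance : Nonempty (Sylow p M))
  have hPG : IsPGroup p ((P : Subgroup M).map M.subtype) := P.2.map _
  set P0 := (P : Subgroup M).map M.subtype with hP0
  have hP0M : P0 ≤ M := map_subtype_le _
  have hP1 : P0.map (MulAut.conj x).toMonoidHom ≤ M := (map_mono hP0M).trans hxM.le
  obtain ⟨P', hP'⟩ := ((hPG.map (MulAut.conj x).toMonoidHom).comap_subtype (K := M)).exists_le_sylow
  have hP'' : (P0.map (MulAut.conj x).toMonoidHom).subgroupOf M = (P' : Subgroup M) := by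
    refine Subgroup.eq_of_le_of_card_ge hP' ?_
    rw [Nat.card_congr (subgroupOfEquivOfLe hP1).toEquiv, card_map_of_injective (MulAut.conj x).injective,
      hP0, card_map_of_injective M.subtype_injective, P.card_eq_multiplicity, P'.card_eq_multiplicity]
  obtain ⟨m, hm⟩ := sylow_conj P' P
  set n : N := (m : N) * x with hn
  have hnN : n ∈ normalizer (P0 : Set N) := by
    rw [mem_normalizer_conj_iff, hn, ← conj_conj]
    have h1 : P0.map (MulAut.conj x).toMonoidHom = (P' : Subgroup M).map M.subtype := by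
      rw [← hP'', map_subgroupOf_eq_of_le hP1]
    rw [h1, hP0, ← hm, map_map, map_map]
    rfl
  have hqn : ∀ v ∈ Y, q n * v * (q n)⁻¹ = v⁻¹ := by
    intro v hv
    rw [hn, map_mul]
    calc q (m : N) * q x * v * (q (m : N) * q x)⁻¹ = q (m : N) * (q x * v * (q x)⁻¹) * (q (m : N))⁻¹ := by group
      _ = _ := by
        rw [hYx v hv]
        obtain ⟨l, hl⟩ := m.2
        obtain ⟨l', rfl⟩ := hv
        simp only at hl ⊢
        rw [← hl]
        group
  have h0 : orderOf n ≠ 0 := (orderOf_pos n).ne'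
  set b := orderOf n / 2 ^ (orderOf n).factorization 2 with hb
  have hbo : Odd b :=
    Nat.not_even_iff_odd.mp (fun h => Nat.not_dvd_ordCompl Nat.prime_two h0 (even_iff_two_dvd.mp h))
  set t := n ^ b with ht
  have hto : orderOf t = 2 ^ (orderOf n).factorization 2 := by
    rw [ht, orderOf_pow' n hbo.pos.ne', Nat.gcd_eq_right (Nat.ordCompl_dvd _ 2)]
    exact Nat.div_div_self (Nat.ordProj_dvd _ 2) h0
  have htN : t ∈ normalizer (P0 : Set N) := pow_mem hnN b
  have hpow : ∀ (l : ℕ) v, v ∈ Y → q n ^ (2 * l) * v * (q n ^ (2 * l))⁻¹ = v ∧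
      q n ^ (2 * l + 1) * v * (q n ^ (2 * l + 1))⁻¹ = v⁻¹ := by
    intro l
    induction l with
    | zero => intro v hv; simp [hqn v hv]
    | succ l ih =>
      intro v hv
      have h1 : q n ^ (2 * (l + 1)) * v * (q n ^ (2 * (l + 1)))⁻¹ = v := by
        rw [show 2 * (l + 1) = 1 + (2 * l + 1) by ring, pow_add, pow_one]
        calc q n * q n ^ (2 * l + 1) * v * (q n * q n ^ (2 * l + 1))⁻¹
            = q n * (q n ^ (2 * l + 1) * v * (q n ^ (2 * l + 1))⁻¹) * (q n)⁻¹ := by group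
          _ = v := by rw [(ih v hv).2, hqn _ (Y.inv_mem hv), inv_inv]
      refine ⟨h1, ?_⟩
      rw [pow_succ', show q n * q n ^ (2 * (l + 1)) * v * (q n * q n ^ (2 * (l + 1)))⁻¹ =
        q n * (q n ^ (2 * (l + 1)) * v * (q n ^ (2 * (l + 1)))⁻¹) * (q n)⁻¹ by group, h1, hqn v hv]
  obtain ⟨c, hc⟩ := id hbo
  have hqt : ∀ v ∈ Y, q t * v * (q t)⁻¹ = v⁻¹ := fun v hv => by
    rw [ht, map_pow, hc]; exact (hpow c v hv).2
  -- a nontrivial image
  have hf : Function.Surjective (q.subgroupComap Y) := by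
    rintro ⟨v, hv⟩
    obtain ⟨a, rfl⟩ := hq v
    exact ⟨⟨a, hv⟩, rfl⟩
  haveI : Finite Q := Finite.of_surjective q hq
  have hYp : IsPGroup p Y := by
    obtain ⟨j, hj⟩ := hy
    exact IsPGroup.of_card (n := j) (by rw [hY, Nat.card_zpowers, hj])
  have htop : (P.mapSurjective hf : Subgroup Y) = ⊤ :=
    ((P.mapSurjective hf).is_maximal' (hYp.to_subgroup ⊤) le_top).symm
  obtain ⟨z₀, hz₀, hz₀y⟩ : (⟨yb, mem_zpowers yb⟩ : Y) ∈ (P.mapSurjective hf : Subgroup Y) :=
    htop ▸ mem_top _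
  have hzq : q (z₀ : N) = yb := congrArg Subtype.val hz₀y
  have hzP : (z₀ : N) ∈ P0 := ⟨z₀, hz₀, rfl⟩
  -- correct it
  set D := P0 ⊓ q.ker with hD
  have hA : zpowers (t ^ 2) ≤ normalizer (D : Set N) := by
    rw [zpowers_le]
    rw [mem_normalizer_conj_iff, hD, map_inf _ _ _ (MulAut.conj _).injective,
      mem_normalizer_conj_iff.mp (pow_mem htN 2),
      mem_normalizer_conj_iff.mp (CfsgLib.Core.le_normalizer_of_normal ⊤ q.ker (mem_top (t ^ 2)))]
  have hcop : (Nat.card (zpowers (t ^ 2))).Coprime (Nat.card D) := by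
    obtain ⟨i, hi⟩ := (hPG.to_le (inf_le_left : D ≤ P0)).exists_card_eq
    rw [hi, Nat.card_zpowers]
    refine Nat.Coprime.pow_right i ?_
    exact (Nat.Coprime.pow_left ((orderOf n).factorization 2) hp2).coprime_dvd_left (hto ▸ orderOf_pow_dvd 2)
  haveI : IsMulCommutative (zpowers (t ^ 2)) := inferInstance
  obtain ⟨d, hd, hdc⟩ := CfsgLib.Core.exists_centralizing_in_coset hA hcop
    (Or.inl inferInstance) (k := (z₀ : N)) (by
      rintro _ ⟨l, rfl⟩
      have h2 : t ^ 2 ∈ normalizer (P0 : Set N) := pow_mem htN 2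
      have h3 : Commute (q (t ^ 2)) yb := by
        have h4 : q (t ^ 2) * yb * (q (t ^ 2))⁻¹ = yb := by
          rw [map_pow, pow_two, show q t * q t * yb * (q t * q t)⁻¹ = q t * (q t * yb * (q t)⁻¹) * (q t)⁻¹ by group,
            hqt _ (mem_zpowers yb), hqt _ (Y.inv_mem (mem_zpowers yb)), inv_inv]
        exact mul_inv_eq_iff_eq_mul.mp h4
      refine Subgroup.mem_inf.mpr ⟨P0.mul_mem (P0.inv_mem hzP)
        ((mem_normalizer_iff.mp (zpow_mem h2 l) _).mp hzP), ?_⟩
      rw [MonoidHom.mem_ker]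
      simp only [map_mul, map_inv, map_zpow, hzq]
      rw [(h3.zpow_left l).eq, mul_inv_cancel_right, inv_mul_cancel])
  set z₁ := (z₀ : N) * d with hz₁
  have hz₁P : z₁ ∈ P0 := P0.mul_mem hzP hd.1
  have hz₁q : q z₁ = yb := by
    have hd2 : q d = 1 := hd.2
    rw [hz₁, map_mul, hzq, hd2, mul_one]
  have hfix : t * t * z₁ * t⁻¹ * t⁻¹ = z₁ := by
    have h5 := mem_centralizer_iff.mp hdc (t ^ 2) (mem_zpowers _)
    rw [pow_two] at h5
    rw [h5]; group
  refine ⟨t, z₁⁻¹ * (t * z₁ * t⁻¹), ⟨_, hto⟩, ?_, ?_, ?_⟩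
  · obtain ⟨j, hj⟩ := IsPGroup.iff_orderOf.mp hPG
      ⟨_, P0.mul_mem (P0.inv_mem hz₁P) ((mem_normalizer_iff.mp htN z₁).mp hz₁P)⟩
    exact ⟨j, by rwa [orderOf_mk] at hj⟩
  · calc t * (z₁⁻¹ * (t * z₁ * t⁻¹)) * t⁻¹ = (t * z₁ * t⁻¹)⁻¹ * (t * t * z₁ * t⁻¹ * t⁻¹) := by group
      _ = (z₁⁻¹ * (t * z₁ * t⁻¹))⁻¹ := by rw [hfix]; group
  · rw [map_mul, map_mul, map_mul, map_inv, map_inv, hz₁q, hqt _ (mem_zpowers yb)]
    intro h
    have h2 : orderOf yb ∣ 2 := by
      refine orderOf_dvd_of_pow_eq_one ?_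
      rw [pow_two, ← inv_eq_one, mul_inv_rev]
      exact h
    obtain ⟨j, hj⟩ := hy
    rw [hj] at h2
    exact hy1 (orderOf_eq_one_iff.mp (hj.trans
      (Nat.eq_one_of_dvd_coprimes (Nat.Coprime.pow_left j hp2.symm) dvd_rfl h2)))

/-- The basic configuration for a section `S₄`. -/
theorem involves_four_of_elementary {X : Type*} [Group X] (T : Subgroup X)
    (hsq : ∀ v ∈ T, v * v = 1) (hcomm : ∀ v ∈ T, ∀ w ∈ T, v * w = w * v) {x y : X}
    (hxN : x ∈ normalizer (T : Set X)) (hyN : y ∈ normalizer (T : Set X))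
    (hx : ∃ k : ℕ, x ^ 2 ^ k = 1) (hxy : x * y * x⁻¹ = y⁻¹)
    (hy3 : ∀ v ∈ T, y ^ 3 * v = v * y ^ 3) (hy : ∃ v ∈ T, y * v ≠ v * y) :
    Cfsg.Involves (Equiv.Perm (Fin 4)) X := by
  have hinv : ∀ v ∈ T, v⁻¹ = v := fun v hv => inv_eq_of_mul_eq_one_right (hsq v hv)
  have hxyinv : x * y⁻¹ * x⁻¹ = y := by rw [← conj_inv, hxy, inv_inv]
  have hyx : y * x = x * y⁻¹ := (mul_inv_eq_iff_eq_mul.mp hxyinv).symm
  have hconj : ∀ v, y * (x * v * x⁻¹) * y⁻¹ = x * (y⁻¹ * v * y) * x⁻¹ := fun v =>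
    calc y * (x * v * x⁻¹) * y⁻¹ = (y * x) * v * (y * x)⁻¹ := by group
      _ = _ := by rw [hyx]; group
  have hxT : ∀ v ∈ T, x * v * x⁻¹ ∈ T := fun v hv => (mem_normalizer_iff.mp hxN v).mp hv
  have hyT : ∀ v ∈ T, y * v * y⁻¹ ∈ T := fun v hv => (mem_normalizer_iff.mp hyN v).mp hv
  -- the elements without fixed points under `y`
  set U : Set X := {w | w ∈ T ∧ w * (y * w * y⁻¹) * (y * (y * w * y⁻¹) * y⁻¹) = 1} with hU
  obtain ⟨w, hwU, hw1⟩ : ∃ w ∈ U, w ≠ 1 := by
    obtain ⟨v, hv, hyv⟩ := hy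
    refine ⟨v⁻¹ * (y * v * y⁻¹), ⟨T.mul_mem (T.inv_mem hv) (hyT v hv), ?_⟩, fun h => hyv ?_⟩
    · have h3 : y * y * y * v * y⁻¹ * y⁻¹ * y⁻¹ = v := by
        rw [← pow_three', hy3 v hv, pow_three']; group
      calc _ = v⁻¹ * (y * y * y * v * y⁻¹ * y⁻¹ * y⁻¹) := by group
        _ = 1 := by rw [h3, inv_mul_cancel]
    · rw [inv_mul_eq_one] at h
      exact mul_inv_eq_iff_eq_mul.mp h.symm
  have hUstep : ∀ w ∈ U, w * (x * w * x⁻¹) ∈ U := by
    intro w hw
    have hxw : x * w * x⁻¹ ∈ U := by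
      refine ⟨hxT w hw.1, ?_⟩
      have h1 := hw.2
      have hy' : ∀ v, v ∈ T → y⁻¹ * v * y = y * (y * v * y⁻¹) * y⁻¹ := by
        intro v hv
        calc y⁻¹ * v * y = y⁻¹ * (v * y ^ 3) * y⁻¹ * y⁻¹ := by rw [pow_three]; group
          _ = _ := by rw [← hy3 v hv, pow_three]; group
      have e1 : y * (x * w * x⁻¹) * y⁻¹ = x * (y * (y * w * y⁻¹) * y⁻¹) * x⁻¹ := by
        rw [← hy' w hw.1]
        exact hconj w
      have e2 : y * (y * (x * w * x⁻¹) * y⁻¹) * y⁻¹ = x * (y * w * y⁻¹) * x⁻¹ := by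
        rw [e1]
        have h4 : y * (y * (y * w * y⁻¹) * y⁻¹) * y⁻¹ = w := by
          calc _ = y ^ 3 * w * (y ^ 3)⁻¹ := by rw [pow_three]; group
            _ = w := by rw [hy3 w hw.1, mul_inv_cancel_right]
        rw [hconj]; group
      rw [e2, e1, show x * w * x⁻¹ * (x * (y * (y * w * y⁻¹) * y⁻¹) * x⁻¹) * (x * (y * w * y⁻¹) * x⁻¹) =
        x * (w * ((y * (y * w * y⁻¹) * y⁻¹) * (y * w * y⁻¹))) * x⁻¹ by group,
        hcomm _ (hyT _ (hyT w hw.1)) _ (hyT w hw.1), ← mul_assoc w, h1, mul_one, mul_inv_cancel]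
    refine ⟨T.mul_mem hw.1 hxw.1, ?_⟩
    have h1 := hw.2
    have h2 := hxw.2
    set a := y * w * y⁻¹ with ha
    set a' := y * (x * w * x⁻¹) * y⁻¹ with ha'
    have e1 : y * (w * (x * w * x⁻¹)) * y⁻¹ = a * a' := by rw [ha, ha']; group
    rw [e1, show y * (a * a') * y⁻¹ = (y * a * y⁻¹) * (y * a' * y⁻¹) by group]
    have haT : a ∈ T := hyT w hw.1
    have ha'T : a' ∈ T := hyT _ hxw.1
    calc w * (x * w * x⁻¹) * (a * a') * (y * a * y⁻¹ * (y * a' * y⁻¹))
        = w * ((x * w * x⁻¹) * a) * a' * (y * a * y⁻¹) * (y * a' * y⁻¹) := by group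
      _ = w * a * (x * w * x⁻¹) * (a' * (y * a * y⁻¹)) * (y * a' * y⁻¹) := by
          rw [hcomm _ hxw.1 a haT]; group
      _ = w * a * ((x * w * x⁻¹) * (y * a * y⁻¹)) * a' * (y * a' * y⁻¹) := by
          rw [hcomm a' ha'T _ (hyT a haT)]; group
      _ = (w * a * (y * a * y⁻¹)) * ((x * w * x⁻¹) * a' * (y * a' * y⁻¹)) := by
          rw [hcomm _ hxw.1 _ (hyT a haT)]; group
      _ = 1 := by rw [h1, h2, mul_one]
  -- a fixed point of `x`
  set F : X → X := fun w => w * (x * w * x⁻¹) with hF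
  have hFU : ∀ l, F^[l] w ∈ U := by
    intro l
    induction l with
    | zero => exact hwU
    | succ l ih => rw [Function.iterate_succ_apply']; exact hUstep _ ih
  have hpowF : ∀ i, ∀ v ∈ T, F^[2 ^ i] v = v * (x ^ 2 ^ i * v * (x ^ 2 ^ i)⁻¹) := by
    intro i
    induction i with
    | zero => intro v _; simp [hF]
    | succ i ih =>
      intro v hv
      set X' := x ^ 2 ^ i with hX'
      have hX'T : ∀ u ∈ T, X' * u * X'⁻¹ ∈ T := fun u hu => (mem_normalizer_iff.mp (pow_mem hxN _) u).mp hu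
      have h2 : (2 : ℕ) ^ (i + 1) = 2 ^ i + 2 ^ i := by ring
      rw [h2, Function.iterate_add_apply, ih v hv, ih _ (T.mul_mem hv (hX'T v hv)), pow_add, ← hX']
      calc v * (X' * v * X'⁻¹) * (X' * (v * (X' * v * X'⁻¹)) * X'⁻¹)
          = v * ((X' * v * X'⁻¹) * (X' * v * X'⁻¹)) * (X' * X' * v * (X' * X')⁻¹) := by group
        _ = v * (X' * X' * v * (X' * X')⁻¹) := by rw [hsq _ (hX'T v hv), mul_one]
  obtain ⟨u, hu, hu1, hux⟩ : ∃ u ∈ U, u ≠ 1 ∧ x * u * x⁻¹ = u := by
    obtain ⟨k, hk⟩ := hx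
    by_contra hcon
    push Not at hcon
    have : ∀ l, F^[l] w ≠ 1 := by
      intro l
      induction l with
      | zero => exact hw1
      | succ l ih =>
        rw [Function.iterate_succ_apply']
        intro h
        refine hcon _ (hFU l) ih ?_
        have h' := eq_inv_of_mul_eq_one_right h
        rw [h', hinv _ (hFU l).1]
    apply this (2 ^ k)
    rw [hpowF k w hwU.1, hk]
    simp [hsq w hwU.1]
  set u' := y * u * y⁻¹ with hu'
  have huT : u ∈ T := hu.1
  have hu'T : u' ∈ T := hyT u huT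
  have hne : u' ≠ u := by
    intro h
    have h1 := hu.2
    rw [← hu', h, ← hu', h, hsq u huT, one_mul] at h1
    exact hu1 h1
  have hyu' : y * u' * y⁻¹ = u * u' := by
    have h1 := hu.2
    rw [← hu'] at h1
    rw [eq_inv_of_mul_eq_one_right h1, hinv _ (T.mul_mem huT hu'T)]
  have hxu : x * u = u * x := mul_inv_eq_iff_eq_mul.mp hux
  have hxu' : x * u' * x⁻¹ = u * u' := by
    calc x * u' * x⁻¹ = (x * y * x⁻¹) * (x * u * x⁻¹) * (x * y * x⁻¹)⁻¹ := by rw [hu']; group
      _ = y⁻¹ * u * y := by rw [hxy, hux, inv_inv]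
      _ = y⁻¹ * (u * y ^ 3) * y⁻¹ * y⁻¹ := by rw [pow_three]; group
      _ = y * u' * y⁻¹ := by rw [← hy3 u huT, hu', pow_three]; group
      _ = _ := hyu'
  have hx2y : Commute (x * x) y := by
    show x * x * y = y * (x * x)
    calc x * x * y = x * (x * y * x⁻¹) * x⁻¹ * (x * x) := by group
      _ = _ := by rw [hxy, hxyinv]
  have hx2u : Commute (x * x) u := (show Commute x u from hxu).mul_left hxu
  have hy3u : Commute (y ^ 3) u := hy3 u huT
  -- the section
  set K := Subgroup.closure ({u, x, y} : Set X) with hK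
  set R := Subgroup.closure ({x * x, y ^ 3} : Set X) with hR
  have huK : u ∈ K := subset_closure (by simp)
  have hxK : x ∈ K := subset_closure (by simp)
  have hyK : y ∈ K := subset_closure (by simp)
  have hxxR : x * x ∈ R := subset_closure (by simp)
  have hy3R : y ^ 3 ∈ R := subset_closure (by simp)
  have hRy : R ≤ centralizer ({y} : Set X) := by
    rw [hR, closure_le]
    rintro g (rfl | rfl)
    · exact mem_centralizer_singleton_iff.mpr hx2y.eq
    · exact mem_centralizer_singleton_iff.mpr ((Commute.refl y).pow_left 3).eq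
  have huR : u ∉ R := by
    intro h
    apply hne
    rw [hu', ← (mem_centralizer_singleton_iff.mp (hRy h)), mul_inv_cancel_right]
  have hKN : K ≤ normalizer (R : Set X) := by
    rw [hK, closure_le]
    intro g hg
    rw [SetLike.mem_coe, mem_normalizer_conj_iff, hR, MonoidHom.map_closure, Set.image_pair]
    rcases hg with h | h | h <;> rw [h]
    · congr 1
      show ({u * (x * x) * u⁻¹, u * y ^ 3 * u⁻¹} : Set X) = _
      rw [← hx2u.eq, ← hy3u.eq, mul_inv_cancel_right, mul_inv_cancel_right]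
    · refine le_antisymm ?_ ?_ <;> rw [closure_le] <;> rintro g (rfl | rfl)
      · show x * (x * x) * x⁻¹ ∈ _
        rw [show x * (x * x) * x⁻¹ = x * x by group]; exact hxxR
      · show x * y ^ 3 * x⁻¹ ∈ _
        rw [← conj_pow, hxy, inv_pow]; exact R.inv_mem hy3R
      · refine subset_closure (Or.inl ?_)
        show x * x = x * (x * x) * x⁻¹
        group
      · refine (inv_mem_iff).mp (subset_closure (Or.inr ?_))
        show (y ^ 3)⁻¹ = x * y ^ 3 * x⁻¹
        rw [← conj_pow, hxy, inv_pow]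
    · congr 1
      show ({y * (x * x) * y⁻¹, y * y ^ 3 * y⁻¹} : Set X) = _
      rw [← hx2y.eq, mul_inv_cancel_right, (show Commute y (y ^ 3) from (Commute.refl y).pow_right 3).eq,
        mul_inv_cancel_right]
  haveI hn : (R.subgroupOf K).Normal := normal_subgroupOf_of_le_normalizer hKN
  refine ⟨K, R, hn, ?_⟩
  set q := QuotientGroup.mk' (R.subgroupOf K) with hq
  have hone : ∀ g : K, (g : X) ∈ R → q g = 1 := fun g hg => (QuotientGroup.eq_one_iff g).mpr (mem_subgroupOf.mpr hg)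
  have heq : ∀ g g' : K, (g : X) = g' → q g = q g' := fun g g' h => congrArg q (Subtype.ext h)
  set a := q ⟨x, hxK⟩ with ha
  set e := q ⟨y, hyK⟩ with he
  set v := q ⟨u, huK⟩ with hv
  have haa : a * a = 1 := by rw [ha, ← map_mul]; exact hone _ hxxR
  have hee : e * e * e = 1 := by
    rw [he, ← map_mul, ← map_mul]
    refine hone _ ?_
    show y * y * y ∈ R
    rw [← pow_three']; exact hy3R
  have hvv : v * v = 1 := by
    rw [hv, ← map_mul]
    refine hone _ ?_
    show u * u ∈ R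
    rw [hsq u huT]; exact R.one_mem
  have hav : a * v = v * a := by rw [ha, hv, ← map_mul, ← map_mul]; exact heq _ _ hxu
  have hae : a * e * a⁻¹ = e⁻¹ := by
    rw [ha, he, ← map_inv, ← map_mul, ← map_mul, ← map_inv]; exact heq _ _ hxy
  have heve : e * (e * v * e⁻¹) * e⁻¹ = v * (e * v * e⁻¹) := by
    simp only [he, hv, ← map_inv, ← map_mul]; exact heq _ _ hyu'
  have have' : a * (e * v * e⁻¹) * a⁻¹ = v * (e * v * e⁻¹) := by
    simp only [ha, he, hv, ← map_inv, ← map_mul]; exact heq _ _ hxu'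
  have hainv : a⁻¹ = a := inv_eq_of_mul_eq_one_right haa
  have heinv : e⁻¹ = e * e := inv_eq_of_mul_eq_one_left (by rw [hee])
  have hea : e * a = a * e⁻¹ := by
    rw [← hae]; nth_rewrite 1 [hainv]
    calc e * a = a * a * e * a := by rw [haa, one_mul]
      _ = a * (a * e * a) := by group
  -- the three involutions
  have hbb : a * e * (a * e) = 1 := by
    calc a * e * (a * e) = a * (e * a) * e := by group
      _ = 1 := by rw [hea, ← mul_assoc, haa, one_mul, inv_mul_cancel]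
  have hcc : a * v * (a * v) = 1 := by
    calc a * v * (a * v) = a * (v * a) * v := by group
      _ = 1 := by rw [← hav, ← mul_assoc, haa, one_mul, hvv]
  have hac : a * (a * v) = a * v * a := by
    calc a * (a * v) = (a * a) * v := by group
      _ = v * (a * a) := by rw [haa, one_mul, mul_one]
      _ = (v * a) * a := by group
      _ = _ := by rw [← hav]
  have hab : a * (a * e) * a = a * e * a * (a * e) := by
    calc a * (a * e) * a = (a * a) * (e * a) := by group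
      _ = a * e⁻¹ := by rw [haa, one_mul, hea]
      _ = a * (e * e) := by rw [heinv]
      _ = a * e * (a * a) * e := by rw [haa]; group
      _ = _ := by group
  have hbc : a * e * (a * v) * (a * e) = a * v * (a * e) * (a * v) := by
    set v' := e * v * e⁻¹ with hv'
    have h1 : a * e * (a * v) * (a * e) = a * v' * (e * e) := by
      calc a * e * (a * v) * (a * e) = a * e * ((a * v) * a) * e := by group
        _ = a * e * v * e := by rw [← hac, ← mul_assoc a a v, haa, one_mul]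
        _ = a * v' * (e * e) := by rw [hv']; group
    have h2 : a * v * (a * e) * (a * v) = v * v' * (a * e⁻¹) := by
      calc a * v * (a * e) * (a * v) = (a * v) * a * (e * a) * v := by group
        _ = v * (e * a) * v := by rw [← hac, ← mul_assoc a a v, haa, one_mul]
        _ = v * e * (a * v) := by group
        _ = v * v' * (e * a) := by rw [hav, hv']; group
        _ = _ := by rw [hea]
    rw [h1, h2, ← heinv]
    calc a * v' * e⁻¹ = (a * v' * a⁻¹) * (a * e⁻¹) := by group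
      _ = v * v' * (a * e⁻¹) := by rw [have']
  obtain ⟨φ, hφ1, hφ2, hφ3⟩ := ThreeTrans.exists_hom_perm_four haa hbb hcc hac hab hbc
  have hinj : Function.Injective φ := by
    refine ThreeTrans.injective_of_perm_four φ ?_
    rw [map_mul, hφ1, hφ3, ← mul_assoc, haa, one_mul]
    intro h
    exact huR (mem_subgroupOf.mp ((QuotientGroup.eq_one_iff _).mp h))
  have hsurj : Function.Surjective φ := by
    rw [← MonoidHom.range_eq_top, eq_top_iff]
    rintro g -
    obtain ⟨⟨g, hg⟩, rfl⟩ := QuotientGroup.mk'_surjective (R.subgroupOf K) g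
    have hle : K ≤ (φ.range.comap q).map K.subtype := by
      refine (closure_le _).mpr ?_
      rintro g (h | h | h) <;> rw [h]
      · refine ⟨⟨u, huK⟩, ⟨Equiv.swap 0 1 * Equiv.swap 2 3, ?_⟩, rfl⟩
        rw [map_mul, hφ1, hφ3, ← mul_assoc, haa, one_mul]
      · exact ⟨⟨x, hxK⟩, ⟨_, hφ1⟩, rfl⟩
      · refine ⟨⟨y, hyK⟩, ⟨Equiv.swap 0 1 * Equiv.swap 1 2, ?_⟩, rfl⟩
        rw [map_mul, hφ1, hφ2, ← mul_assoc, haa, one_mul]
    obtain ⟨g', hg', hgg⟩ := hle hg
    rw [show (⟨g, hg⟩ : K) = g' from Subtype.ext hgg.symm]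
    exact hg'
  exact ⟨(MulEquiv.ofBijective φ ⟨hinj, hsurj⟩).symm⟩

end CfsgLib.LocalEven
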