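import Cfsg.Agent.Lib.LocalEven.FrakHMinBase
import Cfsg.Agent.Lib.LocalEven.WeaklyClosed
import Cfsg.Agent.Lib.Transfer.Conj

/-!
# Minimal subgroups `L` of `H ∈ ℌ` with `Y ≰ O_p(L)`

* `MinData`: the hypotheses; `sup_eq`, `exists_gen`, `le_normalizer_of_lt`, `conj_sup_eq`, `hasCharP_L`,
  `eq_of_not_central`, `inf_le_core`
-/

set_option autoImplicit false
set_option linter.all false

namespace CfsgLib.LocalEven

open Subgroup
open scoped commutatorElement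

variable {G : Type*} [Group G] [Finite G] {p : ℕ} [Fact p.Prime]

structure MinData (p : ℕ) (Y O H L : Subgroup G) : Prop where
  yo : Y ≤ O
  oy : O ≤ centralizer (Y : Set G)
  op : IsPGroup p O
  oh : O ≤ H
  hc : CfsgLib.LocalEvenB.HasCharP p H
  hy : ¬ Y ≤ Cfsg.pCoreOf p H
  hmin : ∀ P : Subgroup G, O ≤ P → P < H → Y ≤ Cfsg.pCoreOf p P
  un : Cfsg.pCoreOf p H ≤ normalizer (Y : Set G)
  wc : ∀ R : Subgroup G, IsPGroup p R → O ≤ R → ∀ g : G, O.map (MulAut.conj g).toMonoidHom ≤ R →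
    O.map (MulAut.conj g).toMonoidHom = O
  no : normalizer (O : Set G) ≤ normalizer (Y : Set G)
  asym : ¬ Cfsg.IsSymmetricIn Y
  lh : L ≤ H
  yl : Y ≤ L
  nle : ¬ Y ≤ Cfsg.pCoreOf p L
  lmin : ∀ L' : Subgroup G, L' ≤ L → Y ≤ L' → ¬ Y ≤ Cfsg.pCoreOf p L' → L' = L

namespace MinData

variable {Y O H L : Subgroup G} (d : MinData p Y O H L)
include d

theorem yp : IsPGroup p Y := d.op.to_le d.yo

theorem ycomm {a b : G} (ha : a ∈ Y) (hb : b ∈ Y) : a * b = b * a :=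
  mem_centralizer_iff.1 (d.oy (d.yo hb)) a ha

theorem hn_core {h : G} (hh : h ∈ H) : h ∈ normalizer (Cfsg.pCoreOf p H : Set G) :=
  CfsgLib.LocalEvenB.le_normalizer_pCoreOf H hh

theorem sup_eq : L ⊔ O = H := by
  by_contra hne
  refine d.nle (le_trans (le_inf d.yl (d.hmin _ le_sup_right (lt_of_le_of_ne (sup_le d.lh d.oh) hne))) ?_)
  exact CfsgLib.LocalEvenB.le_pCoreOf inf_le_left ((CfsgLib.LocalEvenB.isPGroup_pCoreOf _).to_le inf_le_right)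
    ((le_inf le_normalizer (le_sup_left.trans (CfsgLib.LocalEvenB.le_normalizer_pCoreOf _))).trans
      inf_normalizer_le_normalizer_inf)

theorem le_core_of_lt {X : Subgroup G} (hYX : Y ≤ X) (hX : X < L) : Y ≤ Cfsg.pCoreOf p X :=
  by_contra fun h => hX.ne (d.lmin X hX.le hYX h)

theorem exists_gen : ∃ g ∈ L, Y ⊔ Y.map (MulAut.conj g).toMonoidHom = L := by
  obtain ⟨g, hg, hnp⟩ := exists_conj_not_pGroup d.yp d.yl d.nle
  refine ⟨g, hg, by_contra fun hne => hnp ?_⟩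
  obtain ⟨X, hX⟩ : ∃ X, X = Y ⊔ Y.map (MulAut.conj g).toMonoidHom := ⟨_, rfl⟩
  rw [← hX] at hne ⊢
  have hXL : X ≤ L := hX ▸ sup_le d.yl (by
    rintro _ ⟨y, hy, rfl⟩
    exact mul_mem (mul_mem hg (d.yl hy)) (inv_mem hg))
  have hY := d.le_core_of_lt (hX ▸ le_sup_left : Y ≤ X) (lt_of_le_of_ne hXL hne)
  have hYg : Y.map (MulAut.conj g).toMonoidHom ≤ X := hX ▸ le_sup_right
  have hp := (CfsgLib.LocalEvenB.isPGroup_pCoreOf (p := p) X).to_sup_of_normal_left' (d.yp.map (MulAut.conj g).toMonoidHom)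
    (hYg.trans (CfsgLib.LocalEvenB.le_normalizer_pCoreOf X))
  exact hp.to_le (by
    conv_lhs => rw [hX]
    exact sup_le_sup_right hY _)

theorem commute_of_mutual {x : G} (h1 : Y.map (MulAut.conj x).toMonoidHom ≤ normalizer (Y : Set G))
    (h2 : Y ≤ normalizer (Y.map (MulAut.conj x).toMonoidHom : Set G)) :
    Y.map (MulAut.conj x).toMonoidHom ≤ centralizer (Y : Set G) := by
  by_contra hne
  refine d.asym ⟨x, fun h => hne ?_, le_inf (le_normalizer_iff_commutator_le_left.1 h1)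
    (le_normalizer_iff_commutator_le_right.1 h2)⟩
  exact commutator_eq_bot_iff_le_centralizer.1 (by rw [commutator_comm]; exact h)

/-- the generating data -/
theorem inter_le {g : G} (hg : Y ⊔ Y.map (MulAut.conj g).toMonoidHom = L) (hgL : g ∈ L) {e : G}
    (he : e ∈ Y.map (MulAut.conj g).toMonoidHom) (hc : e ∈ centralizer (Y : Set G)) : e ∈ Y := by
  have hL : L ≤ centralizer ({e} : Set G) := hg.ge.trans (sup_le
    (fun y hy => mem_centralizer_singleton_iff.2 (mem_centralizer_iff.1 hc y hy))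
    (by
      rintro _ ⟨y, hy, rfl⟩
      obtain ⟨y', hy', rfl⟩ := he
      rw [mem_centralizer_singleton_iff, ← map_mul, ← map_mul, d.ycomm hy hy']))
  have hge := mem_centralizer_singleton_iff.1 (hL hgL)
  obtain ⟨y, hy, rfl⟩ := he
  have : g * y * g⁻¹ = y := by
    have h' : g * (g * y * g⁻¹) = g * y * g⁻¹ * g := hge
    rw [inv_mul_cancel_right] at h'
    exact mul_left_cancel h'
  show g * y * g⁻¹ ∈ Y
  rw [this]; exact hy

/-- `(Y ∩ U)(Y ∩ U)^g` -/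
theorem closure_core : ∃ B : Subgroup G, L ≤ normalizer (B : Set G) ∧
    (∀ x ∈ L, ∀ u ∈ Cfsg.pCoreOf p H, x * u * x⁻¹ * u⁻¹ ∈ B) ∧
    B ≤ Cfsg.pCoreOf p H ⊓ L ∧ Y ⊓ Cfsg.pCoreOf p H ≤ B ∧
    (B ⊓ centralizer (Y : Set G) ≤ Y ⊓ Cfsg.pCoreOf p H) ∧
    (∀ u ∈ Cfsg.pCoreOf p H, u ∈ centralizer (Y : Set G) →
      ∃ b ∈ Y ⊓ Cfsg.pCoreOf p H, b * u ∈ centralizer (L : Set G)) := by
  obtain ⟨g, hgL, hg⟩ := d.exists_gen
  obtain ⟨U, hU⟩ : ∃ U, U = Cfsg.pCoreOf p H := ⟨_, rfl⟩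
  rw [← hU]
  obtain ⟨Y2, hY2⟩ : ∃ Y2, Y2 = Y.map (MulAut.conj g).toMonoidHom := ⟨_, rfl⟩
  have hgU : g ∈ normalizer (U : Set G) := hU ▸ d.hn_core (d.lh hgL)
  have hUY : U ≤ normalizer (Y : Set G) := hU ▸ d.un
  have hY2m : ∀ {e : G}, e ∈ Y2 ↔ g⁻¹ * e * g ∈ Y := fun {e} => by
    rw [hY2]
    exact ⟨by rintro ⟨y, hy, rfl⟩; simpa [mul_assoc] using hy, fun h => ⟨_, h, by simp [mul_assoc]⟩⟩
  have hUY2 : U ≤ normalizer (Y2 : Set G) := by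
    intro u hu
    refine mem_normalizer_iff.2 fun e => ?_
    have hu' : g⁻¹ * u * g ∈ normalizer (Y : Set G) := hUY ((mem_normalizer_iff''.1 hgU u).1 hu)
    rw [hY2m, hY2m, mem_normalizer_iff.1 hu' (g⁻¹ * e * g)]
    rw [show g⁻¹ * u * g * (g⁻¹ * e * g) * (g⁻¹ * u * g)⁻¹ = g⁻¹ * (u * e * u⁻¹) * g by group]
  have hY2L : Y2 ≤ L := hY2 ▸ le_sup_right.trans hg.le
  have hn : ∀ {y : G}, y ∈ L → y ∈ normalizer (U : Set G) := fun hy => hU ▸ d.hn_core (d.lh hy)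
  obtain ⟨B, hB⟩ : ∃ B, B = (Y ⊓ U) ⊔ (Y2 ⊓ U) := ⟨_, rfl⟩
  have hBU : B ≤ U := hB ▸ sup_le inf_le_right inf_le_right
  have hc1 : ∀ y ∈ Y, ∀ u ∈ U, y * u * y⁻¹ * u⁻¹ ∈ Y ⊓ U := fun y hy u hu => mem_inf.2 ⟨by
      rw [show y * u * y⁻¹ * u⁻¹ = y * (u * y⁻¹ * u⁻¹) by group]
      exact mul_mem hy ((mem_normalizer_iff.1 (hUY hu) _).1 (inv_mem hy)),
    mul_mem ((mem_normalizer_iff.1 (hn (d.yl hy)) u).1 hu) (inv_mem hu)⟩
  have hc2 : ∀ y ∈ Y2, ∀ u ∈ U, y * u * y⁻¹ * u⁻¹ ∈ Y2 ⊓ U := fun y hy u hu => mem_inf.2 ⟨by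
      rw [show y * u * y⁻¹ * u⁻¹ = y * (u * y⁻¹ * u⁻¹) by group]
      exact mul_mem hy ((mem_normalizer_iff.1 (hUY2 hu) _).1 (inv_mem hy)),
    mul_mem ((mem_normalizer_iff.1 (hn (hY2L hy)) u).1 hu) (inv_mem hu)⟩
  have hBY : ∀ y ∈ L, (∀ b ∈ B, y * b * y⁻¹ * b⁻¹ ∈ B) → ∀ b ∈ B, y * b * y⁻¹ ∈ B := fun y _ h b hb => by
    have := mul_mem (h b hb) hb
    rwa [inv_mul_cancel_right] at this
  have hLB : L ≤ normalizer (B : Set G) := hg.ge.trans (sup_le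
    (le_normalizer_iff.2 fun y hy => hBY y (d.yl hy) fun b hb => hB ▸ mem_sup_left (hc1 y hy b (hBU hb)))
    (hY2 ▸ le_normalizer_iff.2 fun y hy => hBY y (hY2L hy) fun b hb => hB ▸ mem_sup_right (hc2 y hy b (hBU hb))))
  let K : Subgroup G :=
    { carrier := {x | x ∈ normalizer (B : Set G) ∧ ∀ u ∈ U, x * u * x⁻¹ * u⁻¹ ∈ B}
      one_mem' := ⟨one_mem _, fun u _ => by simp⟩
      mul_mem' := fun {x y} hx hy => ⟨mul_mem hx.1 hy.1, fun u hu => by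
        rw [show x * y * u * (x * y)⁻¹ * u⁻¹ = x * (y * u * y⁻¹ * u⁻¹) * x⁻¹ * (x * u * x⁻¹ * u⁻¹) by group]
        exact mul_mem ((mem_normalizer_iff.1 hx.1 _).1 (hy.2 u hu)) (hx.2 u hu)⟩
      inv_mem' := fun {x} hx => ⟨inv_mem hx.1, fun u hu => by
        rw [show x⁻¹ * u * x⁻¹⁻¹ * u⁻¹ = x⁻¹ * (x * u * x⁻¹ * u⁻¹)⁻¹ * x by group]
        exact (mem_normalizer_iff''.1 hx.1 _).1 (inv_mem (hx.2 u hu))⟩ }
  have hLK : L ≤ K := hg.ge.trans (sup_le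
    (fun y hy => ⟨hLB (d.yl hy), fun u hu => hB ▸ mem_sup_left (hc1 y hy u hu)⟩)
    (hY2 ▸ fun y hy => ⟨hLB (hY2L hy), fun u hu => hB ▸ mem_sup_right (hc2 y hy u hu)⟩))
  have hmul : ∀ c ∈ B, ∃ b2 ∈ Y2 ⊓ U, ∃ b1 ∈ Y ⊓ U, c = b2 * b1 := by
    intro c hc
    have hnn : Y2 ⊓ U ≤ normalizer ((Y ⊓ U : Subgroup G) : Set G) :=
      (le_inf (inf_le_right.trans hUY) (inf_le_right.trans le_normalizer)).trans inf_normalizer_le_normalizer_inf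
    rw [hB, sup_comm, ← SetLike.mem_coe, coe_mul_of_left_le_normalizer_right _ _ hnn] at hc
    obtain ⟨b2, hb2, b1, hb1, rfl⟩ := Set.mem_mul.1 hc
    exact ⟨b2, hb2, b1, hb1, rfl⟩
  refine ⟨B, hLB, fun x hx => (hLK hx).2, le_inf hBU (hB ▸ sup_le (inf_le_left.trans d.yl) (inf_le_left.trans hY2L)),
    hB ▸ le_sup_left, ?_, ?_⟩
  · rintro c ⟨hc, hcC⟩
    obtain ⟨b2, hb2, b1, hb1, rfl⟩ := hmul c hc
    have h2 : b2 ∈ centralizer (Y : Set G) := by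
      have := mul_mem hcC (inv_mem (d.oy (d.yo hb1.1)) : b1⁻¹ ∈ centralizer (Y : Set G))
      rwa [mul_inv_cancel_right] at this
    exact mul_mem (mem_inf.2 ⟨d.inter_le hg hgL (hY2 ▸ hb2.1) h2, hb2.2⟩) hb1
  · intro u hu huC
    obtain ⟨b2, hb2, b1, hb1, hc⟩ := hmul _ ((hLK hgL).2 u hu)
    have hbu : b1 * u = b2⁻¹ * (g * u * g⁻¹) := by
      rw [show g * u * g⁻¹ = g * u * g⁻¹ * u⁻¹ * u by group, hc]; group
    refine ⟨b1, hb1, le_centralizer_iff.1 (hg.ge.trans (sup_le ?_ ?_)) (mem_zpowers _)⟩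
    · exact le_centralizer_iff.1 (zpowers_le.2 (mul_mem (d.oy (d.yo hb1.1)) huC))
    · rw [le_centralizer_iff, zpowers_le, hbu]
      have hY2c : ∀ e ∈ Y, ∀ e' ∈ Y, (MulAut.conj g) e * (MulAut.conj g) e' = (MulAut.conj g) e' * (MulAut.conj g) e :=
        fun e he e' he' => by rw [← map_mul, ← map_mul, d.ycomm he he']
      refine mul_mem (inv_mem ?_) (mem_centralizer_iff.2 ?_)
      · obtain ⟨e, he, rfl⟩ := (hY2 ▸ hb2.1 : b2 ∈ Y.map (MulAut.conj g).toMonoidHom)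
        refine mem_centralizer_iff.2 ?_
        rintro _ ⟨e', he', rfl⟩
        exact hY2c e' he' e he
      · rintro _ ⟨e, he, rfl⟩
        show g * e * g⁻¹ * (g * u * g⁻¹) = g * u * g⁻¹ * (g * e * g⁻¹)
        calc _ = g * (e * u) * g⁻¹ := by group
          _ = g * (u * e) * g⁻¹ := by rw [mem_centralizer_iff.1 huC e he]
          _ = _ := by group

/-- the key step: the stabilizer of `Y ∩ U` in `L` normalizes `Y` -/
theorem mem_normalizer_of_core {a : G} (ha : a ∈ L)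
    (ha1 : a ∈ normalizer ((Y ⊓ Cfsg.pCoreOf p H : Subgroup G) : Set G)) : a ∈ normalizer (Y : Set G) := by
  obtain ⟨B, hLB, hcomm, hBUL, hY1B, hBC, hsplit⟩ := d.closure_core
  obtain ⟨U, hU⟩ : ∃ U, U = Cfsg.pCoreOf p H := ⟨_, rfl⟩
  rw [← hU] at hcomm hBUL hY1B hBC hsplit ha1
  obtain ⟨Z, hZ⟩ : ∃ Z, Z = Y ⊓ U := ⟨_, rfl⟩
  rw [← hZ] at hY1B hBC hsplit ha1
  obtain ⟨E, hE⟩ : ∃ E, E = U ⊓ centralizer (Y : Set G) := ⟨_, rfl⟩
  have hZY : Z ≤ Y := hZ ▸ inf_le_left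
  have hZU : Z ≤ U := hZ ▸ inf_le_right
  have hZE : Z ≤ E := hE ▸ le_inf hZU (hZY.trans (d.yo.trans d.oy))
  have hEU : E ≤ U := hE ▸ inf_le_left
  have hoU : ∀ o ∈ O, o ∈ normalizer (U : Set G) := fun o ho => hU ▸ d.hn_core (d.oh ho)
  have hoY : ∀ o ∈ O, o ∈ normalizer (Y : Set G) := fun o ho => centralizer_le_normalizer _ (d.oy ho)
  have hoZ : ∀ o ∈ O, ∀ z ∈ Z, o * z * o⁻¹ = z := fun o ho z hz => by
    rw [← mem_centralizer_iff.1 (d.oy ho) z (hZY hz), mul_inv_cancel_right]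
  have hoZn : ∀ o ∈ O, o ∈ normalizer (Z : Set G) := fun o ho =>
    hZ ▸ inf_normalizer_le_normalizer_inf ⟨hoY o ho, hoU o ho⟩
  have hoE : ∀ o ∈ O, o ∈ normalizer (E : Set G) := fun o ho => hE ▸
    inf_normalizer_le_normalizer_inf ⟨hoU o ho, le_normalizer_centralizer (hoY o ho)⟩
  -- `O` centralizes `U / E`
  have hoUE : ∀ o ∈ O, ∀ u ∈ U, o * u * o⁻¹ * u⁻¹ ∈ E := fun o ho u hu => hE ▸ mem_inf.2
    ⟨mul_mem ((mem_normalizer_iff.1 (hoU o ho) u).1 hu) (inv_mem hu), mem_centralizer_iff.2 fun y hy => by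
      have h1 : u⁻¹ * y * u ∈ Y := (mem_normalizer_iff''.1 (hU.le.trans d.un hu) y).1 hy
      have h2 : o * (u⁻¹ * y * u) * o⁻¹ = u⁻¹ * y * u := by
        rw [← mem_centralizer_iff.1 (d.oy ho) _ h1, mul_inv_cancel_right]
      have h3 : o⁻¹ * y * o = y := by rw [mul_assoc, mem_centralizer_iff.1 (d.oy ho) y hy, inv_mul_cancel_left]
      calc y * (o * u * o⁻¹ * u⁻¹) = o * u * (u⁻¹ * (o⁻¹ * y * o) * u) * o⁻¹ * u⁻¹ := by group
        _ = o * u * (u⁻¹ * y * u) * o⁻¹ * u⁻¹ := by rw [h3]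
        _ = o * u * o⁻¹ * (o * (u⁻¹ * y * u) * o⁻¹) * u⁻¹ := by group
        _ = _ := by rw [h2]; group⟩
  -- `a` centralizes `E / Z`
  have haE : ∀ x ∈ L, x ∈ normalizer (Z : Set G) → ∀ e ∈ E, x * e * x⁻¹ * e⁻¹ ∈ Z := by
    intro x hx hxZ e he
    rw [hE] at he
    obtain ⟨b, hb, hbe⟩ := hsplit e he.1 he.2
    rw [show x * e * x⁻¹ * e⁻¹ = (x * b⁻¹ * x⁻¹) * (x * (b * e) * x⁻¹) * (b * e)⁻¹ * b by group,
      mem_centralizer_iff.1 hbe x hx, mul_inv_cancel_right]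
    rw [show (x * b⁻¹ * x⁻¹) * (b * e) * (b * e)⁻¹ * b = (x * b⁻¹ * x⁻¹) * b by group]
    exact mul_mem ((mem_normalizer_iff.1 hxZ _).1 (inv_mem hb)) hb
  have haEn : ∀ x ∈ L, x ∈ normalizer (Z : Set G) → ∀ e ∈ E, x * e * x⁻¹ ∈ E := fun x hx hxZ e he => by
    have := mul_mem (hZE (haE x hx hxZ e he)) he
    rwa [inv_mul_cancel_right] at this
  obtain ⟨F, hF⟩ : ∃ F, F = stab H Z E U hZE := ⟨_, rfl⟩
  have hcm : ∀ o ∈ O, a * o * a⁻¹ * o⁻¹ ∈ F := by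
    intro o ho
    rw [hF]
    refine ⟨mul_mem (mul_mem (mul_mem (d.lh ha) (d.oh ho)) (inv_mem (d.lh ha))) (inv_mem (d.oh ho)),
      fun z hz => ?_, fun e he => ?_, fun u hu => ?_⟩
    · have h1 := hoZ o⁻¹ (inv_mem ho) z hz
      have h2 : a⁻¹ * z * a ∈ Z := (mem_normalizer_iff''.1 ha1 z).1 hz
      calc a * o * a⁻¹ * o⁻¹ * z * (a * o * a⁻¹ * o⁻¹)⁻¹
          = a * (o * (a⁻¹ * (o⁻¹ * z * o⁻¹⁻¹) * a) * o⁻¹) * a⁻¹ := by group
        _ = _ := by rw [h1, hoZ o ho _ h2]; group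
    · obtain ⟨f, hf⟩ : ∃ f, f = o⁻¹ * e * o := ⟨_, rfl⟩
      have hfE : f ∈ E := hf ▸ (mem_normalizer_iff''.1 (hoE o ho) e).1 he
      obtain ⟨z, hz⟩ : ∃ z, z = a⁻¹ * f * a⁻¹⁻¹ * f⁻¹ := ⟨_, rfl⟩
      have hzZ : z ∈ Z := hz ▸ haE a⁻¹ (inv_mem ha) (inv_mem ha1) f hfE
      have key : a * o * a⁻¹ * o⁻¹ * e * (a * o * a⁻¹ * o⁻¹)⁻¹ * e⁻¹ =
          a * (o * z * o⁻¹) * a⁻¹ * (a * e * a⁻¹ * e⁻¹) := by rw [hz, hf]; group
      rw [key, hoZ o ho z hzZ]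
      exact mul_mem ((mem_normalizer_iff.1 ha1 _).1 hzZ) (haE a ha ha1 e he)
    · obtain ⟨e1, he1⟩ : ∃ e1, e1 = o⁻¹ * u * o⁻¹⁻¹ * u⁻¹ := ⟨_, rfl⟩
      have h1 : e1 ∈ E := he1 ▸ hoUE o⁻¹ (inv_mem ho) u hu
      obtain ⟨v, hv⟩ : ∃ v, v = a⁻¹ * u * a := ⟨_, rfl⟩
      have hvU : v ∈ U := hv ▸ (mem_normalizer_iff''.1 (hU ▸ d.hn_core (d.lh ha)) u).1 hu
      have key : a * o * a⁻¹ * o⁻¹ * u * (a * o * a⁻¹ * o⁻¹)⁻¹ * u⁻¹ =
          a * (o * (a⁻¹ * e1 * a⁻¹⁻¹) * o⁻¹ * (o * v * o⁻¹ * v⁻¹)) * a⁻¹ := by rw [he1, hv]; group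
      rw [key]
      exact haEn a ha ha1 _ (mul_mem
        ((mem_normalizer_iff.1 (hoE o ho) _).1 (haEn a⁻¹ (inv_mem ha) (inv_mem ha1) e1 h1)) (hoUE o ho v hvU))
  have hFp : IsPGroup p F := by
    subst hF hU
    exact isPGroup_stab d.hc hZE hEU
  have hFO : O ≤ normalizer (F : Set G) := fun o ho =>
    hF ▸ normalizer_le_stab hZE (d.oh ho) (hoZn o ho) (hoE o ho) (hoU o ho)
  have hp : IsPGroup p ↥(F ⊔ O) := hFp.to_sup_of_normal_left' d.op hFO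
  refine d.no (mem_normalizer_iff_map_conj_eq.2 (d.wc _ hp le_sup_right a ?_))
  rintro _ ⟨o, ho, rfl⟩
  show a * o * a⁻¹ ∈ F ⊔ O
  have := mul_mem_sup (hcm o ho) ho
  rwa [inv_mul_cancel_right] at this

theorem mem_normalizer_of_commute {x : G} (hx : x ∈ L)
    (hc : Y.map (MulAut.conj x).toMonoidHom ≤ centralizer (Y : Set G)) : x ∈ normalizer (Y : Set G) := by
  obtain ⟨B, hLB, -, -, hY1B, hBC, -⟩ := d.closure_core
  refine d.mem_normalizer_of_core hx (mem_normalizer_iff_map_conj_eq.2 (eq_of_le_of_card_ge ?_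
    (card_map_of_injective (MulAut.conj x).injective).ge))
  rintro _ ⟨e, he, rfl⟩
  exact hBC ⟨(mem_normalizer_iff.1 (hLB hx) e).1 (hY1B he), hc ⟨e, he.1, rfl⟩⟩

theorem le_normalizer_of_lt {X : Subgroup G} (hYX : Y ≤ X) (hX : X < L) : X ≤ normalizer (Y : Set G) := by
  obtain ⟨D, hD⟩ : ∃ D, D = Cfsg.pCoreOf p X := ⟨_, rfl⟩
  have hYD : Y ≤ D := hD ▸ d.le_core_of_lt hYX hX
  have hDp : IsPGroup p D := hD ▸ CfsgLib.LocalEvenB.isPGroup_pCoreOf X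
  have hDL : D ≤ L := hD ▸ (CfsgLib.LocalEvenB.pCoreOf_le X).trans hX.le
  have hDn : D ≤ normalizer (Y : Set G) := by
    by_contra hne
    obtain ⟨N, hN⟩ : ∃ N, N = D ⊓ normalizer (Y : Set G) := ⟨_, rfl⟩
    have hlt : N < D := lt_of_le_of_ne (hN ▸ inf_le_left) fun e => hne (e ▸ hN ▸ inf_le_right)
    obtain ⟨x, hx, hxN⟩ := SetLike.exists_of_lt (CfsgLib.Transfer.lt_inf_normalizer hDp hlt)
    refine hxN (hN ▸ mem_inf.2 ⟨hx.1, d.mem_normalizer_of_commute (hDL hx.1) (d.commute_of_mutual ?_ ?_)⟩)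
    · have hYN : Y ≤ N := hN ▸ le_inf hYD le_normalizer
      rintro _ ⟨y, hy, rfl⟩
      exact (hN ▸ inf_le_right : N ≤ normalizer (Y : Set G)) ((mem_normalizer_iff.1 hx.2 y).1 (hYN hy))
    · intro y hy
      have hy' : x⁻¹ * y * x ∈ normalizer (Y : Set G) :=
        (hN ▸ inf_le_right : N ≤ normalizer (Y : Set G)) ((mem_normalizer_iff''.1 hx.2 y).1 (hN ▸ mem_inf.2 ⟨hYD hy, le_normalizer hy⟩))
      have := le_normalizer_map (MulAut.conj x).toMonoidHom (mem_map_of_mem _ hy')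
      simpa [mul_assoc] using this
  intro x hx
  refine d.mem_normalizer_of_commute (hX.le hx) (d.commute_of_mutual ?_ ?_)
  · rintro _ ⟨y, hy, rfl⟩
    exact hDn ((mem_normalizer_iff.1 (hD ▸ CfsgLib.LocalEvenB.le_normalizer_pCoreOf X hx) y).1 (hYD hy))
  · intro y hy
    have hy' : x⁻¹ * y * x ∈ normalizer (Y : Set G) :=
      hDn ((mem_normalizer_iff''.1 (hD ▸ CfsgLib.LocalEvenB.le_normalizer_pCoreOf X hx) y).1 (hYD hy))
    have := le_normalizer_map (MulAut.conj x).toMonoidHom (mem_map_of_mem _ hy')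
    simpa [mul_assoc] using this

theorem inf_normalizer_lt : L ⊓ normalizer (Y : Set G) < L :=
  lt_of_le_of_ne inf_le_left fun e => d.nle
    (CfsgLib.LocalEvenB.le_pCoreOf d.yl d.yp (e.ge.trans inf_le_right))

theorem conj_sup_L {h : G} (hh : h ∈ L) (hn : h ∉ normalizer (Y : Set G)) :
    Y ⊔ Y.map (MulAut.conj h).toMonoidHom = L := by
  by_contra hne
  obtain ⟨X, hX⟩ : ∃ X, X = Y ⊔ Y.map (MulAut.conj h).toMonoidHom := ⟨_, rfl⟩
  rw [← hX] at hne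
  have hXL : X ≤ L := hX ▸ sup_le d.yl (by
    rintro _ ⟨y, hy, rfl⟩
    exact mul_mem (mul_mem hh (d.yl hy)) (inv_mem hh))
  obtain ⟨X', hX'⟩ : ∃ X', X' = X.map (MulAut.conj h⁻¹).toMonoidHom := ⟨_, rfl⟩
  have h1 := d.le_normalizer_of_lt (hX ▸ le_sup_left) (lt_of_le_of_ne hXL hne)
  have hX'L : X' ≤ L := by
    rw [hX']
    rintro _ ⟨x, hx, rfl⟩
    exact mul_mem (mul_mem (inv_mem hh) (hXL hx)) (inv_mem (inv_mem hh))
  have hne' : X' ≠ L := fun e => hne (eq_of_le_of_card_ge hXL (by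
    rw [← e, hX', card_map_of_injective (MulAut.conj h⁻¹).injective]))
  have h2 := d.le_normalizer_of_lt (X := X') (fun y hy => by
    rw [hX']
    exact ⟨h * y * h⁻¹, hX ▸ mem_sup_right ⟨y, hy, rfl⟩, by simp [mul_assoc]⟩) (lt_of_le_of_ne hX'L hne')
  refine hn (d.mem_normalizer_of_commute hh (d.commute_of_mutual ((hX ▸ le_sup_right).trans h1) ?_))
  intro y hy
  have hy' : h⁻¹ * y * h⁻¹⁻¹ ∈ normalizer (Y : Set G) := h2 (hX' ▸ ⟨y, hX ▸ mem_sup_left hy, rfl⟩)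
  have := le_normalizer_map (MulAut.conj h).toMonoidHom (mem_map_of_mem _ hy')
  simpa [mul_assoc] using this

theorem conj_sup_eq {h : G} (hh : h ∈ L) (hn : h ∉ normalizer (Y : Set G)) :
    Y.map (MulAut.conj h).toMonoidHom ⊔ O = H := by
  refine le_antisymm (sup_le ?_ d.oh) (d.sup_eq.ge.trans (sup_le ?_ le_sup_right))
  · exact (le_sup_right.trans (d.conj_sup_L hh hn).le).trans d.lh
  · exact (d.conj_sup_L hh hn).ge.trans (sup_le (d.yo.trans le_sup_right) le_sup_left)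

theorem hasCharP_L : CfsgLib.LocalEvenB.HasCharP p L := by
  obtain ⟨B, -, hcomm, hBUL, -, -, -⟩ := d.closure_core
  refine CfsgLib.LocalEvenB.hasCharP_of_eq_one fun x hx hxA ho => ?_
  have hUL : Cfsg.pCoreOf p H ⊓ L ≤ Cfsg.pCoreOf p L :=
    CfsgLib.LocalEvenB.le_pCoreOf inf_le_right ((CfsgLib.LocalEvenB.isPGroup_pCoreOf H).to_le inf_le_left)
      ((le_inf (d.lh.trans (CfsgLib.LocalEvenB.le_normalizer_pCoreOf H)) le_normalizer).trans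
        inf_normalizer_le_normalizer_inf)
  refine eq_one_of_stab d.hc (Z := B) (E := B) le_rfl (hBUL.trans inf_le_left) ⟨d.lh hx, fun z hz => ?_,
    fun e he => ?_, hcomm x hx⟩ ho
  · rw [← mem_centralizer_iff.1 hxA z (hUL (hBUL hz)), mul_inv_cancel_right]
  · rw [← mem_centralizer_iff.1 hxA e (hUL (hBUL he)), mul_inv_cancel_right, mul_inv_cancel]
    exact one_mem _

theorem sylow_le_normalizer {T : Subgroup G} (hT : IsPGroup p T) (hTL : T ≤ L) (hYT : Y ≤ T) :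
    T ≤ normalizer (Y : Set G) :=
  d.le_normalizer_of_lt hYT (lt_of_le_of_ne hTL fun e => d.nle (d.yl.trans
    (CfsgLib.LocalEvenB.le_pCoreOf le_rfl (e ▸ hT) le_normalizer)))

end MinData

end CfsgLib.LocalEven
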