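import Cfsg.Prelude.Def_LocalStructure
import Cfsg.Agent.Lib.LocalEven.CharPWeak
import Cfsg.Agent.Lib.Orders.Engel
import Cfsg.Agent.Lib.HallGen.Basic
import Cfsg.Agent.Lib.Transfer.PResidual

/-!
# Tools for minimal subgroups `L` with `Y ≰ O_p(L)`

* `exists_conj_not_pGroup`: Baer–Suzuki for a subgroup
* `isPGroup_of_no_coprime`, `stab`, `eq_one_of_stab`, `isPGroup_stab`: stabilizers of three-step series in `U`
-/

set_option autoImplicit false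
set_option linter.all false

namespace CfsgLib.LocalEven

open Subgroup
open scoped commutatorElement

variable {G : Type*} [Group G] [Finite G] {p : ℕ} [Fact p.Prime]

/-- Baer–Suzuki for a subgroup -/
theorem exists_conj_not_pGroup {L Y : Subgroup G} (hYp : IsPGroup p Y) (hYL : Y ≤ L)
    (hY : ¬ Y ≤ Cfsg.pCoreOf p L) :
    ∃ l ∈ L, ¬ IsPGroup p ↥(Y ⊔ Y.map (MulAut.conj l).toMonoidHom) := by
  by_contra hcon
  push Not at hcon
  refine hY fun y hy => ⟨⟨y, hYL hy⟩, ?_, rfl⟩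
  have hyp : IsPGroup p ↥(zpowers y) := hYp.to_le (zpowers_le.2 hy)
  obtain ⟨k, hk⟩ := IsPGroup.iff_card.1 hyp
  refine CfsgLib.HallGen.mem_pCore_of_mem_nilpotent_normal (k := k) CfsgLib.Components.fitting_normal
    CfsgLib.Components.fitting_isNilpotent (CfsgLib.Orders.mem_fitting_of_engel fun x => ?_) ?_
  · obtain ⟨K, hK⟩ : ∃ K, K = Y ⊔ Y.map (MulAut.conj (x : G)).toMonoidHom := ⟨_, rfl⟩
    have hKp : IsPGroup p K := hK ▸ hcon x x.2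
    have hyK : y ∈ K := hK ▸ mem_sup_left hy
    have hxK : ⁅(x : G), y⁆ ∈ K := by
      rw [commutatorElement_def]
      exact mul_mem (hK ▸ mem_sup_right ⟨y, hy, rfl⟩) (inv_mem hyK)
    haveI : Group.IsNilpotent ↥K := hKp.isNilpotent
    obtain ⟨n, hn⟩ := Subgroup.nilpotent_iff_lowerCentralSeries.1 (inferInstance : Group.IsNilpotent ↥K)
    have hit : ∀ (n : ℕ) (z : ↥K),
        CfsgLib.Orders.engelIter (⟨y, hyK⟩ : ↥K) n z ∈ (⊤ : Subgroup ↥K).lowerCentralSeries n := by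
      intro n z
      induction n with
      | zero => simp
      | succ n ihn =>
        rw [CfsgLib.Orders.engelIter, Function.iterate_succ_apply']
        exact commutator_mem_commutator ihn (mem_top _)
    refine ⟨n + 1, L.subtype_injective ?_⟩
    rw [CfsgLib.Orders.map_engelIter, map_one]
    show CfsgLib.Orders.engelIter y (n + 1) (x : G) = 1
    rw [CfsgLib.Orders.engelIter, Function.iterate_succ_apply, ← CfsgLib.Orders.engelIter]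
    have h2 := congrArg K.subtype (mem_bot.1 (hn ▸ hit n ⟨_, hxK⟩))
    rw [CfsgLib.Orders.map_engelIter, map_one] at h2
    exact h2
  · rw [← hk, Nat.card_zpowers]
    exact (Subgroup.orderOf_mk y (hYL hy))

theorem isPGroup_of_no_coprime {J : Subgroup G} (h : ∀ x ∈ J, (orderOf x).Coprime p → x = 1) : IsPGroup p J := by
  rw [isPGroup_iff_pow_pow_eq_one]
  intro x
  obtain ⟨k, hk⟩ := CfsgLib.Transfer.exists_pow_prime_pow_coprime (p := p) (x : G)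
  exact ⟨k, Subtype.ext (h _ (pow_mem x.2 _) hk)⟩

/-- elements centralizing `Z`, `E` modulo `Z` and `U` modulo `E` -/
def stab (H Z E U : Subgroup G) (hZE : Z ≤ E) : Subgroup G where
  carrier := {x | x ∈ H ∧ (∀ z ∈ Z, x * z * x⁻¹ = z) ∧ (∀ e ∈ E, x * e * x⁻¹ * e⁻¹ ∈ Z) ∧
    ∀ u ∈ U, x * u * x⁻¹ * u⁻¹ ∈ E}
  one_mem' := ⟨one_mem _, fun z _ => by simp, fun e _ => by simp, fun u _ => by simp⟩
  mul_mem' := fun {x y} hx hy => by
    refine ⟨mul_mem hx.1 hy.1, fun z hz => ?_, fun e he => ?_, fun u hu => ?_⟩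
    · rw [show x * y * z * (x * y)⁻¹ = x * (y * z * y⁻¹) * x⁻¹ by group, hy.2.1 z hz, hx.2.1 z hz]
    · rw [show x * y * e * (x * y)⁻¹ * e⁻¹ = x * (y * e * y⁻¹ * e⁻¹) * x⁻¹ * (x * e * x⁻¹ * e⁻¹) by group,
        hx.2.1 _ (hy.2.2.1 e he)]
      exact mul_mem (hy.2.2.1 e he) (hx.2.2.1 e he)
    · rw [show x * y * u * (x * y)⁻¹ * u⁻¹ = (x * (y * u * y⁻¹ * u⁻¹) * x⁻¹ * (y * u * y⁻¹ * u⁻¹)⁻¹) *
        (y * u * y⁻¹ * u⁻¹) * (x * u * x⁻¹ * u⁻¹) by group]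
      exact mul_mem (mul_mem (hZE (hx.2.2.1 _ (hy.2.2.2 u hu))) (hy.2.2.2 u hu)) (hx.2.2.2 u hu)
  inv_mem' := fun {x} hx => by
    have hz : ∀ z ∈ Z, x⁻¹ * z * x⁻¹⁻¹ = z := fun z hz => by
      conv_lhs => rw [← hx.2.1 z hz]
      group
    have he : ∀ e ∈ E, x⁻¹ * e * x⁻¹⁻¹ * e⁻¹ ∈ Z := fun e he => by
      rw [show x⁻¹ * e * x⁻¹⁻¹ * e⁻¹ = x⁻¹ * (x * e * x⁻¹ * e⁻¹)⁻¹ * x⁻¹⁻¹ by group, hz _ (inv_mem (hx.2.2.1 e he))]
      exact inv_mem (hx.2.2.1 e he)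
    refine ⟨inv_mem hx.1, hz, he, fun u hu => ?_⟩
    have hc := inv_mem (hx.2.2.2 u hu)
    rw [show x⁻¹ * u * x⁻¹⁻¹ * u⁻¹ = (x⁻¹ * (x * u * x⁻¹ * u⁻¹)⁻¹ * x⁻¹⁻¹ * (x * u * x⁻¹ * u⁻¹)⁻¹⁻¹) *
      (x * u * x⁻¹ * u⁻¹)⁻¹ by group]
    exact mul_mem (hZE (he _ hc)) hc

theorem eq_one_of_stab {H Z E : Subgroup G} (hH : CfsgLib.LocalEvenB.HasCharP p H) (hZE : Z ≤ E)
    (hEU : E ≤ Cfsg.pCoreOf p H) {x : G} (hx : x ∈ stab H Z E (Cfsg.pCoreOf p H) hZE)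
    (ho : (orderOf x).Coprime p) : x = 1 := by
  have hU : IsPGroup p ↥(Cfsg.pCoreOf p H) := CfsgLib.LocalEvenB.isPGroup_pCoreOf H
  have key : ∀ {w v : G}, w ∈ Cfsg.pCoreOf p H → x * w * x⁻¹ = w → x * v * x⁻¹ = w * v → w = 1 := by
    intro w v hw hxw hxv
    have h : ∀ n : ℕ, x ^ n * v * (x ^ n)⁻¹ = w ^ n * v := by
      intro n
      induction n with
      | zero => simp
      | succ n ih =>
        calc x ^ (n + 1) * v * (x ^ (n + 1))⁻¹ = x * (x ^ n * v * (x ^ n)⁻¹) * x⁻¹ := by rw [pow_succ']; group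
          _ = x * (w ^ n * v) * x⁻¹ := by rw [ih]
          _ = (x * w * x⁻¹) ^ n * (x * v * x⁻¹) := by rw [conj_pow]; group
          _ = _ := by rw [hxw, hxv, ← mul_assoc, pow_succ]
    have h1 := h (orderOf x)
    rw [pow_orderOf_eq_one, one_mul, inv_one, mul_one] at h1
    have h1 := mul_eq_right.1 h1.symm
    obtain ⟨k, hk⟩ := hU ⟨w, hw⟩
    exact orderOf_eq_one_iff.1 (Nat.eq_one_of_dvd_coprimes (ho.pow_right k)
      (orderOf_dvd_of_pow_eq_one h1) (orderOf_dvd_of_pow_eq_one (congrArg Subtype.val hk)))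
  obtain ⟨hxH, hz, he, hu⟩ := hx
  have hE : ∀ e ∈ E, x * e * x⁻¹ = e := fun e he' =>
    mul_inv_eq_one.1 (key (hEU (hZE (he e he'))) (hz _ (he e he')) (v := e) (by group))
  refine hH.eq_one hxH ho (mem_centralizer_iff.2 fun u hu' => ?_)
  have h1 := mul_inv_eq_one.1 (key (hEU (hu u hu')) (hE _ (hu u hu')) (v := u) (by group))
  conv_lhs => rw [← h1]
  group

theorem isPGroup_stab {H Z E : Subgroup G} (hH : CfsgLib.LocalEvenB.HasCharP p H) (hZE : Z ≤ E)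
    (hEU : E ≤ Cfsg.pCoreOf p H) : IsPGroup p (stab H Z E (Cfsg.pCoreOf p H) hZE) :=
  isPGroup_of_no_coprime fun _ hx ho => eq_one_of_stab hH hZE hEU hx ho

theorem normalizer_le_stab {H Z E U : Subgroup G} (hZE : Z ≤ E) {g : G} (hg : g ∈ H)
    (hZ : g ∈ normalizer (Z : Set G)) (hE : g ∈ normalizer (E : Set G)) (hU : g ∈ normalizer (U : Set G)) :
    g ∈ normalizer (stab H Z E U hZE : Set G) := by
  have h : ∀ g' : G, g' ∈ H → g' ∈ normalizer (Z : Set G) → g' ∈ normalizer (E : Set G) →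
      g' ∈ normalizer (U : Set G) → ∀ x ∈ stab H Z E U hZE, g' * x * g'⁻¹ ∈ stab H Z E U hZE := by
    intro g hg hZ hE hU x hx
    refine ⟨mul_mem (mul_mem hg hx.1) (inv_mem hg), fun z hz => ?_, fun e he => ?_, fun u hu => ?_⟩
    · rw [show g * x * g⁻¹ * z * (g * x * g⁻¹)⁻¹ = g * (x * (g⁻¹ * z * g) * x⁻¹) * g⁻¹ by group,
        hx.2.1 _ ((mem_normalizer_iff''.1 hZ z).1 hz)]
      group
    · rw [show g * x * g⁻¹ * e * (g * x * g⁻¹)⁻¹ * e⁻¹ =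
        g * (x * (g⁻¹ * e * g) * x⁻¹ * (g⁻¹ * e * g)⁻¹) * g⁻¹ by group]
      exact (mem_normalizer_iff.1 hZ _).1 (hx.2.2.1 _ ((mem_normalizer_iff''.1 hE e).1 he))
    · rw [show g * x * g⁻¹ * u * (g * x * g⁻¹)⁻¹ * u⁻¹ =
        g * (x * (g⁻¹ * u * g) * x⁻¹ * (g⁻¹ * u * g)⁻¹) * g⁻¹ by group]
      exact (mem_normalizer_iff.1 hE _).1 (hx.2.2.2 _ ((mem_normalizer_iff''.1 hU u).1 hu))
  refine mem_normalizer_iff.2 fun x => ⟨h g hg hZ hE hU x, fun hx => ?_⟩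
  have := h g⁻¹ (inv_mem hg) (inv_mem hZ) (inv_mem hE) (inv_mem hU) _ hx
  rwa [show g⁻¹ * (g * x * g⁻¹) * g⁻¹⁻¹ = x by group] at this

end CfsgLib.LocalEven
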