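import Cfsg.Agent.Lib.LocalEven.FrakHMin
import Cfsg.Agent.Lib.LocalEven.LargestReduced

/-!
# Further properties of minimal subgroups `L` with `Y ≰ O_p(L)`

* `MinData.inf_le_core`: `Y ∩ O_p(L) ≤ O_p(H)`
* `MinData.residual_sup`, `MinData.not_residual_trivial`
* `MinData.isMinimalOver`
-/

set_option autoImplicit false
set_option linter.all false

namespace CfsgLib.LocalEven

open Subgroup
open scoped commutatorElement

variable {G : Type*} [Group G] [Finite G] {p : ℕ} [Fact p.Prime]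

namespace MinData

variable {Y O H L : Subgroup G} (d : MinData p Y O H L)
include d

theorem pCoreOf_le_normalizer : Cfsg.pCoreOf p L ≤ normalizer (Y : Set G) := by
  have hp := (CfsgLib.LocalEvenB.isPGroup_pCoreOf (p := p) L).to_sup_of_normal_left' d.yp
    (d.yl.trans (CfsgLib.LocalEvenB.le_normalizer_pCoreOf L))
  exact le_sup_left.trans (d.sylow_le_normalizer hp (sup_le (CfsgLib.LocalEvenB.pCoreOf_le L) d.yl) le_sup_right)

theorem inf_le_core : Y ⊓ Cfsg.pCoreOf p L ≤ Cfsg.pCoreOf p H := by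
  rintro a ⟨haY, haA⟩
  obtain ⟨g, hgL, hg⟩ := d.exists_gen
  obtain ⟨U, hU⟩ : ∃ U, U = Cfsg.pCoreOf p H := ⟨_, rfl⟩
  obtain ⟨Y2, hY2⟩ : ∃ Y2, Y2 = Y.map (MulAut.conj g).toMonoidHom := ⟨_, rfl⟩
  obtain ⟨B, hLB, hcomm, hBUL, hY1B, -, -⟩ := d.closure_core
  rw [← hU] at hcomm hBUL hY1B ⊢
  obtain ⟨Z, hZ⟩ : ∃ Z, Z = Y ⊓ Y2 ⊓ U := ⟨_, rfl⟩
  obtain ⟨W, hW⟩ : ∃ W, W = (Y ⊓ U) ⊔ (Y2 ⊓ U) := ⟨_, rfl⟩
  have hUY : U ≤ normalizer (Y : Set G) := hU ▸ d.un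
  have hgU : g ∈ normalizer (U : Set G) := hU ▸ d.hn_core (d.lh hgL)
  have haY2 : a ∈ normalizer (Y2 : Set G) := by
    have h1 : g⁻¹ * a * g ∈ normalizer (Y : Set G) := d.pCoreOf_le_normalizer
      ((mem_normalizer_iff''.1 (CfsgLib.LocalEvenB.le_normalizer_pCoreOf L hgL) a).1 haA)
    have := le_normalizer_map (MulAut.conj g).toMonoidHom (mem_map_of_mem _ h1)
    rw [hY2]
    simpa [mul_assoc] using this
  -- `Z` is centralized by `H`
  have hHZ : ∀ z ∈ Z, ∀ x ∈ H, x * z * x⁻¹ = z := by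
    intro z hz
    rw [hZ] at hz
    have h1 : H ≤ centralizer ({z} : Set G) := d.sup_eq.ge.trans (sup_le (hg.ge.trans (sup_le
      (fun y hy => mem_centralizer_singleton_iff.2 (d.ycomm hy hz.1.1))
      (by
        rintro _ ⟨y, hy, rfl⟩
        obtain ⟨y', hy', rfl⟩ := (hY2 ▸ hz.1.2 : z ∈ Y.map (MulAut.conj g).toMonoidHom)
        rw [mem_centralizer_singleton_iff, ← map_mul, ← map_mul, d.ycomm hy hy'])))
      (fun o ho => mem_centralizer_singleton_iff.2 (mem_centralizer_iff.1 (d.oy ho) z hz.1.1).symm))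
    intro x hx
    rw [mem_centralizer_singleton_iff.1 (h1 hx), mul_inv_cancel_right]
  have hZn : H ≤ normalizer (Z : Set G) := le_normalizer_iff.2 fun x hx z hz => by rw [hHZ z hz x hx]; exact hz
  let U0 : Subgroup G :=
    { carrier := {u | u ∈ U ∧ a * u * a⁻¹ * u⁻¹ ∈ Z}
      one_mem' := ⟨one_mem _, by simp⟩
      mul_mem' := fun {u v} hu hv => ⟨mul_mem hu.1 hv.1, by
        rw [show a * (u * v) * a⁻¹ * (u * v)⁻¹ = a * u * a⁻¹ * u⁻¹ * (u * (a * v * a⁻¹ * v⁻¹) * u⁻¹) by group,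
          hHZ _ hv.2 u (CfsgLib.LocalEvenB.pCoreOf_le H (hU ▸ hu.1))]
        exact mul_mem hu.2 hv.2⟩
      inv_mem' := fun {u} hu => ⟨inv_mem hu.1, by
        rw [show a * u⁻¹ * a⁻¹ * u⁻¹⁻¹ = u⁻¹ * (a * u * a⁻¹ * u⁻¹)⁻¹ * u⁻¹⁻¹ by group,
          hHZ _ (inv_mem hu.2) _ (inv_mem (CfsgLib.LocalEvenB.pCoreOf_le H (hU ▸ hu.1)))]
        exact inv_mem hu.2⟩ }
  have hZU0 : Z ≤ U0 := fun z hz => ⟨(hZ ▸ inf_le_right : Z ≤ U) hz, by
    rw [hHZ z hz a (d.lh (CfsgLib.LocalEvenB.pCoreOf_le L haA)), mul_inv_cancel]; exact one_mem _⟩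
  have hY1U0 : Y ⊓ U ≤ U0 := fun y hy => ⟨hy.2, by
    rw [d.ycomm haY hy.1, mul_inv_cancel_right, mul_inv_cancel]; exact one_mem _⟩
  have haU : ∀ u ∈ U, a * u * a⁻¹ * u⁻¹ ∈ Y ⊓ U := fun u hu => mem_inf.2
    ⟨by
      rw [show a * u * a⁻¹ * u⁻¹ = a * (u * a⁻¹ * u⁻¹) by group]
      exact mul_mem haY ((mem_normalizer_iff.1 (hUY hu) _).1 (inv_mem haY)),
    mul_mem ((mem_normalizer_iff.1 (hU ▸ d.hn_core (d.lh (d.yl haY))) u).1 hu) (inv_mem hu)⟩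
  have hY2U0 : Y2 ⊓ U ≤ U0 := fun y hy => ⟨hy.2, hZ ▸ mem_inf.2 ⟨mem_inf.2 ⟨(haU y hy.2).1,
    mul_mem ((mem_normalizer_iff.1 haY2 y).1 hy.1) (inv_mem hy.1)⟩, (haU y hy.2).2⟩⟩
  have hWU0 : W ≤ U0 := hW ▸ sup_le hY1U0 hY2U0
  -- `L` moves elements of `U` by elements of `W`
  have hU0W : ∀ x ∈ Y ⊔ Y2, ∀ u ∈ U0, x * u * x⁻¹ ∈ U0 := by
    intro x hx u hu
    have hgen : ∀ y, y ∈ Y ∨ y ∈ Y2 → ∀ v ∈ U, y * v * y⁻¹ * v⁻¹ ∈ U0 := by
      intro y hy v hv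
      rcases hy with hy | hy
      · refine hY1U0 (mem_inf.2 ⟨?_, mul_mem ((mem_normalizer_iff.1 (hU ▸ d.hn_core (d.lh (d.yl hy))) v).1 hv) (inv_mem hv)⟩)
        rw [show y * v * y⁻¹ * v⁻¹ = y * (v * y⁻¹ * v⁻¹) by group]
        exact mul_mem hy ((mem_normalizer_iff.1 (hUY hv) _).1 (inv_mem hy))
      · obtain ⟨y0, hy0, rfl⟩ := (hY2 ▸ hy : y ∈ Y.map (MulAut.conj g).toMonoidHom)
        have hv' : g⁻¹ * v * g ∈ U := (mem_normalizer_iff''.1 hgU v).1 hv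
        refine hY2U0 (mem_inf.2 ⟨hY2 ▸ ⟨y0 * ((g⁻¹ * v * g) * y0⁻¹ * (g⁻¹ * v * g)⁻¹),
          mul_mem hy0 ((mem_normalizer_iff.1 (hUY hv') _).1 (inv_mem hy0)), by simp [mul_assoc]⟩, ?_⟩)
        exact mul_mem ((mem_normalizer_iff.1 (hU ▸ d.hn_core (d.lh (hg.le (mem_sup_right ⟨y0, hy0, rfl⟩)))) v).1 hv)
          (inv_mem hv)
    have hle : Y ⊔ Y2 ≤ normalizer (U0 : Set G) := sup_le
      (le_normalizer_iff.2 fun y hy v hv => by
        have := mul_mem (hgen y (Or.inl hy) v hv.1) hv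
        rwa [inv_mul_cancel_right] at this)
      (le_normalizer_iff.2 fun y hy v hv => by
        have := mul_mem (hgen y (Or.inr hy) v hv.1) hv
        rwa [inv_mul_cancel_right] at this)
    exact (mem_normalizer_iff.1 (hle hx) u).1 hu
  have hHU0 : H ≤ normalizer (U0 : Set G) := d.sup_eq.ge.trans (sup_le
    (hg.ge.trans (le_normalizer_iff.2 fun x hx u hu => hU0W x (hY2 ▸ hx) u hu))
    (le_normalizer_iff.2 fun o ho u hu => by
      have hoa : o * a * o⁻¹ = a := by rw [← mem_centralizer_iff.1 (d.oy ho) a haY, mul_inv_cancel_right]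
      refine ⟨(mem_normalizer_iff.1 (hU ▸ d.hn_core (d.oh ho)) u).1 hu.1, ?_⟩
      have h1 : a * (o * u * o⁻¹) * a⁻¹ * (o * u * o⁻¹)⁻¹ = o * (a * u * a⁻¹ * u⁻¹) * o⁻¹ := by
        conv_lhs => rw [← hoa]
        group
      rw [h1, hHZ _ hu.2 o (d.oh ho)]
      exact hu.2))
  have hU0U : U0 ≤ U := fun u hu => hu.1
  subst hU
  obtain ⟨J, hJ⟩ : ∃ J, J = stab H Z U0 (Cfsg.pCoreOf p H) hZU0 := ⟨_, rfl⟩
  have hJn : H ≤ normalizer (J : Set G) := fun x hx =>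
    hJ ▸ normalizer_le_stab hZU0 hx (hZn hx) (hHU0 hx) (d.hn_core hx)
  have haJ : a ∈ J := hJ ▸ ⟨d.lh (d.yl haY), fun z hz => hHZ z hz a (d.lh (d.yl haY)), fun e he => he.2,
    fun u hu => hY1U0 (haU u hu)⟩
  exact CfsgLib.LocalEvenB.le_pCoreOf (fun x hx => (hJ ▸ hx : x ∈ stab H Z U0 (Cfsg.pCoreOf p H) hZU0).1)
    (hJ ▸ isPGroup_stab d.hc hZU0 hU0U) hJn haJ

theorem residual_sup : (Cfsg.pResidual p ↥L).map L.subtype ⊔ Y = L := by
  obtain ⟨R, hR⟩ : ∃ R, R = (Cfsg.pResidual p ↥L).map L.subtype := ⟨_, rfl⟩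
  rw [← hR]
  by_contra hne
  obtain ⟨X, hX⟩ : ∃ X, X = R ⊔ Y := ⟨_, rfl⟩
  rw [← hX] at hne
  have hXL : X ≤ L := hX ▸ sup_le (hR ▸ map_subtype_le _) d.yl
  have hXN := d.le_normalizer_of_lt (hX ▸ le_sup_right) (lt_of_le_of_ne hXL hne)
  obtain ⟨T, hT⟩ := (d.yp.comap_of_injective L.subtype L.subtype_injective).exists_le_sylow
  have htop : Cfsg.pResidual p ↥L ⊔ (T : Subgroup ↥L) = ⊤ := by
    rw [← index_eq_one]
    obtain ⟨k, hk⟩ := IsPGroup.iff_card.1 (CfsgLib.Transfer.isPGroup_quotient_pResidual (p := p) (G := ↥L))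
    rw [← index_eq_card] at hk
    obtain ⟨l, -, hl⟩ := (Nat.dvd_prime_pow (Fact.out : p.Prime)).1
      (hk ▸ index_dvd_of_le (le_sup_left : Cfsg.pResidual p ↥L ≤ Cfsg.pResidual p ↥L ⊔ (T : Subgroup ↥L)))
    rcases l with _ | l
    · simpa using hl
    · exact absurd ((hl ▸ dvd_pow_self p l.succ_ne_zero).trans (index_dvd_of_le le_sup_right)) T.not_dvd_index
  obtain ⟨T', hT'⟩ : ∃ T', T' = (T : Subgroup ↥L).map L.subtype := ⟨_, rfl⟩
  have hLeq : L ≤ R ⊔ T' := by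
    rw [hR, hT', ← Subgroup.map_sup, htop, ← MonoidHom.range_eq_map, range_subtype]
  have hTN := d.sylow_le_normalizer (T := T') (hT' ▸ T.2.map _) (hT' ▸ map_subtype_le _)
    (fun y hy => hT' ▸ ⟨⟨y, d.yl hy⟩, hT hy, rfl⟩)
  have hLY : L ≤ normalizer (Y : Set G) := hLeq.trans (sup_le ((hX ▸ le_sup_left).trans hXN) hTN)
  exact d.inf_normalizer_lt.ne (inf_eq_left.2 hLY)

theorem not_residual_trivial {V W : Subgroup G} (hVU : V ≤ Cfsg.pCoreOf p H)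
    (hV : H ≤ normalizer (V : Set G)) (hW : H ≤ normalizer (W : Set G)) (hWV : W < V)
    (hirr : ∀ Z : Subgroup G, H ≤ normalizer (Z : Set G) → W ≤ Z → Z ≤ V → Z = W ∨ Z = V)
    (hnc : ¬ ⁅V, H⁆ ≤ W) : ¬ ⁅V, (Cfsg.pResidual p ↥L).map L.subtype⁆ ≤ W := by
  intro h
  obtain ⟨R, hR⟩ : ∃ R, R = (Cfsg.pResidual p ↥L).map L.subtype := ⟨_, rfl⟩
  rw [← hR] at h
  have hVH : V ≤ H := hVU.trans (CfsgLib.LocalEvenB.pCoreOf_le H)
  have hRH : R ≤ H := hR ▸ (map_subtype_le _).trans d.lh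
  -- `H` is generated by `R` and `O`
  have hgen : H = R ⊔ O := le_antisymm
    (d.sup_eq.ge.trans (sup_le (d.residual_sup.ge.trans (hR ▸ sup_le le_sup_left (d.yo.trans le_sup_right))) le_sup_right))
    (sup_le hRH d.oh)
  obtain ⟨Z, hZ⟩ : ∃ Z, Z = ⁅V, O⁆ ⊔ W := ⟨_, rfl⟩
  have hZV : Z ≤ V := hZ ▸ sup_le (le_normalizer_iff_commutator_le_left.1 (d.oh.trans hV)) hWV.le
  have hWZ : W ≤ Z := hZ ▸ le_sup_right
  have hRm : ∀ r ∈ R, ∀ v ∈ V, r * v * r⁻¹ * v⁻¹ ∈ W := fun r hr v hv => by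
    have := inv_mem (h (commutator_mem_commutator hv hr))
    rwa [show ⁅v, r⁆⁻¹ = r * v * r⁻¹ * v⁻¹ by rw [commutatorElement_def]; group] at this
  have hZn : H ≤ normalizer (Z : Set G) := hgen.le.trans (sup_le
    (le_normalizer_iff.2 fun r hr z hz => by
      have := mul_mem (hWZ (hRm r hr z (hZV hz))) hz
      rwa [inv_mul_cancel_right] at this)
    (hZ ▸ (le_inf (normalizer_commutator_ge_right V O) (d.oh.trans hW)).trans
      (normalizer_inf_normalizer_le_normalizer_sup _ _)))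
  rcases hirr Z hZn hWZ hZV with e | e
  · refine hnc ?_
    let K : Subgroup G :=
      { carrier := {x | x ∈ normalizer (W : Set G) ∧ x ∈ normalizer (V : Set G) ∧ ∀ v ∈ V, x * v * x⁻¹ * v⁻¹ ∈ W}
        one_mem' := ⟨one_mem _, one_mem _, fun v _ => by simp⟩
        mul_mem' := fun {x y} hx hy => ⟨mul_mem hx.1 hy.1, mul_mem hx.2.1 hy.2.1, fun v hv => by
          rw [show x * y * v * (x * y)⁻¹ * v⁻¹ = x * (y * v * y⁻¹ * v⁻¹) * x⁻¹ * (x * v * x⁻¹ * v⁻¹) by group]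
          exact mul_mem ((mem_normalizer_iff.1 hx.1 _).1 (hy.2.2 v hv)) (hx.2.2 v hv)⟩
        inv_mem' := fun {x} hx => ⟨inv_mem hx.1, inv_mem hx.2.1, fun v hv => by
          rw [show x⁻¹ * v * x⁻¹⁻¹ * v⁻¹ = x⁻¹ * (x * v * x⁻¹ * v⁻¹)⁻¹ * x by group]
          exact (mem_normalizer_iff''.1 hx.1 _).1 (inv_mem (hx.2.2 v hv))⟩ }
    have hHK : H ≤ K := hgen.le.trans (sup_le (fun r hr => ⟨hW (hRH hr), hV (hRH hr), hRm r hr⟩)
      (fun o ho => ⟨hW (d.oh ho), hV (d.oh ho), fun v hv => by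
        have : ⁅v, o⁆ ∈ W := e.le (hZ ▸ mem_sup_left (commutator_mem_commutator hv ho))
        rw [show o * v * o⁻¹ * v⁻¹ = ⁅v, o⁆⁻¹ by rw [commutatorElement_def]; group]
        exact inv_mem this⟩))
    rw [commutator_le]
    intro v hv x hx
    rw [show ⁅v, x⁆ = (x * v * x⁻¹ * v⁻¹)⁻¹ by rw [commutatorElement_def]; group]
    exact inv_mem ((hHK hx).2.2 v hv)
  · obtain ⟨P, hP⟩ : ∃ P, P = V ⊔ O := ⟨_, rfl⟩
    have hPp : IsPGroup p P := hP ▸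
      ((CfsgLib.LocalEvenB.isPGroup_pCoreOf H).to_le hVU).to_sup_of_normal_left' d.op (d.oh.trans hV)
    haveI : Group.IsNilpotent ↥P := hPp.isNilpotent
    obtain ⟨n, hn⟩ := Subgroup.nilpotent_iff_lowerCentralSeries.1 (inferInstance : Group.IsNilpotent ↥P)
    have hPW : P ≤ normalizer (W : Set G) := hP ▸ sup_le (hVH.trans hW) (d.oh.trans hW)
    have hstep : ∀ m, V ≤ ((⊤ : Subgroup ↥P).lowerCentralSeries m).map P.subtype ⊔ W := by
      intro m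
      induction m with
      | zero =>
        rw [Subgroup.lowerCentralSeries_zero, ← MonoidHom.range_eq_map, range_subtype]
        exact le_sup_of_le_left (hP ▸ le_sup_left)
      | succ m ihm =>
        refine (e.ge.trans hZ.le).trans (sup_le ?_ le_sup_right)
        obtain ⟨C, hC⟩ : ∃ C, C = ((⊤ : Subgroup ↥P).lowerCentralSeries (m + 1)).map P.subtype := ⟨_, rfl⟩
        have hCn : P ≤ normalizer (C : Set G) := hC ▸ le_normalizer_map_of_normal P _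
        have hCWn : P ≤ normalizer ((C ⊔ W : Subgroup G) : Set G) :=
          (le_inf hCn hPW).trans (normalizer_inf_normalizer_le_normalizer_sup _ _)
        rw [← hC, commutator_le]
        intro v hv o ho
        obtain ⟨D, hD⟩ : ∃ D, D = ((⊤ : Subgroup ↥P).lowerCentralSeries m).map P.subtype := ⟨_, rfl⟩
        have hv' : v ∈ D ⊔ W := hD ▸ ihm hv
        have hDP : D ≤ P := hD ▸ map_subtype_le _
        rw [← SetLike.mem_coe, coe_mul_of_left_le_normalizer_right _ _ (hDP.trans hPW)] at hv'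
        obtain ⟨c, hc, w, hw, rfl⟩ := Set.mem_mul.1 hv'
        have hoP : o ∈ P := hP ▸ mem_sup_right ho
        have hcC : ⁅c, o⁆ ∈ C := by
          rw [hC]
          obtain ⟨c', hc', rfl⟩ := (hD ▸ hc : c ∈ ((⊤ : Subgroup ↥P).lowerCentralSeries m).map P.subtype)
          exact ⟨⁅c', (⟨o, hoP⟩ : ↥P)⁆, commutator_mem_commutator hc' (mem_top _), rfl⟩
        rw [show ⁅c * w, o⁆ = c * (w * (o * w⁻¹ * o⁻¹)) * c⁻¹ * ⁅c, o⁆ by simp only [commutatorElement_def]; group]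
        exact mul_mem (mem_sup_right ((mem_normalizer_iff.1 (hPW (hDP hc)) _).1
          (mul_mem hw ((mem_normalizer_iff.1 (hPW hoP) _).1 (inv_mem hw))))) (mem_sup_left hcC)
    have := hstep n
    rw [hn, Subgroup.map_bot, bot_sup_eq] at this
    exact hWV.not_ge this

theorem isMinimalOver : Cfsg.IsMinimalOver (Y.subgroupOf L) := by
  obtain ⟨g, hgL, hg⟩ := d.exists_gen
  refine ⟨eq_top_iff.2 fun x _ => ?_, ?_⟩
  · have h : L ≤ (normalClosure ((Y.subgroupOf L : Subgroup ↥L) : Set ↥L)).map L.subtype := hg.ge.trans (sup_le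
      (fun y hy => ⟨⟨y, d.yl hy⟩, le_normalClosure hy, rfl⟩) (by
        rintro _ ⟨y, hy, rfl⟩
        exact ⟨⟨g, hgL⟩ * ⟨y, d.yl hy⟩ * ⟨g, hgL⟩⁻¹, normalClosure_normal.conj_mem _ (le_normalClosure (show (⟨y, d.yl hy⟩ : ↥L) ∈ Y.subgroupOf L from hy)) _, rfl⟩))
    obtain ⟨z, hz, hzx⟩ := h x.2
    exact L.subtype_injective hzx ▸ hz
  · obtain ⟨N, hN⟩ : ∃ N, N = (normalizer (Y : Set G)).subgroupOf L := ⟨_, rfl⟩
    have hYN : Y.subgroupOf L ≤ N := hN ▸ comap_mono le_normalizer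
    have hle : ∀ X : Subgroup ↥L, X ≠ ⊤ → Y.subgroupOf L ≤ X → X ≤ N := by
      intro X hX hYX x hx
      have hlt : X.map L.subtype < L := lt_of_le_of_ne (map_subtype_le _) fun e => hX
        (map_injective L.subtype_injective (by rw [e, ← MonoidHom.range_eq_map, range_subtype]))
      rw [hN, mem_subgroupOf]
      exact d.le_normalizer_of_lt (fun y hy => (⟨⟨y, d.yl hy⟩, hYX (show (⟨y, d.yl hy⟩ : ↥L) ∈ Y.subgroupOf L from hy), rfl⟩ : y ∈ X.map L.subtype)) hlt ⟨x, hx, rfl⟩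
    have hNtop : N ≠ ⊤ := fun e => d.inf_normalizer_lt.ne
      (inf_eq_left.2 (subgroupOf_eq_top.1 (hN ▸ e)))
    refine ⟨N, ⟨⟨hNtop, fun X hX => by_contra fun hne => hX.not_ge (hle X hne (hYN.trans hX.le))⟩, hYN⟩, ?_⟩
    rintro X ⟨hX, hYX⟩
    exact ((hX.le_iff.1 (hle X hX.1 hYX)).resolve_left hNtop).symm

end MinData

end CfsgLib.LocalEven
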