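import Cfsg.Agent.Lib.LocalEven.FrakLCases
import Cfsg.Agent.Lib.LocalEven.PReduced
import Cfsg.Prelude.Def_LocalStructure
import Cfsg.Agent.Lib.Components.Radicals
import Cfsg.Agent.Lib.Lie.Suzuki.Group

/-!
# The action of the members of `𝔏_G(Y_M)` on `O_p(L) / C_{Y_M}(L)`

* `frakL_fpf`
-/

set_option autoImplicit false
set_option linter.all false

namespace CfsgLib.LocalEven.FrakLFPF

open Subgroup Cfsg

variable {G : Type*} [Group G] [Finite G] {p : ℕ} [Fact p.Prime]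

theorem frakL_fpf (M L : Subgroup G) (hL : IsInFrakL p M L) (h : G) (hh : h ∈ L)
    (hnp : ¬ ∃ k : ℕ, orderOf h = p ^ k) :
    ∀ a ∈ pCoreOf p L, h * a * h⁻¹ * a⁻¹ ∈ largestPReducedOf p M ⊓ centralizer ((L : Subgroup G) : Set G) →
      a ∈ largestPReducedOf p M ⊓ centralizer ((L : Subgroup G) : Set G) := by
  obtain ⟨hYL, hgen, hAN, hmin, -, ⟨hlt, hmax⟩, hcases⟩ := hL
  have hYel : IsElementaryAbelian p (largestPReducedOf p M) :=
    CfsgLib.PLocal.elementary_map M.subtype (isPReducedNormal_largest (L := M) (p := p)).2.1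
  obtain ⟨Y, hY⟩ : ∃ Y, Y = largestPReducedOf p M := ⟨_, rfl⟩
  rw [← hY] at hYL hgen hAN hmin hlt hmax hcases hYel ⊢
  obtain ⟨Y', hY'⟩ : ∃ Y', Y' = Y.subgroupOf L := ⟨_, rfl⟩
  haveI hQn : (pCore p L).Normal := CfsgLib.Components.pCore_normal p
  obtain ⟨π, hπ⟩ : ∃ π, π = QuotientGroup.mk' (pCore p L) := ⟨_, rfl⟩
  obtain ⟨X, hX⟩ : ∃ X, X = Y'.map π := ⟨_, rfl⟩
  obtain ⟨N, hN⟩ : ∃ N, N = normalizer (Y' : Set L) := ⟨_, rfl⟩
  have hkπ : π.ker = pCore p L := hπ ▸ QuotientGroup.ker_mk' _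
  have hπs : Function.Surjective π := hπ ▸ QuotientGroup.mk'_surjective _
  have hA : ∀ z : L, (z : G) ∈ pCoreOf p L ↔ z ∈ pCore p L := fun z =>
    ⟨fun ⟨w, hw, he⟩ => Subtype.ext he ▸ hw, fun h => ⟨z, h, rfl⟩⟩
  have hAN' : pCore p L ≤ N := by
    intro z hz
    rw [hN, hY', mem_normalizer_iff]
    intro w
    exact mem_normalizer_iff.1 (hAN ((hA z).2 hz)) (w : G)
  have hNY : N.map π ≤ normalizer (X : Set (L ⧸ pCore p L)) := hX ▸ hN ▸ le_normalizer_map π
  have hNne : N ≠ ⊤ := by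
    intro htop
    refine hlt.not_ge fun z hz => mem_inf.2 ⟨hz, mem_normalizer_fintype fun w hw => ?_⟩
    have hn : (⟨z, hz⟩ : L) ∈ normalizer (Y' : Set L) := hN ▸ htop ▸ mem_top _
    exact (mem_subgroupOf.1 (hY' ▸ (mem_normalizer_iff.1 hn ⟨w, hYL hw⟩).1 (hY' ▸ mem_subgroupOf.2 hw)) :)
  have hXmax : ∀ K : Subgroup (L ⧸ pCore p L), X ≤ K → K ≠ ⊤ → K ≤ N.map π := by
    intro K hK hne q hq
    obtain ⟨K', hK'⟩ : ∃ K', K' = (K.comap π).map L.subtype := ⟨_, rfl⟩
    have h1 : Y ≤ K' := fun y hy => hK' ▸ ⟨⟨y, hYL hy⟩,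
      hK (hX ▸ ⟨⟨y, hYL hy⟩, hY' ▸ mem_subgroupOf.2 hy, rfl⟩), rfl⟩
    have h2 : K' < L := lt_of_le_of_ne (hK' ▸ map_subtype_le _) fun he => hne (by
      rw [eq_top_iff]
      rintro q -
      obtain ⟨z, rfl⟩ := hπs q
      obtain ⟨w, hw, hwz⟩ := hK' ▸ (he ▸ z.2 : (z : G) ∈ K')
      exact Subtype.ext hwz ▸ hw)
    obtain ⟨z, rfl⟩ := hπs q
    refine ⟨z, ?_, rfl⟩
    have h3 : (z : G) ∈ normalizer (Y : Set G) := (mem_inf.1 (hmax K' h1 h2 (hK' ▸ ⟨z, hq, rfl⟩))).2
    rw [SetLike.mem_coe, hN, hY', mem_normalizer_iff]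
    intro w
    exact mem_normalizer_iff.1 h3 (w : G)
  have hNtop : N.map π ≠ ⊤ := by
    intro h1
    have h2 := congrArg (Subgroup.comap π) h1
    rw [comap_map_eq, hkπ, sup_eq_left.2 hAN', comap_top] at h2
    exact hNne h2
  have hXgen : normalClosure (X : Set (L ⧸ pCore p L)) = ⊤ := by
    rw [eq_top_iff, ← map_top_of_surjective π hπs, ← hmin.1, ← hY']
    rw [map_le_iff_le_comap]
    exact normalClosure_le_normal fun y hy => subset_normalClosure (hX ▸ mem_map_of_mem π hy)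
  have hXnt : ¬ X.Normal := by
    intro hn
    refine hNtop (top_le_iff.1 ?_)
    rw [← hXgen]
    exact (normalClosure_le_normal le_rfl).trans (hX ▸ map_mono (hN ▸ le_normalizer))
  have hel' : IsElementaryAbelian p Y' := hY' ▸ CfsgLib.PLocal.elementary_comap L.subtype L.subtype_injective hYel
  have helX : IsElementaryAbelian p X := hX ▸ CfsgLib.PLocal.elementary_map π hel'
  have hcard : Nat.card X = (Y ⊓ pCoreOf p L).relIndex Y := by
    rw [hX, ← relIndex_ker, hkπ, hY', inf_relIndex_left,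
      ← relIndex_map_map_of_injective _ _ L.subtype_injective, subgroupOf_map_subtype,
      inf_eq_left.mpr hYL]
    rfl
  have hgood : Good p X := by
    rcases hcases with ⟨F, _, _, hF, ⟨e⟩⟩ | ⟨rfl, F, _, _, m, hF, hF', ⟨e⟩⟩ | ⟨rfl, r, hr, -, ⟨e⟩⟩
    · obtain ⟨k, hk⟩ := IsPGroup.iff_card.mp (fun y : X => ⟨1, Subtype.ext
        (by rw [pow_one]; exact helX.2 y y.2)⟩ : IsPGroup p X)
      haveI : CharP F p := charP_of_card_eq_prime_pow (f := k) (by rw [hF, ← hcard, hk])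
      refine good_of_map e (good_SL2 (CfsgLib.PLocal.elementary_map _ helX) ?_)
      rw [card_map_of_injective (f := e.toMonoidHom) e.injective, hcard, hF]
    · haveI : CharP F 2 := CfsgLib.Lie.Suzuki.charTwo_of_card hF
      rcases Nat.eq_zero_or_pos m with rfl | hm
      · exact good_two hXmax hNY hXnt hXgen (by rw [hcard, ← hF', hF]; norm_num)
      refine good_of_map (e.trans (CfsgLib.Lie.Suzuki.equivLie hm hF).symm)
        (good_Sz hF hm (CfsgLib.PLocal.elementary_map _ helX) ?_)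
      rw [card_map_of_injective (f := MulEquiv.toMonoidHom _) (MulEquiv.injective _), hcard, hF']
    · refine good_two hXmax hNY hXnt hXgen ?_
      haveI : Fact (Nat.Prime 2) := ⟨Nat.prime_two⟩
      haveI : NeZero r := ⟨hr.ne_zero⟩
      obtain ⟨k, hk⟩ := IsPGroup.iff_card.mp (fun y : X => ⟨1, Subtype.ext
        (by rw [pow_one]; exact helX.2 y y.2)⟩ : IsPGroup 2 X)
      have hd : Nat.card X ∣ 2 * r := by
        rw [← DihedralGroup.nat_card (n := r), ← Nat.card_congr e.toEquiv]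
        exact card_subgroup_dvd_card X
      have hlt : Nat.card X < 2 * r := by
        rw [← DihedralGroup.nat_card (n := r), ← Nat.card_congr e.toEquiv]
        refine lt_of_le_of_ne (card_le_card_group X) fun h1 => hXnt ?_
        rw [eq_top_of_card_eq X h1]; infer_instance
      have hne : Nat.card X ≠ 1 := fun h1 => hXnt (by rw [eq_bot_of_card_eq X h1]; infer_instance)
      rw [hk] at hd hlt hne ⊢
      rcases k with _ | k
      · exact absurd rfl hne
      rcases hr.eq_one_or_self_of_dvd _ ((Nat.mul_dvd_mul_iff_left two_pos).1 (pow_succ' 2 k ▸ hd)) with h1 | h1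
      · rw [pow_succ', h1, mul_one]
      · rw [pow_succ', h1] at hlt; omega
  have hAeq : pCore p L = normalClosure ((Y' ⊓ pCore p L : Subgroup L) : Set L) := by
    refine map_injective L.subtype_injective ?_
    have h1 : (Y' ⊓ pCore p L : Subgroup L) = (Y ⊓ pCoreOf p L).subgroupOf L := by
      ext z; rw [hY']; exact and_congr_right fun _ => (hA z).symm
    rw [h1]; exact hgen
  have hs : Spread p Y' (pCore p L) :=
    { pA := CfsgLib.Components.pCore_isPGroup p
      gen := hAeq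
      nor := hN ▸ hAN'
      pY := fun y => ⟨1, Subtype.ext (by rw [pow_one]; exact hel'.2 y y.2)⟩
      comm := fun v hv w hw => congrArg Subtype.val (hel'.1.is_comm.comm (⟨v, hv⟩ : Y') ⟨w, hw⟩)
      nt := by rw [← hπ, ← hX]; exact hXnt
      max := by rw [← hπ, ← hX]; exact fun K hK hle => (hXmax K hle hK).trans hNY
      ti := by rw [← hπ, ← hX]; exact hgood.1
      prod := by rw [← hπ, ← hX]; exact hgood.2 }
  intro a ha hfix
  have haL : a ∈ L := map_subtype_le _ ha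
  obtain ⟨h', hh'⟩ : ∃ h' : L, (h' : G) = h := ⟨⟨h, hh⟩, rfl⟩
  obtain ⟨a', ha'⟩ : ∃ a' : L, (a' : G) = a := ⟨⟨a, haL⟩, rfl⟩
  have h1 := hs.fpf (h := h') (c := a') (by rw [← Subgroup.orderOf_coe, hh']; exact hnp)
    ((hA a').1 (ha' ▸ ha)) (mem_center_iff.2 fun g => Subtype.ext (by
      have := mem_centralizer_iff.1 (mem_inf.1 hfix).2 g g.2
      simpa [commutatorElement_def, hh', ha'] using this))
  rw [hY'] at h1
  refine mem_inf.2 ⟨ha' ▸ mem_subgroupOf.1 (mem_inf.1 h1).1, mem_centralizer_iff.2 fun g hg => ?_⟩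
  have := congrArg Subtype.val (mem_center_iff.1 (mem_inf.1 h1).2 ⟨g, hg⟩)
  simpa [ha'] using this

end CfsgLib.LocalEven.FrakLFPF
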