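import Cfsg.Agent.Lib.LocalEven.FrakLFPF
import Cfsg.Agent.Lib.Lie.Suzuki.Partition

/-!
# The three types of `L / O_p(L)` for the members of `𝔏_G(Y_M)`

`Good p X`: distinct conjugates of `X` do not normalise each other's nontrivial elements, and elements of prime order other than `p`
are products, or central squares of products, of two elements of distinct conjugates.

* `good_two`, `good_SL2`, `good_Sz`
-/

set_option autoImplicit false
set_option linter.all false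

namespace CfsgLib.LocalEven.FrakLFPF

open Subgroup
open scoped MatrixGroups Pointwise Matrix

variable {Q Q' : Type*} [Group Q] [Group Q'] {p : ℕ}

/-- The hypotheses of `Spread` that only concern `L / A`. -/
def Good (p : ℕ) (X : Subgroup Q) : Prop :=
  (∀ g : Q, ∀ x ∈ X, x ≠ 1 → x ∈ normalizer ((cj g X : Subgroup Q) : Set Q) → cj g X = X) ∧
    ∀ h : Q, ∀ r : ℕ, r.Prime → r ≠ p → orderOf h = r → IsProd p X h

theorem good_of_map (e : Q ≃* Q') {X : Subgroup Q} (h : Good p (X.map e.toMonoidHom)) : Good p X := by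
  refine ⟨fun g x hx hx1 hn => ?_, fun q r hr hrp hq => ?_⟩
  · refine map_injective (f := e.toMonoidHom) e.injective ?_
    rw [map_cj]
    refine h.1 (e g) (e x) (mem_map_of_mem e.toMonoidHom hx) (fun h0 => hx1 ((map_eq_one_iff e e.injective).1 h0)) ?_
    have := le_normalizer_map e.toMonoidHom (mem_map_of_mem e.toMonoidHom hn)
    rwa [map_cj] at this
  · obtain ⟨a, b, hne, x, hx, y, hy, hx1, hy1, hc⟩ := h.2 (e q) r hr hrp (by rw [MulEquiv.orderOf_eq]; exact hq)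
    obtain ⟨a, rfl⟩ := e.surjective a
    obtain ⟨b, rfl⟩ := e.surjective b
    rw [show cj (e a) (X.map e.toMonoidHom) = (cj a X).map e.toMonoidHom from (map_cj e.toMonoidHom a X).symm] at hx hne
    rw [show cj (e b) (X.map e.toMonoidHom) = (cj b X).map e.toMonoidHom from (map_cj e.toMonoidHom b X).symm] at hy hne
    obtain ⟨x, hx, rfl⟩ := hx
    obtain ⟨y, hy, rfl⟩ := hy
    refine ⟨a, b, fun h0 => hne (by rw [h0]), x, hx, y, hy, fun h0 => hx1 (by rw [h0, map_one]),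
      fun h0 => hy1 (by rw [h0, map_one]), ?_⟩
    rcases hc with hc | ⟨hp, hc, hz⟩
    · exact Or.inl (e.injective (by rw [map_mul]; exact hc))
    · refine Or.inr ⟨hp, e.injective (by rw [map_pow, map_mul]; exact hc), fun w => ?_⟩
      refine e.injective ?_
      rw [map_mul, map_mul]
      exact hz (e w)

theorem isProd_conj {X : Subgroup Q} {h : Q} (g : Q) (hp : IsProd p X (g * h * g⁻¹)) : IsProd p X h := by
  obtain ⟨a, b, hne, x, hx, y, hy, hx1, hy1, hc⟩ := hp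
  refine ⟨g⁻¹ * a, g⁻¹ * b, fun h0 => hne ?_, g⁻¹ * x * g, ?_, g⁻¹ * y * g, ?_, ?_, ?_, ?_⟩
  · have := congrArg (cj g) h0
    simpa [cj_cj] using this
  · rw [mem_cj] at hx ⊢; convert hx using 1; group
  · rw [mem_cj] at hy ⊢; convert hy using 1; group
  · intro h0; exact hx1 (by rw [show x = g * (g⁻¹ * x * g) * g⁻¹ by group, h0]; group)
  · intro h0; exact hy1 (by rw [show y = g * (g⁻¹ * y * g) * g⁻¹ by group, h0]; group)
  · rcases hc with hc | ⟨hp, hc, hz⟩
    · refine Or.inl ?_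
      rw [show h = g⁻¹ * (g * h * g⁻¹) * g by group, hc]; group
    · refine Or.inr ⟨hp, ?_, fun w => ?_⟩
      · rw [show h = g⁻¹ * (g * h * g⁻¹) * g by group, hc, pow_two, pow_two]; group
      · have h1 := (hz g).eq
        have h2 : g * h * g⁻¹ = h := by
          have := mul_left_cancel (a := g) (show g * (h * g⁻¹ * g) = g * (g * h * g⁻¹) by rw [← h1]; group)
          simpa using this.symm
        exact h2 ▸ hz w

/-- An involution generating the image, as in the dihedral groups. -/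
theorem good_two [Finite Q] {X N : Subgroup Q} (hmax : ∀ K : Subgroup Q, X ≤ K → K ≠ ⊤ → K ≤ N)
    (hN : N ≤ normalizer (X : Set Q)) (hnt : ¬ X.Normal) (hgen : normalClosure (X : Set Q) = ⊤)
    (hX : Nat.card X = 2) : Good 2 X := by
  obtain ⟨⟨u, hu⟩, ⟨v, hv⟩, hne, huniv⟩ := Nat.card_eq_two_iff.1 hX
  obtain ⟨t, ht, ht1, hall⟩ : ∃ t ∈ X, t ≠ 1 ∧ ∀ x ∈ X, x = 1 ∨ x = t := by
    have h1 : ∀ x ∈ X, x = u ∨ x = v := fun x hx => by
      have := huniv.ge (Set.mem_univ (⟨x, hx⟩ : X))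
      simpa using this
    have huv : u ≠ v := fun h => hne (Subtype.ext h)
    rcases h1 1 X.one_mem with h | h
    · exact ⟨v, hv, fun h' => huv (h.symm.trans h'.symm), fun x hx => by rw [h]; exact h1 x hx⟩
    · exact ⟨u, hu, fun h' => huv (h'.trans h), fun x hx => by rw [h]; exact (h1 x hx).symm⟩
  have htt : t * t = 1 := by
    rcases hall _ (X.mul_mem ht ht) with h | h
    · exact h
    · exact absurd (mul_eq_left.1 h) ht1
  have hXz : ∀ g : Q, ∀ x ∈ cj g X, x = 1 ∨ x = g * t * g⁻¹ := by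
    rintro g _ ⟨x, hx, rfl⟩
    rcases hall x hx with rfl | rfl
    · exact Or.inl (map_one _)
    · exact Or.inr rfl
  have hcjeq : ∀ g : Q, g * t * g⁻¹ = t → cj g X = X := by
    intro g hg
    ext x
    rw [mem_cj]
    constructor
    · intro hx
      rcases hall _ hx with h | h
      · rw [show x = g * (g⁻¹ * x * g) * g⁻¹ by group, h]; simpa using X.one_mem
      · rw [show x = g * (g⁻¹ * x * g) * g⁻¹ by group, h, hg]; exact ht
    · intro hx
      rcases hall _ hx with rfl | rfl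
      · simpa using X.one_mem
      · rw [show g⁻¹ * x * g = g⁻¹ * (g * x * g⁻¹) * g by rw [hg]]; simpa [mul_assoc] using ht
  -- a second conjugate
  obtain ⟨g, hg⟩ : ∃ g : Q, t * (g * t * g⁻¹) ≠ g * t * g⁻¹ * t := by
    by_contra hno
    push Not at hno
    refine hnt ?_
    have h1 : normalClosure (X : Set Q) ≤ centralizer ({t} : Set Q) := (closure_le _).2 (by
      intro w hw
      obtain ⟨x, hx, hxw⟩ := Group.mem_conjugatesOfSet_iff.1 hw
      obtain ⟨c, rfl⟩ := isConj_iff.1 hxw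
      rw [SetLike.mem_coe, mem_centralizer_singleton_iff]
      rcases hall x hx with rfl | rfl
      · simp
      · exact (hno c).symm)
    rw [hgen] at h1
    refine ⟨fun x hx c => ?_⟩
    rcases hall x hx with rfl | rfl
    · simpa using X.one_mem
    · rw [mem_centralizer_singleton_iff.1 (h1 (mem_top c)), mul_inv_cancel_right]; exact ht
  obtain ⟨s, hs⟩ : ∃ s, s = g * t * g⁻¹ := ⟨_, rfl⟩
  rw [← hs] at hg
  have hss : s * s = 1 := by
    rw [hs, show g * t * g⁻¹ * (g * t * g⁻¹) = g * (t * t) * g⁻¹ by group, htt]; group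
  have htop : closure ({t, s} : Set Q) = ⊤ := by
    by_contra hK
    have hle := hmax _ (fun x hx => by
      rcases hall x hx with rfl | rfl
      · exact one_mem _
      · exact subset_closure (Or.inl rfl)) hK
    have h1 := (mem_normalizer_iff.1 (hN (hle (subset_closure (Or.inr rfl : s ∈ ({t, s} : Set Q))))) t).1 ht
    rcases hall _ h1 with h | h
    · exact ht1 (by rw [show t = s⁻¹ * (s * t * s⁻¹) * s by group, h]; group)
    · exact hg (by conv_lhs => rw [← h]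
                   group)
  obtain ⟨ρ, hρ⟩ : ∃ ρ, ρ = t * s := ⟨_, rfl⟩
  have hti : t⁻¹ = t := inv_eq_of_mul_eq_one_right htt
  have hsi : s⁻¹ = s := inv_eq_of_mul_eq_one_right hss
  have hsρ : s = t * ρ := by rw [hρ, ← mul_assoc, htt, one_mul]
  have hflip : ∀ i : ℤ, t * ρ ^ i * t = ρ ^ (-i) := by
    intro i
    have h1 : t * ρ * t⁻¹ = ρ⁻¹ := by rw [hρ, mul_inv_rev, hsi, hti, ← mul_assoc, htt, one_mul]
    have h2 := map_zpow (MulAut.conj t) ρ i
    simp only [MulAut.conj_apply] at h2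
    rw [h1, hti] at h2
    rw [h2, zpow_neg, inv_zpow]
  have hform : ∀ q : Q, ∃ i : ℤ, q = ρ ^ i ∨ q = t * ρ ^ i := by
    intro q
    have hq : q ∈ closure ({t, s} : Set Q) := htop ▸ mem_top q
    induction hq using closure_induction with
    | mem x hx =>
      rcases hx with rfl | rfl
      · exact ⟨0, Or.inr (by rw [zpow_zero, mul_one])⟩
      · exact ⟨1, Or.inr (by rw [zpow_one]; exact hsρ)⟩
    | one => exact ⟨0, Or.inl (zpow_zero ρ).symm⟩
    | mul x y _ _ hx hy =>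
      obtain ⟨i, rfl | rfl⟩ := hx <;> obtain ⟨j, rfl | rfl⟩ := hy
      · exact ⟨i + j, Or.inl (zpow_add ρ i j).symm⟩
      · refine ⟨-i + j, Or.inr ?_⟩
        rw [zpow_add, ← hflip i, ← mul_assoc, ← mul_assoc, ← mul_assoc, ← mul_assoc, htt, one_mul, mul_assoc (ρ ^ i) t]
      · exact ⟨i + j, Or.inr (by rw [zpow_add, mul_assoc])⟩
      · exact ⟨-i + j, Or.inl (by rw [zpow_add, ← hflip i]; group)⟩
    | inv x _ hx =>
      obtain ⟨i, rfl | rfl⟩ := hx
      · exact ⟨-i, Or.inl (zpow_neg ρ i).symm⟩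
      · refine ⟨i, Or.inr ?_⟩
        rw [mul_inv_rev, hti, ← zpow_neg, ← hflip i, mul_assoc, htt, mul_one]
  have hrot : ∀ i : ℤ, ρ ^ (-i) * t * ρ ^ i = t * ρ ^ (2 * i) := by
    intro i
    rw [← hflip i, mul_assoc (t * ρ ^ i), htt, mul_one, mul_assoc, ← zpow_add, two_mul]
  have hclass : ∀ q : Q, ∃ i : ℤ, q * t * q⁻¹ = t * ρ ^ (2 * i) := by
    intro q
    obtain ⟨i, rfl | rfl⟩ := hform q
    · exact ⟨-i, by rw [← hrot, neg_neg, zpow_neg]⟩
    · refine ⟨i, ?_⟩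
      rw [← hrot, ← hflip i, mul_inv_rev, hti]
      simp only [mul_assoc, htt, mul_one]
      rw [← zpow_neg, ← hflip i]
      simp only [mul_assoc, htt, mul_one, ← mul_assoc (t : Q) t, one_mul]
  obtain ⟨k, hk⟩ : ∃ k : ℤ, ρ ^ (2 * k - 1) = 1 := by
    obtain ⟨i, hi⟩ := hclass g
    rw [← hs, hsρ, mul_left_cancel_iff] at hi
    exact ⟨i, by rw [zpow_sub, zpow_one, ← hi, mul_inv_cancel]⟩
  have hhalf : ∀ j : ℤ, ρ ^ j = ρ ^ (2 * (j * k)) := fun j => by
    rw [show 2 * (j * k) = (2 * k - 1) * j + j by ring, zpow_add, zpow_mul, hk, one_zpow, one_mul]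
  refine ⟨fun c x hx hx1 hn => hcjeq c ?_, fun h r hr hr2 hh => ?_⟩
  · obtain rfl : x = t := (hall x hx).resolve_left hx1
    have h1 := (mem_normalizer_iff.1 hn _).1 (show c * x * c⁻¹ ∈ cj c X from ⟨x, hx, rfl⟩)
    rcases hXz c _ h1 with h | h
    · exact absurd (by
        rw [show x = c⁻¹ * (x⁻¹ * (x * (c * x * c⁻¹) * x⁻¹) * x) * c by group, h]; group) hx1
    · obtain ⟨i, hi⟩ := hclass c
      rw [hi] at h ⊢
      rw [hti, ← mul_assoc, htt, one_mul] at h
      have h2 : ρ ^ (2 * i) * x = x * ρ ^ (2 * i) := h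
      have h3 : ρ ^ (-(2 * i)) = ρ ^ (2 * i) := by rw [← hflip, ← h2, mul_assoc, htt, mul_one]
      have h4 : ρ ^ (2 * (2 * i)) = 1 := by rw [two_mul (2 * i), zpow_add]; nth_rewrite 1 [← h3]; rw [zpow_neg, inv_mul_cancel]
      rw [hhalf (2 * i), ← mul_assoc, zpow_mul, h4, one_zpow, mul_one]
  · obtain ⟨i, rfl | rfl⟩ := hform h
    · have hconj : t * ρ ^ i = ρ ^ (-(i * k)) * t * ρ ^ (i * k) := by rw [hrot, ← hhalf]
      have hne1 : ρ ^ i ≠ 1 := fun h0 => hr.one_lt.ne (by rw [← hh, h0, orderOf_one])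
      refine ⟨1, ρ ^ (-(i * k)), fun h0 => hne1 ?_, t, mem_cj.2 (by simpa using ht), t * ρ ^ i, ?_, ht1, ?_,
        Or.inl (by rw [← mul_assoc, htt, one_mul])⟩
      · have h1 : t * ρ ^ i ∈ cj (1 : Q) X := h0 ▸ mem_cj.2 (by
          rw [hconj, show (ρ ^ (-(i * k)))⁻¹ * (ρ ^ (-(i * k)) * t * ρ ^ (i * k)) * ρ ^ (-(i * k)) = t by
            rw [zpow_neg]; group]
          exact ht)
        rcases hXz 1 _ h1 with h | h
        · exfalso
          refine ht1 ?_
          rw [show t = ρ ^ (i * k) * (ρ ^ (-(i * k)) * t * ρ ^ (i * k)) * (ρ ^ (i * k))⁻¹ by rw [zpow_neg]; group,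
            ← hconj, h]
          group
        · simpa using h
      · rw [mem_cj, hconj, show (ρ ^ (-(i * k)))⁻¹ * (ρ ^ (-(i * k)) * t * ρ ^ (i * k)) * ρ ^ (-(i * k)) = t by
          rw [zpow_neg]; group]
        exact ht
      · intro h
        refine ht1 ?_
        rw [show t = ρ ^ (i * k) * (ρ ^ (-(i * k)) * t * ρ ^ (i * k)) * (ρ ^ (i * k))⁻¹ by rw [zpow_neg]; group,
          ← hconj, h]
        group
    · exfalso
      have h2 : (t * ρ ^ i) ^ 2 = 1 := by rw [pow_two, ← mul_assoc, hflip, ← zpow_add, neg_add_cancel, zpow_zero]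
      exact hr2 ((Nat.prime_dvd_prime_iff_eq hr Nat.prime_two).1 (hh ▸ orderOf_dvd_of_pow_eq_one h2))

section SL2

variable {F : Type*} [Field F] [Fintype F] [Fact p.Prime] [CharP F p]

omit [Fintype F] [Fact p.Prime] [CharP F p] in
theorem coe_up (b : F) : ((Ppd.up b : SL(2, F)) : Matrix (Fin 2) (Fin 2) F) = !![1, b; 0, 1] := rfl

omit [Fintype F] [Fact p.Prime] [CharP F p] in
theorem coe_lo (b : F) : ((Ppd.lo b : SL(2, F)) : Matrix (Fin 2) (Fin 2) F) = !![1, 0; b, 1] := rfl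

set_option maxHeartbeats 800000 in
/-- `SL₂(q)` with `|X| = q`. -/
theorem good_SL2 {X : Subgroup SL(2, F)} (hel : Cfsg.IsElementaryAbelian p X)
    (hcard : Nat.card X = Fintype.card F) : Good p X := by
  have hXp : IsPGroup p X := fun y => ⟨1, Subtype.ext (by rw [pow_one]; exact hel.2 y y.2)⟩
  obtain ⟨P, hP⟩ := hXp.exists_le_sylow
  have hPX : (P : Subgroup SL(2, F)) = X := (eq_of_le_of_card_ge hP (by
    rw [hcard, ← Classical.Two.card_sylow_SL_two p P])).symm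
  obtain ⟨x₀, hx₀⟩ := Classical.Two.exists_point_sylow_SL p P
  obtain ⟨g₀, hg₀⟩ := MulAction.exists_smul_eq SL(2, F) x₀ (Classical.Two.basePoint F 0)
  refine good_of_map (MulAut.conj g₀) ?_
  obtain ⟨U, hU⟩ : ∃ U, U = X.map (MulAut.conj g₀).toMonoidHom := ⟨_, rfl⟩
  rw [← hU]
  have hroot : U = Classical.Two.rootGroup (Classical.Two.basePoint F 0) := by
    rw [hU, ← hPX, hx₀, ← hg₀, Classical.Two.rootGroup_smul]
    rfl
  have hup : ∀ v, v ∈ U ↔ ∃ b, v = Ppd.up b := by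
    intro v
    rw [hroot, ← SetLike.mem_coe, Classical.Two.rootGroup_basePoint]
    constructor
    · rintro ⟨b, rfl⟩; exact ⟨b, Ppd.up_eq b⟩
    · rintro ⟨b, rfl⟩; exact ⟨b, Ppd.up_eq b⟩
  -- the normaliser is triangular
  have htri : ∀ y : SL(2, F), ∀ b : F, b ≠ 0 → y * Ppd.up b * y⁻¹ ∈ U → y 1 0 = 0 := by
    intro y b hb hy
    obtain ⟨c, hc⟩ := (hup _).1 hy
    rw [mul_inv_eq_iff_eq_mul] at hc
    have h1 := congrArg (fun M : SL(2, F) => M 1 1) hc
    simp [coe_up, Matrix.SpecialLinearGroup.coe_mul, Matrix.mul_apply, Fin.sum_univ_two] at h1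
    exact h1.resolve_right hb
  have hconj : ∀ y : SL(2, F), y 1 0 = 0 → ∀ b : F, y * Ppd.up b * y⁻¹ ∈ U := by
    intro y hy b
    have hdet := y.2
    rw [Matrix.det_fin_two, hy, mul_zero, sub_zero] at hdet
    refine (hup _).2 ⟨y 0 0 ^ 2 * b, mul_inv_eq_iff_eq_mul.2 ?_⟩
    ext i j
    fin_cases i <;> fin_cases j <;> simp [coe_up, Matrix.SpecialLinearGroup.coe_mul, Matrix.mul_apply, Fin.sum_univ_two, hy]
    linear_combination (-(y 0 0 * b)) * hdet
  refine ⟨fun g x hx hx1 hn => ?_, fun h r hr hrp hh => ?_⟩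
  · obtain ⟨b, rfl⟩ := (hup x).1 hx
    have hb : b ≠ 0 := by
      rintro rfl; exact hx1 (by ext i j; fin_cases i <;> fin_cases j <;> simp [coe_up])
    have h1 := (mem_normalizer_iff.1 hn _).1 (show g * Ppd.up 1 * g⁻¹ ∈ cj g U from
      ⟨_, (hup _).2 ⟨1, rfl⟩, rfl⟩)
    rw [mem_cj] at h1
    have h2 := htri (g⁻¹ * Ppd.up b * g) 1 one_ne_zero (by convert h1 using 1; group)
    have hg : g 1 0 = 0 := by
      simp [coe_up, Matrix.SpecialLinearGroup.coe_mul, Matrix.mul_apply, Fin.sum_univ_two, Matrix.SpecialLinearGroup.coe_inv, Matrix.adjugate_fin_two] at h2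
      by_contra hne
      exact hne (pow_eq_zero_iff two_ne_zero |>.1 ((mul_eq_zero.1 (show b * g 1 0 ^ 2 = 0 by linear_combination -h2)).resolve_left hb))
    refine eq_of_le_of_card_ge ?_ (Subgroup.card_map_of_injective (MulAut.conj g).injective).ge
    rintro _ ⟨y, hy, rfl⟩
    obtain ⟨c, rfl⟩ := (hup y).1 hy
    exact hconj g hg c
  obtain ⟨w, hw⟩ : ∃ w : SL(2, F), (w : Matrix (Fin 2) (Fin 2) F) = !![0, -1; 1, 0] :=
    ⟨⟨!![0, -1; 1, 0], by simp [Matrix.det_fin_two]⟩, rfl⟩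
  have hlo : ∀ c, Ppd.lo c ∈ cj w U := fun c => by
    rw [mem_cj]
    refine (hup _).2 ⟨-c, ?_⟩
    rw [mul_assoc, inv_mul_eq_iff_eq_mul]
    ext i j
    fin_cases i <;> fin_cases j <;> simp [hw, coe_up, coe_lo, Matrix.SpecialLinearGroup.coe_mul, Matrix.mul_apply, Fin.sum_univ_two]
  have hwne : cj w U ≠ cj 1 U := by
    intro h0
    have h1 := h0 ▸ hlo 1
    rw [mem_cj, inv_one, one_mul, mul_one] at h1
    obtain ⟨c, hc⟩ := (hup _).1 h1
    have := congrArg (fun M : SL(2, F) => M 1 0) hc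
    simp [coe_up, coe_lo] at this
  have hU1 : ∀ b, Ppd.up b ∈ cj 1 U := fun b => mem_cj.2 (by simpa using (hup _).2 ⟨b, rfl⟩)
  have hne_one : ∀ b : F, b ≠ 0 → Ppd.up b ≠ 1 ∧ Ppd.lo b ≠ 1 := fun b hb =>
    ⟨fun h0 => hb (by simpa [coe_up] using congrArg (fun M : SL(2, F) => M 0 1) h0),
     fun h0 => hb (by simpa [coe_lo] using congrArg (fun M : SL(2, F) => M 1 0) h0)⟩
  -- matrices with nonzero lower left entry
  have hgen : ∀ q : SL(2, F), q 1 0 ≠ 0 → orderOf q = r → IsProd p U q := by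
    intro q hq hqr
    obtain ⟨s, hs⟩ : ∃ s : F, q 0 0 + s * q 1 0 = 1 := ⟨(1 - q 0 0) / q 1 0, by field_simp; ring⟩
    refine isProd_conj (Ppd.up s) ?_
    obtain ⟨β, hβ⟩ : ∃ β : F, β = q 0 1 + s * q 1 1 - s := ⟨_, rfl⟩
    have hdet := q.2
    rw [Matrix.det_fin_two] at hdet
    have heq : Ppd.up s * q * (Ppd.up s)⁻¹ = Ppd.lo (q 1 0) * Ppd.up β := by
      rw [mul_inv_eq_iff_eq_mul, hβ]
      ext i j
      fin_cases i <;> fin_cases j <;> simp [coe_up, coe_lo, Matrix.SpecialLinearGroup.coe_mul, Matrix.mul_apply, Fin.sum_univ_two]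
      · exact hs
      · linear_combination hdet - (q 1 1) * hs
    refine ⟨w, 1, hwne, _, hlo (q 1 0), _, hU1 β, (hne_one _ hq).2, ?_, Or.inl heq⟩
    intro h0
    rw [h0, mul_one] at heq
    refine hrp ((Nat.prime_dvd_prime_iff_eq hr Fact.out).1 ?_)
    rw [← hqr, ← MulEquiv.orderOf_eq (MulAut.conj (Ppd.up s)) q, MulAut.conj_apply, heq]
    refine orderOf_dvd_of_pow_eq_one ?_
    have h2 : ∀ n : ℕ, Ppd.lo (q 1 0) ^ n = Ppd.lo ((n : F) * q 1 0) := fun n => by
      induction n with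
      | zero => ext i j; fin_cases i <;> fin_cases j <;> simp [coe_lo]
      | succ n ih =>
        rw [pow_succ, ih]
        ext i j
        fin_cases i <;> fin_cases j <;> simp [coe_lo, Matrix.SpecialLinearGroup.coe_mul, Matrix.mul_apply, Fin.sum_univ_two]
        ring
    rw [h2, CharP.cast_eq_zero, zero_mul]
    ext i j; fin_cases i <;> fin_cases j <;> simp [coe_lo]
  by_cases h10 : h 1 0 ≠ 0
  · exact hgen h h10 hh
  push Not at h10
  have hdet := h.2
  rw [Matrix.det_fin_two, h10, mul_zero, sub_zero] at hdet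
  by_cases h01 : h 0 1 ≠ 0
  · refine isProd_conj w (hgen _ ?_ (by rw [← hh, ← MulEquiv.orderOf_eq (MulAut.conj w) h, MulAut.conj_apply]))
    simp [hw, Matrix.SpecialLinearGroup.coe_mul, Matrix.mul_apply, Fin.sum_univ_two, Matrix.SpecialLinearGroup.coe_inv, Matrix.adjugate_fin_two, Matrix.vecMul, dotProduct]
    exact h01
  push Not at h01
  by_cases hdiag : h 0 0 ≠ h 1 1
  · refine isProd_conj (Ppd.lo 1)
      (hgen _ ?_ (by rw [← hh, ← MulEquiv.orderOf_eq (MulAut.conj (Ppd.lo (1 : F))) h, MulAut.conj_apply]))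
    simp [coe_lo, Matrix.SpecialLinearGroup.coe_mul, Matrix.mul_apply, Fin.sum_univ_two, Matrix.SpecialLinearGroup.coe_inv, Matrix.adjugate_fin_two, Matrix.vecMul, dotProduct, h10, h01]
    intro h0; exact hdiag (by linear_combination h0)
  push Not at hdiag
  -- minus one
  have hh1 : h ≠ 1 := fun h0 => hr.one_lt.ne (by rw [← hh, h0, orderOf_one])
  have hm1 : h 0 0 = -1 := by
    rw [← hdiag] at hdet
    rcases mul_self_eq_one_iff.1 hdet with h0 | h0
    · exfalso; refine hh1 ?_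
      ext i j
      fin_cases i <;> fin_cases j <;> simp [h10, h01, h0, ← hdiag]
    · exact h0
  have hp2 : p ≠ 2 := by
    rintro rfl
    refine hh1 ?_
    ext i j
    fin_cases i <;> fin_cases j <;> simp [h10, h01, hm1, ← hdiag, CharTwo.neg_eq]
  have h2 : (-2 : F) ≠ 0 := by
    intro h0
    have h1 : ((2 : ℕ) : F) = 0 := by push_cast; linear_combination -h0
    rw [CharP.cast_eq_zero_iff F p] at h1
    exact hp2 ((Nat.prime_dvd_prime_iff_eq Fact.out Nat.prime_two).1 h1)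
  refine ⟨w, 1, hwne, _, hlo 1, _, hU1 (-2), (hne_one 1 one_ne_zero).2, (hne_one _ h2).1,
    Or.inr ⟨hp2, ?_, fun y => ?_⟩⟩
  · rw [pow_two]
    ext i j
    fin_cases i <;> fin_cases j <;>
      simp [coe_up, coe_lo, Matrix.SpecialLinearGroup.coe_mul, Matrix.mul_apply, Fin.sum_univ_two, h10, h01, hm1, ← hdiag] <;> ring
  · show h * y = y * h
    ext i j
    fin_cases i <;> fin_cases j <;> simp [Matrix.SpecialLinearGroup.coe_mul, Matrix.mul_apply, Fin.sum_univ_two, h10, h01, hm1, ← hdiag]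

end SL2

section Suzuki

variable {F : Type*} [Field F] [CharP F 2] [Fintype F] {m : ℕ}

open CfsgLib.Lie in
/-- `Sz(q)` with `|X| = q`, `q > 2`. -/
theorem good_Sz (hF : Fintype.card F = 2 ^ (2 * m + 1)) (hm : 1 ≤ m) {X : Subgroup (Cfsg.Sz F m)}
    (hel : Cfsg.IsElementaryAbelian 2 X) (hcard : Nat.card X = Fintype.card F) : Good 2 X := by
  haveI : Fact (Nat.Prime 2) := ⟨Nat.prime_two⟩
  have hXp : IsPGroup 2 X := fun y => ⟨1, Subtype.ext (by rw [pow_one]; exact hel.2 y y.2)⟩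
  obtain ⟨P, hP⟩ := hXp.exists_le_sylow
  obtain ⟨k, hk⟩ := Suzuki.sylow_two_eq hF hm P
  refine good_of_map (MulAut.conj k⁻¹) ?_
  obtain ⟨Z, hZ⟩ : ∃ Z, Z = X.map (MulAut.conj k⁻¹).toMonoidHom := ⟨_, rfl⟩
  rw [← hZ]
  have hcard' : Nat.card Z = Fintype.card F := by
    rw [hZ, ← hcard]; exact Subgroup.card_map_of_injective (MulAut.conj k⁻¹).injective
  have hinv : ∀ z ∈ Z, z ^ 2 = 1 := by
    rw [hZ]; rintro _ ⟨x, hx, rfl⟩; rw [← map_pow, hel.2 x hx, map_one]
  have hsq0 : ∀ z ∈ Suzuki.uSub hF, z ^ 2 = 1 → ∃ b, z = Suzuki.uS hF 0 b := by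
    rintro _ ⟨a, b, rfl⟩ h
    rw [Suzuki.uS_sq hF, Suzuki.uS_eq_one_iff hF] at h
    rcases mul_eq_zero.1 h.2 with h0 | h0
    · exact ⟨b, by rw [(map_eq_zero _).1 h0]⟩
    · exact ⟨b, by rw [h0]⟩
  have hmem : ∀ z, z ∈ Z ↔ z ∈ Suzuki.uSub hF ∧ z ^ 2 = 1 := by
    intro z
    have hsub : (Z : Set (Cfsg.Sz F m)) ⊆ Set.range (Suzuki.uS hF 0) := by
      intro z hz
      obtain ⟨x, hx, rfl⟩ := hZ ▸ hz
      have h1 : x ∈ Suzuki.cj k (Suzuki.uSub hF) := hk ▸ hP hx
      obtain ⟨b, hb⟩ := hsq0 _ (Suzuki.mem_cj.1 h1) (by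
        have := hinv _ hz
        simpa using this)
      exact ⟨b, by rw [← hb]; simp⟩
    have heq : (Z : Set (Cfsg.Sz F m)) = Set.range (Suzuki.uS hF 0) :=
      Set.eq_of_subset_of_ncard_le hsub (by
        rw [← Nat.card_coe_set_eq, ← Nat.card_coe_set_eq, Nat.card_range_of_injective
          (fun b b' h => (Suzuki.uS_inj hF h).2), SetLike.coe_sort_coe, hcard', Nat.card_eq_fintype_card])
    constructor
    · intro hz
      obtain ⟨b, rfl⟩ := hsub hz
      exact ⟨Suzuki.uS_mem hF 0 b, hinv _ hz⟩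
    · rintro ⟨h1, h2⟩
      obtain ⟨b, rfl⟩ := hsq0 z h1 h2
      exact heq.ge ⟨b, rfl⟩
  have hfix : ∀ a : Cfsg.Sz F m, ∀ z ∈ cj a Z, z ≠ 1 →
      z • (a • Suzuki.pt F m none) = a • Suzuki.pt F m none ∧
        ∀ x, z • x = x → x = a • Suzuki.pt F m none := by
    intro a z hz h1
    have hu := ((hmem _).1 (mem_cj.1 hz)).1
    refine ⟨?_, fun x hx => ?_⟩
    · have := Suzuki.uSub_smul hF hu
      rwa [mul_smul, mul_smul, inv_smul_eq_iff] at this
    · have := Suzuki.uSub_unique_fix hF hu (Suzuki.conj_ne_one h1) (x := a⁻¹ • x)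
        (by rw [mul_smul, mul_smul, smul_inv_smul, hx])
      rwa [inv_smul_eq_iff] at this
  have hone : ∀ x, x ∈ cj (1 : Cfsg.Sz F m) Z ↔ x ∈ Z := fun x => by simp [mem_cj]
  have hnt : ∃ z ∈ Z, z ≠ 1 := by
    by_contra h
    push Not at h
    have h1 : Z = ⊥ := (eq_bot_iff_forall _).2 h
    rw [h1, Subgroup.card_bot] at hcard'
    have := Suzuki.two_lt_card hF hm
    omega
  refine ⟨fun g x hx hx1 hn => ?_, fun h r hr hr2 hh => ?_⟩
  · -- `x` fixes the point of `cj g Z`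
    obtain ⟨h1, h2⟩ := hfix 1 x ((hone x).2 hx) hx1
    obtain ⟨z₀, hz₀, hz₀1⟩ := hnt
    have hz : g * z₀ * g⁻¹ ∈ cj g Z := ⟨z₀, hz₀, rfl⟩
    have hz1 : g * z₀ * g⁻¹ ≠ 1 := fun h0 => hz₀1 (conj_eq_one_iff.1 h0)
    obtain ⟨h3, h4⟩ := hfix g _ hz hz1
    have h5 : x⁻¹ * (g * z₀ * g⁻¹) * x ∈ cj g Z := (mem_normalizer_iff''.1 hn _).1 hz
    have h5' : x⁻¹ * (g * z₀ * g⁻¹) * x ≠ 1 := Suzuki.conj_ne_one hz1
    have h6 : (g * z₀ * g⁻¹) • (x • (g • Suzuki.pt F m none)) = x • (g • Suzuki.pt F m none) := by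
      have := (hfix g _ h5 h5').1
      rwa [mul_smul, mul_smul, inv_smul_eq_iff] at this
    have h7 : g • Suzuki.pt F m none = Suzuki.pt F m none := by
      simpa using h2 _ (h4 _ h6)
    refine eq_of_le_of_card_ge ?_ (Subgroup.card_map_of_injective (MulAut.conj g).injective).ge
    rintro _ ⟨y, hy, rfl⟩
    obtain ⟨hyu, hy2⟩ := (hmem y).1 hy
    refine (hmem _).2 ⟨?_, by rw [← map_pow, hy2, map_one]⟩
    obtain ⟨a, b, t, rfl⟩ := Suzuki.stab_inf hF hm h7
    obtain ⟨c, d, rfl⟩ := hyu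
    rw [MulEquiv.coe_toMonoidHom, MulAut.conj_apply, mul_inv_rev,
      show Suzuki.uS hF a b * Suzuki.tS hF t * Suzuki.uS hF c d * ((Suzuki.tS hF t)⁻¹ * (Suzuki.uS hF a b)⁻¹) =
        Suzuki.uS hF a b * (Suzuki.tS hF t * Suzuki.uS hF c d * (Suzuki.tS hF t)⁻¹) * (Suzuki.uS hF a b)⁻¹ by group,
      Suzuki.tS_conj_uS, mul_inv_cancel_right]
    exact mul_mem (mul_mem (Suzuki.uS_mem hF _ _) (Suzuki.uS_mem hF _ _)) (inv_mem (Suzuki.uS_mem hF _ _))
  -- an involution inverting `h`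
  have hh1 : h ≠ 1 := fun h0 => hr.one_lt.ne (by rw [← hh, h0, orderOf_one])
  obtain ⟨t, htt, htinv⟩ : ∃ t : Cfsg.Sz F m, t * t = 1 ∧ t * h * t = h⁻¹ := by
    have htorus : ∀ a : Fˣ, Suzuki.wS hF * Suzuki.tS hF a * Suzuki.wS hF = (Suzuki.tS hF a)⁻¹ := by
      intro a
      rw [← map_inv]
      refine Subtype.ext (Subtype.ext ?_)
      show Suzuki.wM * Suzuki.tM (Suzuki.th F m) (a : F) * Suzuki.wM = Suzuki.tM (Suzuki.th F m) ((a⁻¹ : Fˣ) : F)
      ext i j
      fin_cases i <;> fin_cases j <;>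
        simp [Suzuki.tM, Suzuki.wM, Matrix.mul_apply, Matrix.vecMul, dotProduct, Fin.sum_univ_four, div_eq_inv_mul, mul_comm]
    rcases Suzuki.trichotomy hF hm h with hfree | ⟨c, hu | ht⟩
    · obtain ⟨N, hN⟩ : ∃ N, N = normalizer ((centralizer ({h} : Set (Cfsg.Sz F m)) : Subgroup _) : Set (Cfsg.Sz F m)) := ⟨_, rfl⟩
      have hodd : Odd (Nat.card (centralizer ({h} : Set (Cfsg.Sz F m)))) :=
        (Suzuki.odd_sq_add_one hF).of_dvd_nat (Suzuki.free_card_dvd hF hm hfree)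
      obtain ⟨t, ht⟩ := exists_prime_orderOf_dvd_card' (G := N) 2 (by
        rw [hN, Suzuki.free_normalizer_card hF hm hfree]
        exact Dvd.dvd.mul_right (by norm_num) _)
      rw [← Subgroup.orderOf_coe] at ht
      have htt : (t : Cfsg.Sz F m) * t = 1 := by rw [← pow_two, ← ht, pow_orderOf_eq_one]
      refine ⟨t, htt, ?_⟩
      have hti : (t : Cfsg.Sz F m)⁻¹ = t := inv_eq_of_mul_eq_one_right htt
      have hhC : h ∈ centralizer ({h} : Set (Cfsg.Sz F m)) := mem_centralizer_singleton_iff.2 rfl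
      have htC : (t : Cfsg.Sz F m) * h * t ∈ centralizer ({h} : Set (Cfsg.Sz F m)) := by
        obtain ⟨t, htN⟩ := t
        subst hN
        have := (mem_normalizer_iff.1 htN h).1 hhC
        rwa [hti] at this
      obtain ⟨u, hu⟩ : ∃ u, u = h * ((t : Cfsg.Sz F m) * h * t) := ⟨_, rfl⟩
      by_contra hne
      have hu1 : u ≠ 1 := fun h0 => hne (eq_inv_of_mul_eq_one_right (hu ▸ h0))
      obtain ⟨-, hCu⟩ := Suzuki.centralizer_eq hF hm hfree (hu ▸ mul_mem hhC htC) hu1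
      have htu : (t : Cfsg.Sz F m) ∈ centralizer ({u} : Set (Cfsg.Sz F m)) := by
        rw [mem_centralizer_singleton_iff]
        have h1 := mem_centralizer_singleton_iff.1 htC
        calc (t : Cfsg.Sz F m) * u = (t : Cfsg.Sz F m) * (h * (t * h * t)) := by rw [hu]
          _ = (t : Cfsg.Sz F m) * (t * h * t * h) := by rw [h1]
          _ = h * (t * h) := by simp only [← mul_assoc, htt, one_mul]
          _ = u * t := by rw [hu]; simp only [mul_assoc, htt, mul_one]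
      rw [hCu] at htu
      have h3 : orderOf (t : Cfsg.Sz F m) ∣ Nat.card (centralizer ({h} : Set (Cfsg.Sz F m))) := by
        rw [← Subgroup.orderOf_mk _ htu]; exact orderOf_dvd_natCard _
      rw [ht] at h3
      exact (Nat.not_even_iff_odd.2 hodd) (even_iff_two_dvd.2 h3)
    · exfalso
      have h1 := Suzuki.isPGroup_cj_uSub hF (1 : Cfsg.Sz F m) ⟨c⁻¹ * h * c, Suzuki.mem_cj.2 (by simpa using hu)⟩
      obtain ⟨n, hn⟩ := h1
      have h2 : (c⁻¹ * h * c) ^ 2 ^ n = 1 := congrArg Subtype.val hn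
      have h3 : r ∣ 2 ^ n := by
        rw [← hh, ← MulEquiv.orderOf_eq (MulAut.conj c⁻¹) h, MulAut.conj_apply, inv_inv]
        exact orderOf_dvd_of_pow_eq_one h2
      exact hr2 ((Nat.prime_dvd_prime_iff_eq hr Nat.prime_two).1 (hr.dvd_of_dvd_pow h3))
    · obtain ⟨a, ha⟩ := (Suzuki.mem_tSub hF).1 ht
      refine ⟨c * Suzuki.wS hF * c⁻¹, ?_, ?_⟩
      · rw [show c * Suzuki.wS hF * c⁻¹ * (c * Suzuki.wS hF * c⁻¹) = c * (Suzuki.wS hF * Suzuki.wS hF) * c⁻¹ by group,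
          Suzuki.wS_mul_self]
        group
      · rw [show c * Suzuki.wS hF * c⁻¹ * h * (c * Suzuki.wS hF * c⁻¹) =
            c * (Suzuki.wS hF * (c⁻¹ * h * c) * Suzuki.wS hF) * c⁻¹ by group, ha, htorus, ← ha]
        group
  have hinvol : ∀ z : Cfsg.Sz F m, z * z = 1 → z ≠ 1 → ∃ a, z ∈ cj a Z := by
    intro z hz hz1
    have hzp : IsPGroup 2 (zpowers z) := IsPGroup.of_card_dvd_pow (n := 1) (by
      rw [Nat.card_zpowers]; exact orderOf_dvd_of_pow_eq_one (by rw [pow_one, pow_two]; exact hz))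
    obtain ⟨P', hP'⟩ := hzp.exists_le_sylow
    obtain ⟨a, ha⟩ := Suzuki.sylow_two_eq hF hm P'
    refine ⟨a, mem_cj.2 ((hmem _).2 ⟨Suzuki.mem_cj.1 (ha ▸ hP' (mem_zpowers z)), ?_⟩)⟩
    rw [pow_two, show a⁻¹ * z * a * (a⁻¹ * z * a) = a⁻¹ * (z * z) * a by group, hz]
    group
  have ht1 : t ≠ 1 := by
    intro h0
    rw [h0, one_mul, mul_one] at htinv
    have h2 : h ^ 2 = 1 := by rw [pow_two]; nth_rewrite 1 [htinv]; exact inv_mul_cancel h
    exact hr2 ((Nat.prime_dvd_prime_iff_eq hr Nat.prime_two).1 (hh ▸ orderOf_dvd_of_pow_eq_one h2))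
  have hth : t * h * (t * h) = 1 := by rw [← mul_assoc, htinv, inv_mul_cancel]
  have hth1 : t * h ≠ 1 := fun h0 => by
    have h1 : h = t := by rw [← one_mul h, ← htt, mul_assoc, h0, mul_one]
    exact hr2 ((Nat.prime_dvd_prime_iff_eq hr Nat.prime_two).1
      (hh ▸ orderOf_dvd_of_pow_eq_one (by rw [pow_two, h1, htt])))
  obtain ⟨a, ha⟩ := hinvol t htt ht1
  obtain ⟨b, hb⟩ := hinvol _ hth hth1
  refine ⟨a, b, fun h0 => ?_, t, ha, t * h, hb, ht1, hth1, Or.inl (by rw [← mul_assoc, htt, one_mul])⟩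
  have h1 : h ∈ cj a Z := by
    have := mul_mem ha (h0 ▸ hb : t * h ∈ cj a Z)
    rwa [← mul_assoc, htt, one_mul] at this
  obtain ⟨y, hy, rfl⟩ := h1
  exact hr2 ((Nat.prime_dvd_prime_iff_eq hr Nat.prime_two).1
    (hh ▸ orderOf_dvd_of_pow_eq_one (by rw [← map_pow, hinv y hy, map_one])))

end Suzuki

end CfsgLib.LocalEven.FrakLFPF
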