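import Cfsg.Agent.Lib.LocalEven.SuzukiPpd

/-!
# The triangular Sylow `2`-subgroup of a Suzuki group

* `exists_eq_upG`: a unitriangular involution is some `upG`
* `triSylow`: the unitriangular elements form a Sylow `2`-subgroup
* `elementary_eq`: the subgroups invariant under the torus
-/

set_option autoImplicit false

namespace CfsgLib.LocalEven.SzPpd

open Cfsg.Lie CfsgLib.Recog.SuzukiFix
open scoped Matrix

variable {F : Type*} [Field F] [CharP F 2] {e : ℕ} (φ : F →+* F) (hφ : ∀ x, φ x = x ^ e)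
include hφ

/-- A unitriangular involution of the Suzuki group. -/
theorem exists_eq_upG {g : GL (Fin 4) F} (hg : g ∈ Sz F e) (ht : g ∈ triGroup F) (h2 : g ^ 2 = 1) :
    ∃ γ, g = upG e γ := by
  obtain ⟨-, hstar⟩ := sz_star4 φ hφ hg
  obtain ⟨M, hM⟩ : ∃ M : Matrix (Fin 4) (Fin 4) F, M = (g : Matrix (Fin 4) (Fin 4) F) := ⟨_, rfl⟩
  rw [← hM] at hstar
  have hsq : M * M = 1 := by
    have := congrArg Units.val h2
    rwa [pow_two, Units.val_mul, Units.val_one, ← hM] at this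
  have ht' : ∀ i j : Fin 4, j ≤ i → M i j = if i = j then 1 else 0 := hM ▸ ht
  have t00 := ht' 0 0 le_rfl
  have t11 := ht' 1 1 le_rfl
  have t22 := ht' 2 2 le_rfl
  have t33 := ht' 3 3 le_rfl
  have t10 := ht' 1 0 (by decide)
  have t20 := ht' 2 0 (by decide)
  have t30 := ht' 3 0 (by decide)
  have t21 := ht' 2 1 (by decide)
  have t31 := ht' 3 1 (by decide)
  have t32 := ht' 3 2 (by decide)
  simp at t00 t11 t22 t33 t10 t20 t30 t21 t31 t32
  have s02 := congrFun (congrFun hsq 0) 2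
  simp [Matrix.mul_apply, Fin.sum_univ_four, t00, t22, t32, CharTwo.add_self_eq_zero] at s02
  have e01 := congrFun (congrFun hstar 0) 1
  have e23 := congrFun (congrFun hstar 2) 3
  have e13 := congrFun (congrFun hstar 1) 3
  have e02 := congrFun (congrFun hstar 0) 2
  simp [star4, pairOf, t00, t10, t11, t20, t22, t30, t31, t32, t33, t21, CharTwo.sub_eq_add]
    at e01 e23 e13 e02
  have h2' : (2 : F) = 0 := CharTwo.two_eq_zero
  have h12 : M 1 2 = φ (M 0 1) := by grind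
  have h01 : M 0 1 = 0 := by
    rcases mul_eq_zero.mp (show M 0 1 * M 1 2 = 0 by grind) with h | h
    · exact h
    · exact φ.injective (by rw [map_zero, ← h12, h])
  have h12' : M 1 2 = 0 := by rw [h12, h01, map_zero]
  have h23 : M 2 3 = 0 := φ.injective (by rw [map_zero]; grind)
  have h03 : M 0 3 = φ (M 0 2) := by grind
  have h13 : M 1 3 = M 0 2 := φ.injective (by grind)
  refine ⟨M 0 2, Units.ext ?_⟩
  rw [← hM]
  show M = upB e (M 0 2)
  rw [hφ] at h03
  ext i j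
  fin_cases i <;> fin_cases j <;> simp [upB] <;> assumption

/-- An element fixing the first basis vector is unitriangular. -/
theorem tri_of_fix {g : GL (Fin 4) F} (hg : g ∈ Sz F e)
    (hfix : ∀ i, (g : Matrix (Fin 4) (Fin 4) F) i 0 = if i = 0 then 1 else 0) : g ∈ triGroup F := by
  obtain ⟨hs, hstar⟩ := sz_star4 φ hφ hg
  obtain ⟨M, hM⟩ : ∃ M : Matrix (Fin 4) (Fin 4) F, M = (g : Matrix (Fin 4) (Fin 4) F) := ⟨_, rfl⟩
  rw [← hM] at hs hstar hfix
  have f0 := hfix 0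
  have f1 := hfix 1
  have f2 := hfix 2
  have f3 := hfix 3
  simp at f0 f1 f2 f3
  have c01 := hs.col 0 1
  have c02 := hs.col 0 2
  have c03 := hs.col 0 3
  simp [f0, f1, f2, f3, Fin.rev] at c01 c02 c03
  have e00 := congrFun (congrFun hstar 0) 0
  have e10 := congrFun (congrFun hstar 1) 0
  have e11 := congrFun (congrFun hstar 1) 1
  simp [star4, pairOf, f0, f1, f2, f3, CharTwo.sub_eq_add] at e00 e10 e11
  rw [e00, map_one] at e11
  intro i j hij
  rw [← hM]
  fin_cases i <;> fin_cases j <;> simp at hij ⊢ <;> assumption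

end CfsgLib.LocalEven.SzPpd

namespace CfsgLib.LocalEven.SzPpd

open Cfsg.Lie CfsgLib.Recog.SuzukiFix
open scoped Matrix

variable {F : Type*} [Field F] [Fintype F] [CharP F 2] {m : ℕ}

/-- The unitriangular part. -/
def triSz (F : Type*) [Field F] [CharP F 2] (e : ℕ) : Subgroup (Sz F e) where
  carrier := {g | (g : GL (Fin 4) F) ∈ triGroup F}
  one_mem' := (triGroup F).one_mem
  mul_mem' := fun hg hk => (triGroup F).mul_mem hg hk
  inv_mem' := fun {g} hg => by
    have h1 : (g : GL (Fin 4) F)⁻¹ = (g : GL (Fin 4) F) ^ 3 :=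
      inv_eq_of_mul_eq_one_right (by rw [← pow_succ']; exact triGroup_pow_four hg)
    show ((g⁻¹ : Sz F e) : GL (Fin 4) F) ∈ triGroup F
    rw [Subgroup.coe_inv, h1]
    exact pow_mem hg 3

variable (hF : Fintype.card F = 2 ^ (2 * m + 1))
include hF

omit [CharP F 2] in
theorem pow_pow_eq (x : F) : (x ^ 2 ^ (m + 1)) ^ 2 ^ (m + 1) = x ^ 2 := by
  rw [← pow_mul, show 2 ^ (m + 1) * 2 ^ (m + 1) = Fintype.card F * 2 by rw [hF]; ring, pow_mul,
    FiniteField.pow_card]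

/-- The unitriangular part is a Sylow `2`-subgroup. -/
theorem exists_triSylow : ∃ P : Sylow 2 (Sz F (2 ^ (m + 1))),
    (P : Subgroup (Sz F (2 ^ (m + 1)))) = triSz F (2 ^ (m + 1)) := by
  classical
  haveI : Fact (Nat.Prime 2) := ⟨Nat.prime_two⟩
  obtain ⟨e, he⟩ : ∃ e, e = 2 ^ (m + 1) := ⟨_, rfl⟩
  rw [← he]
  have he0 : e ≠ 0 := he ▸ (Nat.two_pow_pos _).ne'
  have hU : IsPGroup 2 (triSz F e) := fun g => ⟨2, Subtype.ext (Subtype.ext (by
    simpa using triGroup_pow_four g.2))⟩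
  obtain ⟨P, hP⟩ := hU.exists_le_sylow
  refine ⟨P, le_antisymm (fun g hg => ?_) hP⟩
  -- a vector fixed by `P`
  let X : Type _ := Fin 4 → F
  letI : MulAction (P : Subgroup (Sz F e)) X :=
    { smul := fun k v => (((k : Sz F e) : GL (Fin 4) F) : Matrix (Fin 4) (Fin 4) F) *ᵥ v
      one_smul := fun v => Matrix.one_mulVec v
      mul_smul := fun k l v => (Matrix.mulVec_mulVec v _ _).symm }
  have hsmul : ∀ (k : (P : Subgroup (Sz F e))) (v : X),
      k • v = (((k : Sz F e) : GL (Fin 4) F) : Matrix (Fin 4) (Fin 4) F) *ᵥ v := fun k v => rfl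
  have h0 : (0 : X) ∈ MulAction.fixedPoints (P : Subgroup (Sz F e)) X := fun k => by
    rw [hsmul, Matrix.mulVec_zero]
  have hcard : 2 ∣ Nat.card X := by
    rw [Nat.card_fun, Nat.card_eq_fintype_card (α := F), hF]
    exact dvd_pow (dvd_pow_self 2 (by omega)) (by simp)
  obtain ⟨v, hv, hv0⟩ := P.2.exists_fixed_point_of_prime_dvd_card_of_fixed_point X hcard h0
  have hv' : ∀ k ∈ P, (((k : Sz F e) : GL (Fin 4) F) : Matrix (Fin 4) (Fin 4) F) *ᵥ v = v :=
    fun k hk => hv ⟨k, hk⟩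
  -- it is a multiple of the first basis vector
  have h1 := hv' ⟨oneG F, oneG_mem he0⟩ (hP oneG_tri)
  have h10 := congrFun h1 0
  have h11 := congrFun h1 1
  have h12 := congrFun h1 2
  simp [oneG, upOne, Matrix.mulVec, dotProduct, Fin.sum_univ_four] at h10 h11 h12
  have v3 : v 3 = 0 := by grind
  have v2 : v 2 = 0 := by grind
  have v1 : v 1 = 0 := by grind
  have v0 : v 0 ≠ 0 := fun h => hv0 (by
    funext i
    show (0 : F) = v i
    fin_cases i <;> simp [h, v1, v2, v3])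
  refine tri_of_fix (iterateFrobenius F 2 (m + 1))
    (fun x => by rw [he]; exact iterateFrobenius_def 2 (m + 1) x) g.2 fun i => ?_
  have h2 := congrFun (hv' g hg) i
  simp [Matrix.mulVec, dotProduct, Fin.sum_univ_four, v1, v2, v3] at h2
  refine mul_right_cancel₀ v0 (h2.trans ?_)
  fin_cases i <;> simp [v1, v2, v3]

/-- The torus as elements of `Sz`. -/
noncomputable def szTorus (t : Fˣ) : Sz F (2 ^ (m + 1)) :=
  ⟨CfsgLib.Known.SuzukiLaw.torus (2 ^ (m + 1) - 1) t, CfsgLib.Known.SuzukiLaw.torus_mem hF t⟩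

theorem szTorus_mul_col (t : Fˣ) (i : Fin 4) (hi : i ≠ 0) :
    (((szTorus hF t : Sz F (2 ^ (m + 1))) : GL (Fin 4) F) : Matrix (Fin 4) (Fin 4) F) i 0 = 0 :=
  Matrix.diagonal_apply_ne _ hi

/-- A nontrivial elementary abelian subgroup of the unitriangular part invariant under the torus
consists of all involutions `upG`. -/
theorem elementary_eq {V : Subgroup (Sz F (2 ^ (m + 1)))} (hV : V ≤ triSz F (2 ^ (m + 1)))
    (h2 : ∀ v ∈ V, v ^ 2 = 1) (h1 : V ≠ ⊥)
    (hT : ∀ t : Fˣ, ∀ v ∈ V, szTorus hF t * v * (szTorus hF t)⁻¹ ∈ V) :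
    ∀ g : Sz F (2 ^ (m + 1)), g ∈ V ↔ ∃ γ, (g : GL (Fin 4) F) = upG (2 ^ (m + 1)) γ := by
  obtain ⟨e, he⟩ : ∃ e, e = 2 ^ (m + 1) := ⟨_, rfl⟩
  have hφ : ∀ x : F, iterateFrobenius F 2 (m + 1) x = x ^ 2 ^ (m + 1) := fun x =>
    iterateFrobenius_def 2 (m + 1) x
  have hup : ∀ v ∈ V, ∃ γ, (v : GL (Fin 4) F) = upG (2 ^ (m + 1)) γ := fun v hv =>
    exists_eq_upG _ hφ v.2 (hV hv) (by
      simpa using congrArg (fun w : Sz F (2 ^ (m + 1)) => (w : GL (Fin 4) F)) (h2 v hv))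
  intro g
  refine ⟨hup g, ?_⟩
  rintro ⟨γ, hγ⟩
  by_cases hγ0 : γ = 0
  · have : g = 1 := by
      refine Subtype.ext (Units.ext ?_)
      rw [hγ, hγ0]
      ext i j
      fin_cases i <;> fin_cases j <;> simp [upG, upB, (Nat.two_pow_pos (m + 1)).ne']
    exact this ▸ one_mem V
  obtain ⟨v, hv, hv1⟩ : ∃ v ∈ V, v ≠ 1 := by
    by_contra hc
    push Not at hc
    exact h1 ((Subgroup.eq_bot_iff_forall _).mpr hc)
  obtain ⟨δ, hδ⟩ := hup v hv
  have hδ0 : δ ≠ 0 := by
    rintro rfl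
    refine hv1 (Subtype.ext (Units.ext ?_))
    rw [hδ]
    ext i j
    fin_cases i <;> fin_cases j <;> simp [upG, upB, (Nat.two_pow_pos (m + 1)).ne']
  obtain ⟨s, hs⟩ := (Finite.surjective_of_injective
    (iterateFrobenius F 2 (m + 1)).injective) (γ / δ)
  have hs0 : s ≠ 0 := by
    rintro rfl
    rw [map_zero] at hs
    exact div_ne_zero hγ0 hδ0 hs.symm
  obtain ⟨t, ht⟩ : ∃ t : Fˣ, t = Units.mk0 s hs0 := ⟨_, rfl⟩
  have hw := hT t v hv
  obtain ⟨w, hw'⟩ : ∃ w, w = szTorus hF t * v * (szTorus hF t)⁻¹ := ⟨_, rfl⟩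
  rw [← hw'] at hw
  obtain ⟨ε, hε⟩ := hup w hw
  suffices ε = γ by
    rw [show g = w from Subtype.ext (by rw [hγ, hε, this])]
    exact hw
  have hmat : (((w : Sz F (2 ^ (m + 1))) : GL (Fin 4) F) : Matrix (Fin 4) (Fin 4) F) *
      (((szTorus hF t : Sz F (2 ^ (m + 1))) : GL (Fin 4) F) : Matrix (Fin 4) (Fin 4) F) =
      (((szTorus hF t : Sz F (2 ^ (m + 1))) : GL (Fin 4) F) : Matrix (Fin 4) (Fin 4) F) *
      (((v : Sz F (2 ^ (m + 1))) : GL (Fin 4) F) : Matrix (Fin 4) (Fin 4) F) := by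
    rw [← Units.val_mul, ← Units.val_mul]
    congr 1
    rw [hw']
    simp
  rw [hε, hδ] at hmat
  have h02 := congrFun (congrFun hmat 0) 2
  simp [szTorus, CfsgLib.Known.SuzukiLaw.torus, upG, upB, Matrix.mul_diagonal, Matrix.diagonal_mul,
    CfsgLib.Known.SuzukiLaw.wt] at h02
  have h3 : (iterateFrobenius F 2 (m + 1)) s * δ = γ := by rw [hs, div_mul_cancel₀ γ hδ0]
  rw [hφ] at h3
  rw [← h3]
  have hts : (t : F) = s := by rw [ht]; rfl
  rw [hts] at h02
  have hpow : s ^ 2 ^ (m + 1) = s * s ^ (2 ^ (m + 1) - 1) := by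
    rw [← pow_succ', Nat.sub_add_cancel Nat.one_le_two_pow]
  rw [hpow]
  have hinv : s ^ ((1 : ℤ) - 2 ^ (m + 1)) = (s ^ (2 ^ (m + 1) - 1))⁻¹ := by
    rw [← zpow_natCast, ← zpow_neg]
    congr 1
    rw [Nat.cast_sub Nat.one_le_two_pow]
    push_cast
    ring
  rw [hinv] at h02
  field_simp at h02
  linear_combination h02

end CfsgLib.LocalEven.SzPpd
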