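import Cfsg.Agent.Lib.LocalEven.PpdSL2
import Cfsg.Agent.Lib.LocalEven.SuzukiTriangular
import Cfsg.Agent.Lib.PLocal.Thompson
import Cfsg.Agent.Lib.Transfer.Conj

/-!
# The elementary abelian normal subgroup of a maximal subgroup over it

`Y` lies in a unique maximal subgroup `N` and is elementary abelian and normal in `N`. In `SL₂(q)`
(with `|Y| = q`), `Sz(q)` (with `|Y| = q`) and dihedral groups of order `2 r`, every nontrivial
elementary abelian normal `p`-subgroup of `N` equals `Y`.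

* `unique_SL2`, `unique_Sz`, `unique_dihedral`
-/

set_option autoImplicit false

namespace CfsgLib.LocalEven.UniqueNormal

open Subgroup Cfsg Matrix
open scoped MatrixGroups Pointwise

set_option maxHeartbeats 800000

/-- The configuration. -/
structure MaxOver {L : Type*} [Group L] (p : ℕ) (Y N : Subgroup L) : Prop where
  le : Y ≤ N
  ne_top : N ≠ ⊤
  max : ∀ X : Subgroup L, Y ≤ X → X ≠ ⊤ → X ≤ N
  normal : N ≤ normalizer (Y : Set L)
  elem : IsElementaryAbelian p Y
  ne_bot : Y ≠ ⊥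

/-- The conclusion. -/
def Unique {L : Type*} [Group L] (p : ℕ) (Y N : Subgroup L) : Prop :=
  ∀ V : Subgroup L, V ≤ N → N ≤ normalizer (V : Set L) → IsElementaryAbelian p V → V ≠ ⊥ → V = Y

variable {L L' : Type*} [Group L] [Group L'] {p : ℕ} {Y N : Subgroup L}

theorem elem_map {V : Subgroup L} (f : L →* L') (hV : IsElementaryAbelian p V) :
    IsElementaryAbelian p (V.map f) := PLocal.elementary_map f hV

theorem MaxOver.map (h : MaxOver p Y N) (e : L ≃* L') :
    MaxOver p (Y.map e.toMonoidHom) (N.map e.toMonoidHom) where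
  le := map_mono h.le
  ne_top := fun h1 => h.ne_top (map_injective (f := e.toMonoidHom) e.injective
    (h1.trans (map_top_of_surjective e.toMonoidHom e.surjective).symm))
  max := fun X hX hne => by
    rw [← map_comap_eq_self_of_surjective (f := e.toMonoidHom) e.surjective X]
    refine map_mono (h.max _ (map_le_iff_le_comap.mp hX) fun h1 => hne ?_)
    rw [← map_comap_eq_self_of_surjective (f := e.toMonoidHom) e.surjective X, h1,
      map_top_of_surjective e.toMonoidHom e.surjective]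
  normal := (map_mono h.normal).trans (le_normalizer_map _)
  elem := elem_map _ h.elem
  ne_bot := fun h1 => h.ne_bot ((map_eq_bot_iff_of_injective _ e.injective).mp h1)

theorem unique_of_map (e : L ≃* L') (h : Unique p (Y.map e.toMonoidHom) (N.map e.toMonoidHom)) :
    Unique p Y N := fun V hVN hV he hne => map_injective (f := e.toMonoidHom) e.injective
  (h _ (map_mono hVN) ((map_mono hV).trans (le_normalizer_map _)) (elem_map _ he)
    fun h1 => hne ((map_eq_bot_iff_of_injective _ e.injective).mp h1))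

/-- Dihedral groups of order `2 r`. -/
theorem unique_dihedral {r : ℕ} (hr : r.Prime) {Y N : Subgroup (DihedralGroup r)}
    (h : MaxOver 2 Y N) : Unique 2 Y N := by
  haveI : NeZero r := ⟨hr.ne_zero⟩
  haveI : Fact (Nat.Prime 2) := ⟨Nat.prime_two⟩
  have hYp : IsPGroup 2 Y := fun y => ⟨1, Subtype.ext (by rw [pow_one]; exact h.elem.2 y y.2)⟩
  have hY : 2 ∣ Nat.card Y := by
    obtain ⟨k, hk⟩ := IsPGroup.iff_card.mp hYp
    rw [hk]
    refine dvd_pow_self 2 fun h0 => h.ne_bot ?_
    rw [h0, pow_zero] at hk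
    exact eq_bot_of_card_eq Y hk
  have hN : Nat.card N = 2 := by
    have hd : Nat.card N ∣ 2 * r := DihedralGroup.nat_card (n := r) ▸ card_subgroup_dvd_card N
    obtain ⟨c, hc⟩ := hY.trans (card_dvd_of_le h.le)
    rw [hc] at hd
    rcases hr.eq_one_or_self_of_dvd c (Nat.dvd_of_mul_dvd_mul_left two_pos hd) with rfl | rfl
    · rw [hc, mul_one]
    · exact absurd (eq_top_of_card_eq N (by rw [hc, DihedralGroup.nat_card])) h.ne_top
  have hYN : Y = N := eq_of_le_of_card_ge h.le (hN ▸ Nat.le_of_dvd Nat.card_pos hY)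
  intro V hVN _ _ hne
  rw [hYN]
  refine eq_of_le_of_card_ge hVN ?_
  rw [hN]
  exact (one_lt_card_iff_ne_bot V).mpr hne

variable {F : Type*} [Field F] [Fintype F]

/-- A diagonal matrix. -/
def dia (a : Fˣ) : SL(2, F) := ⟨!![(a : F), 0; 0, ((a⁻¹ : Fˣ) : F)], by simp [det_fin_two]⟩

omit [Fintype F] in
theorem dia_conj (a : Fˣ) (b : F) : dia a * Ppd.up b * (dia a)⁻¹ = Ppd.up ((a : F) ^ 2 * b) := by
  refine mul_inv_eq_iff_eq_mul.mpr ?_
  apply Subtype.ext
  ext i j
  rw [Matrix.SpecialLinearGroup.coe_mul, Matrix.SpecialLinearGroup.coe_mul]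
  fin_cases i <;> fin_cases j <;> simp [dia, Ppd.up, Matrix.mul_apply, Fin.sum_univ_two] <;>
    field_simp

theorem exists_sq_add_sq (c : F) : ∃ a b : F, a ^ 2 + b ^ 2 = c := by
  by_cases h2 : Fintype.card F % 2 = 1
  · obtain ⟨a, b, h⟩ := FiniteField.exists_root_sum_quadratic (f := Polynomial.X ^ 2)
      (g := Polynomial.X ^ 2 - Polynomial.C c) (Polynomial.degree_X_pow 2)
      (Polynomial.degree_X_pow_sub_C two_pos c) h2
    simp at h
    exact ⟨a, b, by linear_combination h⟩
  · obtain ⟨a, ha⟩ := FiniteField.isSquare_of_char_two (FiniteField.even_card_iff_char_two.mpr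
      (by omega)) c
    exact ⟨a, 0, by rw [ha]; ring⟩

variable [Fact p.Prime] [CharP F p]

/-- `SL₂(q)` with `|Y| = q`. -/
theorem unique_SL2 {Y N : Subgroup SL(2, F)} (h : MaxOver p Y N)
    (hcard : Nat.card Y = Fintype.card F) : Unique p Y N := by
  have hYp : IsPGroup p Y := fun y => ⟨1, Subtype.ext (by rw [pow_one]; exact h.elem.2 y y.2)⟩
  obtain ⟨P, hP⟩ := hYp.exists_le_sylow
  have hPY : (P : Subgroup SL(2, F)) = Y := (eq_of_le_of_card_ge hP (by
    rw [hcard, ← Classical.Two.card_sylow_SL_two p P])).symm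
  obtain ⟨x, hx⟩ := Classical.Two.exists_point_sylow_SL p P
  obtain ⟨g, hg⟩ := MulAction.exists_smul_eq SL(2, F) x (Classical.Two.basePoint F 0)
  refine unique_of_map (MulAut.conj g) ?_
  have h' := h.map (MulAut.conj g)
  obtain ⟨Y', hY'⟩ : ∃ Y', Y' = Y.map (MulAut.conj g).toMonoidHom := ⟨_, rfl⟩
  rw [← hY'] at h' ⊢
  have hroot : Y' = Classical.Two.rootGroup (Classical.Two.basePoint F 0) := by
    rw [hY', ← hPY, hx, ← hg, Classical.Two.rootGroup_smul]
    rfl
  have hY'max : ∀ V : Subgroup SL(2, F), IsPGroup p V → Y' ≤ V → V = Y' := fun V hV hle =>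
    (eq_of_le_of_card_ge hle (by
      obtain ⟨R, hR⟩ := hV.exists_le_sylow
      rw [hroot, Classical.Two.card_rootGroup, Nat.card_eq_fintype_card (α := F),
        ← Classical.Two.card_sylow_SL_two p R]
      exact card_le_of_le hR)).symm
  have hup : ∀ v, v ∈ Y' ↔ ∃ b, v = Ppd.up b := by
    intro v
    rw [hroot, ← SetLike.mem_coe, Classical.Two.rootGroup_basePoint]
    constructor
    · rintro ⟨b, rfl⟩; exact ⟨b, Ppd.up_eq b⟩
    · rintro ⟨b, rfl⟩; exact ⟨b, Ppd.up_eq b⟩
  -- the torus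
  have htor : ∀ a : Fˣ, dia a ∈
      N.map (MulAut.conj g).toMonoidHom := by
    intro a
    refine h'.max (normalizer (Y' : Set SL(2, F))) le_normalizer ?_ (mem_normalizer_fintype ?_)
    · intro htop
      haveI := normalizer_eq_top_iff.mp htop
      obtain ⟨k, hk⟩ := MulAction.exists_smul_eq SL(2, F) (Classical.Two.basePoint F 0)
        (Classical.Two.basePoint F 1)
      have hne : Classical.Two.basePoint F 0 ≠ Classical.Two.basePoint F 1 := by
        intro hc
        obtain ⟨c, hc⟩ := (Projectivization.mk_eq_mk_iff' F _ _ _ _).1 hc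
        simpa using congrFun hc 0
      have h1 := Classical.Two.rootGroup_disjoint hne
      have h2 : Y'.map (MulAut.conj k).toMonoidHom = Y' :=
        CfsgLib.Transfer.map_conj_eq_self_iff.mpr (htop ▸ mem_top k)
      rw [← hk, Classical.Two.rootGroup_smul, ← hroot] at h1
      rw [show MulAut.conj k • Y' = Y' from h2, inf_idem] at h1
      exact h'.ne_bot h1
    · intro v hv
      obtain ⟨b, rfl⟩ := (hup v).mp hv
      exact (hup _).mpr ⟨(a : F) ^ 2 * b, dia_conj a b⟩
  intro V hVN hV hVel hVne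
  have hVp : IsPGroup p V := fun y => ⟨1, Subtype.ext (by rw [pow_one]; exact hVel.2 y y.2)⟩
  have hVY : V ≤ Y' := by
    have hnorm : Y' ≤ normalizer (V : Set SL(2, F)) := h'.le.trans hV
    have := hY'max _ (hVp.to_sup_of_normal_left' (hY' ▸ hYp.map _) hnorm) le_sup_right
    exact le_sup_left.trans this.le
  refine le_antisymm hVY fun y hy => ?_
  obtain ⟨c, rfl⟩ := (hup y).mp hy
  obtain ⟨v, hv, hv1⟩ : ∃ v ∈ V, v ≠ 1 := by
    by_contra hc
    push Not at hc
    exact hVne ((eq_bot_iff_forall _).mpr hc)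
  obtain ⟨b, rfl⟩ := (hup v).mp (hVY hv)
  have hb : b ≠ 0 := by
    rintro rfl
    exact hv1 (Subtype.ext (by ext i j; fin_cases i <;> fin_cases j <;> simp [Ppd.up]))
  have hmul : ∀ s t : F, Ppd.up (s + t) = Ppd.up s * Ppd.up t := fun s t => Subtype.ext (by
    ext i j
    simp only [Matrix.SpecialLinearGroup.coe_mul]
    fin_cases i <;> fin_cases j <;> simp [Ppd.up, Matrix.mul_apply, Fin.sum_univ_two, add_comm])
  have hsq : ∀ a : F, Ppd.up (a ^ 2 * b) ∈ V := by
    intro a
    by_cases ha : a = 0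
    · have : Ppd.up (a ^ 2 * b) = 1 := Subtype.ext (by
        ext i j; fin_cases i <;> fin_cases j <;> simp [Ppd.up, ha])
      rw [this]; exact one_mem _
    · have h1 := (mem_normalizer_iff.mp (hV (htor (Units.mk0 a ha))) _).mp hv
      rwa [dia_conj, Units.val_mk0] at h1
  obtain ⟨s, t, hst⟩ := exists_sq_add_sq (c / b)
  rw [show c = s ^ 2 * b + t ^ 2 * b by rw [← add_mul, hst, div_mul_cancel₀ c hb], hmul]
  exact mul_mem (hsq s) (hsq t)

omit [Fact p.Prime] [CharP F p] in
/-- `Sz(q)`. -/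
theorem unique_Sz {m : ℕ} (hF : Fintype.card F = 2 ^ (2 * m + 1))
    {Y N : Subgroup (Lie.Sz F (2 ^ (m + 1)))} (h : MaxOver 2 Y N) : Unique 2 Y N := by
  haveI : Fact (Nat.Prime 2) := ⟨Nat.prime_two⟩
  haveI : CharP F 2 := charP_of_card_eq_prime_pow hF
  obtain ⟨U, hU⟩ := SzPpd.exists_triSylow hF
  have hYp : IsPGroup 2 Y := fun y => ⟨1, Subtype.ext (by rw [pow_one]; exact h.elem.2 y y.2)⟩
  obtain ⟨P, hP⟩ := hYp.exists_le_sylow
  obtain ⟨g, hg⟩ := MulAction.exists_smul_eq (Lie.Sz F (2 ^ (m + 1))) P U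
  refine unique_of_map (MulAut.conj g) ?_
  have h' := h.map (MulAut.conj g)
  obtain ⟨Y', hY'⟩ : ∃ Y', Y' = Y.map (MulAut.conj g).toMonoidHom := ⟨_, rfl⟩
  obtain ⟨N', hN'⟩ : ∃ N', N' = N.map (MulAut.conj g).toMonoidHom := ⟨_, rfl⟩
  rw [← hY', ← hN'] at h' ⊢
  have hY'U : Y' ≤ (U : Subgroup _) := by
    rw [← hg, hY']
    exact map_mono hP
  -- the stabilizer of the line through the first basis vector
  obtain ⟨B, hB⟩ : ∃ B : Subgroup (Lie.Sz F (2 ^ (m + 1))), ∀ k, k ∈ B ↔ ∀ i, i ≠ 0 →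
      ((k : GL (Fin 4) F) : Matrix (Fin 4) (Fin 4) F) i 0 = 0 := by
    let M : Submonoid (Lie.Sz F (2 ^ (m + 1))) :=
      { carrier := {k | ∀ i, i ≠ 0 → ((k : GL (Fin 4) F) : Matrix (Fin 4) (Fin 4) F) i 0 = 0}
        one_mem' := fun i hi => by
          rw [OneMemClass.coe_one, Units.val_one, Matrix.one_apply_ne hi]
        mul_mem' := fun {k l} hk hl i hi => by
          rw [Subgroup.coe_mul, Units.val_mul, Matrix.mul_apply]
          refine Finset.sum_eq_zero fun j _ => ?_
          by_cases hj : j = 0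
          · rw [hj, hk i hi, zero_mul]
          · rw [hl j hj, mul_zero] }
    refine ⟨{ M with inv_mem' := ?_ }, fun k => Iff.rfl⟩
    · intro k hk
      have h1 : k⁻¹ = k ^ (orderOf k - 1) := inv_eq_of_mul_eq_one_right (by
        rw [← pow_succ', Nat.sub_add_cancel (orderOf_pos k), pow_orderOf_eq_one])
      rw [h1]
      exact M.pow_mem hk _
  refine fun V hVN hV hVel hVne => ?_
  have hUN : (U : Subgroup _) ≤ B := fun k hk => (hB k).mpr fun i hi => by
    have := (hU ▸ hk : k ∈ SzPpd.triSz F (2 ^ (m + 1)))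
    rw [this i 0 ((Fin.zero_le i)), if_neg hi]
  have hTB : ∀ t, SzPpd.szTorus hF t ∈ B := fun t =>
    (hB _).mpr fun i hi => SzPpd.szTorus_mul_col hF t i hi
  have hBne : B ≠ ⊤ := fun htop => by
    have h0 : (2 : ℕ) ^ (m + 1) ≠ 0 := (Nat.two_pow_pos _).ne'
    have h1 := (hB ⟨SzPpd.revG F, SzPpd.revG_mem h0⟩).mp (htop ▸ mem_top _) 3 (by decide)
    simp [SzPpd.revG, SzPpd.revM] at h1
  have hBN : B ≤ N' := h'.max B (hY'U.trans hUN) hBne
  have hVp : IsPGroup 2 V := fun y => ⟨1, Subtype.ext (by rw [pow_one]; exact hVel.2 y y.2)⟩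
  have hVU : V ≤ (U : Subgroup _) := by
    exact le_sup_left.trans
      (U.is_maximal' (hVp.to_sup_of_normal_left' U.2 ((hUN.trans hBN).trans hV)) le_sup_right).le
  have hVeq := SzPpd.elementary_eq hF (hU ▸ hVU) hVel.2 hVne
    (fun t v hv => (mem_normalizer_iff.mp (hV (hBN (hTB t))) v).mp hv)
  have hYeq := SzPpd.elementary_eq hF (hU ▸ hY'U) h'.elem.2 h'.ne_bot
    (fun t v hv => (mem_normalizer_iff.mp (h'.normal (hBN (hTB t))) v).mp hv)
  ext v
  rw [hVeq, hYeq]

end CfsgLib.LocalEven.UniqueNormal
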