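import Mathlib
import Cfsg.Agent.Lib.LocalEven.UniqueNormalElementary
import Cfsg.Agent.Lib.PGroups.Basic

/-!
# Fixed-point-free action on `A / C` of the semisimple elements

`Y` is abelian, normalised by the normal `p`-subgroup `A`, which is the normal closure of `Y ∩ A`; in `L / A` the image `X` of `Y`
lies in a unique maximal subgroup normalising it, distinct conjugates of `X` do not normalise each other's elements, and the elements
of prime order other than `p` are products, or squares of products, of two elements of distinct conjugates.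

* `Spread`, `Spread.fpf`
-/

set_option autoImplicit false
set_option linter.all false

open scoped commutatorElement

namespace CfsgLib.LocalEven.FrakLFPF

open Subgroup

variable {L : Type*} [Group L] {p : ℕ}

/-- Conjugate of a subgroup. -/
abbrev cj (a : L) (Y : Subgroup L) : Subgroup L := Y.map (MulAut.conj a).toMonoidHom

theorem mem_cj {a x : L} {Y : Subgroup L} : x ∈ cj a Y ↔ a⁻¹ * x * a ∈ Y := by
  constructor
  · rintro ⟨y, hy, rfl⟩
    simpa [mul_assoc] using hy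
  · exact fun h => ⟨_, h, by simp [mul_assoc]⟩

theorem cj_cj (a b : L) (Y : Subgroup L) : cj a (cj b Y) = cj (a * b) Y := by
  ext x
  simp only [mem_cj]
  group

theorem map_cj {L' : Type*} [Group L'] (f : L →* L') (a : L) (Y : Subgroup L) :
    (cj a Y).map f = cj (f a) (Y.map f) := by
  rw [cj, cj, map_map, map_map]
  congr 1
  ext x
  simp

/-- Two elements in distinct conjugates of `X` with a given product, or a square root of it, when `p` is odd. -/
def IsProd {Q : Type*} [Group Q] (p : ℕ) (X : Subgroup Q) (h : Q) : Prop :=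
  ∃ a b : Q, cj a X ≠ cj b X ∧ ∃ x ∈ cj a X, ∃ y ∈ cj b X, x ≠ 1 ∧ y ≠ 1 ∧
    (h = x * y ∨ (p ≠ 2 ∧ h = (x * y) ^ 2 ∧ ∀ q : Q, Commute h q))

/-- The hypotheses. -/
structure Spread (p : ℕ) (Y A : Subgroup L) [A.Normal] : Prop where
  pA : IsPGroup p A
  gen : A = normalClosure ((Y ⊓ A : Subgroup L) : Set L)
  nor : A ≤ normalizer (Y : Set L)
  pY : IsPGroup p Y
  comm : ∀ v ∈ Y, ∀ w ∈ Y, v * w = w * v
  nt : ¬ (Y.map (QuotientGroup.mk' A)).Normal
  max : ∀ K : Subgroup (L ⧸ A), K ≠ ⊤ → Y.map (QuotientGroup.mk' A) ≤ K →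
    K ≤ normalizer ((Y.map (QuotientGroup.mk' A) : Subgroup (L ⧸ A)) : Set (L ⧸ A))
  ti : ∀ g : L ⧸ A, ∀ x ∈ Y.map (QuotientGroup.mk' A), x ≠ 1 →
    x ∈ normalizer ((cj g (Y.map (QuotientGroup.mk' A)) : Subgroup (L ⧸ A)) : Set (L ⧸ A)) →
    cj g (Y.map (QuotientGroup.mk' A)) = Y.map (QuotientGroup.mk' A)
  prod : ∀ h : L ⧸ A, ∀ r : ℕ, r.Prime → r ≠ p → orderOf h = r → IsProd p (Y.map (QuotientGroup.mk' A)) h

variable [Finite L] [Fact p.Prime] {Y A : Subgroup L} [A.Normal]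

theorem Spread.nor_cj (s : Spread p Y A) (a : L) : A ≤ normalizer (cj a Y : Set L) := by
  intro c hc
  rw [mem_normalizer_iff]
  intro x
  have h1 : a⁻¹ * c * a ∈ normalizer (Y : Set L) := s.nor (by
    simpa using Normal.conj_mem (H := A) inferInstance c hc a⁻¹)
  rw [mem_cj, mem_cj, mem_normalizer_iff.1 h1]
  group

theorem Spread.comm_cj (s : Spread p Y A) (a : L) : ∀ v ∈ cj a Y, ∀ w ∈ cj a Y, v * w = w * v := by
  rintro _ ⟨v, hv, rfl⟩ _ ⟨w, hw, rfl⟩
  rw [← map_mul, ← map_mul, s.comm v hv w hw]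

/-- A member of one conjugate and the whole of another generate `L` over `A`. -/
theorem Spread.generate (s : Spread p Y A) {a b : L}
    (hab : (cj a Y).map (QuotientGroup.mk' A) ≠ (cj b Y).map (QuotientGroup.mk' A))
    {x : L} (hx : x ∈ cj a Y) (hx1 : x ∉ A) (K : Subgroup L) (hA : A ≤ K) (hb : cj b Y ≤ K) (hxK : x ∈ K) :
    K = ⊤ := by
  obtain ⟨π, hπ⟩ : ∃ π, π = QuotientGroup.mk' A := ⟨_, rfl⟩
  obtain ⟨X, hX⟩ : ∃ X, X = Y.map π := ⟨_, rfl⟩
  rw [← hπ, map_cj, map_cj, ← hX] at hab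
  by_contra hK
  have hKne : cj (π b)⁻¹ (K.map π) ≠ ⊤ := by
    intro h
    refine hK ?_
    have h1 : cj (π b) (cj (π b)⁻¹ (K.map π)) = ⊤ := by
      rw [h]; exact map_top_of_surjective _ (MulAut.conj (π b)).surjective
    rw [cj_cj, mul_inv_cancel] at h1
    have h2 : K.map π = ⊤ := by
      rw [← h1]; ext q; simp [mem_cj]
    have h3 := congrArg (Subgroup.comap π) h2
    rwa [comap_map_eq, hπ, QuotientGroup.ker_mk', sup_eq_left.2 hA, comap_top] at h3
  have hmax : ∀ K : Subgroup (L ⧸ A), K ≠ ⊤ → X ≤ K → K ≤ normalizer (X : Set (L ⧸ A)) := by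
    subst hπ hX; exact s.max
  have hti : ∀ g : L ⧸ A, ∀ x ∈ X, x ≠ 1 → x ∈ normalizer ((cj g X : Subgroup (L ⧸ A)) : Set (L ⧸ A)) →
      cj g X = X := by
    subst hπ hX; exact s.ti
  have hle := hmax _ hKne (by
    intro q hq
    rw [mem_cj, inv_inv]
    have h1 : π b * q * (π b)⁻¹ ∈ (cj b Y).map π := by
      rw [map_cj, ← hX, mem_cj]; simpa [mul_assoc] using hq
    exact map_mono hb h1)
  have hxn : (π b)⁻¹ * π x * π b ∈ normalizer (X : Set (L ⧸ A)) :=
    hle (by rw [mem_cj]; simpa [mul_assoc] using mem_map_of_mem π hxK)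
  -- pull back to the first conjugate
  have h1 : (π a)⁻¹ * π x * π a ∈ normalizer ((cj ((π a)⁻¹ * π b) X : Subgroup (L ⧸ A)) : Set (L ⧸ A)) := by
    rw [mem_normalizer_iff]
    intro q
    rw [mem_cj, mem_cj, mem_normalizer_iff.1 hxn]
    group
  have h2 : (π a)⁻¹ * π x * π a ∈ X := by
    have := mem_map_of_mem π hx
    rwa [map_cj, ← hX, mem_cj] at this
  have h3 := hti _ _ h2 (fun h => hx1 ?_) h1
  · refine hab ?_
    have h4 := congrArg (cj (π a)) h3
    rw [cj_cj, mul_inv_cancel_left] at h4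
    exact h4.symm
  · rw [conj_eq_one_iff (a := π a) |>.symm] at *
    rw [← QuotientGroup.ker_mk' A, ← hπ, MonoidHom.mem_ker]
    calc π x = π a * ((π a)⁻¹ * π x * π a) * (π a)⁻¹ := by group
      _ = 1 := by simpa using h

theorem Spread.exists_nt (s : Spread p Y A) (a : L) : ∃ x ∈ cj a Y, x ∉ A := by
  by_contra h
  push Not at h
  refine s.nt ?_
  have h1 : Y.map (QuotientGroup.mk' A) = ⊥ := by
    rw [Subgroup.map_eq_bot_iff, QuotientGroup.ker_mk']
    intro y hy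
    have h2 := h (a * y * a⁻¹) (mem_cj.2 (by simpa [mul_assoc] using hy))
    simpa [mul_assoc] using Normal.conj_mem (H := A) inferInstance _ h2 a⁻¹
  rw [h1]; infer_instance

/-- `A` is the product of its intersections with two distinct conjugates. -/
theorem Spread.split (s : Spread p Y A) {a b : L}
    (hab : (cj a Y).map (QuotientGroup.mk' A) ≠ (cj b Y).map (QuotientGroup.mk' A)) :
    ∀ c ∈ A, ∃ u ∈ cj a Y ⊓ A, ∃ v ∈ cj b Y ⊓ A, c = u * v := by
  obtain ⟨B, hB⟩ : ∃ B, B = (cj a Y ⊓ A) ⊔ (cj b Y ⊓ A) := ⟨_, rfl⟩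
  have hn : ∀ e : L, A ≤ normalizer ((cj e Y ⊓ A : Subgroup L) : Set L) := fun e =>
    (le_inf (s.nor_cj e) le_normalizer_of_normal).trans inf_normalizer_le_normalizer_inf
  have hBA : B ≤ A := hB ▸ sup_le inf_le_right inf_le_right
  have hside : ∀ e : L, cj e Y ⊓ A ≤ B → cj e Y ≤ normalizer (B : Set L) := by
    intro e he
    refine le_normalizer_iff.2 fun w hw c hc => ?_
    rw [show w * c * w⁻¹ = (w * c * w⁻¹ * c⁻¹) * c by group]
    refine mul_mem (he ⟨?_, ?_⟩) hc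
    · rw [show w * c * w⁻¹ * c⁻¹ = w * (c * w⁻¹ * c⁻¹) by group]
      exact mul_mem hw ((mem_normalizer_iff.1 (s.nor_cj e (hBA hc)) _).1 (inv_mem hw))
    · exact A.mul_mem (Normal.conj_mem inferInstance c (hBA hc) w) (A.inv_mem (hBA hc))
  obtain ⟨x, hx, hxA⟩ := s.exists_nt a
  have hN : B.Normal := normalizer_eq_top_iff.1 (s.generate hab hx hxA _ (by
    rw [hB]
    intro c hc
    refine mem_normalizer_iff_map_conj_eq.2 ?_
    show Subgroup.map _ _ = _
    rw [Subgroup.map_sup]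
    exact congrArg₂ _ (mem_normalizer_iff_map_conj_eq.1 (hn a hc)) (mem_normalizer_iff_map_conj_eq.1 (hn b hc)))
    (hside b (hB ▸ le_sup_right)) (hside a (hB ▸ le_sup_left) hx))
  intro c hc
  have hle : A ≤ B := by
    conv_lhs => rw [s.gen]
    haveI := hN
    refine normalClosure_le_normal fun y hy => ?_
    have h1 : a * y * a⁻¹ ∈ B := hB ▸ mem_sup_left ⟨mem_cj.2 (by simpa [mul_assoc] using hy.1),
      Normal.conj_mem inferInstance y hy.2 a⟩
    simpa [mul_assoc] using hN.conj_mem _ h1 a⁻¹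
  have h1 : c ∈ ((cj a Y ⊓ A ⊔ (cj b Y ⊓ A) : Subgroup L) : Set L) := hB ▸ hle hc
  rw [coe_mul_of_left_le_normalizer_right _ _ (inf_le_right.trans (hn b))] at h1
  obtain ⟨u, hu, v, hv, rfl⟩ := Set.mem_mul.1 h1
  exact ⟨u, hu, v, hv, rfl⟩

/-- Distinct conjugates meet `A` centrally. -/
theorem Spread.cap (s : Spread p Y A) {a b : L}
    (hab : (cj a Y).map (QuotientGroup.mk' A) ≠ (cj b Y).map (QuotientGroup.mk' A))
    {z : L} (hz : z ∈ A) (hza : z ∈ cj a Y) (hzb : z ∈ cj b Y) : z ∈ center L := by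
  obtain ⟨x, hx, hxA⟩ := s.exists_nt a
  have h := s.generate hab hx hxA (centralizer ({z} : Set L)) (fun c hc => ?_)
    (fun w hw => mem_centralizer_singleton_iff.2 (s.comm_cj b w hw z hzb))
    (mem_centralizer_singleton_iff.2 (s.comm_cj a x hx z hza))
  · exact mem_center_iff.2 fun g => mem_centralizer_singleton_iff.1 (h.ge (mem_top g))
  · obtain ⟨u, hu, v, hv, rfl⟩ := s.split hab c hc
    rw [mem_centralizer_singleton_iff, mul_assoc, s.comm_cj b v hv.1 z hzb, ← mul_assoc,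
      s.comm_cj a u hu.1 z hza, mul_assoc]

theorem Spread.central_le (s : Spread p Y A) {z : L} (hz : z ∈ A) (hzc : z ∈ center L) : z ∈ Y := by
  obtain ⟨b, hb⟩ : ∃ b : L, (cj (1 : L) Y).map (QuotientGroup.mk' A) ≠ (cj b Y).map (QuotientGroup.mk' A) := by
    by_contra h
    push Not at h
    refine s.nt ⟨fun q hq g => ?_⟩
    obtain ⟨g, rfl⟩ := QuotientGroup.mk'_surjective A g
    have h1 := h g
    rw [map_cj, map_cj, map_one] at h1
    have h2 : (QuotientGroup.mk' A) g * q * ((QuotientGroup.mk' A) g)⁻¹ ∈ cj ((QuotientGroup.mk' A) g) (Y.map (QuotientGroup.mk' A)) :=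
      mem_cj.2 (by simpa [mul_assoc] using hq)
    rw [← h1] at h2
    simpa [mem_cj] using h2
  obtain ⟨u, hu, v, hv, rfl⟩ := s.split hb z hz
  have hY1 : ∀ y ∈ Y, y ∈ cj (1 : L) Y := fun y hy => mem_cj.2 (by simpa using hy)
  have hu' : u ∈ Y := by simpa [mem_cj] using hu.1
  -- the second factor is central
  have hvc : v ∈ center L := by
    obtain ⟨x, hx, hxA⟩ := s.exists_nt 1
    have h := s.generate hb hx hxA (centralizer ({v} : Set L)) (fun c hc => ?_)
      (fun w hw => mem_centralizer_singleton_iff.2 (s.comm_cj b w hw v hv.1)) ?_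
    · exact mem_center_iff.2 fun g => mem_centralizer_singleton_iff.1 (h.ge (mem_top g))
    · obtain ⟨u', hu', v', hv', rfl⟩ := s.split hb c hc
      rw [mem_centralizer_singleton_iff]
      have e1 : u' * v = v * u' := by
        have e := mem_center_iff.1 hzc u'
        rw [← mul_assoc, s.comm_cj 1 u' hu'.1 u hu.1, mul_assoc, mul_assoc] at e
        exact mul_left_cancel e
      rw [mul_assoc, s.comm_cj b v' hv'.1 v hv.1, ← mul_assoc, e1, mul_assoc]
    · rw [mem_centralizer_singleton_iff]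
      have e := mem_center_iff.1 hzc x
      rw [← mul_assoc, s.comm_cj 1 x hx u hu.1, mul_assoc, mul_assoc] at e
      exact mul_left_cancel e
  refine Y.mul_mem hu' ?_
  have h1 := mem_cj.1 hv.1
  rwa [← mem_center_iff.1 hvc b⁻¹ |>.symm, inv_mul_cancel_right] at h1

/-- An element fixed modulo the centre by a member of `Y^a` outside `A` lies in `Y^a`. -/
theorem Spread.fixed_mem (s : Spread p Y A) {a b : L}
    (hab : (cj a Y).map (QuotientGroup.mk' A) ≠ (cj b Y).map (QuotientGroup.mk' A))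
    {x c : L} (hx : x ∈ cj a Y) (hxA : x ∉ A) (hc : c ∈ A) (hfix : ⁅x, c⁆ ∈ center L) :
    c ∈ cj a Y := by
  obtain ⟨σ, hσ⟩ : ∃ σ, σ = QuotientGroup.mk' (center L) := ⟨_, rfl⟩
  have hker : σ.ker = center L := hσ ▸ QuotientGroup.ker_mk' _
  obtain ⟨u, hu, v, hv, rfl⟩ := s.split hab c hc
  have hxv : ⁅x, v⁆ ∈ center L := by
    rw [← hker, MonoidHom.mem_ker, map_commutatorElement, commutatorElement_eq_one_iff_mul_comm] at hfix ⊢
    rw [map_mul, ← mul_assoc, ← map_mul, s.comm_cj a x hx u hu.1, map_mul, mul_assoc, mul_assoc] at hfix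
    exact mul_left_cancel hfix
  have hAv : ∀ c ∈ A, ⁅c, v⁆ ∈ center L := by
    intro c hc
    obtain ⟨u', hu', v', hv', rfl⟩ := s.split hab c hc
    have h1 : ⁅u', v⁆ ∈ center L := by
      refine s.cap hab ?_ ?_ ?_
      · exact A.mul_mem (Normal.conj_mem inferInstance v hv.2 u') (A.inv_mem hv.2)
      · rw [commutatorElement_def, show u' * v * u'⁻¹ * v⁻¹ = u' * (v * u'⁻¹ * v⁻¹) by group]
        exact mul_mem hu'.1 ((mem_normalizer_iff.1 (s.nor_cj a hv.2) _).1 (inv_mem hu'.1))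
      · rw [commutatorElement_def]
        exact mul_mem ((mem_normalizer_iff.1 (s.nor_cj b hu'.2) _).1 hv.1) (inv_mem hv.1)
    have h2 : ⁅v', v⁆ ∈ center L := by
      rw [commutatorElement_eq_one_iff_mul_comm.2 (s.comm_cj b v' hv'.1 v hv.1)]; exact one_mem _
    rw [← hker, MonoidHom.mem_ker, map_commutatorElement, commutatorElement_eq_one_iff_mul_comm] at h1 h2 ⊢
    rw [map_mul, mul_assoc, h2, ← mul_assoc, h1, mul_assoc]
  have hall := s.generate hab hx hxA ((centralizer ({σ v} : Set (L ⧸ center L))).comap σ) (fun c hc => by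
      rw [mem_comap, mem_centralizer_singleton_iff, ← commutatorElement_eq_one_iff_mul_comm,
        ← map_commutatorElement, ← MonoidHom.mem_ker, hker]
      exact hAv c hc)
    (fun w hw => by
      rw [mem_comap, mem_centralizer_singleton_iff, ← map_mul, ← map_mul, s.comm_cj b w hw v hv.1])
    (by
      rw [mem_comap, mem_centralizer_singleton_iff, ← commutatorElement_eq_one_iff_mul_comm,
        ← map_commutatorElement, ← MonoidHom.mem_ker, hker]
      exact hxv)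
  refine mul_mem hu.1 ?_
  -- carry `v` from `Y^b` to `Y^a`
  have h1 : ⁅a * b⁻¹, v⁆ ∈ center L := by
    rw [← hker, MonoidHom.mem_ker, map_commutatorElement, commutatorElement_eq_one_iff_mul_comm]
    have := hall.ge (mem_top (a * b⁻¹))
    rwa [mem_comap, mem_centralizer_singleton_iff] at this
  obtain ⟨w, hw⟩ : ∃ w, w = a * b⁻¹ * v * (a * b⁻¹)⁻¹ := ⟨_, rfl⟩
  have hwY : w ∈ cj a Y := by
    rw [mem_cj, hw]
    have := mem_cj.1 hv.1
    convert this using 1
    group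
  rw [commutatorElement_def, ← hw] at h1
  have hzA : w * v⁻¹ ∈ A := A.mul_mem (hw ▸ Normal.conj_mem inferInstance v hv.2 _) (A.inv_mem hv.2)
  have hzY : w * v⁻¹ ∈ cj a Y := by
    rw [mem_cj, mul_assoc, ← mem_center_iff.1 h1 a, inv_mul_cancel_left]
    exact s.central_le hzA h1
  have := mul_mem (inv_mem hzY) hwY
  simpa using this

/-- Fixed-point-free action on `A` modulo the centre. -/
theorem Spread.fpf (s : Spread p Y A) {h : L} (hh : ¬ ∃ k : ℕ, orderOf h = p ^ k) {c : L} (hc : c ∈ A)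
    (hfix : ⁅h, c⁆ ∈ center L) : c ∈ Y ⊓ center L := by
  obtain ⟨π, hπ⟩ : ∃ π, π = QuotientGroup.mk' A := ⟨_, rfl⟩
  have hkπ : π.ker = A := hπ ▸ QuotientGroup.ker_mk' A
  obtain ⟨σ, hσ⟩ : ∃ σ, σ = QuotientGroup.mk' (center L) := ⟨_, rfl⟩
  have hker : σ.ker = center L := hσ ▸ QuotientGroup.ker_mk' _
  have hmk : ∀ w : L, w ∈ center L ↔ σ w = 1 := fun w => by rw [← MonoidHom.mem_ker, hker]
  have hcomm : ∀ w v : L, ⁅w, v⁆ ∈ center L ↔ Commute (σ w) (σ v) := fun w v => by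
    rw [hmk, map_commutatorElement, commutatorElement_eq_one_iff_commute]
  suffices hsuff : c ∈ center L from ⟨s.central_le hc hsuff, hsuff⟩
  -- the image of a power has prime order
  obtain ⟨r, hr, hrp, hrd⟩ : ∃ r, r.Prime ∧ r ≠ p ∧ r ∣ orderOf (π h) := by
    by_contra hno
    push Not at hno
    refine hh ?_
    obtain ⟨i, hi⟩ : ∃ i, orderOf (π h) = p ^ i := by
      refine ⟨_, Nat.eq_prime_pow_of_unique_prime_dvd (orderOf_pos (π h)).ne' fun {q} hq hqd => ?_⟩
      by_contra hne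
      exact hno q hq hne hqd
    have h1 : h ^ orderOf (π h) ∈ A :=
      hkπ.le (MonoidHom.mem_ker.2 (by rw [map_pow, pow_orderOf_eq_one]))
    obtain ⟨j, hj⟩ := s.pA ⟨_, h1⟩
    have h2 : h ^ p ^ (i + j) = 1 := by
      rw [pow_add, pow_mul, ← hi]; exact congrArg Subtype.val hj
    obtain ⟨k, -, hk⟩ := (Nat.dvd_prime_pow Fact.out).1 (orderOf_dvd_of_pow_eq_one h2)
    exact ⟨k, hk⟩
  obtain ⟨e, he⟩ := hrd
  have hepos : e ≠ 0 := fun h0 => (orderOf_pos (π h)).ne' (by rw [he, h0, mul_zero])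
  have hord : orderOf (π (h ^ e)) = r := by
    rw [map_pow, orderOf_pow_of_dvd hepos (he ▸ dvd_mul_left e r), he, Nat.mul_div_cancel _ (Nat.pos_of_ne_zero hepos)]
  have hfix' : Commute (σ (h ^ e)) (σ c) := by
    rw [map_pow]; exact ((hcomm h c).1 hfix).pow_left e
  obtain ⟨a', b', hne, x', hx', y', hy', hx1, hy1, hcase⟩ := (hπ ▸ s.prod) (π (h ^ e)) r hr hrp hord
  obtain ⟨a, rfl⟩ := (hπ ▸ QuotientGroup.mk'_surjective A : Function.Surjective π) a'
  obtain ⟨b, rfl⟩ := (hπ ▸ QuotientGroup.mk'_surjective A : Function.Surjective π) b'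
  rw [← map_cj] at hx' hy'
  obtain ⟨x, hx, rfl⟩ := hx'
  obtain ⟨y, hy, rfl⟩ := hy'
  have hxA : x ∉ A := fun h => hx1 (MonoidHom.mem_ker.1 (hkπ.ge h))
  have hyA : y ∉ A := fun h => hy1 (MonoidHom.mem_ker.1 (hkπ.ge h))
  have hab : (cj a Y).map (QuotientGroup.mk' A) ≠ (cj b Y).map (QuotientGroup.mk' A) := by
    rw [← hπ, map_cj, map_cj]; exact hπ ▸ hne
  -- `A` is abelian modulo the centre
  have hAab : ∀ v ∈ A, ∀ w ∈ A, Commute (σ v) (σ w) := by
    have key : ∀ u ∈ cj a Y ⊓ A, ∀ v ∈ cj b Y ⊓ A, Commute (σ u) (σ v) := fun u hu v hv => (hcomm u v).1 (by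
      refine s.cap hab ?_ ?_ ?_
      · exact A.mul_mem (Normal.conj_mem inferInstance v hv.2 u) (A.inv_mem hv.2)
      · rw [commutatorElement_def, show u * v * u⁻¹ * v⁻¹ = u * (v * u⁻¹ * v⁻¹) by group]
        exact mul_mem hu.1 ((mem_normalizer_iff.1 (s.nor_cj a hv.2) _).1 (inv_mem hu.1))
      · rw [commutatorElement_def]
        exact mul_mem ((mem_normalizer_iff.1 (s.nor_cj b hu.2) _).1 hv.1) (inv_mem hv.1))
    intro v hv w hw
    obtain ⟨u₁, hu₁, v₁, hv₁, rfl⟩ := s.split hab v hv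
    obtain ⟨u₂, hu₂, v₂, hv₂, rfl⟩ := s.split hab w hw
    rw [map_mul, map_mul]
    exact ((show Commute (σ u₁) (σ u₂) from (Commute.map (s.comm_cj a _ hu₁.1 _ hu₂.1) σ)).mul_right
      (key _ hu₁ _ hv₂)).mul_left ((key _ hu₂ _ hv₁).symm.mul_right
        (show Commute (σ v₁) (σ v₂) from (Commute.map (s.comm_cj b _ hv₁.1 _ hv₂.1) σ)))
  -- an element fixed by the product is fixed by both factors
  have hfac : ∀ w ∈ A, Commute (σ (x * y)) (σ w) → w ∈ center L := by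
    intro w hw hxy
    have h1 : σ (y * w * y⁻¹ * w⁻¹) = σ (x⁻¹ * w * x * w⁻¹) := by
      have h2 : σ x * σ y * σ w = σ w * (σ x * σ y) := by rw [← map_mul]; exact hxy
      simp only [map_mul, map_inv]
      calc σ y * σ w * (σ y)⁻¹ * (σ w)⁻¹ = (σ x)⁻¹ * (σ x * σ y * σ w) * (σ y)⁻¹ * (σ w)⁻¹ := by group
        _ = _ := by rw [h2]; group
    have hyw : y * w * y⁻¹ * w⁻¹ ∈ cj b Y ⊓ A := by
      refine ⟨?_, A.mul_mem (Normal.conj_mem inferInstance w hw y) (A.inv_mem hw)⟩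
      rw [show y * w * y⁻¹ * w⁻¹ = y * (w * y⁻¹ * w⁻¹) by group]
      exact mul_mem hy ((mem_normalizer_iff.1 (s.nor_cj b hw) _).1 (inv_mem hy))
    have hxw : x⁻¹ * w * x * w⁻¹ ∈ cj a Y ⊓ A := by
      refine ⟨?_, A.mul_mem (show x⁻¹ * w * x ∈ A from by
        have := Normal.conj_mem (H := A) inferInstance w hw x⁻¹
        rwa [inv_inv] at this) (A.inv_mem hw)⟩
      rw [show x⁻¹ * w * x * w⁻¹ = x⁻¹ * (w * x * w⁻¹) by group]
      exact (cj a Y).mul_mem ((cj a Y).inv_mem hx) ((mem_normalizer_iff.1 (s.nor_cj a hw) _).1 hx)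
    obtain ⟨z, hz⟩ : ∃ z, z = (x⁻¹ * w * x * w⁻¹)⁻¹ * (y * w * y⁻¹ * w⁻¹) := ⟨_, rfl⟩
    have hzc : z ∈ center L := by
      rw [hmk, hz, map_mul, map_inv, h1, inv_mul_cancel]
    have hzA : z ∈ A := hz ▸ A.mul_mem (A.inv_mem hxw.2) hyw.2
    have hzY : z ∈ cj a Y := by
      rw [mem_cj, mul_assoc, ← mem_center_iff.1 hzc a, inv_mul_cancel_left]
      exact s.central_le hzA hzc
    have hboth : y * w * y⁻¹ * w⁻¹ ∈ center L := by
      refine s.cap hab hyw.2 ?_ hyw.1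
      rw [show y * w * y⁻¹ * w⁻¹ = (x⁻¹ * w * x * w⁻¹) * z by rw [hz]; group]
      exact mul_mem hxw.1 hzY
    have hyc : Commute (σ y) (σ w) := (hcomm y w).1 hboth
    have hxc : Commute (σ x) (σ w) := by
      rw [map_mul] at hxy
      have := hxy.mul_left (hyc.inv_left)
      rwa [mul_inv_cancel_right] at this
    exact s.cap hab hw (s.fixed_mem hab hx hxA hw ((hcomm x w).2 hxc))
      (s.fixed_mem hab.symm hy hyA hw ((hcomm y w).2 hyc))
  rcases hcase with hprod | ⟨hp2, hsq, hcentral⟩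
  · obtain ⟨n, hn⟩ : ∃ n, n = (h ^ e)⁻¹ * (x * y) := ⟨_, rfl⟩
    have hnA : n ∈ A := hkπ.le (MonoidHom.mem_ker.2 (by rw [hn, map_mul, map_inv, hprod, map_mul, inv_mul_cancel]))
    refine hfac c hc ?_
    rw [show x * y = h ^ e * n by rw [hn]; group, map_mul]
    exact hfix'.mul_left (hAab n hnA c hc)
  -- the central case
  by_contra hcc
  obtain ⟨g, hg⟩ : ∃ g, g = (x * y) ^ 2 := ⟨_, rfl⟩
  have hgc : Commute (σ g) (σ c) := by
    obtain ⟨n, hn⟩ : ∃ n, n = (h ^ e)⁻¹ * g := ⟨_, rfl⟩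
    have hnA : n ∈ A :=
      hkπ.le (MonoidHom.mem_ker.2 (by rw [hn, hg, map_mul, map_inv, hsq, map_pow, map_mul, inv_mul_cancel]))
    rw [show g = h ^ e * n by rw [hn]; group, map_mul]
    exact hfix'.mul_left (hAab n hnA c hc)
  obtain ⟨W, hW⟩ : ∃ W, W = A ⊓ (centralizer ({σ g} : Set (L ⧸ center L))).comap σ := ⟨_, rfl⟩
  have hmemW : ∀ w, w ∈ W ↔ w ∈ A ∧ Commute (σ g) (σ w) := fun w => by
    rw [hW, mem_inf, mem_comap, mem_centralizer_singleton_iff]
    exact and_congr_right fun _ => ⟨fun h => h.symm, fun h => h.symm⟩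
  have hWn : ∀ l : L, ∀ w ∈ W, l * w * l⁻¹ ∈ W := by
    intro l w hw
    rw [hmemW] at hw ⊢
    refine ⟨Normal.conj_mem inferInstance w hw.1 l, ?_⟩
    -- `l` moves `g` only inside `A`
    obtain ⟨n, hn⟩ : ∃ n, n = g⁻¹ * (l⁻¹ * g * l) := ⟨_, rfl⟩
    have hnA : n ∈ A := by
      refine hkπ.le (MonoidHom.mem_ker.2 ?_)
      rw [hn]
      simp only [map_mul, map_inv]
      have h1 : π g = π (h ^ e) := by rw [hg, map_pow, map_mul, hsq]
      rw [h1, mul_assoc, (hcentral (π l)).eq]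
      group
    have h2 : Commute (σ (l⁻¹ * g * l)) (σ w) := by
      rw [show l⁻¹ * g * l = g * n by rw [hn]; group, map_mul]
      exact hw.2.mul_left (hAab n hnA w hw.1)
    have h3 := h2.map (MulAut.conj (σ l)).toMonoidHom
    simp only [MulEquiv.coe_toMonoidHom, MulAut.conj_apply, map_mul, map_inv] at h3
    show σ g * σ (l * w * l⁻¹) = σ (l * w * l⁻¹) * σ g
    have h4 := h3.eq
    simp only [map_mul, map_inv]
    group at h4 ⊢
    exact h4
  -- a fixed element of `W` on the first side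
  obtain ⟨σW, hσW⟩ : ∃ σW, σW = W.map σ := ⟨_, rfl⟩
  obtain ⟨w, hw, hwc, hxw⟩ : ∃ w ∈ W, w ∉ center L ∧ Commute (σ x) (σ w) := by
    -- the group generated by `x` and `W` modulo the centre is a `p`-group
    obtain ⟨K, hK⟩ : ∃ K, K = (zpowers x ⊔ W).map σ := ⟨_, rfl⟩
    have hWN : zpowers x ≤ normalizer (W : Set L) := zpowers_le.2 (mem_normalizer_iff_map_conj_eq.2
      (eq_of_le_of_card_ge (by rintro _ ⟨v, hv, rfl⟩; exact hWn x v hv)
        (Subgroup.card_map_of_injective (MulAut.conj x).injective).ge))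
    have hKp : IsPGroup p K := hK ▸ (((s.pY.map _).to_le (zpowers_le.2 hx)).to_sup_of_normal_right'
      (s.pA.to_le fun v hv => ((hmemW v).1 hv).1) hWN).map σ
    have hσle : W.map σ ≤ K := hK ▸ map_mono le_sup_right
    haveI : ((W.map σ).subgroupOf K).Normal := by
      refine (normal_subgroupOf_iff_le_normalizer hσle).2 ?_
      rw [hK]
      exact (map_mono (sup_le hWN le_normalizer)).trans (le_normalizer_map σ)
    have hne0 : (W.map σ).subgroupOf K ≠ ⊥ := by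
      intro h0
      rw [subgroupOf_eq_bot, disjoint_of_le_iff_left_eq_bot hσle, Subgroup.map_eq_bot_iff, hker] at h0
      exact hcc (h0 ((hmemW c).2 ⟨hc, hgc⟩))
    obtain ⟨q, hq, hq1⟩ := (bot_or_exists_ne_one ((W.map σ).subgroupOf K ⊓ center _)).resolve_left
      (CfsgLib.PGroups.inf_center_ne_bot (p := p) hKp hne0)
    obtain ⟨w, hw, hwq⟩ := (hq.1 : (q : L ⧸ center L) ∈ W.map σ)
    refine ⟨w, hw, fun h0 => hq1 (Subtype.ext (hwq.symm.trans ((hmk w).1 h0))), ?_⟩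
    have h1 := congrArg Subtype.val (mem_center_iff.1 hq.2 ⟨σ x, hK ▸ mem_map_of_mem σ (mem_sup_left (mem_zpowers x))⟩)
    show σ x * σ w = σ w * σ x
    rw [hwq]
    exact h1
  obtain ⟨hwA, hwg⟩ := (hmemW w).1 hw
  have hwY : w ∈ cj a Y := s.fixed_mem hab hx hxA hwA ((hcomm x w).2 hxw)
  obtain ⟨w', hw'⟩ : ∃ w', w' = x * y * w * (x * y)⁻¹ := ⟨_, rfl⟩
  have hw'A : w' ∈ A := hw' ▸ Normal.conj_mem inferInstance w hwA _
  have hsum : w * w' ∈ center L := by
    refine hfac _ (A.mul_mem hwA hw'A) ?_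
    have h1 : σ w' = σ (x * y) * σ w * (σ (x * y))⁻¹ := by rw [hw']; simp
    have h2 : σ (x * y) * σ w' * (σ (x * y))⁻¹ = σ w := by
      have h3 := hwg.eq
      rw [hg, map_pow, pow_two] at h3
      rw [h1]
      calc σ (x * y) * (σ (x * y) * σ w * (σ (x * y))⁻¹) * (σ (x * y))⁻¹
          = (σ (x * y) * σ (x * y) * σ w) * (σ (x * y) * σ (x * y))⁻¹ := by group
        _ = σ w := by rw [h3]; group
    show σ (x * y) * σ (w * w') = σ (w * w') * σ (x * y)
    rw [map_mul σ w w']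
    rw [mul_inv_eq_iff_eq_mul] at h2
    have h4 : σ (x * y) * σ w = σ w' * σ (x * y) := by rw [h1]; group
    rw [← mul_assoc, h4, mul_assoc, h2, ← mul_assoc, (hAab w' hw'A w hwA).eq]
  obtain ⟨d, hd⟩ : ∃ d, d = y * w * y⁻¹ * w⁻¹ := ⟨_, rfl⟩
  have hdb : d ∈ cj b Y ⊓ A := by
    refine hd ▸ ⟨?_, A.mul_mem (Normal.conj_mem inferInstance w hwA y) (A.inv_mem hwA)⟩
    rw [show y * w * y⁻¹ * w⁻¹ = y * (w * y⁻¹ * w⁻¹) by group]
    exact mul_mem hy ((mem_normalizer_iff.1 (s.nor_cj b hwA) _).1 (inv_mem hy))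
  obtain ⟨z, hz⟩ : ∃ z, z = d * (w * w) := ⟨_, rfl⟩
  have hzc : z ∈ center L := by
    rw [hmk] at hsum ⊢
    rw [map_mul, hw'] at hsum
    have h1 : σ x * σ w * (σ x)⁻¹ = σ w := by rw [hxw.eq, mul_inv_cancel_right]
    rw [hz, hd]
    simp only [map_mul, map_inv, mul_inv_rev] at hsum ⊢
    have h2 : σ y * σ w * (σ y)⁻¹ = (σ w)⁻¹ := by
      rw [eq_inv_iff_mul_eq_one]
      have h3 : (σ x)⁻¹ * σ w * σ x = σ w := by rw [mul_assoc, ← hxw.eq, inv_mul_cancel_left]
      calc σ y * σ w * (σ y)⁻¹ * σ w = σ y * σ w * (σ y)⁻¹ * ((σ x)⁻¹ * σ w * σ x) := by rw [h3]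
        _ = (σ x)⁻¹ * ((σ w)⁻¹ * (σ w * (σ x * σ y * σ w * ((σ y)⁻¹ * (σ x)⁻¹)))) * σ w * σ x := by group
        _ = 1 := by rw [hsum]; group
    rw [h2]; group
  have hd2 : d ∈ cj a Y := by
    have h1 : z ∈ cj a Y := by
      rw [mem_cj, mul_assoc, ← mem_center_iff.1 hzc a, inv_mul_cancel_left]
      exact s.central_le (hz ▸ A.mul_mem hdb.2 (A.mul_mem hwA hwA)) hzc
    have := mul_mem h1 (inv_mem (mul_mem hwY hwY))
    rwa [hz, mul_inv_cancel_right] at this
  have hdc := s.cap hab hdb.2 hd2 hdb.1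
  have hww : σ w ^ 2 = 1 := by
    rw [← map_pow, pow_two, ← hmk]
    have := mul_mem (inv_mem hdc) hzc
    rwa [hz, inv_mul_cancel_left] at this
  refine hwc ?_
  rw [hmk, ← orderOf_eq_one_iff]
  obtain ⟨j, hj⟩ := s.pA ⟨w, hwA⟩
  have h1 : orderOf (σ w) ∣ p ^ j := orderOf_dvd_of_pow_eq_one (by
    rw [← map_pow, show w ^ p ^ j = 1 from congrArg Subtype.val hj, map_one])
  exact Nat.eq_one_of_dvd_coprimes (((Nat.coprime_primes Fact.out Nat.prime_two).2 hp2).pow_left j)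
    h1 (orderOf_dvd_of_pow_eq_one hww)

end CfsgLib.LocalEven.FrakLFPF
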