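import Cfsg.Agent.Lib.LocalEven.UniqueNormalElementary
import Cfsg.Agent.Lib.LocalEven.PReduced
import Cfsg.Prelude.Def_LocalStructure
import Cfsg.Agent.Lib.Components.Radicals

/-!
# The unique elementary abelian normal subgroup of `N_L(Y_M) / O_p(L)`

* `frakL_unique`
-/

set_option autoImplicit false

namespace CfsgLib.LocalEven.FrakL

open Subgroup Cfsg

variable {G : Type*} [Group G] [Finite G] {p : ℕ} [Fact p.Prime]

theorem elementary_subgroupOf {V K : Subgroup G} (hV : IsElementaryAbelian p V) :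
    IsElementaryAbelian p (V.subgroupOf K) :=
  CfsgLib.PLocal.elementary_comap K.subtype K.subtype_injective hV

theorem frakL_unique (M L NL : Subgroup G) (hL : IsInFrakL p M L)
    (hNL : NL = L ⊓ normalizer ((largestPReducedOf p M : Subgroup G) : Set G))
    [hn : ((pCoreOf p L).subgroupOf NL).Normal] :
    let Ybar : Subgroup (↥NL ⧸ (pCoreOf p L).subgroupOf NL) :=
      ((largestPReducedOf p M).subgroupOf NL).map (QuotientGroup.mk' ((pCoreOf p L).subgroupOf NL))
    Ybar ≠ ⊥ ∧ Ybar.Normal ∧ IsElementaryAbelian p Ybar ∧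
      ∀ V : Subgroup (↥NL ⧸ (pCoreOf p L).subgroupOf NL),
        V.Normal → IsElementaryAbelian p V → V ≠ ⊥ → V = Ybar := by
  intro Ybar
  obtain ⟨hYL, -, hAN, hmin, -, ⟨hlt, hmax⟩, hcases⟩ := hL
  have hYel : IsElementaryAbelian p (largestPReducedOf p M) :=
    CfsgLib.PLocal.elementary_map M.subtype (isPReducedNormal_largest (L := M) (p := p)).2.1
  obtain ⟨Y, hY⟩ : ∃ Y, Y = largestPReducedOf p M := ⟨_, rfl⟩
  rw [← hY] at hYL hAN hmin hlt hmax hcases hYel
  -- the homomorphism to `L / O_p(L)`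
  haveI hQn : (pCore p L).Normal := CfsgLib.Components.pCore_normal p
  have hNLL : NL ≤ L := hNL ▸ inf_le_left
  have hYNL : Y ≤ NL := by rw [hNL, ← hY]; exact le_inf hYL le_normalizer
  have hA : ∀ z : L, (z : G) ∈ pCoreOf p L ↔ z ∈ pCore p L := fun z =>
    ⟨fun ⟨w, hw, he⟩ => Subtype.ext he ▸ hw, fun h => ⟨z, h, rfl⟩⟩
  let f : NL →* L ⧸ pCore p L := (QuotientGroup.mk' (pCore p L)).comp (inclusion hNLL)
  have hfker : ∀ z : NL, f z = 1 ↔ z ∈ (pCoreOf p L).subgroupOf NL := fun z => by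
    exact (QuotientGroup.eq_one_iff (inclusion hNLL z)).trans
      ((hA (inclusion hNLL z)).symm.trans mem_subgroupOf.symm)
  let fbar : (↥NL ⧸ (pCoreOf p L).subgroupOf NL) →* L ⧸ pCore p L :=
    QuotientGroup.lift _ f fun z hz => (hfker z).mpr hz
  have hfinj : Function.Injective fbar := by
    rw [injective_iff_map_eq_one]
    intro q hq
    induction q using QuotientGroup.induction_on with
    | _ z => exact (QuotientGroup.eq_one_iff z).mpr ((hfker z).mp hq)
  obtain ⟨YL, hYL'⟩ : ∃ YL, YL = (Y.subgroupOf L).map (QuotientGroup.mk' (pCore p L)) := ⟨_, rfl⟩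
  obtain ⟨N, hN⟩ : ∃ N, N = (NL.subgroupOf L).map (QuotientGroup.mk' (pCore p L)) := ⟨_, rfl⟩
  have hYbar : Ybar.map fbar = YL := by
    show (((largestPReducedOf p M).subgroupOf NL).map (QuotientGroup.mk' _)).map fbar = YL
    rw [← hY, map_map, hYL']
    ext q
    constructor
    · rintro ⟨z, hz, rfl⟩
      exact ⟨inclusion hNLL z, hz, rfl⟩
    · rintro ⟨z, hz, rfl⟩
      exact ⟨⟨z, hYNL hz⟩, hz, rfl⟩
  have hrange : fbar.range = N := by
    rw [hN]
    ext q
    constructor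
    · rintro ⟨r, rfl⟩
      induction r using QuotientGroup.induction_on with
      | _ z => exact ⟨inclusion hNLL z, z.2, rfl⟩
    · rintro ⟨z, hz, rfl⟩
      exact ⟨((⟨z, hz⟩ : NL) : ↥NL ⧸ (pCoreOf p L).subgroupOf NL), rfl⟩
  have hQN : pCore p L ≤ NL.subgroupOf L := fun z hz => by
    rw [mem_subgroupOf, hNL]
    exact mem_inf.mpr ⟨z.2, hY ▸ hAN ((hA z).mpr hz)⟩
  have hYA : ¬ Y.subgroupOf L ≤ pCore p L := by
    intro hle
    have hmin' := hmin.1
    have htop : pCore p L = ⊤ := top_le_iff.mp (hmin' ▸ normalClosure_le_normal hle)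
    refine hlt.not_ge fun z hz => ?_
    have h1 : (⟨z, hz⟩ : L) ∈ NL.subgroupOf L := hQN (htop ▸ mem_top _)
    rw [mem_subgroupOf, hNL, ← hY] at h1
    exact h1
  have hMO : UniqueNormal.MaxOver p YL N := by
    refine ⟨hYL' ▸ hN ▸ map_mono (comap_mono hYNL), ?_, ?_, ?_, ?_, ?_⟩
    · intro htop
      rw [hN] at htop
      have h1 := congrArg (Subgroup.comap (QuotientGroup.mk' (pCore p L))) htop
      rw [comap_map_eq, QuotientGroup.ker_mk', sup_eq_left.mpr hQN, comap_top, subgroupOf_eq_top] at h1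
      exact hlt.not_ge (by rw [hY, ← hNL]; exact h1)
    · intro X hX hne
      obtain ⟨X', hX'⟩ : ∃ X', X' = (X.comap (QuotientGroup.mk' (pCore p L))).map L.subtype :=
        ⟨_, rfl⟩
      have h1 : Y ≤ X' := fun y hy => hX' ▸ ⟨⟨y, hYL hy⟩,
        hX (hYL' ▸ ⟨⟨y, hYL hy⟩, mem_subgroupOf.mpr hy, rfl⟩), rfl⟩
      have h2 : X' < L := lt_of_le_of_ne (hX' ▸ map_subtype_le _) fun he => hne (by
        rw [eq_top_iff]
        rintro q -
        obtain ⟨z, rfl⟩ := QuotientGroup.mk'_surjective _ q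
        obtain ⟨w, hw, hwz⟩ := hX' ▸ (he ▸ z.2 : (z : G) ∈ X')
        exact Subtype.ext hwz ▸ hw)
      intro q hq
      obtain ⟨z, rfl⟩ := QuotientGroup.mk'_surjective _ q
      refine hN ▸ ⟨z, ?_, rfl⟩
      rw [SetLike.mem_coe, mem_subgroupOf, hNL, ← hY]
      exact hmax X' h1 h2 (hX' ▸ ⟨z, hq, rfl⟩)
    · rw [hN, hYL']
      refine (map_mono ?_).trans (le_normalizer_map _)
      intro z hz
      rw [mem_normalizer_iff]
      intro w
      exact mem_normalizer_iff.mp (hY ▸ (mem_inf.mp (hNL ▸ hz : (z : G) ∈ _)).2) (w : G)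
    · exact hYL' ▸ CfsgLib.PLocal.elementary_map _ (elementary_subgroupOf hYel)
    · exact fun hb => hYA ((QuotientGroup.ker_mk' (pCore p L)).le.trans' ((Subgroup.map_eq_bot_iff _).mp (hYL' ▸ hb)))
  have hcard : Nat.card YL = (Y ⊓ pCoreOf p L).relIndex Y := by
    rw [hYL', ← relIndex_ker, QuotientGroup.ker_mk', inf_relIndex_left,
      ← relIndex_map_map_of_injective _ _ L.subtype_injective, subgroupOf_map_subtype,
      inf_eq_left.mpr hYL]
    rfl
  have huniq : UniqueNormal.Unique p YL N := by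
    rcases hcases with ⟨F, _, _, hF, ⟨e⟩⟩ | ⟨rfl, F, _, _, m, hF, hF', ⟨e⟩⟩ | ⟨rfl, r, hr, -, ⟨e⟩⟩
    · obtain ⟨k, hk⟩ := IsPGroup.iff_card.mp (fun y : YL => ⟨1, Subtype.ext
        (by rw [pow_one]; exact hMO.elem.2 y y.2)⟩ : IsPGroup p YL)
      haveI : CharP F p := charP_of_card_eq_prime_pow (f := k) (by
        rw [hF, ← hcard, hk])
      refine UniqueNormal.unique_of_map e (UniqueNormal.unique_SL2 (hMO.map e) ?_)
      rw [card_map_of_injective (f := e.toMonoidHom) e.injective, hcard, hF]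
    · exact UniqueNormal.unique_of_map e (UniqueNormal.unique_Sz hF (hMO.map e))
    · exact UniqueNormal.unique_of_map e (UniqueNormal.unique_dihedral hr (hMO.map e))
  refine ⟨fun hb => hMO.ne_bot (by rw [← hYbar, hb, Subgroup.map_bot]), ?_, ?_, fun V hVn hVel hne => ?_⟩
  · refine Normal.map ?_ _ (QuotientGroup.mk'_surjective _)
    rw [← hY]
    refine (normal_subgroupOf_iff_le_normalizer hYNL).mpr ?_
    rw [hNL, ← hY]
    exact inf_le_right
  · exact CfsgLib.PLocal.elementary_map _ (elementary_subgroupOf (hY ▸ hYel))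
  · refine map_injective hfinj ((huniq (V.map fbar) (hrange ▸ map_le_range fbar V) ?_
      (CfsgLib.PLocal.elementary_map _ hVel) ?_).trans hYbar.symm)
    · rw [← hrange, MonoidHom.range_eq_map, ← normalizer_eq_top_iff.mpr hVn]
      exact le_normalizer_map _
    · exact fun hb => hne ((map_eq_bot_iff_of_injective _ hfinj).mp hb)

end CfsgLib.LocalEven.FrakL
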