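import Cfsg.Prelude.Def_LocalStructure
import Cfsg.Agent.Lib.PGroups.Basic
import Cfsg.Agent.Lib.Transfer.PResidual

/-!
# Elements stabilizing the series `1 ≤ [P,P] ≤ Φ(P)`

* `pResidual_normalClosure_le_centralizer_frattini`
-/

set_option autoImplicit false

namespace CfsgLib.LocalEven.FrattiniStability

open Subgroup
open scoped commutatorElement

variable {G : Type*} [Group G] [Finite G] {p : ℕ} [Fact p.Prime]

theorem pResidual_normalClosure_le_centralizer_frattini (P : Subgroup G) (hP : IsPGroup p P)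
    (H : Subgroup G) (hH : H ≤ normalizer (P : Set G)) (Y : Subgroup G) (hYH : Y ≤ H)
    (hYc : Y ≤ centralizer ((⁅P, P⁆ : Subgroup G) : Set G))
    (hexp : ∀ c ∈ ⁅P, Y⁆, c ^ p = 1) (NY : Subgroup G)
    (hNY : NY = (normalClosure ((Y.subgroupOf H : Subgroup H) : Set H)).map H.subtype) :
    (Cfsg.pResidual p NY).map NY.subtype ≤
      centralizer (((frattini P).map P.subtype : Subgroup G) : Set G) := by
  set D : Subgroup G := ⁅P, P⁆ with hD
  set F : Subgroup G := (frattini P).map P.subtype with hF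
  have hFP : F ≤ P := map_subtype_le _
  have hDP : D ≤ P := commutator_le.mpr fun a ha b hb => by
    rw [commutatorElement_def]
    exact P.mul_mem (P.mul_mem (P.mul_mem ha hb) (P.inv_mem ha)) (P.inv_mem hb)
  have hDn : ∀ h ∈ H, ∀ x ∈ D, h * x * h⁻¹ ∈ D := by
    intro h hh x hx
    have : D.map (MulAut.conj h : G →* G) = D := by
      rw [hD, map_commutator, mem_normalizer_iff_map_conj_eq.mp (hH hh)]
    rw [← this]; exact ⟨x, hx, rfl⟩
  have hPchar : P ≤ normalizer (P : Set G) := le_normalizer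
  have hFn : ∀ h ∈ normalizer (P : Set G), ∀ x ∈ F, h * x * h⁻¹ ∈ F := by
    intro h hh x hx
    obtain ⟨x₀, hx₀, rfl⟩ := hx
    let e : P ≃* P :=
      { toFun := fun a => ⟨h * a * h⁻¹, (mem_normalizer_iff.mp hh a).mp a.2⟩
        invFun := fun a => ⟨h⁻¹ * a * h, by
          simpa using (mem_normalizer_iff.mp ((normalizer (P : Set G)).inv_mem hh) a).mp a.2⟩
        left_inv := fun a => Subtype.ext (by simp [mul_assoc])
        right_inv := fun a => Subtype.ext (by simp [mul_assoc])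
        map_mul' := fun a b => Subtype.ext (by simp [mul_assoc]) }
    have := (characteristic_iff_map_eq.mp (inferInstance : (frattini P).Characteristic)) e
    exact ⟨e x₀, this.le ⟨x₀, hx₀, rfl⟩, rfl⟩
  -- the stabilizer of the series inside `H`
  let C : Subgroup G :=
    { carrier := {g | g ∈ H ∧ (∀ c ∈ D, g * c = c * g) ∧ ∀ x ∈ F, x⁻¹ * (g * x * g⁻¹) ∈ D}
      one_mem' := ⟨H.one_mem, fun c _ => by simp, fun x _ => by simp⟩
      mul_mem' := by
        rintro a b ⟨ha, ha1, ha2⟩ ⟨hb, hb1, hb2⟩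
        refine ⟨H.mul_mem ha hb, fun c hc => ?_, fun x hx => ?_⟩
        · rw [mul_assoc, hb1 c hc, ← mul_assoc, ha1 c hc, mul_assoc]
        · have e : x⁻¹ * (a * b * x * (a * b)⁻¹) =
              x⁻¹ * (a * x * a⁻¹) * (a * (x⁻¹ * (b * x * b⁻¹)) * a⁻¹) := by group
          rw [e, ha1 _ (hb2 x hx), mul_inv_cancel_right]
          exact D.mul_mem (ha2 x hx) (hb2 x hx)
      inv_mem' := by
        rintro a ⟨ha, ha1, ha2⟩
        refine ⟨H.inv_mem ha, fun c hc => ?_, fun x hx => ?_⟩
        · have := ha1 c hc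
          calc a⁻¹ * c = a⁻¹ * (c * a) * a⁻¹ := by group
            _ = c * a⁻¹ := by rw [← this]; group
        · have hy : a⁻¹ * x * a ∈ F := by
            simpa using hFn a⁻¹ ((normalizer (P : Set G)).inv_mem (hH ha)) x hx
          have e : x⁻¹ * (a⁻¹ * x * (a⁻¹)⁻¹) =
              ((a⁻¹ * x * a)⁻¹ * (a * (a⁻¹ * x * a) * a⁻¹))⁻¹ := by group
          rw [e]
          exact D.inv_mem (ha2 _ hy) }
  have hCH : C ≤ H := fun g hg => hg.1
  have hCn : ∀ h ∈ H, ∀ g ∈ C, h * g * h⁻¹ ∈ C := by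
    rintro h hh g ⟨hg, hg1, hg2⟩
    refine ⟨H.mul_mem (H.mul_mem hh hg) (H.inv_mem hh), fun c hc => ?_, fun x hx => ?_⟩
    · have hc' : h⁻¹ * c * h ∈ D := by simpa using hDn h⁻¹ (H.inv_mem hh) c hc
      calc h * g * h⁻¹ * c = h * (g * (h⁻¹ * c * h)) * h⁻¹ := by group
        _ = c * (h * g * h⁻¹) := by rw [hg1 _ hc']; group
    · have hx' : h⁻¹ * x * h ∈ F := by
        simpa using hFn h⁻¹ ((normalizer (P : Set G)).inv_mem (hH hh)) x hx
      have e : x⁻¹ * (h * g * h⁻¹ * x * (h * g * h⁻¹)⁻¹) =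
          h * ((h⁻¹ * x * h)⁻¹ * (g * (h⁻¹ * x * h) * g⁻¹)) * h⁻¹ := by group
      rw [e]
      exact hDn h hh _ (hg2 _ hx')
  have hYC : Y ≤ C := by
    intro y hy
    have hc1 : ∀ c ∈ D, y * c = c * y := fun c hc => (mem_centralizer_iff.mp (hYc hy) c hc).symm
    refine ⟨hYH hy, hc1, ?_⟩
    have hyP : ∀ x ∈ P, y * x * y⁻¹ ∈ P := fun x hx =>
      (mem_normalizer_iff.mp (hH (hYH hy)) x).mp hx
    -- the elements of `P` fixed modulo `D`
    let K : Subgroup P :=
      { carrier := {x | (x : G)⁻¹ * (y * x * y⁻¹) ∈ D}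
        one_mem' := by simp
        mul_mem' := by
          intro a b (ha : _ ∈ D) (hb : _ ∈ D)
          show ((a * b : P) : G)⁻¹ * (y * (a * b : P) * y⁻¹) ∈ D
          have e : ((a * b : P) : G)⁻¹ * (y * (a * b : P) * y⁻¹) =
              (b : G)⁻¹ * ((a : G)⁻¹ * (y * a * y⁻¹)) * b * ((b : G)⁻¹ * (y * b * y⁻¹)) := by
            push_cast; group
          rw [e]
          refine D.mul_mem ?_ hb
          have hbn : (b : G)⁻¹ ∈ normalizer (P : Set G) := hPchar (P.inv_mem b.2)
          have : D.map (MulAut.conj (b : G)⁻¹ : G →* G) = D := by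
            rw [hD, map_commutator, mem_normalizer_iff_map_conj_eq.mp hbn]
          rw [← this]
          exact ⟨_, ha, by simp [mul_assoc]⟩
        inv_mem' := by
          intro a (ha : _ ∈ D)
          show ((a⁻¹ : P) : G)⁻¹ * (y * (a⁻¹ : P) * y⁻¹) ∈ D
          have e : ((a⁻¹ : P) : G)⁻¹ * (y * (a⁻¹ : P) * y⁻¹) =
              (a : G) * ((a : G)⁻¹ * (y * a * y⁻¹))⁻¹ * (a : G)⁻¹ := by push_cast; group
          rw [e]
          have : D.map (MulAut.conj (a : G) : G →* G) = D := by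
            rw [hD, map_commutator, mem_normalizer_iff_map_conj_eq.mp (hPchar a.2)]
          rw [← this]
          exact ⟨_, D.inv_mem ha, rfl⟩ }
    have hcomm : commutator P ≤ K := by
      intro x hx
      have hxD : (x : G) ∈ D := by
        have h1 : (commutator P).map P.subtype = D := P.map_subtype_commutator
        rw [← h1]; exact ⟨x, hx, rfl⟩
      show (x : G)⁻¹ * (y * x * y⁻¹) ∈ D
      rw [hc1 _ hxD, mul_inv_cancel_right, inv_mul_cancel]
      exact D.one_mem
    have hpow : ∀ x : P, x ^ p ∈ K := by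
      intro x
      set c : P := x⁻¹ * ⟨y * x * y⁻¹, hyP x x.2⟩ with hc
      have hcm : (c : G) ∈ ⁅P, Y⁆ := by
        have h1 := commutator_mem_commutator (H₁ := P) (H₂ := Y) (P.inv_mem x.2) hy
        have e : ⁅(x : G)⁻¹, y⁆ = (c : G) := by
          rw [hc, commutatorElement_def]; push_cast; group
        rwa [e] at h1
      have hcp : c ^ p = 1 := Subtype.ext (by push_cast; exact hexp _ hcm)
      have hmul : Abelianization.of ((x * c) ^ p) = Abelianization.of (x ^ p) := by
        rw [map_pow, map_mul, mul_pow, ← map_pow _ c p, hcp, map_one, mul_one, map_pow]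
      have hmem : (x ^ p)⁻¹ * (x * c) ^ p ∈ commutator P := by
        rw [← QuotientGroup.eq]; exact hmul.symm
      have hmem' : (((x ^ p)⁻¹ * (x * c) ^ p : P) : G) ∈ D := by
        have h1 : (commutator P).map P.subtype = D := P.map_subtype_commutator
        rw [← h1]; exact ⟨_, hmem, rfl⟩
      show ((x ^ p : P) : G)⁻¹ * (y * (x ^ p : P) * y⁻¹) ∈ D
      have e1 : x * c = (⟨y * x * y⁻¹, hyP x x.2⟩ : P) := by rw [hc, mul_inv_cancel_left]
      rw [e1] at hmem'
      push_cast at hmem' ⊢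
      rwa [conj_pow] at hmem'
    have hΦ : frattini P ≤ K := by
      rw [CfsgLib.PGroups.frattini_eq_commutator_sup hP, sup_le_iff, closure_le]
      exact ⟨hcomm, Set.range_subset_iff.mpr hpow⟩
    rintro x ⟨x₀, hx₀, rfl⟩
    exact hΦ hx₀
  have hNC : NY ≤ C := by
    rw [hNY, map_le_iff_le_comap]
    haveI : (C.comap H.subtype).Normal := ⟨fun g hg h => hCn h h.2 g hg⟩
    exact normalClosure_le_normal fun x hx => hYC hx
  rw [map_le_iff_le_comap, Cfsg.pResidual, closure_le]
  intro g hg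
  obtain ⟨-, hg1, hg2⟩ := hNC g.2
  rw [SetLike.mem_coe, mem_comap, coe_subtype, mem_centralizer_iff]
  intro x hx
  set c := x⁻¹ * ((g : G) * x * (g : G)⁻¹) with hc
  have hcD : c ∈ D := hg2 x hx
  have hpow : ∀ n : ℕ, (g : G) ^ n * x * ((g : G) ^ n)⁻¹ = x * c ^ n := by
    intro n
    induction n with
    | zero => simp
    | succ n ih =>
      calc (g : G) ^ (n + 1) * x * ((g : G) ^ (n + 1))⁻¹
          = (g : G) * ((g : G) ^ n * x * ((g : G) ^ n)⁻¹) * (g : G)⁻¹ := by
            rw [pow_succ']; group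
        _ = ((g : G) * x * (g : G)⁻¹) * ((g : G) * c ^ n * (g : G)⁻¹) := by rw [ih]; group
        _ = x * c ^ (n + 1) := by
            have e0 : (g : G) * x * (g : G)⁻¹ = x * c := (mul_inv_cancel_left _ _).symm
            rw [hg1 _ (D.pow_mem hcD n), mul_inv_cancel_right, pow_succ', e0, mul_assoc]
  have hn := hpow (orderOf (g : G))
  rw [pow_orderOf_eq_one, one_mul, inv_one, mul_one] at hn
  have hdvd : orderOf c ∣ orderOf (g : G) := orderOf_dvd_of_pow_eq_one ((mul_eq_left.mp hn.symm))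
  obtain ⟨k, hk⟩ := hP (⟨c, hDP hcD⟩ : P)
  have hk' : c ^ p ^ k = 1 := congrArg Subtype.val hk
  have hcop : (orderOf (g : G)).Coprime (p ^ k) := by
    rw [orderOf_coe]; exact hg.pow_right k
  have hc1 : c = 1 := orderOf_eq_one_iff.mp
    (Nat.eq_one_of_dvd_coprimes hcop hdvd (orderOf_dvd_of_pow_eq_one hk'))
  rw [hc, inv_mul_eq_one] at hc1
  calc x * g = (g : G) * x * (g : G)⁻¹ * g := by rw [← hc1]
    _ = g * x := by group

end CfsgLib.LocalEven.FrattiniStability
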