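import Cfsg.Agent.Lib.LocalEven.Factor.Three
import Cfsg.Agent.Lib.LocalEven.Factor.Generate
import Cfsg.Agent.Lib.LocalEven.Subnormal
import Cfsg.Prelude.Def_CaseTheorems
import Cfsg.Prelude.Def_Involutions

/-!
# Solvable 2-locals of characteristic 2 without sections `S₄`

Glauberman's triple factorization makes the maximal 2-local subgroup over a Sylow 2-subgroup
unique; a downward induction over the 2-subgroups then shows that it is strongly embedded.

* `exists_top`: one 2-local contains all the 2-locals over `S`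
* `unique_and_cover`: a nontrivial 2-subgroup lies in one conjugate of it, and every 2-local is
  contained in a conjugate
-/

set_option autoImplicit false
set_option linter.all false

namespace CfsgLib.LocalEven.SFourEmbedded

open Subgroup CfsgLib.LocalEven.Factor CfsgLib.Techniques

universe u

variable {G : Type u} [Group G] [Finite G]

/-- The hypothesis on the 2-local subgroups. -/
def Loc (G : Type u) [Group G] : Prop :=
  ∀ M : Subgroup G, Cfsg.IsTwoLocal M →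
    Group.IsSolvable M ∧ Cfsg.IsOfCharacteristicTwo ↥M ∧ ¬ Cfsg.Involves (Equiv.Perm (Fin 4)) ↥M

theorem zS_ne_bot {T : Subgroup G} (hT : IsPGroup 2 T) (hne : T ≠ ⊥) : zS T ≠ ⊥ := by
  haveI : Fact (Nat.Prime 2) := ⟨Nat.prime_two⟩
  haveI : Nontrivial T := (Subgroup.nontrivial_iff_ne_bot T).2 hne
  haveI := hT.center_nontrivial
  obtain ⟨⟨z, hz⟩, hz1⟩ := exists_ne (1 : center (↥T : Type u))
  obtain ⟨k, hk⟩ := hT z
  intro hbot
  have hzC : ∀ i : ℕ, ((z ^ i : T) : G) ∈ T ⊓ centralizer (T : Set G) := by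
    intro i
    refine mem_inf.2 ⟨(z ^ i).2, mem_centralizer_iff.2 fun t ht => ?_⟩
    exact congrArg Subtype.val (mem_center_iff.1 (pow_mem hz i) ⟨t, ht⟩)
  have key : ∀ j, z ^ 2 ^ j = 1 → z = 1 := by
    intro j
    induction j with
    | zero => intro h; simpa using h
    | succ j ih =>
      intro h
      refine ih ?_
      have h1 : (((z ^ 2 ^ j : T) : G)) ∈ zS T := CfsgLib.PGroups.mem_omegaOne (hzC _) (by
        rw [← SubgroupClass.coe_pow, ← pow_mul, ← pow_succ, h]; rfl)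
      rw [hbot, mem_bot] at h1
      exact Subtype.ext h1
  exact hz1 (Subtype.ext (key k hk))

theorem je_ne_bot {T : Subgroup G} (hT : IsPGroup 2 T) (hne : T ≠ ⊥) : je T ≠ ⊥ := fun h =>
  zS_ne_bot hT hne (le_bot_iff.1 (h ▸ zS_le_je T))

theorem zjh_ne_bot {T : Subgroup G} (hT : IsPGroup 2 T) (hne : T ≠ ⊥) : zjh T ≠ ⊥ :=
  zS_ne_bot (hT.to_le (jh_le_self T)) fun h => je_ne_bot hT hne (le_bot_iff.1 (h ▸ je_le_jh T))

theorem zS_le (T : Subgroup G) : zS T ≤ T :=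
  (CfsgLib.PGroups.omegaOne_le (p := 2) _).trans inf_le_left

theorem zjh_le_self (T : Subgroup G) : zjh T ≤ T :=
  (zS_le (jh T)).trans (jh_le_self T)

theorem isTwoLocal_normalizer {X T : Subgroup G} (hT : IsPGroup 2 T) (hX : X ≤ T) (hne : X ≠ ⊥) :
    Cfsg.IsTwoLocal (normalizer (X : Set G)) :=
  ⟨X, hT.to_le hX, hne, rfl⟩

theorem normalizer_zjh (T : Subgroup G) : normalizer (T : Set G) ≤ normalizer (zjh T : Set G) :=
  (normalizer_jh T).trans (normalizer_zS (jh T))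

theorem le_normalizer_of_centralizer {H : Type u} [Group H] (X : Subgroup H) :
    centralizer (X : Set H) ≤ normalizer (X : Set H) :=
  centralizer_le_normalizer _

/-- The three factorizations inside a 2-local subgroup with Sylow subgroup `T`. -/
theorem fac (hloc : Loc G) {M T : Subgroup G} (hM : Cfsg.IsTwoLocal M) (hTM : T ≤ M) (hT : IsPGroup 2 T)
    (hidx : ¬ 2 ∣ T.relIndex M) {g : G} (hg : g ∈ M) :
    (∃ a ∈ M ⊓ normalizer (zS T : Set G), ∃ b ∈ M ⊓ normalizer (je T : Set G), g = a * b) ∧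
    (∃ a ∈ M ⊓ normalizer (zS T : Set G), ∃ c ∈ M ⊓ normalizer (zjh T : Set G), g = a * c) ∧
    (∃ c ∈ M ⊓ normalizer (zjh T : Set G), ∃ b ∈ M ⊓ normalizer (je T : Set G), g = c * b) := by
  haveI : Fact (Nat.Prime 2) := ⟨Nat.prime_two⟩
  obtain ⟨hsol, hchar, hfree⟩ := hloc M hM
  haveI := hsol
  have h : Hyp ↥M := ⟨hchar, hfree, good_of_isSolvable⟩
  obtain ⟨P, hP⟩ : ∃ P : Sylow 2 ↥M, (P : Subgroup ↥M) = T.subgroupOf M :=
    ⟨(hT.of_equiv (subgroupOfEquivOfLe hTM).symm).toSylow hidx, rfl⟩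
  have hPT : (P : Subgroup ↥M).map M.subtype = T := by rw [hP, subgroupOf_map_subtype, inf_eq_left.2 hTM]
  have hi := M.subtype_injective
  have hz : ∀ a : ↥M, a ∈ centralizer (((P : Subgroup ↥M) ⊓ centralizer ((P : Subgroup ↥M) : Set ↥M) : Subgroup ↥M) : Set ↥M) →
      (a : G) ∈ M ⊓ normalizer (zS T : Set G) := by
    intro a ha
    refine mem_inf.2 ⟨a.2, ?_⟩
    rw [← hPT, ← zS_map M.subtype hi]
    refine le_normalizer_map M.subtype ⟨a, le_normalizer_of_centralizer _ ?_, rfl⟩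
    exact centralizer_le (SetLike.coe_subset_coe.2 (CfsgLib.PGroups.omegaOne_le (p := 2) _)) ha
  have hj : ∀ a : ↥M, a ∈ normalizer (je (P : Subgroup ↥M) : Set ↥M) → (a : G) ∈ M ⊓ normalizer (je T : Set G) := by
    intro a ha
    refine mem_inf.2 ⟨a.2, ?_⟩
    rw [← hPT, ← je_map M.subtype hi]
    exact le_normalizer_map M.subtype ⟨a, ha, rfl⟩
  have hzj : ∀ a : ↥M, a ∈ normalizer (zjh (P : Subgroup ↥M) : Set ↥M) → (a : G) ∈ M ⊓ normalizer (zjh T : Set G) := by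
    intro a ha
    refine mem_inf.2 ⟨a.2, ?_⟩
    rw [← hPT, ← zjh_map M.subtype hi]
    exact le_normalizer_map M.subtype ⟨a, ha, rfl⟩
  obtain ⟨⟨a, ha, b, hb, e1⟩, a', ha', c, hc, e2⟩ := factorization_two h P ⟨g, hg⟩
  obtain ⟨c', hc', b', hb', e3⟩ := factorization_three _ ↥M le_rfl h P ⟨g, hg⟩
  exact ⟨⟨a, hz a ha, b, hj b hb, congrArg Subtype.val e1⟩,
    ⟨a', hz a' ha', c, hzj c (normalizer_zS _ hc), congrArg Subtype.val e2⟩,
    ⟨c', hzj c' (le_normalizer_of_centralizer _ hc'), b', hj b' hb', congrArg Subtype.val e3⟩⟩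

theorem relIndex_odd (S : Sylow 2 G) {N : Subgroup G} (hSN : (S : Subgroup G) ≤ N) :
    ¬ 2 ∣ (S : Subgroup G).relIndex N := fun h => by
  haveI : Fact (Nat.Prime 2) := ⟨Nat.prime_two⟩
  refine S.not_dvd_index ?_
  rw [← relIndex_mul_index hSN]
  exact dvd_mul_of_dvd_left h _

/-- One 2-local subgroup contains every 2-local subgroup over `S`. -/
theorem exists_top (hloc : Loc G) (S : Sylow 2 G) (hS : (S : Subgroup G) ≠ ⊥) :
    ∃ M₀ : Subgroup G, Cfsg.IsTwoLocal M₀ ∧ (S : Subgroup G) ≤ M₀ ∧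
      ∀ N : Subgroup G, Cfsg.IsTwoLocal N → (S : Subgroup G) ≤ N → N ≤ M₀ := by
  have hS2 := S.isPGroup'
  set A := normalizer (zS (S : Subgroup G) : Set G) with hA
  set B := normalizer (je (S : Subgroup G) : Set G) with hB
  set C := normalizer (zjh (S : Subgroup G) : Set G) with hC
  have hSA : (S : Subgroup G) ≤ A := le_normalizer.trans (normalizer_zS _)
  have hSB : (S : Subgroup G) ≤ B := le_normalizer.trans (normalizer_je _)
  have hSC : (S : Subgroup G) ≤ C := le_normalizer.trans (normalizer_zjh _)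
  have hAl := isTwoLocal_normalizer hS2 (zS_le _) (zS_ne_bot hS2 hS)
  have hBl := isTwoLocal_normalizer hS2 (je_le_self _) (je_ne_bot hS2 hS)
  have hCl := isTwoLocal_normalizer hS2 (zjh_le_self _) (zjh_ne_bot hS2 hS)
  have swap : ∀ b ∈ B, ∀ a ∈ A, ∃ a' ∈ A, ∃ b' ∈ B, b * a = a' * b' := by
    intro b hb a ha
    obtain ⟨-, ⟨a1, ha1, c1, hc1, e1⟩, -⟩ :=
      fac hloc hBl hSB hS2 (relIndex_odd S hSB) (inv_mem hb)
    obtain ⟨-, -, c2, hc2, b2, hb2, e2⟩ :=
      fac hloc hAl hSA hS2 (relIndex_odd S hSA) (mul_mem (inv_mem (mem_inf.1 ha1).2) ha)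
    obtain ⟨⟨a3, ha3, b3, hb3, e3⟩, -, -⟩ :=
      fac hloc hCl hSC hS2 (relIndex_odd S hSC) (mul_mem (inv_mem (mem_inf.1 hc1).2) (mem_inf.1 hc2).2)
    refine ⟨a3, (mem_inf.1 ha3).2, b3 * b2, mul_mem (mem_inf.1 hb3).2 (mem_inf.1 hb2).2, ?_⟩
    have hb' : b = c1⁻¹ * a1⁻¹ := by rw [← mul_inv_rev, ← e1, inv_inv]
    rw [hb', mul_assoc, e2, ← mul_assoc, e3, mul_assoc]
  let L : Subgroup G :=
    { carrier := {g | ∃ a ∈ A, ∃ b ∈ B, g = a * b}
      one_mem' := ⟨1, one_mem A, 1, one_mem B, (one_mul 1).symm⟩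
      mul_mem' := by
        rintro _ _ ⟨a, ha, b, hb, rfl⟩ ⟨a', ha', b', hb', rfl⟩
        obtain ⟨a2, ha2, b2, hb2, e⟩ := swap b hb a' ha'
        refine ⟨a * a2, mul_mem ha ha2, b2 * b', mul_mem hb2 hb', ?_⟩
        rw [mul_assoc a b, ← mul_assoc b a', e, mul_assoc a2, mul_assoc a]
      inv_mem' := by
        rintro _ ⟨a, ha, b, hb, rfl⟩
        obtain ⟨a2, ha2, b2, hb2, e⟩ := swap b⁻¹ (inv_mem hb) a⁻¹ (inv_mem ha)
        exact ⟨a2, ha2, b2, hb2, by rw [mul_inv_rev, e]⟩ }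
  set W := closure {w : G | ∃ b ∈ B, ∃ z ∈ zS (S : Subgroup G), w = b * z * b⁻¹} with hW
  have hWle : W ≤ je (S : Subgroup G) := by
    refine (closure_le _).2 ?_
    rintro w ⟨b, hb, z, hz, rfl⟩
    exact (mem_normalizer_iff.1 hb z).1 (zS_le_je _ hz)
  have hzW : zS (S : Subgroup G) ≤ W := fun z hz =>
    subset_closure ⟨1, one_mem B, z, hz, by simp⟩
  have hWne : W ≠ ⊥ := fun h => zS_ne_bot hS2 hS (le_bot_iff.1 (h ▸ hzW))
  have hLW : L ≤ normalizer (W : Set G) := by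
    intro l hl
    refine Subgroup.mem_normalizer_fintype fun w hw => ?_
    refine (closure_le (K := W.comap (MulAut.conj l).toMonoidHom)).2 ?_ hw
    rintro _ ⟨b, hb, z, hz, rfl⟩
    show l * (b * z * b⁻¹) * l⁻¹ ∈ W
    obtain ⟨a', ha', b', hb', e⟩ := L.inv_mem (L.mul_mem hl (show b ∈ L from ⟨1, one_mem A, b, hb, (one_mul b).symm⟩))
    have e' : l * b = b'⁻¹ * a'⁻¹ := by rw [← mul_inv_rev, ← e, inv_inv]
    rw [show l * (b * z * b⁻¹) * l⁻¹ = (l * b) * z * (l * b)⁻¹ by group, e',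
      show b'⁻¹ * a'⁻¹ * z * (b'⁻¹ * a'⁻¹)⁻¹ = b'⁻¹ * (a'⁻¹ * z * a'⁻¹⁻¹) * (b'⁻¹)⁻¹ by group]
    exact subset_closure ⟨b'⁻¹, inv_mem hb', _, (mem_normalizer_iff.1 (inv_mem ha') z).1 hz, rfl⟩
  refine ⟨normalizer (W : Set G), isTwoLocal_normalizer hS2 (hWle.trans (je_le_self _)) hWne, ?_, fun N hN hSN g hg => ?_⟩
  · exact fun s hs => hLW ⟨s, hSA hs, 1, one_mem B, (mul_one s).symm⟩
  · obtain ⟨⟨a, ha, b, hb, e⟩, -, -⟩ := fac hloc hN hSN hS2 (relIndex_odd S hSN) hg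
    exact hLW ⟨a, (mem_inf.1 ha).2, b, (mem_inf.1 hb).2, e⟩

theorem isTwoLocal_map {N : Subgroup G} (hN : Cfsg.IsTwoLocal N) (e : G ≃* G) :
    Cfsg.IsTwoLocal (N.map e.toMonoidHom) := by
  obtain ⟨T, hT, hne, rfl⟩ := hN
  refine ⟨T.map e.toMonoidHom, hT.map _, fun h => hne ((map_eq_bot_iff_of_injective _ e.injective).1 h), ?_⟩
  exact map_equiv_normalizer_eq T e

/-- A conjugate of `M₀`. -/
def Cnj (M₀ M : Subgroup G) : Prop := ∃ g : G, M = M₀.map (MulAut.conj g).toMonoidHom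

theorem exists_sylow_below {p : ℕ} [Fact p.Prime] {T N : Subgroup G} (hT : IsPGroup p T) (hTN : T ≤ N) :
    ∃ U : Subgroup G, T ≤ U ∧ U ≤ N ∧ IsPGroup p U ∧ ¬ p ∣ U.relIndex N := by
  obtain ⟨P, hP⟩ := (hT.of_equiv (subgroupOfEquivOfLe hTN).symm).exists_le_sylow
  refine ⟨(P : Subgroup ↥N).map N.subtype, fun t ht => ⟨⟨t, hTN ht⟩, hP ht, rfl⟩, map_subtype_le _,
    P.isPGroup'.map _, ?_⟩
  rw [relIndex, subgroupOf, comap_map_eq_self_of_injective N.subtype_injective]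
  exact P.not_dvd_index

theorem exists_bigger {p : ℕ} [Fact p.Prime] {T U : Subgroup G} (hU : IsPGroup p U) (h : T < U) :
    T < U ⊓ normalizer (T : Set G) := by
  refine lt_of_le_of_ne (le_inf h.le le_normalizer) fun heq => ?_
  haveI := hU.isNilpotent
  have hlt : T.subgroupOf U < ⊤ := lt_top_iff_ne_top.2 fun ht => h.not_ge (subgroupOf_eq_top.1 ht)
  have h2 := normalizerCondition_of_isNilpotent (T.subgroupOf U) hlt
  refine h2.not_ge fun x hx => ?_
  have hx' : (x : G) ∈ normalizer (T : Set G) := by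
    refine Subgroup.mem_normalizer_fintype fun t ht => ?_
    exact (mem_normalizer_iff.1 hx ⟨t, h.le ht⟩).1 ht
  exact (heq ▸ mem_inf.2 ⟨x.2, hx'⟩ : (x : G) ∈ T)

/-- Every nontrivial 2-subgroup lies in one conjugate of `M₀`; every 2-local lies in a conjugate. -/
theorem unique_and_cover (hloc : Loc G) (S : Sylow 2 G) {M₀ : Subgroup G} (hM₀ : Cfsg.IsTwoLocal M₀)
    (hSM : (S : Subgroup G) ≤ M₀) (htop : ∀ N : Subgroup G, Cfsg.IsTwoLocal N → (S : Subgroup G) ≤ N → N ≤ M₀) :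
    ∀ (d : ℕ) (T : Subgroup G), Nat.card G < Nat.card T + d → IsPGroup 2 T → T ≠ ⊥ →
      (∀ M₁ M₂, Cnj M₀ M₁ → Cnj M₀ M₂ → T ≤ M₁ → T ≤ M₂ → M₁ = M₂) ∧
      (∀ N, Cfsg.IsTwoLocal N → T ≤ N → ¬ 2 ∣ T.relIndex N → ∃ M, Cnj M₀ M ∧ N ≤ M) := by
  haveI : Fact (Nat.Prime 2) := ⟨Nat.prime_two⟩
  intro d
  induction d with
  | zero => intro T hd _ _; exact absurd hd (by have := T.card_le_card_group; omega)
  | succ d ih =>
    intro T hd hT hne
    -- the full Sylow case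
    have sylowCase : ∀ (Q : Sylow 2 G), ∃ M, Cnj M₀ M ∧
        ∀ N, Cfsg.IsTwoLocal N → (Q : Subgroup G) ≤ N → N ≤ M := by
      intro Q
      obtain ⟨g, hg⟩ := MulAction.exists_smul_eq G S Q
      have hQ : (Q : Subgroup G) = (S : Subgroup G).map (MulAut.conj g).toMonoidHom := by
        rw [← hg, Sylow.coe_subgroup_smul]; rfl
      refine ⟨M₀.map (MulAut.conj g).toMonoidHom, ⟨g, rfl⟩, fun N hN hQN => ?_⟩
      have hle := htop _ (isTwoLocal_map hN (MulAut.conj g⁻¹)) fun x hx =>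
        ⟨g * x * g⁻¹, hQN (by rw [hQ]; exact ⟨x, hx, rfl⟩), by simp [mul_assoc]⟩
      exact fun n hn => ⟨g⁻¹ * n * g, hle ⟨n, hn, by simp⟩, by simp [mul_assoc]⟩
    obtain ⟨Q, hQ⟩ := hT.exists_le_sylow
    rcases hQ.lt_or_eq with hlt | heq
    · have big : ∀ U : Subgroup G, T < U → Nat.card G < Nat.card U + d := fun U hU => by
        have : Nat.card T < Nat.card U := by
          by_contra h
          exact hU.ne (eq_of_le_of_card_ge hU.le (not_lt.1 h))
        omega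
      refine ⟨fun M₁ M₂ h₁ h₂ hT₁ hT₂ => ?_, fun N hN hTN hidx => ?_⟩
      · have half : ∀ M, Cnj M₀ M → T ≤ M → ∃ R : Subgroup G, T < R ∧ R ≤ M ∧ IsPGroup 2 R ∧
            R ≤ normalizer (T : Set G) := by
          rintro M ⟨g, rfl⟩ hTM
          obtain ⟨U, hTU, hUM, hU, hUi⟩ := exists_sylow_below hT hTM
          have hlt' : T < U := by
            refine lt_of_le_of_ne hTU fun he => ?_
            subst he
            have h2 : ¬ 2 ∣ T.index := by
              rw [← relIndex_mul_index hUM, Nat.prime_two.dvd_mul,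
                index_map_of_bijective (f := (MulAut.conj g).toMonoidHom) (MulAut.conj g).bijective]
              rintro (h | h)
              · exact hUi h
              · refine S.not_dvd_index ?_
                rw [← relIndex_mul_index hSM]
                exact dvd_mul_of_dvd_right h _
            exact hlt.ne ((hT.toSylow h2).3 Q.isPGroup' hlt.le).symm
          exact ⟨_, exists_bigger hU hlt', inf_le_left.trans hUM, hU.to_le inf_le_left, inf_le_right⟩
        obtain ⟨R₁, hR₁, hR₁M, hR₁p, hR₁N⟩ := half M₁ h₁ hT₁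
        obtain ⟨R₂, hR₂, hR₂M, hR₂p, hR₂N⟩ := half M₂ h₂ hT₂
        have hN : Cfsg.IsTwoLocal (normalizer (T : Set G)) := ⟨T, hT, hne, rfl⟩
        obtain ⟨U, hTU, hUN, hU, hUi⟩ := exists_sylow_below hR₁p hR₁N
        have hTlt : T < U := hR₁.trans_le hTU
        obtain ⟨M₃, h₃, hM₃⟩ := (ih U (big U hTlt) hU (ne_bot_of_gt hTlt)).2 _ hN hUN hUi
        have e1 := (ih R₁ (big R₁ hR₁) hR₁p (ne_bot_of_gt hR₁)).1 M₁ M₃ h₁ h₃ hR₁M (hR₁N.trans hM₃)
        have e2 := (ih R₂ (big R₂ hR₂) hR₂p (ne_bot_of_gt hR₂)).1 M₂ M₃ h₂ h₃ hR₂M (hR₂N.trans hM₃)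
        rw [e1, e2]
      · set R := (Q : Subgroup G) ⊓ normalizer (T : Set G) with hR
        have hRlt : T < R := exists_bigger Q.isPGroup' hlt
        have hRp : IsPGroup 2 R := Q.isPGroup'.to_le inf_le_left
        have cover : ∀ X : Subgroup G, Cfsg.IsTwoLocal X → R ≤ X → ∃ M, Cnj M₀ M ∧ X ≤ M := by
          intro X hX hRX
          obtain ⟨U, hRU, hUX, hU, hUi⟩ := exists_sylow_below hRp hRX
          exact (ih U (big U (hRlt.trans_le hRU)) hU (ne_bot_of_gt (hRlt.trans_le hRU))).2 X hX hUX hUi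
        have hRA : R ≤ normalizer (zS T : Set G) := inf_le_right.trans (normalizer_zS T)
        have hRB : R ≤ normalizer (je T : Set G) := inf_le_right.trans (normalizer_je T)
        obtain ⟨MA, hMA, hA⟩ := cover _ (isTwoLocal_normalizer hT (zS_le T) (zS_ne_bot hT hne)) hRA
        obtain ⟨MB, hMB, hB⟩ := cover _ (isTwoLocal_normalizer hT (je_le_self T) (je_ne_bot hT hne)) hRB
        have e := (ih R (big R hRlt) hRp (ne_bot_of_gt hRlt)).1 MA MB hMA hMB (hRA.trans hA) (hRB.trans hB)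
        refine ⟨MA, hMA, fun g hg => ?_⟩
        obtain ⟨⟨a, ha, b, hb, rfl⟩, -, -⟩ := fac hloc hN hTN hT hidx hg
        exact mul_mem (hA (mem_inf.1 ha).2) (e ▸ hB (mem_inf.1 hb).2)
    · obtain ⟨M, hM, hmax⟩ := sylowCase Q
      subst heq
      refine ⟨fun M₁ M₂ h₁ h₂ hT₁ hT₂ => ?_, fun N hN hTN _ => ⟨M, hM, hmax N hN hTN⟩⟩
      have key : ∀ M', Cnj M₀ M' → (Q : Subgroup G) ≤ M' → M' = M := by
        rintro M' ⟨g, rfl⟩ hQM
        have hle := hmax _ (isTwoLocal_map hM₀ (MulAut.conj g)) hQM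
        refine eq_of_le_of_card_ge hle ?_
        obtain ⟨g', rfl⟩ := hM
        rw [card_map_of_injective (f := (MulAut.conj g).toMonoidHom) (MulAut.conj g).injective,
          card_map_of_injective (f := (MulAut.conj g').toMonoidHom) (MulAut.conj g').injective]
      rw [key M₁ h₁ hT₁, key M₂ h₂ hT₂]

/-- The maximal 2-local subgroups are strongly embedded. -/
theorem main (heven : Even (Nat.card G)) (hO : Cfsg.pCore 2 G = ⊥) (hloc : Loc G) (M : Subgroup G)
    (hM : Cfsg.IsMaximalTwoLocal M) : Cfsg.IsStronglyEmbedded M := by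
  haveI : Fact (Nat.Prime 2) := ⟨Nat.prime_two⟩
  obtain ⟨S⟩ : Nonempty (Sylow 2 G) := inferInstance
  have hS : (S : Subgroup G) ≠ ⊥ := fun h => S.not_dvd_index (by
    rw [h, index_bot]; exact heven.two_dvd)
  obtain ⟨M₀, hM₀, hSM, htop⟩ := exists_top hloc S hS
  have key := fun T hT hne => unique_and_cover hloc S hM₀ hSM htop (Nat.card G) T
    (by have := Nat.card_pos (α := ↥T); omega) hT hne
  obtain ⟨hMl, hMmax⟩ := hM
  obtain ⟨T, hT, hne, hMT⟩ := id hMl
  have hTM : T ≤ M := hMT ▸ le_normalizer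
  obtain ⟨U, hTU, hUM, hU, hUi⟩ := exists_sylow_below hT hTM
  have hUne : U ≠ ⊥ := fun h => hne (le_bot_iff.1 (h ▸ hTU))
  obtain ⟨M', ⟨g, rfl⟩, hle⟩ := (key U hU hUne).2 M hMl hUM hUi
  have hMeq := hMmax _ (isTwoLocal_map hM₀ (MulAut.conj g)) hle
  have hconj : ∀ h : G, Cnj M₀ (M.map (MulAut.conj h).toMonoidHom) := fun h => ⟨h * g, by
    rw [← hMeq, map_map]; congr 1; ext x; simp [mul_assoc]⟩
  refine ⟨fun h => ?_, ?_, fun h hh => ?_⟩
  · haveI : T.Normal := ⟨fun t ht x => (mem_normalizer_iff.1 (hMT ▸ h ▸ mem_top x) t).1 ht⟩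
    exact hne (le_bot_iff.1 (hO ▸ CfsgLib.Core.le_pCore hT))
  · haveI : Nontrivial T := (Subgroup.nontrivial_iff_ne_bot T).2 hne
    obtain ⟨n, hn, hc⟩ := hT.nontrivial_iff_card.1 inferInstance
    exact even_iff_two_dvd.2 ((hc ▸ dvd_pow_self 2 hn.ne').trans (card_dvd_of_le hTM))
  · by_contra hodd
    rw [Nat.not_odd_iff_even] at hodd
    obtain ⟨x, hx⟩ := exists_prime_orderOf_dvd_card' (G := ↥(M ⊓ M.map (MulAut.conj h).toMonoidHom)) 2 hodd.two_dvd
    have hz : IsPGroup 2 (zpowers (x : G)) := IsPGroup.of_card (n := 1) (by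
      rw [Nat.card_zpowers, orderOf_coe, hx, pow_one])
    have hzne : zpowers (x : G) ≠ ⊥ := by
      rw [Ne, zpowers_eq_bot]
      intro h1
      rw [show x = 1 from Subtype.ext h1, orderOf_one] at hx
      omega
    have e := (key _ hz hzne).1 M _ ⟨g, hMeq.symm⟩ (hconj h) (zpowers_le.2 (mem_inf.1 x.2).1)
      (zpowers_le.2 (mem_inf.1 x.2).2)
    have hn : h ∈ normalizer (M : Set G) := Subgroup.mem_normalizer_fintype fun y hy => e.ge ⟨y, hy, rfl⟩
    set O := (Cfsg.pCore 2 ↥M).map M.subtype with hO'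
    have hTO : T ≤ O := by
      haveI : (T.subgroupOf M).Normal := ⟨fun t ht m => (mem_normalizer_iff.1 (hMT ▸ m.2) (t : G)).1 ht⟩
      have := map_mono (f := M.subtype) (CfsgLib.Core.le_pCore (G := ↥M) (p := 2)
        (hT.of_equiv (subgroupOfEquivOfLe hTM).symm))
      rwa [subgroupOf_map_subtype, inf_eq_left.2 hTM] at this
    have hnorm : normalizer (M : Set G) ≤ normalizer (O : Set G) :=
      CfsgLib.LocalEven.normalizer_le_normalizer_characteristic M _
    have hMO : M ≤ normalizer (O : Set G) := le_normalizer.trans hnorm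
    have := hMmax _ ⟨O, (CfsgLib.Core.isPGroup_pCore 2 ↥M).map _, fun h0 => hne (le_bot_iff.1 (h0 ▸ hTO)), rfl⟩ hMO
    exact hh (this.le (hnorm hn))

end CfsgLib.LocalEven.SFourEmbedded
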