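import Cfsg.Agent.Lib.LocalEven.PpdAction
import Cfsg.Agent.Lib.LocalEvenB.CharP
import Cfsg.Agent.Lib.Fusion.Sections
import Cfsg.Agent.Lib.ThreeTrans.Braid

/-!
# A criterion for `|M / C_M(A)| ≥ |A|²`

* `Step A`: a subgroup `B` of `A` centralized by an element inverting which moves many points
* `step_of_commutator`: hyperplanes in groups without section `S₃`
* `offender_bound_of_steps`
-/

set_option autoImplicit false
set_option linter.all false

namespace CfsgLib.LocalEven.SFreeOffender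

open Subgroup

universe u

variable {G : Type u} [Group G]

/-- `A` has a subgroup `B` of index at most `2 ^ e` and an element `a` with a commutator `x⁻¹ a x a⁻¹`, `x` centralizing `B`,
whose order is divisible by a prime `r` dividing no `2 ^ i - 1` with `i + 1 < 4 e`. -/
def Step (A : Subgroup G) : Prop :=
  ∃ (B : Subgroup G) (a x : G) (r e : ℕ), B ≤ A ∧ a ∈ A ∧ x ∈ centralizer (B : Set G) ∧ r.Prime ∧ r ≠ 2 ∧ 0 < e ∧
    Nat.card A ≤ 2 ^ e * Nat.card B ∧ r ∣ orderOf (x⁻¹ * (a * x * a⁻¹)) ∧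
    ∀ i, 0 < i → i + 1 < 4 * e → ¬ r ∣ 2 ^ i - 1

theorem comm_of_elementary {A : Subgroup G} (hA : Cfsg.IsElementaryAbelian 2 A) {a b : G} (ha : a ∈ A) (hb : b ∈ A) :
    a * b = b * a :=
  congrArg Subtype.val (hA.1.is_comm.comm ⟨a, ha⟩ ⟨b, hb⟩)

theorem inv_eq_of_elementary {A : Subgroup G} (hA : Cfsg.IsElementaryAbelian 2 A) {a : G} (ha : a ∈ A) : a⁻¹ = a :=
  inv_eq_of_mul_eq_one_right (by rw [← pow_two]; exact hA.2 a ha)

/-- an inverted element of order `3` gives a section `S₃` -/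
theorem involves_three_of_inverted [Finite G] {a y : G} (ha : a * a = 1) (hay : a * y * a⁻¹ = y⁻¹) (hy3 : y ^ 3 = 1)
    (hy : y ≠ 1) : Cfsg.Involves (Equiv.Perm (Fin 3)) G := by
  have hai : a⁻¹ = a := inv_eq_of_mul_eq_one_right ha
  rw [hai] at hay
  have hyy : y * y = y⁻¹ := eq_inv_of_mul_eq_one_left (by rw [← hy3, pow_succ, pow_two])
  have eb : (a * y) * (a * y) = 1 := by rw [← mul_assoc, hay, inv_mul_cancel]
  have hbraid : a * (a * y) * a = (a * y) * a * (a * y) := by
    calc a * (a * y) * a = y * a := by rw [← mul_assoc a, ha, one_mul]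
      _ = a * (a * y * a) := by rw [← mul_assoc, ← mul_assoc, ha, one_mul]
      _ = a * (y * y) := by rw [hay, hyy]
      _ = _ := by rw [mul_assoc (a * y), ← mul_assoc a a, ha, one_mul, mul_assoc]
  obtain ⟨φ, hφa, hφb⟩ := CfsgLib.ThreeTrans.exists_hom_perm_three ha eb hbraid
  have hinj : Function.Injective φ := CfsgLib.ThreeTrans.injective_of_perm_three φ (by
    rw [map_mul, hφa, hφb, ← mul_assoc, ha, one_mul]
    exact hy)
  exact CfsgLib.Fusion.involves_of_surjective φ hinj (MonoidHom.id _) Function.surjective_id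

/-- the inverted power of prime order -/
theorem exists_inverted_of_dvd [Finite G] {A B : Subgroup G} (hA : Cfsg.IsElementaryAbelian 2 A) (hBA : B ≤ A) {a x : G}
    (ha : a ∈ A) (hx : x ∈ centralizer (B : Set G)) {r : ℕ} (hr : r.Prime)
    (hd : r ∣ orderOf (x⁻¹ * (a * x * a⁻¹))) :
    ∃ y : G, orderOf y = r ∧ y ∈ centralizer (B : Set G) ∧ a * y * a⁻¹ = y⁻¹ := by
  obtain ⟨w, hw⟩ : ∃ w, w = x⁻¹ * (a * x * a⁻¹) := ⟨_, rfl⟩
  rw [← hw] at hd
  have haC : a ∈ centralizer (B : Set G) := mem_centralizer_iff.2 fun b hb => comm_of_elementary hA (hBA hb) ha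
  have hwC : w ∈ centralizer (B : Set G) := by
    rw [hw]; exact mul_mem (inv_mem hx) (mul_mem (mul_mem haC hx) (inv_mem haC))
  have ha2 : a⁻¹ = a := inv_eq_of_elementary hA ha
  have haa : a * a = 1 := by rw [← pow_two]; exact hA.2 a ha
  have hwi : a * w * a⁻¹ = w⁻¹ := by
    rw [hw, ha2, mul_inv_rev, mul_inv_rev, mul_inv_rev, inv_inv, ha2]
    calc a * (x⁻¹ * (a * x * a)) * a = a * x⁻¹ * a * x * (a * a) := by group
      _ = _ := by rw [haa, mul_one]; group
  refine ⟨w ^ (orderOf w / r), orderOf_pow_orderOf_div (orderOf_pos w).ne' hd, pow_mem hwC _, ?_⟩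
  rw [← conj_pow, hwi, inv_pow]

/-- hyperplanes: without sections `S₃` any commutator which is not a `2`-element gives a step -/
theorem step_of_commutator [Finite G] (hfree : ¬ Cfsg.Involves (Equiv.Perm (Fin 3)) G) {A B : Subgroup G}
    (hA : Cfsg.IsElementaryAbelian 2 A) (hBA : B ≤ A) (hidx : Nat.card A ≤ 2 * Nat.card B) {a x : G} (ha : a ∈ A)
    (hx : x ∈ centralizer (B : Set G)) {r : ℕ} (hr : r.Prime) (hr2 : r ≠ 2)
    (hd : r ∣ orderOf (x⁻¹ * (a * x * a⁻¹))) : Step A := by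
  refine ⟨B, a, x, r, 1, hBA, ha, hx, hr, hr2, one_pos, by rwa [pow_one], hd, fun i hi hi4 hdvd => ?_⟩
  rcases (by omega : i = 1 ∨ i = 2) with rfl | rfl
  · exact hr.one_lt.not_ge (Nat.le_of_dvd one_pos hdvd)
  · have h3 : r = 3 := (Nat.prime_dvd_prime_iff_eq hr Nat.prime_three).1 hdvd
    obtain ⟨y, hy, -, hyi⟩ := exists_inverted_of_dvd hA hBA ha hx hr hd
    refine hfree (involves_three_of_inverted (by rw [← pow_two]; exact hA.2 a ha) hyi ?_ ?_)
    · rw [← h3, ← hy, pow_orderOf_eq_one]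
    · intro h; rw [h, orderOf_one] at hy; exact hr.one_lt.ne hy

/-- The bound from the steps. -/
theorem offender_bound_of_steps {L : Type u} [Group L] [Finite L] (M G : Subgroup L)
    (hM : Cfsg.IsElementaryAbelian 2 M) (hGM : G ≤ normalizer (M : Set L))
    (hf : G ⊓ centralizer (M : Set L) = ⊥)
    (hstep : ∀ A : Subgroup ↥G, Cfsg.IsElementaryAbelian 2 A → A ≠ ⊥ → Step A) :
    ∀ A : Subgroup ↥G, Cfsg.IsElementaryAbelian 2 A →
      Nat.card A ^ 2 * Nat.card ↥(M ⊓ centralizer ((A.map G.subtype : Subgroup L) : Set L)) ≤ Nat.card M := by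
  haveI : Fact (Nat.Prime 2) := ⟨Nat.prime_two⟩
  intro A
  induction hn : Nat.card A using Nat.strong_induction_on generalizing A with
  | _ n ih =>
    subst hn
    intro hA
    rcases eq_or_ne A ⊥ with rfl | hA1
    · rw [Subgroup.card_bot, one_pow, one_mul]
      exact Subgroup.card_le_of_le inf_le_left
    obtain ⟨B, a, x, r, e, hBA, ha, hx, hr, hr2, he, hidx, hd, hppd⟩ := hstep A hA hA1
    obtain ⟨y, hy, hyB, hyi⟩ := exists_inverted_of_dvd hA hBA ha hx hr hd
    have haB : a ∉ B := fun h => by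
      have h1 : a * y * a⁻¹ = y := by rw [mem_centralizer_iff.1 hyB a h, mul_inv_cancel_right]
      have h2 : y ^ 2 = 1 := by rw [pow_two]; nth_rewrite 2 [← h1]; rw [hyi, mul_inv_cancel]
      exact hr2 ((Nat.prime_dvd_prime_iff_eq hr Nat.prime_two).1 (hy ▸ orderOf_dvd_of_pow_eq_one h2))
    have hlt : Nat.card B < Nat.card A := (Subgroup.card_le_of_le hBA).lt_of_ne fun h =>
      haB ((eq_of_le_of_card_ge hBA h.ge).symm ▸ ha)
    have hBe : Cfsg.IsElementaryAbelian 2 B :=
      ⟨⟨⟨fun u v => Subtype.ext (comm_of_elementary hA (hBA u.2) (hBA v.2))⟩⟩, fun v hv => hA.2 v (hBA hv)⟩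
    have hB := ih _ hlt B rfl hBe
    -- the ambient group
    obtain ⟨B', hB'⟩ : ∃ B', B' = B.map G.subtype := ⟨_, rfl⟩
    obtain ⟨A', hA'⟩ : ∃ A', A' = A.map G.subtype := ⟨_, rfl⟩
    rw [← hB'] at hB; rw [← hA']
    obtain ⟨V, hV⟩ : ∃ V, V = M ⊓ centralizer (B' : Set L) := ⟨_, rfl⟩
    rw [← hV] at hB
    have hVM : V ≤ M := hV ▸ inf_le_left
    have hVp : IsPGroup 2 V := fun v => ⟨1, Subtype.ext (by simpa using hM.2 _ (hVM v.2))⟩
    have hnorm : ∀ g : ↥G, g ∈ centralizer (B : Set ↥G) → (g : L) ∈ normalizer (V : Set L) := by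
      intro g hg
      have hg' : (g : L) ∈ centralizer (B' : Set L) := mem_centralizer_iff.2 fun b hb => by
        rw [hB'] at hb
        obtain ⟨b₀, hb₀, rfl⟩ := hb
        exact congrArg Subtype.val (mem_centralizer_iff.1 hg b₀ hb₀)
      have key : ∀ g : L, g ∈ centralizer (B' : Set L) → g ∈ normalizer (M : Set L) →
          ∀ v ∈ V, g * v * g⁻¹ ∈ V := by
        intro g hg hgM v hv
        rw [hV] at hv ⊢
        exact Subgroup.mem_inf.2 ⟨(mem_normalizer_iff.1 hgM v).1 hv.1, mul_mem (mul_mem hg hv.2) (inv_mem hg)⟩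
      rw [mem_normalizer_iff]
      exact fun v => ⟨key _ hg' (hGM g.2) v, fun h => by
        simpa [mul_assoc] using key _ (inv_mem hg') (inv_mem (hGM g.2)) _ h⟩
    have haC : a ∈ centralizer (B : Set ↥G) :=
      mem_centralizer_iff.2 fun b hb => comm_of_elementary hA (hBA hb) ha
    obtain ⟨g, hg⟩ : ∃ g : ↥G, g = a * (y * a * y⁻¹) := ⟨_, rfl⟩
    have hgy : g = (y ^ 2)⁻¹ := by
      rw [hg, pow_two, mul_inv_rev]
      calc a * (y * a * y⁻¹) = (a * y * a⁻¹) * (a * a) * y⁻¹ := by group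
        _ = _ := by rw [hyi, ← pow_two, hA.2 a ha, mul_one]
    have hgo : orderOf g = r := by
      rw [hgy, orderOf_inv, Nat.Coprime.orderOf_pow, hy]
      rw [hy]; exact (Nat.coprime_primes hr Nat.prime_two).2 hr2
    have hgoL : orderOf (g : L) = r := by rw [Subgroup.orderOf_coe, hgo]
    have hgB : g ∈ centralizer (B : Set ↥G) := by rw [hgy]; exact inv_mem (pow_mem hyB 2)
    have hmove : (g : L) ∉ centralizer (V : Set L) := by
      intro hc
      have hgB' : (g : L) ∈ centralizer (B' : Set L) := mem_centralizer_iff.2 fun b hb => by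
        rw [hB'] at hb
        obtain ⟨b₀, hb₀, rfl⟩ := hb
        exact congrArg Subtype.val (mem_centralizer_iff.1 hgB b₀ hb₀)
      have hBN : B' ≤ normalizer (M : Set L) := by
        rw [hB']; exact (map_subtype_le _).trans hGM
      have := CfsgLib.LocalEvenB.mem_centralizer_of_axb (p := 2)
        (by rw [hgoL]; exact (Nat.coprime_primes hr Nat.prime_two).2 hr2)
        (fun v => ⟨1, Subtype.ext (by simpa using hM.2 _ v.2)⟩)
        (fun (v : ↥B') => by
          obtain ⟨b₀, hb₀, hbv⟩ : (v : L) ∈ B.map G.subtype := hB'.symm ▸ v.2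
          exact ⟨1, Subtype.ext (by
            rw [SubmonoidClass.coe_pow, ← hbv, pow_one, ← map_pow, hBe.2 b₀ hb₀, map_one]; rfl)⟩)
        hBN (hGM g.2) hgB' (hV ▸ hc)
      have h1 : (g : L) ∈ G ⊓ centralizer (M : Set L) := ⟨g.2, this⟩
      rw [hf, mem_bot] at h1
      rw [h1, orderOf_one] at hgoL
      exact hr.one_lt.ne hgoL
    have h1 : 2 ^ (4 * e - 1) ≤ Ppd.fixIndex V (g : L) := by
      have := Ppd.pow_le_fixIndex_of_orderOf (p := 2) hVp (hnorm g hgB) (e := 0) (N := 4 * e - 1) hr hr2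
        (by rw [hgoL, pow_one]) (by rw [pow_zero, pow_one]; exact hmove)
        (fun j hj hjN => by rw [pow_one]; exact hppd j hj (by omega))
      rwa [pow_zero, pow_one] at this
    have h2 : Ppd.fixIndex V (g : L) ≤ Ppd.fixIndex V (a : L) * Ppd.fixIndex V (a : L) := by
      rw [hg, coe_mul, coe_mul, coe_mul, coe_inv]
      refine (Ppd.fixIndex_mul_le V _ _).trans (le_of_eq ?_)
      rw [Ppd.fixIndex_conj (hnorm y hyB)]
    obtain ⟨k, hk⟩ := IsPGroup.iff_card.1 hVp
    obtain ⟨j, -, hj⟩ := (Nat.dvd_prime_pow Nat.prime_two).1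
      (hk ▸ relIndex_dvd_card (V ⊓ centralizer ({(a : L)} : Set L)) V)
    have hj' : 2 * e ≤ j := by
      have h3 : 2 ^ (4 * e - 1) ≤ 2 ^ (j + j) := by
        rw [pow_add]
        refine h1.trans (h2.trans (le_of_eq ?_))
        rw [Ppd.fixIndex, hj]
      have := (Nat.pow_le_pow_iff_right (by norm_num : 1 < 2)).1 h3
      omega
    have hC : M ⊓ centralizer (A' : Set L) ≤ V ⊓ centralizer ({(a : L)} : Set L) := by
      rw [hV, hA', hB']
      refine le_inf (inf_le_inf_left _ (centralizer_le (SetLike.coe_subset_coe.2 (map_mono hBA)))) ?_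
      exact inf_le_right.trans (centralizer_le (Set.singleton_subset_iff.2 (mem_map_of_mem G.subtype ha)))
    have hmul : Nat.card ↥(V ⊓ centralizer ({(a : L)} : Set L)) * 2 ^ j = Nat.card V := by
      rw [← hj, ← relIndex_bot_left, ← relIndex_bot_left, relIndex_mul_relIndex _ _ _ bot_le inf_le_left]
    have hle := Subgroup.card_le_of_le hC
    calc Nat.card A ^ 2 * Nat.card ↥(M ⊓ centralizer (A' : Set L))
        ≤ (2 ^ e * Nat.card B) ^ 2 * Nat.card ↥(V ⊓ centralizer ({(a : L)} : Set L)) :=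
          Nat.mul_le_mul (Nat.pow_le_pow_left hidx 2) hle
      _ = Nat.card B ^ 2 * (Nat.card ↥(V ⊓ centralizer ({(a : L)} : Set L)) * 2 ^ (2 * e)) := by ring
      _ ≤ Nat.card B ^ 2 * Nat.card V := by
          rw [← hmul]
          exact Nat.mul_le_mul_left _ (Nat.mul_le_mul_left _ (Nat.pow_le_pow_right two_pos hj'))
      _ ≤ Nat.card M := hB

end CfsgLib.LocalEven.SFreeOffender
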