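import Mathlib

/-!
# Finite sets of matrices closed under addition and inversion commute

An additive subgroup of a finite ring which contains `1` and with every nonzero element invertible inside
it is commutative (Hua's identity, symmetrised words in two letters, Wedderburn).
-/

set_option autoImplicit false
set_option linter.all false

namespace CfsgLib.LocalEven.Jordan

open MulOpposite

variable {R : Type*} [Ring R]

/-- Every nonzero element of `L` has an inverse in `L'`. -/
def InvIn (L L' : AddSubgroup R) : Prop := ∀ a ∈ L, a ≠ 0 → ∃ b ∈ L', a * b = 1 ∧ b * a = 1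

/-- Hua's identity. -/
theorem hua {L L' : AddSubgroup R} (h : InvIn L L') (h' : InvIn L' L) {x y : R} (hx : x ∈ L) (hy : y ∈ L') :
    x * y * x ∈ L := by
  by_cases hx0 : x = 0
  · simp [hx0, zero_mem]
  by_cases hy0 : y = 0
  · simp [hy0, zero_mem]
  obtain ⟨z, hz, hyz, hzy⟩ := h' y hy hy0
  by_cases hxz : x = z
  · rw [hxz, hzy, one_mul]; exact hz
  obtain ⟨w, hw, hwd⟩ : ∃ w ∈ L, w = z - x := ⟨_, sub_mem hz hx, rfl⟩
  obtain ⟨w', hw', hww, hww'⟩ := h w hw (by rw [hwd, sub_ne_zero]; exact Ne.symm hxz)
  obtain ⟨x', hx', hxx, hxx'⟩ := h x hx hx0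
  obtain ⟨t, ht⟩ : ∃ t, t = x - x * y * x := ⟨_, rfl⟩
  have e1 : w * y * x = t := by rw [hwd, ht, sub_mul, sub_mul, hzy, one_mul]
  have e2 : x * y * w = t := by rw [hwd, ht, mul_sub, mul_assoc x y z, hyz, mul_one]
  have k1 : (x' + w') * t = 1 := by
    rw [add_mul]
    nth_rewrite 1 [ht]
    rw [← e1, mul_sub, hxx', ← mul_assoc x', ← mul_assoc x', hxx', one_mul, ← mul_assoc w', ← mul_assoc w', hww',
      one_mul, sub_add_cancel]
  have k2 : t * (x' + w') = 1 := by
    rw [mul_add]
    nth_rewrite 1 [ht]
    rw [← e2, sub_mul, hxx, mul_assoc (x * y) x x', hxx, mul_one, mul_assoc (x * y) w w', hww, mul_one,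
      sub_add_cancel]
  have hu0 : x' + w' ≠ 0 := fun hc => hx0 (by
    rw [← mul_one x, ← k1, hc, zero_mul, mul_zero])
  obtain ⟨v, hv, hv1, -⟩ := h' _ (add_mem hx' hw') hu0
  have hvt : v = t := by rw [← one_mul v, ← k2, mul_assoc, hv1, mul_one]
  have : x * y * x = x - t := by rw [ht, sub_sub_cancel]
  rw [this]
  exact sub_mem hx (hvt ▸ hv)

/-- Two mutually inverse additive subgroups containing `1` are equal. -/
theorem eq_of_invIn {L L' : AddSubgroup R} (h : InvIn L L') (h' : InvIn L' L) (h1 : (1 : R) ∈ L)
    (h1' : (1 : R) ∈ L') : L = L' :=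
  le_antisymm (fun y hy => by simpa using hua h' h h1' hy) (fun y hy => by simpa using hua h h' h1 hy)

section Closed

variable {L : AddSubgroup R} (h1 : (1 : R) ∈ L) (hI : InvIn L L)
include h1 hI

theorem sandwich {x z : R} (hx : x ∈ L) (hz : z ∈ L) : x * z * x ∈ L := hua hI hI hx hz

theorem sandwich_add {x y z : R} (hx : x ∈ L) (hy : y ∈ L) (hz : z ∈ L) : x * z * y + y * z * x ∈ L := by
  have h := sub_mem (sub_mem (sandwich h1 hI (add_mem hx hy) hz) (sandwich h1 hI hx hz)) (sandwich h1 hI hy hz)
  convert h using 1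
  simp only [add_mul, mul_add]
  abel

theorem pow_mem' {x : R} (hx : x ∈ L) : ∀ n : ℕ, x ^ n ∈ L
  | 0 => by rw [pow_zero]; exact h1
  | 1 => by rw [pow_one]; exact hx
  | (n + 2) => by
    have := sandwich h1 hI hx (pow_mem' hx n)
    rwa [← pow_succ', ← pow_succ] at this

/-- The value of a word given by syllables. -/
def evs (x y : R) : List (Bool × ℕ) → R
  | [] => 1
  | a :: l => (cond a.1 x y) ^ a.2 * evs x y l

omit h1 hI in
theorem evs_append (x y : R) : ∀ l l' : List (Bool × ℕ), evs x y (l ++ l') = evs x y l * evs x y l'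
  | [], l' => by rw [evs, one_mul, List.nil_append]
  | a :: l, l' => by rw [List.cons_append, evs, evs, evs_append x y l l', mul_assoc]

omit h1 hI in
theorem evs_single (x y : R) (t : Bool) (n : ℕ) : evs x y [(t, n)] = (cond t x y) ^ n := by
  rw [evs, evs, mul_one]

/-- Symmetrised words lie in `L`. -/
theorem sym_mem {x y : R} (hx : x ∈ L) (hy : y ∈ L) : ∀ (n : ℕ) (l : List (Bool × ℕ)), l.length = n →
    evs x y l + evs x y l.reverse ∈ L := by
  intro n
  induction n using Nat.strong_induction_on with
  | _ n ih =>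
    intro l hl
    have hc : ∀ (t : Bool) (i : ℕ), (cond t x y) ^ i ∈ L := fun t i =>
      pow_mem' h1 hI (by cases t <;> assumption) i
    have hcomm : ∀ (t : Bool) (u v : ℕ) (r : R),
        cond t x y ^ u * (cond t x y ^ v * r) = cond t x y ^ v * (cond t x y ^ u * r) := fun t u v r => by
      rw [← mul_assoc, ← mul_assoc, ← pow_add, ← pow_add, add_comm u v]
    match l, hl with
    | [], _ => rw [List.reverse_nil, evs]; exact add_mem h1 h1
    | (a, i) :: t, hl =>
      rcases List.eq_nil_or_concat' t with rfl | ⟨m, ⟨b, j⟩, rfl⟩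
      · rw [List.reverse_singleton, evs_single]; exact add_mem (hc a i) (hc a i)
      simp only [List.length_cons, List.length_append, List.length_nil] at hl
      obtain ⟨E, hE⟩ : ∃ E, E = evs x y ((a, i) :: (m ++ [(b, j)])) + evs x y ((a, i) :: (m ++ [(b, j)])).reverse := ⟨_, rfl⟩
      rw [← hE]
      have hE' : E = (cond a x y) ^ i * evs x y m * (cond b x y) ^ j +
          (cond b x y) ^ j * evs x y m.reverse * (cond a x y) ^ i := by
        rw [hE, List.reverse_cons, List.reverse_append, List.reverse_singleton]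
        simp only [evs, evs_append, mul_one, one_mul, mul_assoc, List.singleton_append]
      by_cases hab : a = b
      · subst hab
        rcases le_total i j with hij | hij
        · obtain ⟨k, rfl⟩ := Nat.exists_eq_add_of_le hij
          have := sandwich h1 hI (hc a i) (ih (m.length + 1) (by omega) (m ++ [(a, k)]) (by simp))
          convert this using 1
          rw [hE', List.reverse_append, List.reverse_singleton]
          simp only [evs, evs_append, pow_add, mul_one, mul_add, add_mul, mul_assoc]
          congr 1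
          simp only [List.singleton_append, evs, evs_append, ← mul_assoc, ← pow_add, mul_one, one_mul, add_comm i k]
        · obtain ⟨k, rfl⟩ := Nat.exists_eq_add_of_le hij
          have := sandwich h1 hI (hc a j) (ih (m.length + 1) (by omega) ((a, k) :: m) (by simp))
          convert this using 1
          rw [hE', List.reverse_cons]
          simp only [evs, evs_append, pow_add, mul_one, mul_add, add_mul, mul_assoc]
          congr 1 <;> simp only [← mul_assoc, ← pow_add, add_comm j k]
      · match m, hE', hl with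
        | [], hE', _ =>
          rw [hE', List.reverse_nil, evs]
          exact sandwich_add h1 hI (hc a i) (hc b j) h1
        | (c, k) :: m', hE', hl =>
          simp only [List.length_cons] at hl
          by_cases hca : c = a
          · subst hca
            have := ih (m'.length + 2) (by omega) ((c, i + k) :: (m' ++ [(b, j)])) (by simp)
            convert this using 1
            rw [hE']
            simp only [List.reverse_cons, List.reverse_append, List.reverse_singleton, evs, evs_append, mul_one,
              pow_add, mul_assoc, List.singleton_append, List.reverse_nil, one_mul, List.nil_append]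
            rw [← pow_add, ← pow_add, add_comm k i]
          rcases List.eq_nil_or_concat' m' with rfl | ⟨m'', ⟨d, k'⟩, rfl⟩
          · have hcb : c = b := by revert hab hca; cases a <;> cases b <;> cases c <;> simp
            subst hcb
            have := ih 2 (by omega) [(a, i), (c, k + j)] rfl
            convert this using 1
            rw [hE']
            simp only [List.reverse_cons, List.reverse_nil, List.nil_append, List.singleton_append, evs, mul_one,
              pow_add, mul_assoc]
            rw [hcomm c j k]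
          simp only [List.length_append, List.length_cons, List.length_nil] at hl
          by_cases hdb : d = b
          · subst hdb
            have := ih (m''.length + 3) (by omega) ((a, i) :: (c, k) :: (m'' ++ [(d, k' + j)])) (by simp)
            convert this using 1
            rw [hE']
            simp only [List.reverse_cons, List.reverse_append, List.reverse_singleton, evs, evs_append, mul_one,
              pow_add, mul_assoc, List.singleton_append, List.reverse_nil, one_mul, List.nil_append]
            congr 1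
            rw [hcomm d j k']
          have hcb : c = b := by revert hab hca; cases a <;> cases b <;> cases c <;> simp
          have hda : d = a := by revert hab hdb; cases a <;> cases b <;> cases d <;> simp
          subst hcb hda
          have h2 := sandwich_add h1 hI (hc d i) (hc c j) (ih (m''.length + 2) (by omega) ((c, k) :: (m'' ++ [(d, k')])) (by simp))
          have h3 := ih (m''.length + 2) (by omega) ((c, j + k) :: (m'' ++ [(d, k' + i)])) (by simp)
          convert sub_mem h2 h3 using 1
          rw [hE']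
          simp only [List.reverse_cons, List.reverse_append, List.reverse_singleton, evs, evs_append, mul_one,
            pow_add, mul_assoc, List.singleton_append, mul_add, add_mul, List.reverse_nil, one_mul, List.nil_append]
          rw [hcomm c j k, hcomm d k' i, (Commute.refl (cond c x y)).pow_pow j k |>.eq]
          abel

end Closed

/-- A corner without zero divisors is commutative. -/
theorem comm_corner [Finite R] (B : Subring R) {e : R} (he : e ∈ B) (hee : e * e = e) (he0 : e ≠ 0)
    (hce : ∀ c ∈ B, e * c = c * e) (hdom : ∀ c ∈ B, ∀ d ∈ B, e * (c * d) = 0 → e * c = 0 ∨ e * d = 0)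
    {c d : R} (hc : c ∈ B) (hd : d ∈ B) : e * (c * d) = e * (d * c) := by
  have hm : ∀ u v : B, e * ((u * v : B) : R) = (e * u) * (e * v) := fun u v => by
    rw [Subring.coe_mul, mul_assoc e (u : R), ← mul_assoc (u : R) e, ← hce u u.2, mul_assoc e (u : R),
      ← mul_assoc e e, hee]
  let K : RingCon B :=
    { r := fun u v => e * (u : R) = e * v
      iseqv := ⟨fun _ => rfl, Eq.symm, Eq.trans⟩
      mul' := fun {a b c d} h1 h2 => by rw [hm, hm, h1, h2]
      add' := fun {a b c d} h1 h2 => by rw [Subring.coe_add, Subring.coe_add, mul_add, mul_add, h1, h2] }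
  haveI : Nontrivial K.Quotient := ⟨⟨((1 : B) : K.Quotient), ((0 : B) : K.Quotient), fun h => he0 (by
    have : e * ((1 : B) : R) = e * ((0 : B) : R) := (RingCon.eq K).1 h
    simpa using this)⟩⟩
  haveI : NoZeroDivisors K.Quotient := ⟨fun {u v} huv => by
    induction u using Quotient.inductionOn' with
    | _ u =>
      induction v using Quotient.inductionOn' with
      | _ v =>
        have h0 : e * ((u : R) * v) = 0 := by
          have : e * ((u * v : B) : R) = e * ((0 : B) : R) :=
            (RingCon.eq K).1 (huv : ((u * v : B) : K.Quotient) = ((0 : B) : K.Quotient))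
          simpa using this
        exact (hdom u u.2 v v.2 h0).imp
          (fun h => (RingCon.eq K).2 (show e * (u : R) = e * ((0 : B) : R) by simpa using h))
          (fun h => (RingCon.eq K).2 (show e * (v : R) = e * ((0 : B) : R) by simpa using h))⟩
  haveI : IsDomain K.Quotient := NoZeroDivisors.to_isDomain _
  haveI : Finite K.Quotient := Quotient.finite _
  classical
  letI := Fintype.ofFinite K.Quotient
  letI := Fintype.divisionRingOfIsDomain K.Quotient
  have h := (littleWedderburn K.Quotient).mul_comm ((⟨c, hc⟩ : B) : K.Quotient) ((⟨d, hd⟩ : B) : K.Quotient)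
  have h2 : e * (((⟨c, hc⟩ * ⟨d, hd⟩ : B)) : R) = e * (((⟨d, hd⟩ * ⟨c, hc⟩ : B)) : R) :=
    (RingCon.eq K).1 ((RingCon.coe_mul K _ _).trans (h.trans (RingCon.coe_mul K _ _).symm))
  simpa using h2

section Pairs

variable {L : AddSubgroup R} {x y : R}

/-- `(b, b')` comes from the same noncommutative polynomial read forwards and backwards. -/
def Pr (x y b b' : R) : Prop :=
  (b, op b') ∈ Subring.closure ({(x, op x), (y, op y)} : Set (R × Rᵐᵒᵖ))

/-- The pair of a word. -/
def wp (x y : R) (l : List (Bool × ℕ)) : R × Rᵐᵒᵖ := (evs x y l, op (evs x y l.reverse))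

theorem monomial {q : R × Rᵐᵒᵖ} (hq : q ∈ Submonoid.closure ({(x, op x), (y, op y)} : Set (R × Rᵐᵒᵖ))) :
    ∃ l, q = wp x y l := by
  induction hq using Submonoid.closure_induction with
  | mem q hq =>
    rcases hq with rfl | rfl
    · exact ⟨[(true, 1)], by simp [wp, evs]⟩
    · exact ⟨[(false, 1)], by simp [wp, evs]⟩
  | one => exact ⟨[], by simp [wp, evs, Prod.one_eq_mk]⟩
  | mul q r _ _ hq hr =>
    obtain ⟨l, rfl⟩ := hq
    obtain ⟨l', rfl⟩ := hr
    exact ⟨l ++ l', by simp [wp, evs_append, List.reverse_append]⟩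

theorem monomial_mem (l : List (Bool × ℕ)) :
    wp x y l ∈ Subring.closure ({(x, op x), (y, op y)} : Set (R × Rᵐᵒᵖ)) := by
  induction l with
  | nil =>
    rw [show wp x y [] = 1 by simp [wp, evs, Prod.one_eq_mk]]
    exact one_mem _
  | cons a l ih =>
    have : wp x y (a :: l) = (cond a.1 (x, op x) (y, op y)) ^ a.2 * wp x y l := by
      obtain ⟨_ | _, n⟩ := a <;> simp [wp, evs, evs_append]
    rw [this]
    exact mul_mem (pow_mem (by cases a.1 <;> exact Subring.subset_closure (by simp)) _) ih

/-- Additive induction on pairs. -/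
theorem pr_induction {P : R → R → Prop} (hw : ∀ l, P (evs x y l) (evs x y l.reverse)) (h0 : P 0 0)
    (hadd : ∀ a a' b b', Pr x y a a' → Pr x y b b' → P a a' → P b b' → P (a + b) (a' + b'))
    (hneg : ∀ a a', Pr x y a a' → P a a' → P (-a) (-a')) {b b' : R} (h : Pr x y b b') : P b b' := by
  suffices hq : ∀ q ∈ AddSubgroup.closure (Submonoid.closure ({(x, op x), (y, op y)} : Set (R × Rᵐᵒᵖ)) : Set (R × Rᵐᵒᵖ)),
      P q.1 q.2.unop from hq _ (Subring.mem_closure_iff.1 h)
  intro q hq
  induction hq using AddSubgroup.closure_induction with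
  | mem q hq =>
    obtain ⟨l, rfl⟩ := monomial hq
    exact hw l
  | zero => exact h0
  | add q r hq hr iq ir =>
    exact hadd _ _ _ _ (show (_, _) ∈ _ from Subring.mem_closure_iff.2 hq) (Subring.mem_closure_iff.2 hr) iq ir
  | neg q hq iq => exact hneg _ _ (Subring.mem_closure_iff.2 hq) iq

theorem Pr.add {a a' b b' : R} (h : Pr x y a a') (k : Pr x y b b') : Pr x y (a + b) (a' + b') := add_mem h k

theorem Pr.mul {a a' b b' : R} (h : Pr x y a a') (k : Pr x y b b') : Pr x y (a * b) (b' * a') := mul_mem h k

theorem Pr.symm {b b' : R} (h : Pr x y b b') : Pr x y b' b :=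
  pr_induction (P := fun b b' => Pr x y b' b)
    (fun l => by have h := monomial_mem (x := x) (y := y) l.reverse; rwa [wp, List.reverse_reverse] at h)
    (zero_mem _) (fun _ _ _ _ _ _ h k => add_mem h k) (fun _ _ _ h => neg_mem h) h

variable (h1 : (1 : R) ∈ L) (hI : InvIn L L) (hx : x ∈ L) (hy : y ∈ L)
include h1 hI hx hy

theorem Pr.add_mem' {b b' : R} (h : Pr x y b b') : b + b' ∈ L := by
  refine pr_induction (P := fun b b' => b + b' ∈ L) (fun l => sym_mem h1 hI hx hy _ l rfl) (by simp [zero_mem]) ?_ ?_ h
  · intro a a' c c' _ _ ha hc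
    convert add_mem ha hc using 1; abel
  · intro a a' _ ha
    convert neg_mem ha using 1; abel

theorem word_sandwich {z : R} (hz : z ∈ L) : ∀ l : List (Bool × ℕ), evs x y l * z * evs x y l.reverse ∈ L
  | [] => by simpa [evs] using hz
  | a :: l => by
    have := sandwich h1 hI (pow_mem' h1 hI (by cases a.1 <;> assumption : cond a.1 x y ∈ L) a.2) (word_sandwich hz l)
    convert this using 1
    rw [List.reverse_cons, evs_append]
    simp only [evs, mul_one, mul_assoc]

theorem Pr.sandwich {z : List (Bool × ℕ)} (hzr : z.reverse = z) (hz : evs x y z ∈ L) {b b' : R} (h : Pr x y b b') :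
    b * evs x y z * b' ∈ L := by
  have hbil : ∀ {b b'}, Pr x y b b' → ∀ {c c'}, Pr x y c c' → b * evs x y z * c' + c * evs x y z * b' ∈ L := by
    intro b b' hb c c' hcc
    refine pr_induction (P := fun b b' => b * evs x y z * c' + c * evs x y z * b' ∈ L) ?_ (by simp [zero_mem]) ?_ ?_ hb
    · intro l
      refine pr_induction (P := fun c c' => evs x y l * evs x y z * c' + c * evs x y z * evs x y l.reverse ∈ L) ?_
        (by simp [zero_mem]) ?_ ?_ hcc
      · intro m
        have := sym_mem h1 hI hx hy _ (l ++ z ++ m.reverse) rfl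
        simpa only [List.reverse_append, List.reverse_reverse, hzr, evs_append, mul_assoc] using this
      · intro a a' d d' _ _ ha hd
        convert AddSubgroup.add_mem L ha hd using 1
        simp only [mul_add, add_mul]; abel
      · intro a a' _ ha
        convert neg_mem ha using 1
        simp only [mul_neg, neg_mul]; abel
    · intro a a' d d' _ _ ha hd
      convert AddSubgroup.add_mem L ha hd using 1
      simp only [mul_add, add_mul]; abel
    · intro a a' _ ha
      convert neg_mem ha using 1
      simp only [mul_neg, neg_mul]; abel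
  refine pr_induction (P := fun b b' => b * evs x y z * b' ∈ L) (word_sandwich h1 hI hx hy hz) (by simp [zero_mem]) ?_ ?_ h
  · intro a a' d d' ha hd ia id'
    convert AddSubgroup.add_mem L (AddSubgroup.add_mem L ia id') (hbil ha hd) using 1
    simp only [mul_add, add_mul]; abel
  · intro a a' _ ia
    simpa using ia

end Pairs

section Main

variable [Finite R] {L : AddSubgroup R}

theorem isUnit_of_mul (a b : R) (h : IsUnit (a * b)) : IsUnit a ∧ IsUnit b := by
  obtain ⟨u, hu⟩ := h
  have hr : a * (b * ↑u⁻¹) = 1 := by rw [← mul_assoc, ← hu, Units.mul_inv]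
  have hsur : Function.Surjective (a * ·) := fun r => ⟨b * ↑u⁻¹ * r, by
    show a * (b * ↑u⁻¹ * r) = r
    rw [← mul_assoc, hr, one_mul]⟩
  have hinj : Function.Injective (a * ·) := Finite.injective_iff_surjective.2 hsur
  have hl : b * ↑u⁻¹ * a = 1 := hinj (by
    show a * (b * ↑u⁻¹ * a) = a * 1
    rw [← mul_assoc, hr, one_mul, mul_one])
  refine ⟨⟨⟨a, b * ↑u⁻¹, hr, hl⟩, rfl⟩, ⟨⟨b, ↑u⁻¹ * a, ?_, ?_⟩, rfl⟩⟩
  · rw [← mul_assoc]; exact hl
  · rw [mul_assoc, ← hu, Units.inv_mul]

theorem exists_inv_pow {a : R} (h : IsUnit a) : ∃ n : ℕ, a * a ^ n = 1 ∧ a ^ n * a = 1 := by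
  obtain ⟨u, rfl⟩ := h
  refine ⟨orderOf u - 1, ?_, ?_⟩
  · rw [← pow_succ', Nat.sub_add_cancel (orderOf_pos u), ← Units.val_pow_eq_pow_val, pow_orderOf_eq_one, Units.val_one]
  · rw [← pow_succ, Nat.sub_add_cancel (orderOf_pos u), ← Units.val_pow_eq_pow_val, pow_orderOf_eq_one, Units.val_one]

/-- The main theorem. -/
theorem jordan_comm {p : ℕ} [hp : Fact p.Prime] (hchar : (p : R) = 0) (h1 : (1 : R) ∈ L) (hI : InvIn L L)
    {x y : R} (hx : x ∈ L) (hy : y ∈ L) : x * y = y * x := by
  by_contra hne
  haveI : Nontrivial R := ⟨⟨x * y, y * x, hne⟩⟩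
  have hLu : ∀ a ∈ L, a ≠ 0 → IsUnit a := fun a ha ha0 => by
    obtain ⟨b, -, hab, hba⟩ := hI a ha ha0
    exact ⟨⟨a, b, hab, hba⟩, rfl⟩
  obtain ⟨B, hB⟩ : ∃ B, B = Subring.closure ({x, y} : Set R) := ⟨_, rfl⟩
  have hBc : ∀ {e : R}, e * x = x * e → e * y = y * e → ∀ c ∈ B, e * c = c * e := by
    intro e hex hey c hc
    rw [hB] at hc
    induction hc using Subring.closure_induction with
    | mem c hc => rcases hc with rfl | rfl <;> assumption
    | zero => simp
    | one => simp
    | add a b _ _ ha hb => rw [mul_add, add_mul, ha, hb]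
    | neg a _ ha => rw [mul_neg, neg_mul, ha]
    | mul a b _ _ ha hb => rw [← mul_assoc, ha, mul_assoc, hb, mul_assoc]
  have hxB : x ∈ B := hB ▸ Subring.subset_closure (by simp)
  have hyB : y ∈ B := hB ▸ Subring.subset_closure (by simp)
  have hPx : Pr x y x x := Subring.subset_closure (by simp)
  have hPy : Pr x y y y := Subring.subset_closure (by simp)
  have hP1 : Pr x y 1 1 := one_mem _
  have hfst : ∀ {b b' : R}, Pr x y b b' → b ∈ B := by
    intro b b' h
    refine pr_induction (P := fun b _ => b ∈ B) (fun l => ?_) (zero_mem _) (fun _ _ _ _ _ _ h k => add_mem h k)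
      (fun _ _ _ h => neg_mem h) h
    induction l with
    | nil => rw [evs]; exact one_mem _
    | cons a l ih => rw [evs]; exact mul_mem (pow_mem (by cases a.1 <;> assumption) _) ih
  have hlift : ∀ b ∈ B, ∃ b', Pr x y b b' := by
    intro b hb
    rw [hB] at hb
    induction hb using Subring.closure_induction with
    | mem c hc => rcases hc with rfl | rfl; exacts [⟨_, hPx⟩, ⟨_, hPy⟩]
    | zero => exact ⟨0, zero_mem _⟩
    | one => exact ⟨1, hP1⟩
    | add a b _ _ ha hb => obtain ⟨a', ha⟩ := ha; obtain ⟨b', hb⟩ := hb; exact ⟨_, ha.add hb⟩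
    | neg a _ ha => obtain ⟨a', ha⟩ := ha; exact ⟨-a', neg_mem ha⟩
    | mul a b _ _ ha hb => obtain ⟨a', ha⟩ := ha; obtain ⟨b', hb⟩ := hb; exact ⟨_, ha.mul hb⟩
  -- the whole ring cannot consist of elements of `L`
  have hnoL : ¬ ∀ b ∈ B, b ∈ L := fun h => hne (by
    have := comm_corner B (one_mem B) (one_mul 1) one_ne_zero (fun c _ => by simp)
      (fun c hc d hd hcd => by
        rw [one_mul] at hcd ⊢
        rw [one_mul]
        by_contra hcon
        push Not at hcon
        exact hcon.2 ((hLu c (h c hc) hcon.1).mul_right_eq_zero.1 hcd)) hxB hyB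
    simpa using this)
  have hzero : ∀ {b : R}, Pr x y b 0 → b = 0 := by
    intro b hb
    by_contra hb0
    have hbL : b ∈ L := by simpa using hb.add_mem' h1 hI hx hy
    obtain ⟨n, hn, -⟩ := exists_inv_pow (hLu b hbL hb0)
    refine hnoL fun c hc => ?_
    obtain ⟨c', hc'⟩ := hlift c hc
    obtain ⟨m', hm⟩ := hlift _ (pow_mem (hfst hb) n)
    have := ((hb.mul hm).mul hc').add_mem' h1 hI hx hy
    simpa [hn] using this
  have huniq : ∀ {b u v : R}, Pr x y b u → Pr x y b v → u = v := fun hu hv =>
    sub_eq_zero.1 (hzero (Pr.symm (by simpa [Pr] using (sub_mem hu hv :))))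
  -- a non-unit gives vanishing sandwiches
  have hsing : ∀ {b b' : R}, Pr x y b b' → ¬ IsUnit b →
      b * b' = 0 ∧ b * x * b' = 0 ∧ b * y * b' = 0 := by
    intro b b' h hb
    have key : ∀ z, z.reverse = z → evs x y z ∈ L → b * evs x y z * b' = 0 := by
      intro z hz hzL
      by_contra hc
      have hu := hLu _ (h.sandwich h1 hI hx hy hz hzL) hc
      exact hb (isUnit_of_mul _ _ (isUnit_of_mul _ _ hu).1).1
    refine ⟨?_, ?_, ?_⟩
    · simpa [evs] using key [] rfl (by simpa [evs] using h1)
    · simpa [evs] using key [(true, 1)] rfl (by simpa [evs] using hx)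
    · simpa [evs] using key [(false, 1)] rfl (by simpa [evs] using hy)
  have hnu : ∀ {b b' : R}, Pr x y b b' → ¬ IsUnit b → ¬ IsUnit b' := by
    intro b b' h hb hu
    have := hu.mul_left_eq_zero.1 (hsing h hb).1
    subst this
    rw [huniq h (zero_mem _)] at hu
    exact not_isUnit_zero hu
  -- idempotents
  have hidem : ∀ {e e' : R}, Pr x y e e' → e + e' = 1 → e * e = e → ¬ IsUnit e → e ≠ 0 →
      e * (x * y) = e * (y * x) := by
    intro e e' h hsum hee he he0
    obtain ⟨-, hl1, hl2⟩ := hsing h he
    obtain ⟨-, hr1, hr2⟩ := hsing h.symm (hnu h he)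
    have he' : e' = 1 - e := eq_sub_of_add_eq (by rw [add_comm, hsum])
    have hcom : ∀ z, e * z * e' = 0 → e' * z * e = 0 → e * z = z * e := by
      intro z ha hb
      rw [he', mul_sub, mul_one, sub_eq_zero] at ha
      rw [he', sub_mul, one_mul, sub_mul, sub_eq_zero] at hb
      rw [ha, ← hb]
    have hce := hBc (hcom x hl1 hr1) (hcom y hl2 hr2)
    refine comm_corner B (hfst h) hee he0 hce (fun c hc d hd hcd => ?_) hxB hyB
    by_contra hcon
    push Not at hcon
    obtain ⟨c', hc'⟩ := hlift c hc
    have hP := h.mul hc'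
    have hH := hP.add_mem' h1 hI hx hy
    have hc'B := hfst hc'.symm
    have hee' : e * e' = 0 := by rw [he', mul_sub, mul_one, hee, sub_self]
    have hsel : e * (e * c + c' * e') = e * c := by
      rw [mul_add, ← mul_assoc, hee, ← mul_assoc, hce c' hc'B, mul_assoc, hee', mul_zero, add_zero]
    have hH0 : e * c + c' * e' ≠ 0 := fun h0 => hcon.1 (by rw [← hsel, h0, mul_zero])
    have hprod : (e * c + c' * e') * (e * d) = 0 := by
      rw [hce d hd, ← mul_assoc, ← hce _ (mul_mem (add_mem (hfst hP) (hfst hP.symm)) hd), ← mul_assoc, hsel,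
        mul_assoc, hcd]
    exact hcon.2 ((hLu _ hH hH0).mul_right_eq_zero.1 hprod)
  -- non-units are skew
  have hskew : ∀ {b b' : R}, Pr x y b b' → ¬ IsUnit b → b + b' = 0 := by
    intro b b' h hb
    by_contra hh
    have hhu := hLu _ (h.add_mem' h1 hI hx hy) hh
    obtain ⟨H, hH⟩ : ∃ H, H = b + b' := ⟨_, rfl⟩
    rw [← hH] at hhu
    obtain ⟨n, hn, hn'⟩ := exists_inv_pow hhu
    have hPH : Pr x y H H := by
      have := h.add h.symm
      rwa [add_comm b' b, ← hH] at this
    have hpow : ∀ k, Pr x y (H ^ k) (H ^ k) := fun k => by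
      induction k with
      | zero => simpa using hP1
      | succ k ih => have := ih.mul hPH; rwa [← pow_succ, ← pow_succ'] at this
    have hbH : b * H = b * b := by rw [hH, mul_add, (hsing h hb).1, add_zero]
    have hHb : H * b = b * b := by rw [hH, add_mul, (hsing h.symm (hnu h hb)).1, add_zero]
    have hcn : Commute b (H ^ n) := (show Commute b H from hbH.trans hHb.symm).pow_right n
    have hE : Pr x y (b * H ^ n) (H ^ n * b') := h.mul (hpow n)
    have hsum : b * H ^ n + H ^ n * b' = 1 := by rw [hcn.eq, ← mul_add, ← hH, hn']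
    have hee : b * H ^ n * (b * H ^ n) = b * H ^ n := by
      calc b * H ^ n * (b * H ^ n) = b * (H ^ n * b) * H ^ n := by simp only [mul_assoc]
        _ = b * (b * H ^ n) * H ^ n := by rw [hcn.eq]
        _ = b * H * H ^ n * H ^ n := by rw [← mul_assoc b b, ← hbH]
        _ = b * H ^ n := by rw [mul_assoc b H, hn, mul_one]
    have hEu : ¬ IsUnit (b * H ^ n) := fun hu => hb (isUnit_of_mul _ _ hu).1
    have hb0 : b ≠ 0 := by
      intro h0
      subst h0
      exact hh (by rw [huniq h (zero_mem _), add_zero])
    have hE0 : b * H ^ n ≠ 0 := fun h0 => hb0 (by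
      rw [← mul_one b, ← hn', ← mul_assoc, h0, zero_mul])
    have k1 := hidem hE hsum hee hEu hE0
    have hee' : H ^ n * b' * (H ^ n * b') = H ^ n * b' := by
      rw [eq_sub_of_add_eq' hsum, mul_sub, sub_mul, sub_mul, one_mul, one_mul, mul_one, hee]
      abel
    have hE0' : H ^ n * b' ≠ 0 := fun h0 => hE0 (by
      rw [h0, add_zero] at hsum; exact absurd (hsum ▸ isUnit_one) hEu)
    have k2 := hidem hE.symm (by rw [add_comm, hsum]) hee' (hnu hE hEu) hE0'
    exact hne (by rw [← one_mul (x * y), ← hsum, add_mul, k1, k2, ← add_mul, hsum, one_mul])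
  by_cases hex : ∃ b b', Pr x y b b' ∧ ¬ IsUnit b ∧ b ≠ 0
  · have hcentral : ∀ {c c' : R}, Pr x y c c' → ¬ IsUnit c → ∀ d ∈ B, c * d = d * c := by
      intro c c' h hc
      have hc' : c' = -c := eq_neg_of_add_eq_zero_right (hskew h hc)
      have key : ∀ {z}, Pr x y z z → c * z = z * c := fun {z} hz => by
        have h2 := hskew (h.mul hz) (fun hu => hc (isUnit_of_mul _ _ hu).1)
        rwa [hc', mul_neg, ← sub_eq_add_neg, sub_eq_zero] at h2
      exact hBc (key hPx) (key hPy)
    obtain ⟨b, b', hb, hbu, hb0⟩ := hex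
    obtain ⟨k, hk⟩ : ∃ k, k = x * y - y * x := ⟨_, rfl⟩
    have hPk : Pr x y k (y * x - x * y) := hk ▸ sub_mem (hPx.mul hPy) (hPy.mul hPx)
    have hku : ¬ IsUnit k := fun hu => hb0 (by
      have h2 := hskew (hb.mul (hPx.mul hPy)) (fun hu' => hbu (isUnit_of_mul _ _ hu').1)
      have hbb : b' = -b := eq_neg_of_add_eq_zero_right (hskew hb hbu)
      rw [hbb, mul_neg, ← hcentral hb hbu _ (mul_mem hyB hxB), ← sub_eq_add_neg, ← mul_sub, ← hk] at h2
      exact hu.mul_left_eq_zero.1 h2)
    have hkx : k * x = x * k := hcentral hPk hku x hxB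
    have hder : ∀ m : ℕ, x ^ m * x * y - y * (x ^ m * x) = ((m + 1 : ℕ) : R) * (x ^ m * k) := by
      intro m
      induction m with
      | zero => simp [hk]
      | succ m ih =>
        have : x ^ (m + 1) * x * y - y * (x ^ (m + 1) * x) =
            x ^ (m + 1) * k + (x ^ m * x * y - y * (x ^ m * x)) * x := by
          rw [hk, pow_succ, mul_sub, sub_mul]
          simp only [mul_assoc]
          abel
        rw [this, ih, mul_assoc _ _ x, mul_assoc (x ^ m), hkx, ← mul_assoc (x ^ m), ← pow_succ, Nat.cast_succ (m + 1),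
          add_mul, one_mul, add_comm]
    have hx0 : x ≠ 0 := by rintro rfl; exact hne (by simp)
    obtain ⟨u, hu⟩ := hLu x hx hx0
    have ho : x ^ orderOf u = 1 := by rw [← hu, ← Units.val_pow_eq_pow_val, pow_orderOf_eq_one, Units.val_one]
    have hpo : ¬ p ∣ orderOf u := by
      rintro ⟨q, hq⟩
      haveI : CharP R p := (CharP.charP_iff_prime_eq_zero hp.out).2 hchar
      have h0 : (x ^ q - 1) ^ p = 0 := by
        rw [sub_pow_char_of_commute p (Commute.one_right _), one_pow, ← pow_mul, mul_comm, ← hq, ho, sub_self]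
      have h2 : x ^ q - 1 = 0 := by
        by_contra h3
        exact not_isUnit_zero (h0 ▸ (hLu _ (sub_mem (pow_mem' h1 hI hx q) h1) h3).pow p)
      have h4 : u ^ q = 1 := Units.ext (by rw [Units.val_pow_eq_pow_val, hu, sub_eq_zero.1 h2, Units.val_one])
      have h5 := Nat.le_of_dvd (Nat.pos_of_ne_zero (fun h => by
        rw [h, mul_zero] at hq; exact (orderOf_pos u).ne' hq)) (orderOf_dvd_of_pow_eq_one h4)
      rw [hq] at h5
      have h6 : 0 < q := Nat.pos_of_ne_zero (fun h => by rw [h, mul_zero] at hq; exact (orderOf_pos u).ne' hq)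
      nlinarith [hp.out.two_le]
    have h7 := hder (orderOf u - 1)
    rw [← pow_succ, Nat.sub_add_cancel (orderOf_pos u), ho, one_mul, mul_one, sub_self] at h7
    haveI : CharP R p := (CharP.charP_iff_prime_eq_zero hp.out).2 hchar
    obtain ⟨v, hv⟩ : ∃ v : ℕ, ((v : R) * (orderOf u : R)) = 1 := by
      obtain ⟨a, -, ha⟩ := Nat.exists_mul_mod_eq_one_of_coprime
        ((hp.out.coprime_iff_not_dvd.2 hpo).symm) hp.out.one_lt
      refine ⟨a, ?_⟩
      rw [← Nat.cast_mul, mul_comm, ← Nat.div_add_mod (orderOf u * a) p, ha, Nat.cast_add, Nat.cast_mul, CharP.cast_eq_zero,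
        zero_mul, zero_add, Nat.cast_one]
    have hxk : x ^ (orderOf u - 1) * k = 0 := by
      rw [← one_mul (x ^ (orderOf u - 1) * k), ← hv, mul_assoc, ← h7, mul_zero]
    have hk0 : k = 0 := ((hu ▸ u.isUnit : IsUnit x).pow _).mul_right_eq_zero.1 hxk
    exact hne (sub_eq_zero.1 (hk ▸ hk0))
  · push Not at hex
    exact hne (by
      have := comm_corner B (one_mem B) (one_mul 1) one_ne_zero (fun c _ => by simp)
        (fun c hc d hd hcd => by
          rw [one_mul] at hcd ⊢
          rw [one_mul]
          by_contra hcon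
          push Not at hcon
          obtain ⟨c', hc'⟩ := hlift c hc
          by_cases hu : IsUnit c
          · exact hcon.2 (hu.mul_right_eq_zero.1 hcd)
          · exact hcon.1 (hex c c' hc' hu)) hxB hyB
      simpa using this)

end Main

end CfsgLib.LocalEven.Jordan
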