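import Cfsg.Agent.Lib.LocalEven.LargestReduced
import Cfsg.Agent.Lib.Core.Coprime
import Cfsg.Agent.Lib.LocalEven.Subnormal

/-! Normal closures of `p`-reduced subgroups. -/

set_option autoImplicit false
set_option linter.all false

namespace CfsgLib.LocalEven

open Subgroup

variable {L : Type*} [Group L] [Finite L] {p : ℕ} [hp : Fact p.Prime]

theorem le_centralizer_of_sylow_pow (T : Sylow p L) {N : Subgroup L} [N.Normal] {W : Set L}
    (h : ∀ n ∈ N, ∃ k, n ^ p ^ k ∈ centralizer W) (hT : (T : Subgroup L) ⊓ N ≤ centralizer W) :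
    N ≤ centralizer W := by
  obtain ⟨P, hP⟩ := exists_sylow_inf T N
  have h1 := congrArg (Subgroup.map N.subtype) (CfsgLib.Transfer.pResidual_sup_sylow P)
  rw [Subgroup.map_sup, hP, ← MonoidHom.range_eq_map, Subgroup.range_subtype] at h1
  refine h1.ge.trans (sup_le (map_le_iff_le_comap.mpr (CfsgLib.Transfer.pResidual_le_iff.mpr fun g hg => ?_)) hT)
  obtain ⟨k, hk⟩ := h g g.2
  obtain ⟨m, hm⟩ := exists_pow_eq_self_of_coprime
    (Nat.Coprime.pow_left k (by rw [Subgroup.orderOf_coe]; exact hg.symm) : Nat.Coprime (p ^ k) (orderOf (g : L)))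
  show (g : L) ∈ centralizer W
  rw [← hm]
  exact pow_mem hk m

/-- The normal closure of an elementary subgroup centralizing `O_p(L)`. -/
theorem isPReducedNormal_normalClosure (hchar : centralizer (Cfsg.pCore p L : Set L) ≤ Cfsg.pCore p L)
    (T : Sylow p L) {X : Subgroup L} (hXp : ∀ x ∈ X, x ^ p = 1)
    (hXO : X ≤ centralizer (Cfsg.pCore p L : Set L))
    (h : ∀ N : Subgroup L, N.Normal → (∀ n ∈ N, ∃ k, n ^ p ^ k ∈ centralizer (X : Set L)) →
      (T : Subgroup L) ⊓ N ≤ centralizer (X : Set L)) :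
    Cfsg.IsPReducedNormal p (normalClosure (X : Set L)) := by
  set V := normalClosure (X : Set L) with hV
  set Z := Cfsg.pCore p L ⊓ centralizer (Cfsg.pCore p L : Set L) with hZ
  haveI : Z.Normal := by rw [hZ]; infer_instance
  have hVZ : V ≤ Z := normalClosure_le_normal (le_inf (hXO.trans hchar) hXO)
  have hcomm : ∀ a ∈ V, ∀ b ∈ V, Commute a b := fun a ha b hb =>
    mem_centralizer_iff.mp (hVZ hb).2 a (hVZ ha).1
  have hexp : V ≤ Cfsg.omegaOne p Z := by
    haveI : IsMulCommutative ↥Z := isMulCommutative_iff.mpr fun a b =>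
      Subtype.ext (mem_centralizer_iff.mp b.2.2 a a.2.1)
    haveI : (Cfsg.omegaOne p Z).Normal := by
      refine normalizer_eq_top_iff.mp (top_le_iff.mp fun g _ => ?_)
      rw [mem_normalizer_conj_iff, CfsgLib.PGroups.omegaOne_map _ (f := (MulAut.conj g).toMonoidHom) (MulAut.conj g).injective,
        mem_normalizer_conj_iff.mp (by rw [normalizer_eq_top Z]; exact mem_top g)]
    exact normalClosure_le_normal fun x hx =>
      CfsgLib.PGroups.mem_omegaOne (le_inf (hXO.trans hchar) hXO hx) (hXp x hx)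
  haveI : IsMulCommutative ↥Z := isMulCommutative_iff.mpr fun a b =>
    Subtype.ext (mem_centralizer_iff.mp b.2.2 a a.2.1)
  refine (isPReducedNormal_iff_pow ⟨isMulCommutative_iff.mpr fun a b => Subtype.ext (hcomm a a.2 b b.2).eq,
    fun a ha => (CfsgLib.PGroups.isElementaryAbelian_omegaOne (p := p) (H := Z)).2 a (hexp ha)⟩).mpr fun N hN hpow => ?_
  haveI := hN
  have hX' : ∀ n ∈ N, ∃ k, n ^ p ^ k ∈ centralizer (X : Set L) := fun n hn => by
    obtain ⟨k, hk⟩ := hpow n hn
    exact ⟨k, centralizer_le subset_normalClosure hk⟩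
  have h1 := le_centralizer_of_sylow_pow T hX' (h N hN hX')
  rw [le_centralizer_iff]
  exact normalClosure_le_normal (le_centralizer_iff.mp h1)

/-- Commutators with a subgroup generated by elements of order prime to `p` on an elementary abelian group. -/
theorem commutator_pResidual_eq {V : Subgroup L} (hV : Cfsg.IsElementaryAbelian p V) {K : Subgroup L}
    (hKV : K ≤ normalizer (V : Set L)) :
    ⁅V, (Cfsg.pResidual p ↥K).map K.subtype⁆ ≤
      ⁅⁅V, (Cfsg.pResidual p ↥K).map K.subtype⁆, (Cfsg.pResidual p ↥K).map K.subtype⁆ := by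
  set R := (Cfsg.pResidual p ↥K).map K.subtype with hR
  set W' := ⁅⁅V, R⁆, R⁆ with hW'
  have hRW : R ≤ normalizer (W' : Set L) := normalizer_commutator_ge_right _ _
  have hcomm := isMulCommutative_iff.mp hV.1
  have hbase : ∀ x ∈ K, x ∈ R → (orderOf x).Coprime p → ∀ v ∈ V, v * x * v⁻¹ * x⁻¹ ∈ W' := by
    intro x hxK hxR hxo v hv
    have hAK : zpowers x ≤ normalizer (V : Set L) := zpowers_le.mpr (hKV hxK)
    have hcop : (Nat.card (zpowers x)).Coprime (Nat.card V) := by
      obtain ⟨n, hn⟩ := (isPGroup_of_elementary' hV).exists_card_eq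
      rw [Nat.card_zpowers, hn]
      exact Nat.Coprime.pow_right n hxo
    have h1 : ⁅⁅V, zpowers x⁆, zpowers x⁆ = ⁅V, zpowers x⁆ :=
      CfsgLib.Core.commutator_commutator_eq hAK hcop (Or.inl inferInstance)
    have h2 : v * x * v⁻¹ * x⁻¹ ∈ ⁅V, zpowers x⁆ := commutator_mem_commutator hv (mem_zpowers x)
    rw [← h1] at h2
    exact commutator_mono (commutator_mono le_rfl (zpowers_le.mpr hxR)) (zpowers_le.mpr hxR) h2
  suffices key : ∀ g ∈ Cfsg.pResidual p ↥K, ∀ v ∈ V, v * (g : L) * v⁻¹ * (g : L)⁻¹ ∈ W' by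
    refine commutator_le.mpr fun v hv r hr => ?_
    obtain ⟨g, hg, rfl⟩ := hr
    exact key g hg v hv
  intro g hg
  induction hg using Subgroup.closure_induction with
  | mem x hx => exact fun v hv => hbase _ x.2 ⟨x, subset_closure hx, rfl⟩ (by rw [Subgroup.orderOf_coe]; exact hx) v hv
  | one => simp
  | mul x y hx hy ihx ihy =>
    intro v hv
    rw [coe_mul]
    have hxR : (x : L) ∈ R := ⟨x, hx, rfl⟩
    have h3 := (mem_normalizer_iff.mp (hRW hxR) _).mp (ihy v hv)
    have h4 := mul_mem (ihx v hv) h3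
    have e : v * (x : L) * v⁻¹ * (x : L)⁻¹ * ((x : L) * (v * (y : L) * v⁻¹ * (y : L)⁻¹) * (x : L)⁻¹) =
        v * ((x : L) * (y : L)) * v⁻¹ * ((x : L) * (y : L))⁻¹ := by group
    rw [e] at h4
    exact h4
  | inv x hx ih =>
    intro v hv
    rw [InvMemClass.coe_inv]
    have hxR : (x : L)⁻¹ ∈ R := inv_mem ⟨x, hx, rfl⟩
    have h3 := (mem_normalizer_iff.mp (hRW hxR) _).mp (inv_mem (ih v hv))
    have e : (x : L)⁻¹ * (v * (x : L) * v⁻¹ * (x : L)⁻¹)⁻¹ * ((x : L)⁻¹)⁻¹ =
        v * (x : L)⁻¹ * v⁻¹ * ((x : L)⁻¹)⁻¹ := by group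
    rw [e] at h3
    exact h3

theorem commutator_pResidual_le {V : Subgroup L} (hV : Cfsg.IsElementaryAbelian p V) [V.Normal] {K : Subgroup L}
    (hK : K.IsSubnormal) : ⁅V, (Cfsg.pResidual p ↥K).map K.subtype⁆ ≤ K := by
  set W := ⁅V, (Cfsg.pResidual p ↥K).map K.subtype⁆ with hW
  have hWW := commutator_pResidual_eq hV (K := K) (by rw [normalizer_eq_top V]; exact le_top)
  have key : ∀ A : Subgroup L, A.IsSubnormal → K ≤ A → W ≤ A := by
    intro A hA
    induction hA with
    | top => exact fun _ => le_top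
    | step A B hle _ hn ih =>
      intro hKA
      have hWB := ih (hKA.trans hle)
      refine hWW.trans ((commutator_mono hWB ((map_subtype_le _).trans hKA)).trans ?_)
      exact le_normalizer_iff_commutator_le_right.mp ((normal_subgroupOf_iff_le_normalizer hle).mp hn)
  exact key K hK le_rfl

end CfsgLib.LocalEven
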