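import Cfsg.Agent.Lib.LocalEven.Averaging
import Cfsg.Agent.Lib.LocalEven.PReducedClosure
import Cfsg.Agent.Lib.LocalEven.VIter
import Cfsg.Agent.Lib.LocalEvenB.CharP

/-! Kieler's Lemma: `C_L(Ω₁Z(T)) = C_L(Ω₁Z(T ∩ L))` for subnormal `L`. -/

set_option autoImplicit false
set_option linter.all false

namespace CfsgLib.LocalEven

open Subgroup CfsgLib.LocalEvenB
open scoped commutatorElement

variable {H : Type*} [Group H] [Finite H] {p : ℕ} [hp : Fact p.Prime]

/-- An element fixed by a Sylow group of `L` and fixed by `T` modulo `C(L)` can be corrected. -/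
theorem exists_fixed_of_commutator {V L T : Subgroup H} (hV : Cfsg.IsElementaryAbelian p V)
    (hLV : L ≤ normalizer (V : Set H)) (hTV : T ≤ normalizer (V : Set H)) (hTL : T ≤ normalizer (L : Set H))
    (S : Sylow p L) (hTS : T ≤ normalizer (((S : Subgroup L).map L.subtype : Subgroup H) : Set H))
    {w : H} (hw : w ∈ V) (hS : ∀ s ∈ (S : Subgroup L), (s : H) * w = w * s)
    (hz : ∀ t ∈ T, t * w * t⁻¹ * w⁻¹ ∈ centralizer (L : Set H)) :
    ∃ c ∈ V ⊓ centralizer (L : Set H), ∀ t ∈ T, t * (c⁻¹ * w) * t⁻¹ = c⁻¹ * w := by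
  haveI := hV.1
  letI : CommGroup ↥V := { (inferInstance : Group ↥V) with mul_comm := fun x y => Std.Commutative.comm x y }
  haveI : Fintype (↥L ⧸ (S : Subgroup ↥L)) := Fintype.ofFinite _
  have hmem : ∀ g : H, g ∈ normalizer (V : Set H) → ∀ v ∈ V, g * v * g⁻¹ ∈ V := fun g hg v hv =>
    (mem_normalizer_iff.mp hg v).mp hv
  let f : ↥L ⧸ (S : Subgroup ↥L) → ↥V := Quotient.lift
    (fun r : L => (⟨(r : H) * w * (r : H)⁻¹, hmem r (hLV r.2) w hw⟩ : ↥V))
    fun r s h => Subtype.ext (by
      have h1 := hS _ (QuotientGroup.leftRel_apply.mp h)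
      simp only [Subgroup.coe_mul, Subgroup.coe_inv] at h1
      calc (r : H) * w * (r : H)⁻¹ = r * (w * ((r : H)⁻¹ * s)) * (s : H)⁻¹ := by group
        _ = r * ((r : H)⁻¹ * s * w) * (s : H)⁻¹ := by rw [← h1]
        _ = (s : H) * w * (s : H)⁻¹ := by group)
  set P : ↥V := ∏ q, f q with hP
  have hfix : ∀ g : L, (g : H) * P * (g : H)⁻¹ = P := by
    intro g
    let φ : ↥V →* ↥V :=
      { toFun := fun z => ⟨(g : H) * z * (g : H)⁻¹, hmem g (hLV g.2) z z.2⟩
        map_one' := Subtype.ext (by simp)
        map_mul' := fun x y => Subtype.ext (by simp [mul_assoc]) }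
    have h1 : φ P = P := by
      rw [hP, map_prod]
      refine Fintype.prod_equiv (MulAction.toPerm g) _ _ fun q => ?_
      obtain ⟨r, rfl⟩ := QuotientGroup.mk_surjective q
      refine Subtype.ext ?_
      show (g : H) * ((r : H) * w * (r : H)⁻¹) * (g : H)⁻¹ = ((g * r : L) : H) * w * ((g * r : L) : H)⁻¹
      rw [Subgroup.coe_mul]; group
    exact congrArg Subtype.val h1
  have hPC : (P : H) ∈ centralizer (L : Set H) := mem_centralizer_iff.mpr fun g hg => by
    conv_rhs => rw [← hfix ⟨g, hg⟩]
    rw [inv_mul_cancel_right]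
  set m := Fintype.card (↥L ⧸ (S : Subgroup ↥L))
  have hm : m.Coprime p := by
    rw [Nat.coprime_comm, Nat.Prime.coprime_iff_not_dvd hp.out]
    show ¬ p ∣ Fintype.card _
    rw [← Nat.card_eq_fintype_card]
    exact S.not_dvd_index
  have hVp : ∀ a : ↥V, a ^ p = 1 := fun a => Subtype.ext (by rw [SubgroupClass.coe_pow]; exact hV.2 a a.2)
  obtain ⟨n, hn⟩ : ∃ n : ℕ, ∀ a : ↥V, (a ^ m) ^ n = a := by
    obtain ⟨n, hn⟩ := Nat.exists_mul_mod_eq_one_of_coprime hm hp.out.one_lt
    refine ⟨n, fun a => ?_⟩
    rw [← pow_mul, ← Nat.mod_add_div (m * n) p, hn.2, pow_add, pow_mul, hVp, one_pow, mul_one, pow_one]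
  refine ⟨((P ^ n : ↥V) : H), Subgroup.mem_inf.mpr ⟨(P ^ n).2, by rw [SubgroupClass.coe_pow]; exact pow_mem hPC n⟩, fun t ht => ?_⟩
  let φ : ↥V →* ↥V :=
    { toFun := fun z => ⟨t * z * t⁻¹, hmem t (hTV ht) z z.2⟩
      map_one' := Subtype.ext (by simp)
      map_mul' := fun x y => Subtype.ext (by simp [mul_assoc]) }
  set z : ↥V := ⟨t * w * t⁻¹ * w⁻¹, V.mul_mem (hmem t (hTV ht) w hw) (V.inv_mem hw)⟩ with hzdef
  -- conjugation by `t` permutes the cosets
  let e : ↥L ≃* ↥L :=
    { toFun := fun g => ⟨t * g * t⁻¹, (mem_normalizer_iff.mp (hTL ht) g).mp g.2⟩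
      invFun := fun g => ⟨t⁻¹ * g * t, (mem_normalizer_iff''.mp (hTL ht) g).mp g.2⟩
      left_inv := fun g => Subtype.ext (by simp [mul_assoc])
      right_inv := fun g => Subtype.ext (by simp [mul_assoc])
      map_mul' := fun a b => Subtype.ext (by simp [mul_assoc]) }
  have hSe : ∀ g : L, e g ∈ (S : Subgroup L) ↔ g ∈ (S : Subgroup L) := fun g => by
    have h1 := mem_normalizer_iff.mp (hTS ht) (g : H)
    have h0 : ∀ y : L, (y : H) ∈ ((S : Subgroup L).map L.subtype) ↔ y ∈ (S : Subgroup L) := fun y =>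
      Subgroup.mem_map_iff_mem (f := L.subtype) L.subtype_injective
    exact ((h0 (e g)).symm.trans h1.symm).trans (h0 g)
  let σ : (↥L ⧸ (S : Subgroup ↥L)) ≃ (↥L ⧸ (S : Subgroup ↥L)) :=
    Quotient.congr e.toEquiv fun a b => by
      show QuotientGroup.leftRel _ a b ↔ QuotientGroup.leftRel _ (e a) (e b)
      rw [QuotientGroup.leftRel_apply, QuotientGroup.leftRel_apply, ← map_inv, ← map_mul, hSe]
  have hφ : φ P = z ^ m * P := by
    rw [hP, map_prod, show z ^ m = ∏ _q : ↥L ⧸ (S : Subgroup ↥L), z from (Finset.prod_const z).symm,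
      ← Finset.prod_mul_distrib]
    refine Fintype.prod_equiv σ _ _ fun q => ?_
    obtain ⟨r, rfl⟩ := QuotientGroup.mk_surjective q
    refine Subtype.ext ?_
    show t * ((r : H) * w * (r : H)⁻¹) * t⁻¹ = (t * w * t⁻¹ * w⁻¹) * ((t * (r : H) * t⁻¹) * w * (t * (r : H) * t⁻¹)⁻¹)
    set r' := t * (r : H) * t⁻¹ with hr'
    have hr : r' * (t * w * t⁻¹ * w⁻¹) = (t * w * t⁻¹ * w⁻¹) * r' :=
      mem_centralizer_iff.mp (hz t ht) r' ((mem_normalizer_iff.mp (hTL ht) _).mp r.2)
    calc t * ((r : H) * w * (r : H)⁻¹) * t⁻¹ = r' * (t * w * t⁻¹ * w⁻¹) * w * r'⁻¹ := by rw [hr']; group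
      _ = _ := by rw [hr]; group
  have hpn : φ (P ^ n) = z * P ^ n := by rw [map_pow, hφ, mul_pow, hn]
  have hfin : φ ((P ^ n)⁻¹ * ⟨w, hw⟩) = (P ^ n)⁻¹ * ⟨w, hw⟩ := by
    rw [map_mul, map_inv, hpn, show φ ⟨w, hw⟩ = z * ⟨w, hw⟩ from Subtype.ext (by
      show t * w * t⁻¹ = t * w * t⁻¹ * w⁻¹ * w
      rw [inv_mul_cancel_right]), mul_inv, mul_mul_mul_comm, inv_mul_cancel, one_mul]
  exact congrArg Subtype.val hfin

/-- Kieler's Lemma for a normal subgroup. -/
theorem kieler_normal (hH : centralizer (Cfsg.pCore p H : Set H) ≤ Cfsg.pCore p H) (T : Sylow p H)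
    (L : Subgroup H) [L.Normal] :
    L ⊓ centralizer (omegaCenter p (T : Subgroup H) : Set H) =
      L ⊓ centralizer (omegaCenter p ((T : Subgroup H) ⊓ L) : Set H) := by
  set Ω := omegaCenter p (T : Subgroup H) with hΩ
  set S := (T : Subgroup H) ⊓ L with hS
  set W := omegaCenter p S with hW
  obtain ⟨P, hP⟩ := exists_sylow_inf T L
  rw [← hS] at hP
  refine le_antisymm ?_ ?_
  · -- the subgroup centralizing `Ω`
    set K := L ⊓ centralizer (Ω : Set H) with hK
    have hTC : (T : Subgroup H) ≤ centralizer (Ω : Set H) := omegaCenter_le_centralizer _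
    have hSK : S ≤ K := le_inf inf_le_right (inf_le_left.trans hTC)
    have hchar : HasCharP p K := by
      have hC : HasCharP p (centralizer (Ω : Set H)) :=
        hasCharP_of_overgroup (hasCharP_top_iff.mpr hH) T le_rfl le_normalizer inf_le_left hTC
      refine hC.of_normalized inf_le_right ((LocalEvenB.pCoreOf_le _).trans ?_)
      exact (le_inf (CfsgLib.Core.le_normalizer_of_normal _ L) le_normalizer).trans
        inf_normalizer_le_normalizer_inf
    have hcp := (hasCharP_iff K).mp hchar
    obtain ⟨Q, hQ⟩ := (((T.2.to_le inf_le_left : IsPGroup p S)).comap_of_injective _ K.subtype_injective :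
      IsPGroup p (S.subgroupOf K)).exists_le_sylow
    have hQS : (Q : Subgroup ↥K).map K.subtype = S := by
      refine (eq_of_le_of_card_ge ?_ ?_).symm
      · rw [← map_subgroupOf_eq_of_le hSK]; exact map_mono hQ
      · have h1 : IsPGroup p ↥(((Q : Subgroup ↥K).map K.subtype).subgroupOf L) :=
          (Q.2.map _).comap_of_injective _ L.subtype_injective
        obtain ⟨P', hP'⟩ := h1.exists_le_sylow
        have h2 := card_le_of_le hP'
        rw [Nat.card_congr (subgroupOfEquivOfLe ((map_subtype_le _).trans inf_le_left)).toEquiv,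
          Sylow.card_eq_multiplicity P', ← Sylow.card_eq_multiplicity P] at h2
        rwa [← hP, card_map_of_injective L.subtype_injective]
    set V := Cfsg.sylowCenterClosure p K with hV
    have hVe : V = (centerClosure p ↥K).map K.subtype := sylowCenterClosure_eq K
    have hVel : Cfsg.IsElementaryAbelian p V := by
      have h1 := (isPReducedNormal_centerClosure hcp).2.1
      rw [hVe]
      refine ⟨isMulCommutative_iff.mpr ?_, ?_⟩
      · rintro ⟨_, a, ha, rfl⟩ ⟨_, b, hb, rfl⟩
        exact Subtype.ext (congrArg (fun z : ↥(centerClosure p ↥K) => ((z : ↥K) : H))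
          ((isMulCommutative_iff.mp h1.1) ⟨a, ha⟩ ⟨b, hb⟩))
      · rintro _ ⟨a, ha, rfl⟩
        rw [← map_pow, h1.2 a ha, map_one]
    have hWV : W ≤ V := by
      rw [hW, ← hQS, ← map_omegaCenter K.subtype K.subtype_injective, hVe]
      exact map_mono (le_iSup (fun S : Sylow p ↥K => omegaCenter p (S : Subgroup ↥K)) Q)
    have hKV : K ≤ normalizer (V : Set H) := by
      rw [hVe]
      haveI := centerClosure_normal (L := ↥K) (p := p)
      exact le_normalizer_map_of_normal K _
    have hTK : (T : Subgroup H) ≤ normalizer (K : Set H) :=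
      (le_inf (CfsgLib.Core.le_normalizer_of_normal _ L) (hTC.trans le_normalizer)).trans
        inf_normalizer_le_normalizer_inf
    have hTV : (T : Subgroup H) ≤ normalizer (V : Set H) := fun t ht => by
      rw [mem_normalizer_conj_iff, hV, sylowCenterClosure_conj, mem_normalizer_conj_iff.mp (hTK ht)]
    have hTS : (T : Subgroup H) ≤ normalizer (((Q : Subgroup ↥K).map K.subtype : Subgroup H) : Set H) := by
      rw [hQS]
      exact (le_inf le_normalizer (CfsgLib.Core.le_normalizer_of_normal _ L)).trans inf_normalizer_le_normalizer_inf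
    haveI := T.2.isNilpotent
    obtain ⟨n, hn⟩ := Subgroup.nilpotent_iff_lowerCentralSeries.1 (inferInstance : Group.IsNilpotent (T : Subgroup H))
    let γ : ℕ → Subgroup H := fun i => ((⊤ : Subgroup (T : Subgroup H)).lowerCentralSeries i).map (T : Subgroup H).subtype
    have hWT : W ≤ (T : Subgroup H) := ((omegaCenter_le S).trans inf_le_left).trans inf_le_left
    have key : ∀ i ≤ n, W ⊓ γ (n - i) ≤ centralizer (K : Set H) := by
      intro i
      induction i with
      | zero =>
        intro _ w hw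
        have : w ∈ γ n := hw.2
        simp only [γ, hn, Subgroup.map_bot, Subgroup.mem_bot] at this
        rw [this]; exact one_mem _
      | succ i ih =>
        intro hi w hw
        obtain ⟨hwW, hwγ⟩ := Subgroup.mem_inf.mp hw
        set j := n - (i + 1) with hj
        have hj1 : j + 1 = n - i := by omega
        have hS' : ∀ s ∈ (Q : Subgroup ↥K), (s : H) * w = w * s := fun s hs =>
          mem_centralizer_iff.mp (omegaCenter_le S hwW).2 _ (hQS ▸ mem_map_of_mem K.subtype hs)
        have hz : ∀ t ∈ (T : Subgroup H), t * w * t⁻¹ * w⁻¹ ∈ centralizer (K : Set H) := by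
          intro t ht
          refine ih (by omega) (Subgroup.mem_inf.mpr ⟨W.mul_mem ?_ (W.inv_mem hwW), ?_⟩)
          · have htS : t ∈ normalizer (S : Set H) := by rw [← hQS]; exact hTS ht
            have := conj_mem_conj (g := t) hwW
            rwa [hW, omegaCenter, omegaZ_conj, mem_normalizer_conj_iff.mp htS] at this
          · obtain ⟨s, hs, hsw⟩ := hwγ
            rw [← hj1]
            refine ⟨⁅(⟨t, ht⟩ : (T : Subgroup H)), s⁆, ?_, ?_⟩
            · rw [← commutatorElement_inv]
              exact Subgroup.inv_mem _ (Subgroup.commutator_mem_commutator hs (Subgroup.mem_top _))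
            · rw [← hsw]
              simp [commutatorElement_def]
        obtain ⟨c, hc, hfix⟩ := exists_fixed_of_commutator hVel hKV hTV hTK Q hTS (hWV hwW) hS' hz
        obtain ⟨hcV, hcC⟩ := Subgroup.mem_inf.mp hc
        set d := c⁻¹ * w with hd
        have hdV : d ∈ V := V.mul_mem (V.inv_mem hcV) (hWV hwW)
        have hdp : d ^ p = 1 := hVel.2 d hdV
        have hdC : d ∈ centralizer ((T : Subgroup H) : Set H) :=
          mem_centralizer_iff.mpr fun t ht => mul_inv_eq_iff_eq_mul.mp (hfix t ht)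
        have hdT : d ∈ (T : Subgroup H) := by
          have h1 : IsPGroup p ↥(zpowers d) := fun x => ⟨1, Subtype.ext (by
            obtain ⟨i, hi⟩ := Subgroup.mem_zpowers_iff.mp x.2
            rw [SubgroupClass.coe_pow, pow_one, ← hi, ← zpow_natCast, zpow_comm, zpow_natCast, hdp, one_zpow,
              Subgroup.coe_one])⟩
          exact (T.is_maximal' (IsPGroup.to_sup_of_normal_left' h1 T.2 (by
            refine le_trans ?_ (centralizer_le_normalizer _)
            rw [le_centralizer_iff]
            exact zpowers_le.mpr hdC)) le_sup_right).le (mem_sup_left (mem_zpowers d))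
        have hdΩ : d ∈ Ω := CfsgLib.PGroups.mem_omegaOne (Subgroup.mem_inf.mpr ⟨hdT, hdC⟩) hdp
        have : w = c * d := by rw [hd, mul_inv_cancel_left]
        rw [this]
        exact mul_mem hcC (le_centralizer_iff.mp (inf_le_right : K ≤ centralizer (Ω : Set H)) hdΩ)
    have hWK : W ≤ centralizer (K : Set H) := fun w hw =>
      key n le_rfl (Subgroup.mem_inf.mpr ⟨hw, ⟨⟨w, hWT hw⟩, by simp, rfl⟩⟩)
    exact le_inf inf_le_left (le_centralizer_iff.mp hWK)
  · set V := centerClosure p H with hV
    haveI : V.Normal := centerClosure_normal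
    have hVel := (isPReducedNormal_centerClosure hH).2.1
    intro x hx
    obtain ⟨hxL, hxW⟩ := Subgroup.mem_inf.mp hx
    refine Subgroup.mem_inf.mpr ⟨hxL, mem_centralizer_iff.mpr fun a ha => ?_⟩
    have haV : a ∈ V := le_iSup (fun S : Sylow p H => omegaCenter p (S : Subgroup H)) T ha
    have haT : ∀ s ∈ (P : Subgroup ↥L), (s : H) * a = a * s := fun s hs =>
      mem_centralizer_iff.mp (omegaCenter_le _ ha).2 _ (hP.le (mem_map_of_mem L.subtype hs)).1
    have h1 := mem_sup_of_averaging V L hVel (CfsgLib.Core.le_normalizer_of_normal L V) P haV haT (V ⊓ L)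
      fun r hr => Subgroup.mem_inf.mpr ⟨V.mul_mem (Subgroup.Normal.conj_mem inferInstance a haV r) (V.inv_mem haV), by
        rw [show r * a * r⁻¹ * a⁻¹ = r * (a * r⁻¹ * a⁻¹) by group]
        exact L.mul_mem hr (Subgroup.Normal.conj_mem inferInstance _ (L.inv_mem hr) a)⟩
    obtain ⟨c, hc, d, hd, rfl⟩ := Subgroup.mem_sup_of_normal_right.mp h1
    obtain ⟨hdV, hdL⟩ := Subgroup.mem_inf.mp hd
    obtain ⟨hcV, hcC⟩ := Subgroup.mem_inf.mp hc
    have hdT : d ∈ (T : Subgroup H) := CfsgLib.Core.pCore_le_sylow T (centerClosure_le_center_pCore hH hdV).1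
    have hdW : d ∈ W := by
      refine CfsgLib.PGroups.mem_omegaOne (Subgroup.mem_inf.mpr ⟨Subgroup.mem_inf.mpr ⟨hdT, hdL⟩,
        mem_centralizer_iff.mpr fun s hs => ?_⟩) (hVel.2 d hdV)
      obtain ⟨s', hs', rfl⟩ := hP.ge hs
      have e1 : (s' : H) * (c * d) = c * d * s' := haT s' hs'
      have e2 : (s' : H) * c = c * s' := mem_centralizer_iff.mp hcC s' s'.2
      show (s' : H) * d = d * s'
      rw [← mul_assoc, e2, mul_assoc, mul_assoc] at e1
      exact mul_left_cancel e1
    have e2 : x * c = c * x := mem_centralizer_iff.mp hcC x hxL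
    have e3 : d * x = x * d := mem_centralizer_iff.mp hxW d hdW
    rw [mul_assoc, e3, ← mul_assoc, ← e2, mul_assoc]

/-- Kieler's Lemma. -/
theorem kieler (hH : centralizer (Cfsg.pCore p H : Set H) ≤ Cfsg.pCore p H) (T : Sylow p H)
    {L : Subgroup H} (hL : L.IsSubnormal) :
    L ⊓ centralizer (omegaCenter p (T : Subgroup H) : Set H) =
      L ⊓ centralizer (omegaCenter p ((T : Subgroup H) ⊓ L) : Set H) := by
  suffices h : (∃ P : Sylow p ↥L, (P : Subgroup ↥L).map L.subtype = (T : Subgroup H) ⊓ L) ∧
      L ⊓ centralizer (omegaCenter p (T : Subgroup H) : Set H) =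
        L ⊓ centralizer (omegaCenter p ((T : Subgroup H) ⊓ L) : Set H) from h.2
  induction hL with
  | top => exact ⟨exists_sylow_inf T ⊤, by rw [inf_top_eq]⟩
  | step A B hle hB hn ih =>
    obtain ⟨⟨P, hP⟩, hBe⟩ := ih
    haveI := hn
    obtain ⟨Q, hQ⟩ := exists_sylow_inf P (A.subgroupOf B)
    have hA' : (A.subgroupOf B).map B.subtype = A := map_subgroupOf_eq_of_le hle
    have hPA : ((P : Subgroup ↥B) ⊓ A.subgroupOf B).map B.subtype = (T : Subgroup H) ⊓ A := by
      rw [Subgroup.map_inf _ _ _ B.subtype_injective, hP, hA', inf_assoc, inf_eq_right.mpr hle]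
    refine ⟨?_, ?_⟩
    · refine ⟨Q.mapSurjective (f := (Subgroup.subgroupOfEquivOfLe hle).toMonoidHom)
        (Subgroup.subgroupOfEquivOfLe hle).surjective, ?_⟩
      rw [← hPA, ← hQ]
      show ((Q : Subgroup ↥(A.subgroupOf B)).map (Subgroup.subgroupOfEquivOfLe hle).toMonoidHom).map A.subtype = _
      rw [map_map, map_map]
      rfl
    have hBc : centralizer (Cfsg.pCore p ↥B : Set ↥B) ≤ Cfsg.pCore p ↥B :=
      (hasCharP_iff B).mp ((hasCharP_top_iff.mpr hH).of_subnormal hB)
    have h := congrArg (Subgroup.map B.subtype) (kieler_normal hBc P (A.subgroupOf B))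
    rw [Subgroup.map_inf _ _ _ B.subtype_injective, Subgroup.map_inf _ _ _ B.subtype_injective, map_centralizer_eq,
      map_centralizer_eq, hA', map_omegaCenter B.subtype B.subtype_injective,
      map_omegaCenter B.subtype B.subtype_injective, hP, hPA, ← inf_assoc, ← inf_assoc, inf_eq_left.mpr hle] at h
    rw [← h]
    calc A ⊓ centralizer (omegaCenter p (T : Subgroup H) : Set H)
        = A ⊓ (B ⊓ centralizer (omegaCenter p (T : Subgroup H) : Set H)) := by rw [← inf_assoc, inf_eq_left.mpr hle]
      _ = _ := by rw [hBe, ← inf_assoc, inf_eq_left.mpr hle]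

end CfsgLib.LocalEven

namespace CfsgLib.LocalEven

open Subgroup CfsgLib.LocalEvenB
open scoped commutatorElement

variable {H : Type*} [Group H] [Finite H] {p : ℕ} [hp : Fact p.Prime]

theorem exists_sylow_inf_subnormal (T : Sylow p H) {L : Subgroup H} (hL : L.IsSubnormal) :
    ∃ P : Sylow p ↥L, (P : Subgroup ↥L).map L.subtype = (T : Subgroup H) ⊓ L := by
  induction hL with
  | top => exact exists_sylow_inf T ⊤
  | step A B hle hB hn ih =>
    obtain ⟨P, hP⟩ := ih
    haveI := hn
    obtain ⟨Q, hQ⟩ := exists_sylow_inf P (A.subgroupOf B)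
    refine ⟨Q.mapSurjective (f := (Subgroup.subgroupOfEquivOfLe hle).toMonoidHom)
      (Subgroup.subgroupOfEquivOfLe hle).surjective, ?_⟩
    have hPA : ((P : Subgroup ↥B) ⊓ A.subgroupOf B).map B.subtype = (T : Subgroup H) ⊓ A := by
      rw [Subgroup.map_inf _ _ _ B.subtype_injective, hP, map_subgroupOf_eq_of_le hle, inf_assoc,
        inf_eq_right.mpr hle]
    rw [← hPA, ← hQ]
    show ((Q : Subgroup ↥(A.subgroupOf B)).map (Subgroup.subgroupOfEquivOfLe hle).toMonoidHom).map A.subtype = _
    rw [map_map, map_map]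
    rfl

theorem omegaCenter_ne_bot {S : Subgroup H} (hS : IsPGroup p S) (hne : S ≠ ⊥) : omegaCenter p S ≠ ⊥ := by
  haveI : Nontrivial S := (Subgroup.nontrivial_iff_ne_bot S).mpr hne
  haveI := hS.center_nontrivial
  obtain ⟨k, hk⟩ := (hS.to_subgroup (center S)).exists_card_eq
  have hdvd : p ∣ Nat.card (center S) := by
    rcases Nat.eq_zero_or_pos k with rfl | hk0
    · have := (Finite.one_lt_card_iff_nontrivial (α := center S)).mpr inferInstance
      simp [hk] at this
    · rw [hk]; exact dvd_pow_self p hk0.ne'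
  obtain ⟨z, hz⟩ := exists_prime_orderOf_dvd_card' p hdvd
  refine Subgroup.ne_bot_iff_exists_ne_one.mpr ⟨⟨((z : S) : H), CfsgLib.PGroups.mem_omegaOne
    (Subgroup.mem_inf.mpr ⟨(z : S).2, mem_centralizer_iff.mpr fun x hx =>
      congrArg Subtype.val (mem_center_iff.mp z.2 ⟨x, hx⟩)⟩) ?_⟩, fun e => ?_⟩
  · rw [← hz, ← orderOf_coe, ← orderOf_coe, pow_orderOf_eq_one]
  · have : z = 1 := Subtype.ext (Subtype.ext (congrArg Subtype.val e :))
    rw [this, orderOf_one] at hz
    exact hp.out.one_lt.ne hz

/-- Kieler's Lemma in a group with all `p`-local subgroups of characteristic `p`. -/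
theorem kieler_local (hloc : ∀ X : Subgroup H, IsPGroup p X → X ≠ ⊥ → HasCharP p (normalizer (X : Set H)))
    (T : Sylow p H) {L : Subgroup H} (hL : L.IsSubnormal) (hne : (T : Subgroup H) ⊓ L ≠ ⊥) :
    L ⊓ centralizer (omegaCenter p (T : Subgroup H) : Set H) =
      L ⊓ centralizer (omegaCenter p ((T : Subgroup H) ⊓ L) : Set H) := by
  induction hL with
  | top => rw [inf_top_eq]
  | step A B hle hB hn ih =>
    haveI := hn
    have hneB : (T : Subgroup H) ⊓ B ≠ ⊥ := fun e => hne (le_bot_iff.mp (e ▸ inf_le_inf_left _ hle))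
    set SB := (T : Subgroup H) ⊓ B with hSB
    set SA := (T : Subgroup H) ⊓ A with hSA
    have hBA : B ≤ normalizer (A : Set H) := (normal_subgroupOf_iff_le_normalizer hle).mp hn
    obtain ⟨P, hP⟩ := exists_sylow_inf_subnormal T hB
    have hSBn : SB ≤ normalizer (SA : Set H) := by
      have := (le_inf (inf_le_left.trans le_normalizer : SB ≤ normalizer ((T : Subgroup H) : Set H))
        (inf_le_right.trans hBA)).trans (inf_normalizer_le_normalizer_inf)
      exact this
    have aux : ∀ X : Subgroup H, IsPGroup p X → X ≠ ⊥ → SB ≤ normalizer (X : Set H) →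
        A ⊓ normalizer (X : Set H) ⊓ centralizer (omegaCenter p SB : Set H) =
          A ⊓ normalizer (X : Set H) ⊓ centralizer (omegaCenter p SA : Set H) := by
      intro X hX hX1 hSX
      set N := normalizer (X : Set H) with hN
      set M := B ⊓ N with hM
      have hMc : HasCharP p M := by
        have key : ∀ C : Subgroup H, C.IsSubnormal → HasCharP p (C ⊓ N) := by
          intro C hC
          induction hC with
          | top => rw [top_inf_eq]; exact hloc X hX hX1
          | step C D hCD _ hn' ih' =>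
            refine ih'.of_normalized (inf_le_inf_right _ hCD) ((LocalEvenB.pCoreOf_le _).trans ?_)
            exact ((inf_le_inf ((normal_subgroupOf_iff_le_normalizer hCD).mp hn') le_normalizer)).trans
              inf_normalizer_le_normalizer_inf
        exact key B hB
      have hSM : SB ≤ M := le_inf inf_le_right hSX
      obtain ⟨Q, hQ⟩ := ((T.2.to_le inf_le_left : IsPGroup p SB).comap_of_injective _ M.subtype_injective :
        IsPGroup p (SB.subgroupOf M)).exists_le_sylow
      have hQe : (Q : Subgroup ↥M).map M.subtype = SB := by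
        refine (eq_of_le_of_card_ge ?_ ?_).symm
        · rw [← map_subgroupOf_eq_of_le hSM]; exact map_mono hQ
        · have h1 : IsPGroup p ↥(((Q : Subgroup ↥M).map M.subtype).subgroupOf B) :=
            (Q.2.map _).comap_of_injective _ B.subtype_injective
          obtain ⟨P', hP'⟩ := h1.exists_le_sylow
          have h2 := card_le_of_le hP'
          rw [Nat.card_congr (subgroupOfEquivOfLe ((map_subtype_le _).trans inf_le_left)).toEquiv,
            Sylow.card_eq_multiplicity P', ← Sylow.card_eq_multiplicity P] at h2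
          rwa [hSB, ← hP, card_map_of_injective B.subtype_injective]
      haveI : (A.subgroupOf M).Normal := by
        haveI : ((A ⊓ M).subgroupOf M).Normal := normal_subgroupOf_of_le_normalizer
          ((le_inf (inf_le_left.trans hBA) le_normalizer).trans inf_normalizer_le_normalizer_inf)
        rwa [inf_subgroupOf_right] at this
      have hA' : (A.subgroupOf M).map M.subtype = A ⊓ N := by
        rw [subgroupOf_map_subtype, hM, ← inf_assoc, inf_eq_left.mpr hle]
      have hSA' : ((Q : Subgroup ↥M) ⊓ A.subgroupOf M).map M.subtype = SA := by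
        rw [Subgroup.map_inf _ _ _ M.subtype_injective, hQe, hA', hSB, hSA]
        refine le_antisymm (le_inf (inf_le_left.trans inf_le_left) (inf_le_right.trans inf_le_left))
          (le_inf (inf_le_inf_left _ hle) (le_inf inf_le_right ((inf_le_inf_left _ hle).trans hSX)))
      have h := congrArg (Subgroup.map M.subtype) (kieler_normal ((hasCharP_iff M).mp hMc) Q (A.subgroupOf M))
      rw [Subgroup.map_inf _ _ _ M.subtype_injective, Subgroup.map_inf _ _ _ M.subtype_injective, map_centralizer_eq,
        map_centralizer_eq, hA', map_omegaCenter M.subtype M.subtype_injective,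
        map_omegaCenter M.subtype M.subtype_injective, hQe, hSA'] at h
      have e : A ⊓ N ≤ M := inf_le_inf_right N hle
      clear_value M
      rw [← inf_assoc, ← inf_assoc, inf_eq_left.mpr e] at h
      exact h
    have hXA := omegaCenter_ne_bot (p := p) (T.2.to_le inf_le_left) hne
    have hXB := omegaCenter_ne_bot (p := p) (T.2.to_le inf_le_left) hneB
    have nA : SB ≤ normalizer (omegaCenter p SA : Set H) := fun g hg => by
      rw [mem_normalizer_conj_iff, omegaCenter, omegaZ_conj, mem_normalizer_conj_iff.mp (hSBn hg)]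
    have nB : SB ≤ normalizer (omegaCenter p SB : Set H) :=
      (omegaCenter_le_centralizer SB).trans (centralizer_le_normalizer _)
    have e1 : A ⊓ centralizer (omegaCenter p SB : Set H) = A ⊓ centralizer (omegaCenter p SA : Set H) := by
      refine le_antisymm (le_inf inf_le_left ?_) (le_inf inf_le_left ?_)
      · refine (le_inf (le_inf inf_le_left (inf_le_right.trans (centralizer_le_normalizer _))) inf_le_right).trans
          ((aux _ (T.2.to_le ((omegaCenter_le SB).trans (inf_le_left.trans inf_le_left))) hXB nB).le.trans inf_le_right)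
      · refine (le_inf (le_inf inf_le_left (inf_le_right.trans (centralizer_le_normalizer _))) inf_le_right).trans
          ((aux _ (T.2.to_le ((omegaCenter_le SA).trans (inf_le_left.trans inf_le_left))) hXA nA).ge.trans inf_le_right)
    calc A ⊓ centralizer (omegaCenter p (T : Subgroup H) : Set H)
        = A ⊓ (B ⊓ centralizer (omegaCenter p (T : Subgroup H) : Set H)) := by rw [← inf_assoc, inf_eq_left.mpr hle]
      _ = A ⊓ (B ⊓ centralizer (omegaCenter p SB : Set H)) := by rw [ih hneB]
      _ = _ := by rw [← inf_assoc, inf_eq_left.mpr hle, e1]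

/-- A subnormal subgroup containing one Sylow subgroup contains all. -/
theorem sylow_le_of_subnormal {A : Subgroup H} (hA : A.IsSubnormal) (Q : Sylow p H) (hQ : (Q : Subgroup H) ≤ A)
    (Q' : Sylow p H) : (Q' : Subgroup H) ≤ A := by
  induction hA with
  | top => exact le_top
  | step A B hle _ hn ih =>
    have h1 : (Q' : Subgroup H) ≤ B := ih (hQ.trans hle)
    obtain ⟨g, hg⟩ := MulAction.exists_smul_eq ↥B (Q.subtype (hQ.trans hle)) (Q'.subtype h1)
    have h2 := congrArg (fun R : Sylow p ↥B => (R : Subgroup ↥B).map B.subtype) hg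
    simp only [Sylow.coe_subgroup_smul, Sylow.coe_subtype] at h2
    rw [map_subgroupOf_eq_of_le h1] at h2
    rw [← h2]
    rintro _ ⟨_, ⟨q, hq, rfl⟩, rfl⟩
    exact hn.conj_mem q (hQ hq) g

end CfsgLib.LocalEven
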