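/-
Large primitive prime divisors (Feit): the bound on the cyclotomic value when there is none.
-/
import Mathlib
import Cfsg.Agent.Lib.LocalEven.Zsigmondy

set_option autoImplicit false
set_option linter.all false

namespace CfsgLib.LargePpd

open CfsgLib.Zsigmondy Polynomial

/-- A primitive prime divisor of `q ^ n - 1` is large. -/
def Large (q n : ℕ) : Prop :=
  ∃ p : ℕ, p.Prime ∧ p ∣ q ^ n - 1 ∧ (∀ i : ℕ, 1 ≤ i → i < n → ¬ p ∣ q ^ i - 1) ∧
    (n + 1 < p ∨ p ^ 2 ∣ q ^ n - 1)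

theorem large_of_witness {q n p : ℕ} (hp : p.Prime) (h1 : p ∣ q ^ n - 1)
    (h2 : ∀ i < n, i = 0 ∨ ¬ p ∣ q ^ i - 1) (h3 : n + 1 < p ∨ p ^ 2 ∣ q ^ n - 1) : Large q n :=
  ⟨p, hp, h1, fun i hi hin => (h2 i hin).resolve_left (by omega), h3⟩

theorem le_two_mul_totient_sq (m : ℕ) :
    m ≤ 2 * Nat.totient m ^ 2 ∧ (Odd m → m ≤ Nat.totient m ^ 2) := by
  induction m using Nat.recOnPrimeCoprime with
  | zero => simp
  | prime_pow p e hp =>
    rcases e with _ | e
    · simp
    rw [Nat.totient_prime_pow hp (Nat.succ_pos e), Nat.succ_sub_one]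
    obtain ⟨t, ht⟩ : ∃ t, p = t + 2 := ⟨p - 2, by have := hp.two_le; omega⟩
    have he : 1 ≤ p ^ e := Nat.one_le_pow _ _ hp.pos
    have key : 3 ≤ p → p ^ (e + 1) ≤ (p ^ e * (p - 1)) ^ 2 := by
      intro h3
      have hp2 : p ≤ (p - 1) ^ 2 := by
        subst ht
        rw [show t + 2 - 1 = t + 1 from rfl]
        nlinarith
      calc p ^ (e + 1) = p ^ e * 1 * p := by ring
        _ ≤ p ^ e * p ^ e * (p - 1) ^ 2 := by gcongr
        _ = (p ^ e * (p - 1)) ^ 2 := by ring
    refine ⟨?_, fun ho => key ?_⟩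
    · rcases Nat.lt_or_ge p 3 with h | h
      · obtain rfl : p = 2 := by have := hp.two_le; omega
        calc 2 ^ (e + 1) = 2 * (2 ^ e * 1) := by ring
          _ ≤ 2 * (2 ^ e * 2 ^ e) := by gcongr
          _ = 2 * (2 ^ e * (2 - 1)) ^ 2 := by norm_num; ring
      · exact (key h).trans (Nat.le_mul_of_pos_left _ (by norm_num))
    · rcases Nat.lt_or_ge p 3 with h | h
      · obtain rfl : p = 2 := by have := hp.two_le; omega
        exact absurd ho (Nat.not_odd_iff_even.2 ((even_two).pow_of_ne_zero e.succ_ne_zero))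
      · exact h
  | coprime a b ha hb hab iha ihb =>
    rw [Nat.totient_mul hab]
    refine ⟨?_, fun ho => ?_⟩
    · rcases Nat.even_or_odd a with he | ho
      · have hbo : Odd b := by
          rcases Nat.even_or_odd b with h | h
          · exfalso
            have := Nat.dvd_gcd he.two_dvd h.two_dvd
            rw [hab.gcd_eq_one] at this
            norm_num at this
          · exact h
        calc a * b ≤ (2 * Nat.totient a ^ 2) * Nat.totient b ^ 2 :=
              Nat.mul_le_mul iha.1 (ihb.2 hbo)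
          _ = _ := by ring
      · calc a * b ≤ Nat.totient a ^ 2 * (2 * Nat.totient b ^ 2) :=
              Nat.mul_le_mul (iha.2 ho) ihb.1
          _ = _ := by ring
    · obtain ⟨hoa, hob⟩ := Nat.odd_mul.1 ho
      calc a * b ≤ Nat.totient a ^ 2 * Nat.totient b ^ 2 := Nat.mul_le_mul (iha.2 hoa) (ihb.2 hob)
        _ = _ := by ring

/-- Without a large primitive prime divisor `Φ_n(q)` is small: here `n = r ^ (k + 1) * m` with `r`
the largest prime divisor of `n`. -/
theorem bound {q n : ℕ} (hq : 2 ≤ q) (hn : 2 < n) (hno : ¬ Large q n) :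
    ∃ r k m : ℕ, r.Prime ∧ n = r ^ (k + 1) * m ∧ ¬ r ∣ m ∧ 0 < m ∧
      (∀ s : ℕ, s.Prime → s ∣ m → s < r) ∧
      ((q ^ r ^ k) ^ (r - 2) * (q ^ r ^ k - 1)) ^ Nat.totient m ≤ r * (n + 1) ∧
      (r = 2 → q ^ 2 ^ k + 1 ≤ 2 * (n + 1)) := by
  have hne : n.primeFactors.Nonempty := Nat.nonempty_primeFactors.2 (by omega)
  set r := n.primeFactors.max' hne with hrdef
  have hrmem := n.primeFactors.max'_mem hne
  have hr : r.Prime := Nat.prime_of_mem_primeFactors hrmem
  have hrn : r ∣ n := Nat.dvd_of_mem_primeFactors hrmem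
  have hmax : ∀ s : ℕ, s.Prime → s ∣ n → s ≤ r := fun s hs hsn =>
    n.primeFactors.le_max' s (Nat.mem_primeFactors.2 ⟨hs, hsn, by omega⟩)
  obtain ⟨e, m, hm, hnm⟩ := Nat.exists_eq_pow_mul_and_not_dvd (by omega : n ≠ 0) r hr.ne_one
  obtain ⟨k, rfl⟩ : ∃ k, e = k + 1 := ⟨e - 1, by
    rcases e with _ | e
    · simp at hnm; exact absurd (hnm ▸ hrn) hm
    · omega⟩
  have hm0 : 0 < m := Nat.pos_of_ne_zero fun h => hm (h ▸ dvd_zero r)
  have hmlt : ∀ s : ℕ, s.Prime → s ∣ m → s < r := fun s hs hsm =>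
    lt_of_le_of_ne (hmax s hs (hnm ▸ dvd_mul_of_dvd_right hsm _)) (fun h => hm (h ▸ hsm))
  refine ⟨r, k, m, hr, hnm, hm, hm0, hmlt, ?_⟩
  have hpos := cycVal_pos n (a := q) (by omega)
  obtain ⟨Φ, hΦ⟩ : ∃ Φ : ℕ, cycVal n q = (Φ : ℤ) := ⟨_, (Int.natAbs_of_nonneg hpos.le).symm⟩
  set b := q ^ r ^ k with hb
  have hb2 : 1 < b := Nat.one_lt_pow (pow_pos hr.pos k).ne' (by omega)
  have hval : cycVal n q = cycVal (r * m) b := by rw [hnm, cycVal_prime_pow_mul hr k q]
  have hdvdq : Φ ∣ q ^ n - 1 := by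
    rw [← Int.natCast_dvd_natCast, ← hΦ, Nat.cast_sub (Nat.one_le_pow _ _ (by omega))]
    have := (Polynomial.evalRingHom (q : ℤ)).map_dvd (cyclotomic.dvd_X_pow_sub_one n ℤ)
    simpa [cycVal] using this
  -- prime divisors of `Φ`
  have hprimes : ∀ s : ℕ, s.Prime → s ∣ Φ → (s = r ∨ s = n + 1) ∧ ¬ s ^ 2 ∣ Φ := by
    intro s hs hsd
    haveI := Fact.mk hs
    have hd : (s : ℤ) ∣ cycVal n q := hΦ ▸ Int.natCast_dvd_natCast.mpr hsd
    obtain ⟨l, m', hm', hnm'⟩ := Nat.exists_eq_pow_mul_and_not_dvd (by omega : n ≠ 0) s hs.ne_one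
    have hprim := orderOf_of_dvd hnm' hm' hd
    have hm'0 : 0 < m' := Nat.pos_of_ne_zero fun h => hm' (h ▸ dvd_zero s)
    have hq0 : (q : ZMod s) ≠ 0 := hprim.ne_zero hm'0.ne'
    have hm's : m' ∣ s - 1 := hprim.eq_orderOf ▸ ZMod.orderOf_dvd_card_sub_one hq0
    rcases l with _ | l
    · rw [pow_zero, one_mul] at hnm'
      subst hnm'
      have hsub : ∀ j : ℕ, s ∣ q ^ j - 1 ↔ n ∣ j := fun j => by
        rw [← ZMod.natCast_eq_zero_iff, Nat.cast_sub (Nat.one_le_pow _ _ (by omega)), Nat.cast_pow,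
          Nat.cast_one, sub_eq_zero, hprim.pow_eq_one_iff_dvd]
      have hsmall : ¬ (n + 1 < s ∨ s ^ 2 ∣ q ^ n - 1) := fun h =>
        hno ⟨s, hs, (hsub n).2 dvd_rfl, fun i hi hin hd' =>
          absurd (Nat.le_of_dvd hi ((hsub i).1 hd')) (by omega), h⟩
      push Not at hsmall
      have := Nat.le_of_dvd (by have := hs.two_le; omega) hm's
      exact ⟨Or.inr (by omega), fun h => hsmall.2 (h.trans hdvdq)⟩
    · have hsr : s = r := by
        by_contra hne
        have hrm' : r ∣ m' := by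
          rcases hr.dvd_mul.mp (hnm' ▸ hrn) with h | h
          · exact absurd ((Nat.prime_dvd_prime_iff_eq hr hs).mp (hr.dvd_of_dvd_pow h)).symm hne
          · exact h
        have h1 := Nat.le_of_dvd (by have := hs.two_le; omega) (hrm'.trans hm's)
        have h2 := hmax s hs (hnm' ▸ dvd_mul_of_dvd_left (dvd_pow_self s l.succ_ne_zero) _)
        omega
      subst hsr
      refine ⟨Or.inl rfl, fun h => ?_⟩
      have h' : (r : ℤ) ^ 2 ∣ cycVal (r * m) b := by
        rw [← hval, hΦ]; exact_mod_cast h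
      have hmm : m' = m := by
        have e1 : r ^ (l + 1) * m' = r ^ (k + 1) * m := hnm'.symm.trans hnm
        have h3 := congrArg (fun x => x.factorization r) e1
        simp only [Nat.factorization_mul (pow_ne_zero _ hr.ne_zero) hm'0.ne',
          Nat.factorization_mul (pow_ne_zero _ hr.ne_zero) hm0.ne', hr.factorization_pow,
          Finsupp.add_apply, Finsupp.single_eq_same,
          Nat.factorization_eq_zero_of_not_dvd hm, Nat.factorization_eq_zero_of_not_dvd hm',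
          add_zero] at h3
        rw [h3] at e1
        exact Nat.eq_of_mul_eq_mul_left (pow_pos hr.pos _) e1
      subst hmm
      rcases hr.eq_two_or_odd' with h2 | hodd
      · have hm1 : m' = 1 := Nat.dvd_one.mp (by rw [h2] at hm's; exact hm's)
        subst hm1
        rw [h2, mul_one, show cycVal 2 b = (b : ℤ) + 1 by simp [cycVal, cyclotomic_two]] at h'
        have hk1 : k ≠ 0 := by rintro rfl; rw [h2] at hnm; omega
        obtain ⟨c, hc⟩ : ∃ c, b = c ^ 2 := by
          obtain ⟨k', rfl⟩ := Nat.exists_eq_succ_of_ne_zero hk1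
          exact ⟨q ^ r ^ k', by rw [hb, ← pow_mul, h2, ← pow_succ]⟩
        rw [hc] at h'
        have h4 : 4 ∣ c ^ 2 + 1 := by exact_mod_cast h'
        obtain ⟨t, ht⟩ := h4
        rcases Nat.even_or_odd c with ⟨u, hu⟩ | ⟨u, hu⟩
        · rw [hu, show (u + u) ^ 2 = 4 * (u * u) by ring] at ht; omega
        · rw [hu, show (2 * u + 1) ^ 2 = 4 * (u * u + u) + 1 by ring] at ht; omega
      · have hbm : (r : ℤ) ∣ (b : ℤ) ^ m' - 1 := by
          rw [← ZMod.intCast_zmod_eq_zero_iff_dvd]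
          push_cast [hb]
          rw [← pow_mul, mul_comm, pow_mul, hprim.pow_eq_one, one_pow, sub_self]
        have hbm1 : (b : ℤ) ^ m' ≠ 1 := by
          have : 1 < b ^ m' := Nat.one_lt_pow hm0.ne' hb2
          exact_mod_cast this.ne'
        exact (sq_not_dvd hr hodd hm0 hbm).elim (fun h'' => h'' h') hbm1
  have hdvd : Φ ∣ r * (n + 1) := by
    refine (Nat.dvd_iff_prime_pow_dvd_dvd _ _).2 fun s e hs hd => ?_
    rcases e with _ | _ | e
    · simp
    · rw [pow_one] at hd ⊢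
      rcases (hprimes s hs hd).1 with rfl | rfl
      · exact dvd_mul_right _ _
      · exact dvd_mul_left _ _
    · exact absurd ((pow_dvd_pow s (by omega)).trans hd)
        (hprimes s hs ((dvd_pow_self s (by omega)).trans hd)).2
  have hΦle : Φ ≤ r * (n + 1) :=
    Nat.le_of_dvd (Nat.mul_pos hr.pos (Nat.succ_pos n)) hdvd
  refine ⟨?_, fun h2 => ?_⟩
  · set f := Nat.totient m with hf
    have hprod := cycVal_mul_not_dvd (a := b) hr hm
    rw [mul_comm m r, ← hval, hΦ] at hprod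
    have hR : ((Φ : ℕ) : ℝ) * (cyclotomic m ℝ).eval (b : ℝ) =
        (cyclotomic m ℝ).eval ((b ^ r : ℕ) : ℝ) := by
      rw [← cycVal_cast, ← cycVal_cast, ← hprod]; push_cast; ring
    have hbR : (1 : ℝ) < (b : ℝ) := by exact_mod_cast hb2
    have hbrR : (1 : ℝ) < ((b ^ r : ℕ) : ℝ) := by exact_mod_cast Nat.one_lt_pow hr.ne_zero hb2
    have h1 := sub_one_pow_totient_le_cyclotomic_eval hbrR m
    have h2 := cyclotomic_eval_le_add_one_pow_totient hbR m
    rw [← hR] at h1
    have h3 : (((b ^ r - 1 : ℕ) : ℝ)) ^ f ≤ (Φ : ℝ) * ((b + 1 : ℕ) : ℝ) ^ f := by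
      rw [Nat.cast_sub (Nat.one_le_pow _ _ (by omega))]
      push_cast
      push_cast at h1
      exact h1.trans (mul_le_mul_of_nonneg_left h2 (Nat.cast_nonneg _))
    have h4 : (b ^ r - 1) ^ f ≤ Φ * (b + 1) ^ f := by exact_mod_cast h3
    have h5 : b ^ (r - 2) * (b - 1) * (b + 1) ≤ b ^ r - 1 := by
      obtain ⟨c, hc⟩ : ∃ c, b = c + 1 := ⟨b - 1, by omega⟩
      obtain ⟨s, hs⟩ : ∃ s, r = s + 2 := ⟨r - 2, by have := hr.two_le; omega⟩
      have e : b ^ r = b ^ s * (c * (c + 2)) + b ^ s := by rw [hs, hc]; ring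
      have hbs : 1 ≤ b ^ s := Nat.one_le_pow _ _ (by omega)
      rw [show r - 2 = s by omega, show b - 1 = c by omega, show b + 1 = c + 2 by omega, mul_assoc]
      omega
    have h6 := (Nat.pow_le_pow_left h5 f).trans h4
    rw [mul_pow] at h6
    exact (Nat.le_of_mul_le_mul_right h6 (pow_pos (by omega) f)).trans hΦle
  · have hm1 : m = 1 := by
      by_contra hne
      obtain ⟨s, hs, hsm⟩ := Nat.exists_prime_and_dvd hne
      have := hmlt s hs hsm
      have := hs.two_le
      omega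
    rw [hm1, mul_one, h2, show cycVal 2 b = (b : ℤ) + 1 by simp [cycVal, cyclotomic_two], hΦ] at hval
    have : Φ = b + 1 := by exact_mod_cast hval
    rw [hb, h2] at this
    rw [this, h2] at hΦle
    exact hΦle

end CfsgLib.LargePpd
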