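import Cfsg.Agent.Lib.LocalEven.Factor
import Cfsg.Agent.Lib.Components.Quasisimple
import Cfsg.Agent.Lib.Core.Cores

/-! `p`-groups acting on a quasisimple `O^p`; weak closures acting on commutators. -/

namespace CfsgLib.LocalEven

open Subgroup
open scoped commutatorElement

variable {G : Type*} [Group G] [Finite G] {p : ℕ} [Fact p.Prime]

/-- If `O_p(G) = 1` and `O^p(G)` is quasisimple, a nontrivial `p`-subgroup moves all of `O^p(G)`. -/
theorem commutator_residual_eq (hred : Cfsg.pCore p G = ⊥)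
    (hqs : Cfsg.IsQuasisimple ↥(Cfsg.pResidual p G)) {Y : Subgroup G} (hY : IsPGroup p Y)
    (hY1 : Y ≠ ⊥) : ⁅Cfsg.pResidual p G, Y⁆ = Cfsg.pResidual p G := by
  set L := Cfsg.pResidual p G with hL
  haveI hLn : L.Normal := CfsgLib.Transfer.pResidual_normal
  have hD : ⁅L, Y⁆ ≤ L := commutator_le_left L Y
  haveI hDn : (⁅L, Y⁆.subgroupOf L).Normal :=
    (normal_subgroupOf_iff_le_normalizer hD).mpr (normalizer_commutator_ge_left L Y)
  rcases CfsgLib.Components.IsQuasisimple.normal_le_center_or_eq_top hqs hDn with hc | ht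
  swap
  · exact le_antisymm hD (subgroupOf_eq_top.mp ht)
  have h1 : ⁅⁅L, Y⁆, L⁆ = ⊥ := by
    rw [eq_bot_iff, commutator_le]
    intro a ha b hb
    rw [mem_bot, commutatorElement_eq_one_iff_mul_comm]
    exact (congrArg Subtype.val (mem_center_iff.mp (hc (show (⟨a, hD ha⟩ : ↥L) ∈ _ from ha)) ⟨b, hb⟩)).symm
  have h2 : ⁅⁅L, L⁆, Y⁆ = ⊥ := eq_bot_iff.mpr
    (CfsgLib.ClassSizes.three_subgroup_le ⊥ h1.le (by rw [commutator_comm Y L]; exact h1.le))
  rw [CfsgLib.Components.IsQuasisimple.commutator_eq_self hqs, commutator_comm,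
    commutator_eq_bot_iff_le_centralizer] at h2
  refine absurd (eq_bot_iff.mpr ?_) hY1
  set Z := centralizer (L : Set G) with hZ
  haveI : Z.Normal := inferInstance
  have hker : ((QuotientGroup.mk' L).comp Z.subtype).ker ≤ center ↥Z := by
    intro z hz
    rw [MonoidHom.mem_ker, MonoidHom.comp_apply, QuotientGroup.mk'_apply, QuotientGroup.eq_one_iff] at hz
    exact mem_center_iff.mpr fun w => Subtype.ext (mem_centralizer_iff.mp w.2 _ hz).symm
  haveI : Group.IsNilpotent (G ⧸ L) := (CfsgLib.Transfer.isPGroup_quotient_pResidual (p := p)).isNilpotent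
  haveI hnil : Group.IsNilpotent ↥Z := Subgroup.isNilpotent_of_ker_le_center _ hker
  obtain ⟨P, hP⟩ := (hY.comap_of_injective Z.subtype Z.subtype_injective).exists_le_sylow
  haveI hPn : (P : Subgroup ↥Z).Normal :=
    Sylow.normal_of_normalizerCondition Group.normalizerCondition_of_isNilpotent P
  have h3 : Y.subgroupOf Z ≤ Cfsg.pCore p ↥Z := hP.trans (CfsgLib.Core.le_pCore P.2)
  rw [← map_subgroupOf_eq_of_le h2, ← hred]
  exact (map_mono h3).trans (CfsgLib.Core.map_subtype_pCore_le Z)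

omit [Fact p.Prime] in
/-- Commutating modulo a normal subgroup is inherited by weak closures. -/
theorem commutator_weakClosure_le [Fact p.Prime] {Q : Subgroup G} (hQ : IsPGroup p Q)
    (hwc : Cfsg.IsWeaklyClosedSubgroup p Q) {K X P : Subgroup G} (hQK : Q ≤ K)
    (hX : K ≤ normalizer (X : Set G)) (hP : K ≤ normalizer (P : Set G)) (h : ⁅X, Q⁆ ≤ P) :
    ⁅X, Cfsg.weakClosure Q K⁆ ≤ P := by
  have hKP : Cfsg.weakClosure Q K ≤ normalizer (P : Set G) := (weakClosure_le K).trans hP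
  let T : Subgroup G :=
    { carrier := {t | t ∈ K ∧ ∀ x ∈ X, x * t * x⁻¹ * t⁻¹ ∈ P}
      one_mem' := ⟨one_mem _, fun a _ => by simp⟩
      mul_mem' := by
        rintro s t ⟨hs, hs'⟩ ⟨ht, ht'⟩
        refine ⟨mul_mem hs ht, fun a ha => ?_⟩
        rw [show a * (s * t) * a⁻¹ * (s * t)⁻¹ =
          (a * s * a⁻¹ * s⁻¹) * (s * (a * t * a⁻¹ * t⁻¹) * s⁻¹) by group]
        exact mul_mem (hs' a ha) ((mem_normalizer_iff.mp (hP hs) _).mp (ht' a ha))
      inv_mem' := by
        rintro s ⟨hs, hs'⟩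
        refine ⟨inv_mem hs, fun a ha => ?_⟩
        rw [show a * s⁻¹ * a⁻¹ * s⁻¹⁻¹ = s⁻¹ * (a * s * a⁻¹ * s⁻¹)⁻¹ * s by group]
        exact (mem_normalizer_iff''.mp (hP hs) _).mp (inv_mem (hs' a ha)) }
  have hTn : K ≤ normalizer (T : Set G) := by
    intro l hl
    rw [mem_normalizer_conj_iff]
    refine eq_of_le_of_card_ge ?_ (card_map_of_injective (MulAut.conj l).injective).ge
    rintro _ ⟨t, ⟨ht, ht'⟩, rfl⟩
    refine ⟨mul_mem (mul_mem hl ht) (inv_mem hl), fun a ha => ?_⟩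
    show a * (l * t * l⁻¹) * a⁻¹ * (l * t * l⁻¹)⁻¹ ∈ P
    rw [show a * (l * t * l⁻¹) * a⁻¹ * (l * t * l⁻¹)⁻¹ =
      l * ((l⁻¹ * a * l) * t * (l⁻¹ * a * l)⁻¹ * t⁻¹) * l⁻¹ by group]
    exact (mem_normalizer_iff.mp (hP hl) _).mp (ht' _ ((mem_normalizer_iff''.mp (hX hl) a).mp ha))
  have := weakClosure_le_of_normalized hQ hwc hQK
    (fun q hq => (⟨hQK hq, fun a ha => h (commutator_mem_commutator ha hq)⟩ : q ∈ T)) hTn
  exact commutator_le.mpr fun a ha t ht => (this ht).2 a ha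

end CfsgLib.LocalEven
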