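import Cfsg.Agent.Lib.Sporadic.M24
import Cfsg.Agent.Lib.Core.Coprime
import Cfsg.Agent.Lib.LocalEven.M24SylowData

/-!
# The Sylow 2-subgroups of M24 are self-normalizing

* `normalizer_sylow_eq`
-/

set_option autoImplicit false

namespace CfsgLib.LocalEven.M24Sylow

open Cfsg
open CfsgLib.Sporadic
open scoped Pointwise

/-- The listed elements. -/
noncomputable def sylElts : List ℕ := sylBuckets.flatten

/-- The listed elements fixing the points of `V`. -/
noncomputable def sel (V : List ℕ) : List ℕ :=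
  sylElts.filter fun p => V.all fun v => Nat.beq (pget p v) v

/-- The orbit of the point `i` under the elements fixing `V`, as a mask. -/
noncomputable def orbM (V : List ℕ) (i : ℕ) : ℕ := bitmap (fun p => pget p i) (sel V)

theorem sylGens_isAut : sylGens.all isAut = true := by decide +kernel

theorem sylGens_lift : ∀ p ∈ sylGens, ∃ g : ↥M24, Rep (g : Equiv.Perm GolayPt) p := fun p hp =>
  exists_M24_elt (List.all_eq_true.1 sylGens_isAut p hp)

/-- The subgroup generated by the four generators. -/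
def syl : Subgroup ↥M24 :=
  Subgroup.closure {g | ∃ p ∈ sylGens, Rep (g : Equiv.Perm GolayPt) p}

/-- The position of `q` in a list, or the length of the list. -/
noncomputable def idxIn (q : ℕ) (l : List ℕ) : ℕ :=
  List.rec 0 (fun a _ ih => cond (Nat.beq q a) 0 (Nat.succ ih)) l

theorem idxIn_spec (q : ℕ) : ∀ (l : List ℕ) (h : idxIn q l < l.length), l[idxIn q l] = q
  | [], h => absurd h (Nat.not_lt_zero _)
  | a :: l, h => by
    cases e : Nat.beq q a with
    | true =>
      have he : idxIn q (a :: l) = 0 := by simp [idxIn, e]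
      simp only [he, List.getElem_cons_zero]
      exact (Nat.eq_of_beq_eq_true e).symm
    | false =>
      have he : idxIn q (a :: l) = idxIn q l + 1 := by simp [idxIn, e]
      simp only [he, List.getElem_cons_succ]
      exact idxIn_spec q l (by rw [he] at h; simpa using h)

/-- The code of a listed element: its bucket and its position there. -/
noncomputable def code (q : ℕ) : ℕ :=
  Nat.add (Nat.mul 65 (pget q 2)) (idxIn q (sylBuckets.getD (pget q 2) []))

/-- The codes of the listed elements. -/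
noncomputable def allCodes : ℕ := bitmap code sylElts

theorem buckets_shape : sylElts.all (fun p =>
    (sylBuckets.getD (pget p 2) []).any (Nat.beq p)) = true ∧
    sylBuckets.all (fun b => Nat.ble b.length 64) = true ∧
    countLt 1560 (fun i => allCodes.testBit i) = 1024 ∧ sylElts.length = 1024 := by
  decide +kernel

set_option maxRecDepth 100000 in
theorem walk_codes :
    bitmap code (walk (fun v j => pmul (sylGens.getD j pone) v) sylOps pone) = allCodes := by
  decide +kernel

theorem eq_of_code_eq {p q : ℕ} (hp : p ∈ sylElts) (h : code q = code p) : q = p := by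
  obtain ⟨h1, h2, -, -⟩ := buckets_shape
  simp only [List.all_eq_true, List.any_eq_true, Nat.beq_eq] at h1
  obtain ⟨x, hx, rfl⟩ := h1 p hp
  simp only [List.all_eq_true, Nat.ble_eq] at h2
  have hlen : ∀ k, (sylBuckets.getD k []).length ≤ 64 := by
    intro k
    by_cases hk : k < sylBuckets.length
    · rw [List.getD_eq_getElem _ _ hk]; exact h2 _ (List.getElem_mem hk)
    · rw [List.getD_eq_default _ _ (by omega)]; simp
  have hle : ∀ (x : ℕ) (l : List ℕ), idxIn x l ≤ l.length ∧ (x ∈ l → idxIn x l < l.length) := by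
    intro x l
    induction l with
    | nil => simp [idxIn]
    | cons a l ih =>
      cases e : Nat.beq x a with
      | true => simp [idxIn, e]
      | false =>
        have he : idxIn x (a :: l) = idxIn x l + 1 := by simp [idxIn, e]
        refine ⟨by rw [he]; simpa using ih.1, fun hm => ?_⟩
        rw [he]
        have hne : x ≠ a := fun h => by simp [h] at e
        simpa using ih.2 (by simpa [hne] using hm)
  set B := sylBuckets.getD (pget p 2) [] with hB
  have hp64 := lt_of_lt_of_le ((hle p B).2 hx) (hlen _)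
  have hq64 := (hle q (sylBuckets.getD (pget q 2) [])).1.trans (hlen _)
  simp only [code, Nat.add_eq, Nat.mul_eq, ← hB] at h
  have hk : pget q 2 = pget p 2 := by omega
  rw [hk, ← hB] at h
  have hi : idxIn q B = idxIn p B := by omega
  have a := idxIn_spec p B ((hle p B).2 hx)
  have b := idxIn_spec q B (by rw [hi]; exact (hle p B).2 hx)
  simp only [hi] at b
  exact b.symm.trans a

theorem exists_mem_syl {p : ℕ} (hp : p ∈ sylElts) :
    ∃ g ∈ syl, Rep (g : Equiv.Perm GolayPt) p := by
  have hb : allCodes.testBit (code p) = true := (testBit_bitmap _ _ _).2 ⟨p, hp, rfl⟩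
  rw [← walk_codes, testBit_bitmap] at hb
  obtain ⟨v, hv, hv'⟩ := hb
  obtain rfl := eq_of_code_eq hp hv'
  refine walk_mem (P := fun v => ∃ g ∈ syl, Rep (g : Equiv.Perm GolayPt) v) (fun w j => ?_)
    ⟨1, one_mem _, Rep.one⟩ v hv
  rintro ⟨g, hg, hr⟩
  by_cases hj : j < sylGens.length
  · obtain ⟨h, hh⟩ := sylGens_lift _ (List.getElem_mem hj)
    refine ⟨h * g, mul_mem (Subgroup.subset_closure ⟨_, List.getElem_mem hj, hh⟩) hg, ?_⟩
    rw [List.getD_eq_getElem _ _ hj]
    exact hh.mul hr
  · refine ⟨g, hg, ?_⟩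
    rw [List.getD_eq_default _ _ (by omega)]
    simpa using Rep.one.mul hr

theorem sylElts_closed :
    sylGens.all (fun g => sylElts.all fun p =>
      (fun q => (sylBuckets.getD (pget q 2) []).any (Nat.beq q)) (pmul g p)) = true := by
  decide +kernel

theorem mem_of_mem_bucket {q k : ℕ} (h : q ∈ sylBuckets.getD k []) : q ∈ sylElts := by
  by_cases hk : k < sylBuckets.length
  · rw [List.getD_eq_getElem _ _ hk] at h
    exact List.mem_flatten.2 ⟨_, List.getElem_mem hk, h⟩
  · rw [List.getD_eq_default _ _ (by omega)] at h; simp at h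

theorem pone_mem : pone ∈ sylElts := by
  have : sylElts.any (Nat.beq pone) = true := by decide +kernel
  simp only [List.any_eq_true, Nat.beq_eq] at this
  obtain ⟨x, hx, rfl⟩ := this
  exact hx

theorem exists_rep_of_mem {g : ↥M24} (hg : g ∈ syl) :
    ∃ p ∈ sylElts, Rep (g : Equiv.Perm GolayPt) p := by
  have hfin : syl = Subgroup.closure {g : ↥M24 | ∃ p ∈ sylGens, Rep (g : Equiv.Perm GolayPt) p} := rfl
  rw [hfin, ← Subgroup.mem_toSubmonoid, Subgroup.closure_toSubmonoid_of_finite] at hg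
  induction hg using Submonoid.closure_induction_left with
  | one => exact ⟨pone, pone_mem, Rep.one⟩
  | mul_left x hx y _ ih =>
    obtain ⟨q, hq, hr⟩ := hx
    obtain ⟨p, hp, hp'⟩ := ih
    have h := sylElts_closed
    simp only [List.all_eq_true, List.any_eq_true, Nat.beq_eq] at h
    obtain ⟨r, hr1, hr2⟩ := h q hq p hp
    exact ⟨r, mem_of_mem_bucket hr1, hr2 ▸ hr.mul hp'⟩

theorem sylElts_nodup : sylElts.Nodup := by
  obtain ⟨-, -, h1, h2⟩ := buckets_shape
  classical
  have hsub : (Finset.range 1560).filter (fun i => allCodes.testBit i) ⊆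
      sylElts.toFinset.image code := by
    intro i hi
    rw [Finset.mem_filter] at hi
    obtain ⟨v, hv, e⟩ := (testBit_bitmap _ _ _).1 hi.2
    exact Finset.mem_image.2 ⟨v, List.mem_toFinset.2 hv, e⟩
  have := (Finset.card_le_card hsub).trans Finset.card_image_le
  rw [← countLt_eq, h1, List.card_toFinset] at this
  rw [← List.dedup_eq_self]
  exact (List.dedup_sublist _).eq_of_length_le (by omega)

theorem card_syl : Nat.card syl = 2 ^ 10 := by
  have h : sylElts.Nodup := sylElts_nodup
  classical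
  let f : syl → {x // x ∈ sylElts.toFinset} := fun g =>
    ⟨_, List.mem_toFinset.2 (exists_rep_of_mem g.2).choose_spec.1⟩
  have hf : Function.Bijective f := by
    constructor
    · intro a b e
      have ha := (exists_rep_of_mem a.2).choose_spec.2
      have e' : (exists_rep_of_mem a.2).choose = (exists_rep_of_mem b.2).choose :=
        congrArg Subtype.val e
      rw [e'] at ha
      exact Subtype.ext (Subtype.ext (ha.unique (exists_rep_of_mem b.2).choose_spec.2))
    · rintro ⟨p, hp⟩
      obtain ⟨g, hg, hr⟩ := exists_mem_syl (List.mem_toFinset.1 hp)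
      refine ⟨⟨g, hg⟩, Subtype.ext ?_⟩
      obtain ⟨hq1, hq2⟩ := (exists_rep_of_mem hg).choose_spec
      exact unique_pack hr hq2 (List.mem_toFinset.1 hp) hq1
  rw [Nat.card_congr (Equiv.ofBijective f hf), Nat.card_eq_fintype_card, Fintype.card_coe,
    List.toFinset_card_of_nodup h, buckets_shape.2.2.2]
  norm_num
where
  unique_pack {σ : Equiv.Perm GolayPt} {p q : ℕ} (hp : Rep σ p) (hq : Rep σ q)
      (hpm : p ∈ sylElts) (hqm : q ∈ sylElts) : q = p := by
    have h : sylElts.all (fun p => Nat.beq (pmul p pone) p) = true := by decide +kernel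
    simp only [List.all_eq_true, Nat.beq_eq] at h
    rw [← h p hpm, ← h q hqm, pmul, pmul]
    have e : ∀ i, pget p (pget pone i) = pget q (pget pone i) ∨ 24 ≤ i := by
      intro i
      rcases lt_or_ge i 24 with hi | hi
      · have h1 : pget pone i = i := by
          have := Rep.one (pt i); rwa [ix_pt hi, Equiv.Perm.one_apply, ix_pt hi] at this
        rw [h1, ← ix_pt hi, hp, hq]; exact Or.inl rfl
      · exact Or.inr hi
    suffices H : ∀ n ≤ 24, (Nat.rec 0 (fun i acc =>
        Nat.lor acc (Nat.shiftLeft (pget q (pget pone i)) (Nat.mul 5 i))) n : ℕ) =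
        Nat.rec 0 (fun i acc =>
          Nat.lor acc (Nat.shiftLeft (pget p (pget pone i)) (Nat.mul 5 i))) n from H 24 le_rfl
    intro n hn
    induction n with
    | zero => rfl
    | succ n ih =>
      simp only [ih (by omega), (e n).resolve_right (by omega)]

/-- The subgroup of `syl` fixing the points of `V`. -/
def fixV (V : List ℕ) : Subgroup ↥M24 :=
  syl ⊓ ⨅ v ∈ V, MulAction.stabilizer ↥M24 (pt v)

theorem mem_fixV {V : List ℕ} {g : ↥M24} :
    g ∈ fixV V ↔ g ∈ syl ∧ ∀ v ∈ V, g • pt v = pt v := by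
  simp [fixV, Subgroup.mem_iInf]

theorem mem_orbM {V : List ℕ} (hV : ∀ v ∈ V, v < 24) (x y : GolayPt) :
    y ∈ setOfMask (orbM V (ix x)) ↔ ∃ t ∈ fixV V, t • x = y := by
  rw [mem_setOfMask, orbM, testBit_bitmap]
  have key : ∀ {g : ↥M24} {p : ℕ}, Rep (g : Equiv.Perm GolayPt) p → ∀ {v : ℕ}, v < 24 →
      (pget p v = v ↔ g • pt v = pt v) := by
    intro g p hr v hv
    have h := hr (pt v)
    rw [ix_pt hv] at h
    rw [h]
    exact ⟨fun e => ix_injective (e.trans (ix_pt hv).symm), fun e => by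
      rw [show (g : Equiv.Perm GolayPt) (pt v) = pt v from e, ix_pt hv]⟩
  constructor
  · rintro ⟨p, hp, e⟩
    simp only [sel, List.mem_filter, List.all_eq_true, Nat.beq_eq] at hp
    obtain ⟨g, hg, hr⟩ := exists_mem_syl hp.1
    exact ⟨g, mem_fixV.2 ⟨hg, fun v hv => (key hr (hV v hv)).1 (hp.2 v hv)⟩,
      ix_injective ((hr x).symm.trans e)⟩
  · rintro ⟨t, ht, rfl⟩
    obtain ⟨hts, htV⟩ := mem_fixV.1 ht
    obtain ⟨p, hp, hr⟩ := exists_rep_of_mem hts
    refine ⟨p, ?_, hr x⟩
    simp only [sel, List.mem_filter, List.all_eq_true, Nat.beq_eq]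
    exact ⟨hp, fun v hv => (key hr (hV v hv)).2 (htV v hv)⟩

/-- An element of odd order normalizing `syl` and fixing the points of `F`. -/
def Good (g : ↥M24) (F : List ℕ) : Prop :=
  g ∈ Subgroup.normalizer (syl : Set ↥M24) ∧ Odd (orderOf g) ∧ ∀ v ∈ F, g • pt v = pt v

theorem conj_mem_fixV {g : ↥M24} (hg : g ∈ Subgroup.normalizer (syl : Set ↥M24)) {V : List ℕ}
    (hV : ∀ v ∈ V, g • pt v = pt v) {t : ↥M24} (ht : t ∈ fixV V) : g * t * g⁻¹ ∈ fixV V := by
  obtain ⟨hts, htV⟩ := mem_fixV.1 ht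
  refine mem_fixV.2 ⟨(Subgroup.mem_normalizer_iff.1 hg t).1 hts, fun v hv => ?_⟩
  rw [mul_smul, mul_smul, inv_smul_eq_iff.2 (hV v hv).symm, htV v hv, hV v hv]

theorem popc_orbM_smul {g : ↥M24} (hg : g ∈ Subgroup.normalizer (syl : Set ↥M24)) {V : List ℕ}
    (hV24 : ∀ v ∈ V, v < 24) (hV : ∀ v ∈ V, g • pt v = pt v) (x : GolayPt) :
    popc (orbM V (ix (g • x))) = popc (orbM V (ix x)) := by
  rw [← card_setOfMask, ← card_setOfMask, ← Finset.card_smul_finset g (setOfMask (orbM V (ix x)))]
  refine congrArg Finset.card (Finset.ext fun y => ?_)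
  rw [mem_orbM hV24, Finset.mem_smul_finset]
  constructor
  · rintro ⟨t, ht, rfl⟩
    refine ⟨(g⁻¹ * t * g) • x, (mem_orbM hV24 _ _).2 ⟨_, ?_, rfl⟩, ?_⟩
    · have := conj_mem_fixV ((Subgroup.normalizer (syl : Set ↥M24)).inv_mem hg)
        (V := V) (fun v hv => inv_smul_eq_iff.2 (hV v hv).symm) ht
      simpa using this
    · simp [← mul_smul, mul_assoc]
  · rintro ⟨z, hz, rfl⟩
    obtain ⟨t, ht, rfl⟩ := (mem_orbM hV24 _ _).1 hz
    exact ⟨g * t * g⁻¹, conj_mem_fixV hg hV ht, by simp [← mul_smul, mul_assoc]⟩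

/-- The certificate that the points with orbit size `n` under `fixV V` lie in `A`. -/
noncomputable def classOK (V : List ℕ) (n A x : ℕ) : Bool :=
  V.all (fun v => Nat.blt v 24) && Nat.blt x 24 && Nat.beq (popc (orbM V x)) n &&
    forallLt 24 (fun i => !Nat.beq (popc (orbM V i)) n || Nat.beq (bitAt A i) 1)

theorem smul_mem_of_classOK {g : ↥M24} {F : List ℕ} (hg : Good g F) {V : List ℕ} {n A x : ℕ}
    (h : classOK V n A x = true) (hVF : ∀ v ∈ V, v ∈ F) : (ix (g • pt x)) < 24 ∧
      A.testBit (ix (g • pt x)) = true := by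
  simp only [classOK, Bool.and_eq_true, List.all_eq_true, Nat.blt_eq, Nat.beq_eq] at h
  obtain ⟨⟨⟨hV, hx⟩, hn⟩, hA⟩ := h
  refine ⟨ix_lt _, ?_⟩
  have hp := popc_orbM_smul hg.1 hV (fun v hv => hg.2.2 v (hVF v hv)) (pt x)
  rw [ix_pt hx, hn] at hp
  have := forallLt_elim hA (ix_lt (g • pt x))
  simp only [hp, Bool.or_eq_true, Bool.not_eq_true', Nat.beq_eq] at this
  rcases this with h' | h'
  · simp at h'
  · rw [bitAt_eq] at h'
    by_contra hne
    simp [hne] at h'

/-- A point alone in its class apart from a fixed point is fixed. -/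
theorem good_derive {g : ↥M24} {F : List ℕ} (hg : Good g F) (V : List ℕ) (n v x : ℕ)
    (hVF : ∀ u ∈ V, u ∈ F) (hvF : v ∈ F)
    (h : (classOK V n (Nat.lor (Nat.shiftLeft 1 v) (Nat.shiftLeft 1 x)) x && Nat.blt v 24) = true) :
    Good g (x :: F) := by
  rw [Bool.and_eq_true, Nat.blt_eq] at h
  refine ⟨hg.1, hg.2.1, List.forall_mem_cons.2 ⟨?_, hg.2.2⟩⟩
  have hx : x < 24 := by
    have := h.1; simp only [classOK, Bool.and_eq_true, Nat.blt_eq] at this; exact this.1.1.2
  obtain ⟨hlt, hbit⟩ := smul_mem_of_classOK hg h.1 hVF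
  have h1 : ix (g • pt x) = v ∨ ix (g • pt x) = x := by
    have e : (Nat.lor (Nat.shiftLeft 1 v) (Nat.shiftLeft 1 x)).testBit (ix (g • pt x)) =
        ((1 <<< v).testBit (ix (g • pt x)) || (1 <<< x).testBit (ix (g • pt x))) :=
      Nat.testBit_or _ _ _
    rw [e, Bool.or_eq_true, Nat.one_shiftLeft, Nat.one_shiftLeft, Nat.testBit_two_pow,
      Nat.testBit_two_pow] at hbit
    simpa [eq_comm] using hbit
  rcases h1 with h1 | h1
  · have h2 : g • pt x = pt v := ix_injective (h1.trans (ix_pt h.2).symm)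
    have h3 : pt x = pt v := smul_left_cancel g (h2.trans (hg.2.2 v hvF).symm)
    rw [h3]; exact hg.2.2 v hvF
  · exact ix_injective (h1.trans (ix_pt hx).symm)

theorem isPGroup_syl : IsPGroup 2 syl := IsPGroup.of_card card_syl

/-- After conjugation in `fixV F`, a point of an invariant orbit is fixed. -/
theorem good_choose {g : ↥M24} {F : List ℕ} (hg : Good g F) (V : List ℕ) (n x : ℕ)
    (hVF : ∀ u ∈ V, u ∈ F) (hF : F.all (fun v => Nat.blt v 24) = true)
    (h : classOK V n (orbM F x) x = true) :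
    ∃ k : ↥M24, Good (k⁻¹ * g * k) (x :: F) := by
  simp only [List.all_eq_true, Nat.blt_eq] at hF
  have hx : x < 24 := by
    have := h; simp only [classOK, Bool.and_eq_true, Nat.blt_eq] at this; exact this.1.1.2
  set A := Subgroup.zpowers g
  have hA : ∀ a ∈ A, a ∈ Subgroup.normalizer (syl : Set ↥M24) ∧ ∀ v ∈ F, a • pt v = pt v := by
    intro a ha
    obtain ⟨i, rfl⟩ := Subgroup.mem_zpowers_iff.1 ha
    refine ⟨Subgroup.zpow_mem _ hg.1 i, fun v hv => ?_⟩
    exact MulAction.mem_stabilizer_iff.1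
      (Subgroup.zpow_mem _ (MulAction.mem_stabilizer_iff.2 (hg.2.2 v hv)) i)
  have hAK : A ≤ Subgroup.normalizer (fixV F : Set ↥M24) := by
    intro a ha
    rw [Subgroup.mem_normalizer_iff]
    intro t
    obtain ⟨h1, h2⟩ := hA a ha
    obtain ⟨h1', h2'⟩ := hA a⁻¹ (A.inv_mem ha)
    exact ⟨conj_mem_fixV h1 h2, fun ht => by simpa [mul_assoc] using conj_mem_fixV h1' h2' ht⟩
  obtain ⟨m, hm⟩ : ∃ m : ℕ, Nat.card (fixV F) = 2 ^ m :=
    (isPGroup_syl.to_le (fun _ ht => (mem_fixV.1 ht).1 : fixV F ≤ syl)).exists_card_eq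
  have hcop : (Nat.card A).Coprime (Nat.card (fixV F)) := by
    rw [Nat.card_zpowers, hm]
    exact (Nat.coprime_two_right.2 hg.2.1).pow_right m
  obtain ⟨k, hk, hfix⟩ := CfsgLib.Core.exists_fixed_point (x := pt x) hAK hcop
    (Or.inl inferInstance) (fun a ha => by
      obtain ⟨h1, h2⟩ := hA a ha
      have hbit := smul_mem_of_classOK (g := a) (F := F)
        ⟨h1, hg.2.1.of_dvd_nat (orderOf_dvd_of_mem_zpowers ha), h2⟩ h hVF
      have hmem : a • pt x ∈ setOfMask (orbM F (ix (pt x))) := by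
        rw [mem_setOfMask, ix_pt hx]; exact hbit.2
      obtain ⟨t, ht, e⟩ := (mem_orbM hF _ _).1 hmem
      exact ⟨t, ht, e.symm⟩)
  obtain ⟨hks, hkF⟩ := mem_fixV.1 hk
  refine ⟨k, ?_, ?_, List.forall_mem_cons.2 ⟨?_, fun v hv => ?_⟩⟩
  · exact mul_mem (mul_mem (Subgroup.inv_mem _ (Subgroup.le_normalizer hks)) hg.1)
      (Subgroup.le_normalizer hks)
  · have e : k⁻¹ * g * k = MulAut.conj k⁻¹ g := by simp
    rw [e, MulEquiv.orderOf_eq]; exact hg.2.1
  · rw [mul_smul, mul_smul, inv_smul_eq_iff]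
    exact hfix g (Subgroup.mem_zpowers g)
  · rw [mul_smul, mul_smul, hkF v hv, hg.2.2 v hv, inv_smul_eq_iff, hkF v hv]

theorem eq_one_of_conj {g k : ↥M24} (h : k⁻¹ * g * k = 1) : g = 1 := by
  have h1 : g = k * (k⁻¹ * g * k) * k⁻¹ := by group
  rw [h1, h, mul_one, mul_inv_cancel]

theorem eq_one_of_good {g : ↥M24} (hg : Good g []) : g = 1 := by
  obtain ⟨k, h1⟩ := good_choose hg [] 16 2 (by simp) (by decide) (by decide +kernel)
  refine eq_one_of_conj (k := k) ?_
  have h2 := good_derive h1 [2] 1 2 21 (by simp) (by simp) (by decide +kernel)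
  obtain ⟨k, h3⟩ := good_choose h2 [2] 2 13 (by simp) (by decide) (by decide +kernel)
  refine eq_one_of_conj (k := k) ?_
  have h4 := good_derive h3 [2] 2 13 20 (by simp) (by simp) (by decide +kernel)
  obtain ⟨k, h5⟩ := good_choose h4 [2, 21, 13] 4 6 (by simp) (by decide) (by decide +kernel)
  refine eq_one_of_conj (k := k) ?_
  have h6 := good_derive h5 [6] 1 6 19 (by simp) (by simp) (by decide +kernel)
  obtain ⟨k, h7⟩ := good_choose h6 [] 8 0 (by simp) (by decide) (by decide +kernel)
  refine eq_one_of_conj (k := k) ?_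
  have h8 := good_derive h7 [0] 1 0 1 (by simp) (by simp) (by decide +kernel)
  generalize k⁻¹ * _ * k = u at h8 ⊢
  have hF : ∀ y ∈ setOfMask 3678279, (u : Equiv.Perm GolayPt) y = y := by
    intro y hy
    have : ix y ∈ [1, 0, 19, 6, 20, 13, 21, 2] := by revert hy; revert y; decide +kernel
    have e := h8.2.2 _ this
    rwa [pt_ix] at e
  have s1 : fixStep 3678279 sylOctads (sylOctads ++ bitsList 3678279) 16777215 = true := by
    decide +kernel
  refine Subtype.ext (Equiv.ext fun y => ?_)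
  exact fixStep_spec s1 u.2 hF y (by rw [← maskOf_univ, setOfMask_maskOf]; simp)

theorem normalizer_syl : Subgroup.normalizer (syl : Set ↥M24) = syl := by
  refine le_antisymm (fun g hg => ?_) Subgroup.le_normalizer
  haveI : Fact (Nat.Prime 2) := ⟨Nat.prime_two⟩
  obtain ⟨a, m, hm, he⟩ := Nat.exists_eq_two_pow_mul_odd (orderOf_pos g).ne'
  have hodd : g ^ 2 ^ a = 1 := eq_one_of_good ⟨Subgroup.pow_mem _ hg _, by
    rw [orderOf_pow, he, Nat.gcd_eq_right (dvd_mul_right _ _),
      Nat.mul_div_cancel_left _ (by positivity)]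
    exact hm, by simp⟩
  have hz : IsPGroup 2 (Subgroup.zpowers g) := by
    obtain ⟨j, -, hj⟩ := (Nat.dvd_prime_pow Nat.prime_two).1 (orderOf_dvd_of_pow_eq_one hodd)
    exact IsPGroup.of_card (n := j) (by rw [Nat.card_zpowers, hj])
  have hidx : ¬ 2 ∣ syl.index := by
    have h := Subgroup.card_mul_index syl
    rw [card_syl, M24_card] at h
    omega
  have := hz.inf_normalizer_sylow (isPGroup_syl.toSylow hidx)
  exact (this.le ⟨Subgroup.mem_zpowers g, hg⟩).2

theorem normalizer_sylow_eq (S : Sylow 2 ↥M24) :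
    Subgroup.normalizer ((S : Subgroup ↥M24) : Set ↥M24) = (S : Subgroup ↥M24) := by
  haveI : Fact (Nat.Prime 2) := ⟨Nat.prime_two⟩
  have hidx : ¬ 2 ∣ syl.index := by
    have h := Subgroup.card_mul_index syl
    rw [card_syl, M24_card] at h
    omega
  obtain ⟨g, hg⟩ := MulAction.exists_smul_eq ↥M24 (isPGroup_syl.toSylow hidx) S
  rw [← hg, Sylow.coe_subgroup_smul]
  refine le_antisymm (fun x hx => ?_) Subgroup.le_normalizer
  rw [Subgroup.mem_pointwise_smul_iff_inv_smul_mem]
  show (MulAut.conj g)⁻¹ x ∈ syl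
  rw [← normalizer_syl, Subgroup.mem_normalizer_iff]
  intro y
  have h := Subgroup.mem_normalizer_iff.1 hx ((MulAut.conj g) y)
  rw [Subgroup.mem_pointwise_smul_iff_inv_smul_mem, Subgroup.mem_pointwise_smul_iff_inv_smul_mem] at h
  simpa [MulAut.smul_def, mul_assoc] using h

end CfsgLib.LocalEven.M24Sylow
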