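import Cfsg.Prelude.Def_LocalEven
import Cfsg.Agent.Lib.Classical.SL2Sylow
import Cfsg.Agent.Lib.LocalEven.Basic

/-! Coordinates on a natural `SL₂`-module adapted to a Sylow subgroup. -/

set_option autoImplicit false

namespace CfsgLib.LocalEven

open Matrix Subgroup
open scoped MatrixGroups LinearAlgebra.Projectivization

variable {G : Type*} [Group G] {F : Type*} [Field F]

/-- Coordinates in which `T` acts as the upper unitriangular group. -/
structure NatCoords (F : Type*) [Field F] (V L T : Subgroup G) where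
  rho : L ≃* SL(2, F)
  vec : V ≃ (Fin 2 → F)
  vec_mul : ∀ v w : V, vec (v * w) = vec v + vec w
  vec_conj : ∀ (l : L) (v w : V), (w : G) = l * v * (l : G)⁻¹ →
    vec w = ((rho l : SL(2, F)) : Matrix (Fin 2) (Fin 2) F) *ᵥ vec v
  mem_T : ∀ l : L, (l : G) ∈ T ↔
    ((rho l : SL(2, F)) : Matrix (Fin 2) (Fin 2) F) 0 0 = 1 ∧
    ((rho l : SL(2, F)) : Matrix (Fin 2) (Fin 2) F) 1 0 = 0 ∧
    ((rho l : SL(2, F)) : Matrix (Fin 2) (Fin 2) F) 1 1 = 1
  le_L : T ≤ L
  normalizes : L ≤ normalizer (V : Set G)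

theorem exists_natCoords [Finite G] [Fintype F] {p : ℕ} [Fact p.Prime] [CharP F p] {V L : Subgroup G}
    (hnat : Cfsg.IsNaturalSL2Module F V L) (hf : L ⊓ centralizer (V : Set G) = ⊥) (S : Sylow p ↥L)
    {T : Subgroup G} (hT : T = (S : Subgroup ↥L).map L.subtype) : Nonempty (NatCoords F V L T) := by
  obtain ⟨hn, ρ, ψ, hs, hk, hact⟩ := hnat
  have hinj : Function.Injective ρ := by
    rw [← MonoidHom.ker_eq_bot_iff, hk, eq_bot_iff]
    intro l hl
    have : (l : G) ∈ L ⊓ centralizer (V : Set G) := ⟨l.2, hl⟩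
    rw [hf, mem_bot] at this
    exact mem_bot.mpr (Subtype.ext this)
  obtain ⟨x, hx⟩ := CfsgLib.Classical.Two.exists_point_sylow_SL p (S.mapSurjective hs)
  obtain ⟨g, hg⟩ := MulAction.exists_smul_eq SL(2, F) (CfsgLib.Classical.Two.basePoint F 0) x
  set e : L ≃* SL(2, F) := (MulEquiv.ofBijective ρ ⟨hinj, hs⟩).trans (MulAut.conj g⁻¹) with he
  have hgg : ∀ v : Fin 2 → F, (g : Matrix (Fin 2) (Fin 2) F) *ᵥ (((g⁻¹ : SL(2, F)) : Matrix (Fin 2) (Fin 2) F) *ᵥ v) = v := by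
    intro v
    rw [Matrix.mulVec_mulVec, ← Matrix.SpecialLinearGroup.coe_mul, mul_inv_cancel, Matrix.SpecialLinearGroup.coe_one,
      Matrix.one_mulVec]
  have hgg' : ∀ v : Fin 2 → F, ((g⁻¹ : SL(2, F)) : Matrix (Fin 2) (Fin 2) F) *ᵥ ((g : Matrix (Fin 2) (Fin 2) F) *ᵥ v) = v := by
    intro v
    rw [Matrix.mulVec_mulVec, ← Matrix.SpecialLinearGroup.coe_mul, inv_mul_cancel, Matrix.SpecialLinearGroup.coe_one,
      Matrix.one_mulVec]
  let E : V ≃ (Fin 2 → F) :=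
      { toFun := fun v => ((g⁻¹ : SL(2, F)) : Matrix (Fin 2) (Fin 2) F) *ᵥ ψ (Additive.ofMul v)
        invFun := fun w => Additive.toMul (ψ.symm ((g : Matrix (Fin 2) (Fin 2) F) *ᵥ w))
        left_inv := fun v => by
          show Additive.toMul (ψ.symm _) = v
          rw [hgg, AddEquiv.symm_apply_apply]
          rfl
        right_inv := fun w => by
          show _ *ᵥ ψ (Additive.ofMul (Additive.toMul _)) = w
          rw [ofMul_toMul, AddEquiv.apply_symm_apply, hgg'] }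
  refine ⟨{
      rho := e
      vec := E
      vec_mul := fun v w => ?_
      vec_conj := fun l v w hw => ?_
      mem_T := fun l => ?_
      le_L := hT ▸ map_subtype_le _
      normalizes := hn }⟩
  · show _ *ᵥ ψ _ = _ *ᵥ ψ _ + _ *ᵥ ψ _
    rw [ofMul_mul, map_add, Matrix.mulVec_add]
  · obtain ⟨w', hw', hψ⟩ := hact l v
    obtain rfl : w = w' := Subtype.ext (hw.trans hw'.symm)
    show _ *ᵥ ψ _ = _ *ᵥ (_ *ᵥ ψ _)
    rw [hψ, he, MulEquiv.trans_apply, MulAut.conj_apply, inv_inv, Matrix.SpecialLinearGroup.coe_mul,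
      Matrix.SpecialLinearGroup.coe_mul, ← Matrix.mulVec_mulVec, hgg, ← Matrix.mulVec_mulVec]
    rfl
  · have h1 : (l : G) ∈ T ↔ e l ∈ CfsgLib.Classical.Two.rootGroup (CfsgLib.Classical.Two.basePoint F 0) := by
      have h2 : ρ l ∈ CfsgLib.Classical.Two.rootGroup x ↔ l ∈ (S : Subgroup ↥L) := by
        rw [← hx]
        exact ⟨fun ⟨s, hs', e'⟩ => hinj e' ▸ hs', fun h => ⟨l, h, rfl⟩⟩
      rw [← hg, CfsgLib.Classical.Two.rootGroup_smul, mem_pointwise_smul_iff_inv_smul_mem] at h2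
      rw [show (MulAut.conj g)⁻¹ • ρ l = e l by simp [he]; rfl] at h2
      rw [h2, hT]
      exact ⟨fun ⟨s, hs', e'⟩ => Subtype.ext e' ▸ hs', fun h => ⟨l, h, rfl⟩⟩
    rw [h1, ← SetLike.mem_coe, CfsgLib.Classical.Two.rootGroup_basePoint]
    constructor
    · rintro ⟨b, hb⟩
      rw [← hb, SpecialLinearGroup.transvection_coe]
      refine ⟨?_, ?_, ?_⟩ <;> simp
    · rintro ⟨a, b, c⟩
      refine ⟨((e l : SL(2, F)) : Matrix (Fin 2) (Fin 2) F) 0 1, ?_⟩
      apply Subtype.ext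
      rw [SpecialLinearGroup.transvection_coe]
      ext i j
      fin_cases i <;> fin_cases j <;> simp [a, b, c]

namespace NatCoords

variable {V L T : Subgroup G} (c : NatCoords F V L T)

theorem vec_one : c.vec 1 = 0 := by
  have h := c.vec_mul 1 1
  rw [mul_one] at h
  exact left_eq_add.mp h

theorem vec_inv (v : V) : c.vec v⁻¹ = -c.vec v :=
  eq_neg_of_add_eq_zero_left (by rw [← c.vec_mul, inv_mul_cancel, c.vec_one])

/-- A conjugate inside `V`. -/
def conjV (_ : NatCoords F V L T) (hn : L ≤ normalizer (V : Set G)) (l : L) (v : V) : V :=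
  ⟨l * v * (l : G)⁻¹, (mem_normalizer_iff.mp (hn l.2) v).mp v.2⟩

theorem vec_conjV (l : L) (v : V) :
    c.vec (c.conjV c.normalizes l v) = ((c.rho l : SL(2, F)) : Matrix (Fin 2) (Fin 2) F) *ᵥ c.vec v :=
  c.vec_conj l v _ rfl

theorem commute_iff (l : L) (v : V) : (l : G) * v = v * l ↔
    ((c.rho l : SL(2, F)) : Matrix (Fin 2) (Fin 2) F) *ᵥ c.vec v = c.vec v := by
  rw [← c.vec_conjV, c.vec.apply_eq_iff_eq, Subtype.ext_iff]
  exact (mul_inv_eq_iff_eq_mul).symm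

theorem vec_commutator (l : L) (v w : V) (hw : (w : G) = v * l * (v : G)⁻¹ * (l : G)⁻¹) :
    c.vec w = c.vec v - ((c.rho l : SL(2, F)) : Matrix (Fin 2) (Fin 2) F) *ᵥ c.vec v := by
  have : w = v * c.conjV c.normalizes l v⁻¹ := Subtype.ext (by
    rw [hw]; show _ = (v : G) * ((l : G) * (v : G)⁻¹ * (l : G)⁻¹); group)
  rw [this, c.vec_mul, c.vec_conjV, c.vec_inv, Matrix.mulVec_neg, sub_eq_add_neg]

theorem mulVec_of_mem {l : L} (hl : (l : G) ∈ T) (w : Fin 2 → F) :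
    ((c.rho l : SL(2, F)) : Matrix (Fin 2) (Fin 2) F) *ᵥ w =
      ![w 0 + ((c.rho l : SL(2, F)) : Matrix (Fin 2) (Fin 2) F) 0 1 * w 1, w 1] := by
  obtain ⟨a, b, d⟩ := (c.mem_T l).mp hl
  ext i; fin_cases i <;> simp [Matrix.mulVec, dotProduct, Fin.sum_univ_two, a, b, d]

/-- Upper unitriangular. -/
def upperElt (b : F) : SL(2, F) := ⟨!![1, b; 0, 1], by simp [Matrix.det_fin_two_of]⟩

/-- The element of `T` with parameter `b`. -/
def tElt (b : F) : L := c.rho.symm (upperElt b)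

theorem rho_tElt (b : F) : ((c.rho (c.tElt b) : SL(2, F)) : Matrix (Fin 2) (Fin 2) F) = !![1, b; 0, 1] := by
  rw [tElt, MulEquiv.apply_symm_apply]
  rfl

theorem tElt_mem (b : F) : (c.tElt b : G) ∈ T := (c.mem_T _).mpr (by rw [c.rho_tElt]; simp)

theorem mem_centralizer_iff' (v : V) : (v : G) ∈ centralizer (T : Set G) ↔ c.vec v 1 = 0 := by
  rw [Subgroup.mem_centralizer_iff]
  constructor
  · intro h
    have := (c.commute_iff _ v).mp (h _ (c.tElt_mem 1))
    rw [c.mulVec_of_mem (c.tElt_mem 1), c.rho_tElt] at this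
    simpa using congrFun this 0
  · intro h t ht
    refine (c.commute_iff ⟨t, c.le_L ht⟩ v).mpr ?_
    rw [c.mulVec_of_mem (l := ⟨t, c.le_L ht⟩) ht]
    ext i; fin_cases i <;> simp [h]

theorem param_ne_zero {s : G} (hs : s ∈ T) (hs1 : s ≠ 1) :
    ((c.rho ⟨s, c.le_L hs⟩ : SL(2, F)) : Matrix (Fin 2) (Fin 2) F) 0 1 ≠ 0 := by
  obtain ⟨a, b, d⟩ := (c.mem_T ⟨s, c.le_L hs⟩).mp hs
  intro h
  refine hs1 (congrArg Subtype.val (c.rho.injective (a₁ := ⟨s, c.le_L hs⟩) (a₂ := 1) ?_))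
  rw [map_one]
  apply Subtype.ext
  ext i j; fin_cases i <;> fin_cases j <;> simp [a, b, d, h]

theorem card_V [Fintype F] (c : NatCoords F V L T) : Nat.card V = Fintype.card F ^ 2 := by
  rw [Nat.card_congr c.vec, Nat.card_fun, Nat.card_eq_fintype_card (α := F)]
  simp

theorem card_fixed [Fintype F] (c : NatCoords F V L T) :
    Nat.card ↥(V ⊓ centralizer (T : Set G)) = Fintype.card F := by
  rw [← Nat.card_eq_fintype_card]
  refine Nat.card_congr
    { toFun := fun v => c.vec ⟨v, v.2.1⟩ 0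
      invFun := fun a => ⟨(c.vec.symm ![a, 0] : V), (c.vec.symm ![a, 0]).2, (c.mem_centralizer_iff' _).mpr (by simp)⟩
      left_inv := fun v => Subtype.ext (by
        have h := (c.mem_centralizer_iff' ⟨v, v.2.1⟩).mp v.2.2
        show ((c.vec.symm ![c.vec ⟨v, v.2.1⟩ 0, 0] : V) : G) = v
        have e : ![c.vec ⟨v, v.2.1⟩ 0, 0] = c.vec ⟨v, v.2.1⟩ := by
          ext i; fin_cases i <;> simp [h]
        rw [e, Equiv.symm_apply_apply])
      right_inv := fun a => by simp }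

/-- Diagonal. -/
def diagElt (t : Fˣ) : SL(2, F) := ⟨!![(t : F), 0; 0, ((t⁻¹ : Fˣ) : F)], by simp [Matrix.det_fin_two_of]⟩

/-- The diagonal element. -/
def dElt (t : Fˣ) : L := c.rho.symm (diagElt t)

theorem rho_dElt (t : Fˣ) : ((c.rho (c.dElt t) : SL(2, F)) : Matrix (Fin 2) (Fin 2) F) =
    !![(t : F), 0; 0, ((t⁻¹ : Fˣ) : F)] := by
  rw [dElt, MulEquiv.apply_symm_apply]
  rfl

theorem mem_normalizer_of_lower_eq_zero [Finite G] {l : L}
    (h : ((c.rho l : SL(2, F)) : Matrix (Fin 2) (Fin 2) F) 1 0 = 0) : (l : G) ∈ normalizer (T : Set G) := by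
  rw [mem_normalizer_conj_iff]
  refine eq_of_le_of_card_ge ?_ (card_map_of_injective (MulAut.conj (l : G)).injective).ge
  rintro _ ⟨t, ht, rfl⟩
  obtain ⟨a, b, d⟩ := (c.mem_T ⟨t, c.le_L ht⟩).mp ht
  show ((l * ⟨t, c.le_L ht⟩ * l⁻¹ : L) : G) ∈ T
  rw [c.mem_T, map_mul, map_mul, map_inv, Matrix.SpecialLinearGroup.coe_mul, Matrix.SpecialLinearGroup.coe_mul,
    Matrix.SpecialLinearGroup.coe_inv, Matrix.adjugate_fin_two]
  have hd := (c.rho l).2
  rw [Matrix.det_fin_two] at hd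
  simp [Matrix.mul_apply, Fin.sum_univ_two, a, b, d, h] at hd ⊢
  constructor <;> linear_combination hd

theorem dElt_mem_normalizer [Finite G] (t : Fˣ) : (c.dElt t : G) ∈ L ⊓ normalizer (T : Set G) :=
  ⟨(c.dElt t).2, c.mem_normalizer_of_lower_eq_zero (by rw [c.rho_dElt]; simp)⟩

end NatCoords

end CfsgLib.LocalEven

namespace CfsgLib.LocalEven

theorem charP_of_card_eq (F : Type*) [Field F] [Fintype F] {p n : ℕ} [hp : Fact p.Prime]
    (hF : Fintype.card F = p ^ n) : CharP F p := by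
  obtain ⟨q, hq⟩ := CharP.exists F
  obtain ⟨k, hqp, hk⟩ := FiniteField.card F q
  have h : q ∣ p ^ n := by rw [← hF, hk]; exact dvd_pow_self q k.pos.ne'
  rwa [(Nat.prime_dvd_prime_iff_eq hqp hp.out).mp (hqp.dvd_of_dvd_pow h)] at hq

end CfsgLib.LocalEven
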