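import Mathlib
import Cfsg.Agent.Lib.PGroups.Basic

/-!
# Norms of abelian offenders

An abelian `p`-group `Q` acts on an elementary abelian `p`-group with fixed subgroup of index at
most `|Q|`. Then the sum over `Q` annihilates, unless `p = 2` and `|Q| = 2`.

* `norm_eq_zero`
-/

set_option autoImplicit false

namespace CfsgLib.LocalEven.NormOff

variable {M : Type*} [AddCommGroup M] {Q : Type*} [CommGroup Q] (ρ : Q →* AddMonoid.End M)

/-- The iterated images under the `ρ q - 1`. -/
def ser : ℕ → AddSubgroup M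
  | 0 => ⊤
  | i + 1 => ⨆ q : Q, (ser i).map ((ρ q - 1 : AddMonoid.End M) : M →+ M)

/-- The fixed subgroup. -/
def fix : AddSubgroup M where
  carrier := {m | ∀ q, ρ q m = m}
  zero_mem' := fun q => map_zero (ρ q)
  add_mem' := fun {a b} ha hb q => by rw [map_add, ha, hb]
  neg_mem' := fun {a} ha q => by rw [map_neg, ha]

theorem commute_sub_one (q q' : Q) : Commute (ρ q - 1) (ρ q' - 1) :=
  (((Commute.all q q').map ρ).sub_right (Commute.one_right _)).sub_left (Commute.one_left _)

theorem mem_ser_succ {i : ℕ} (q : Q) {m : M} (hm : m ∈ ser ρ i) :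
    (ρ q - 1 : AddMonoid.End M) m ∈ ser ρ (i + 1) :=
  AddSubgroup.mem_iSup_of_mem (S := fun q : Q => (ser ρ i).map ((ρ q - 1 : AddMonoid.End M) : M →+ M))
    q ⟨m, hm, rfl⟩

theorem ser_antitone : ∀ i, ser ρ (i + 1) ≤ ser ρ i := by
  intro i
  induction i with
  | zero => exact le_top
  | succ i ih =>
    refine iSup_le fun q => ?_
    rintro _ ⟨m, hm, rfl⟩
    exact mem_ser_succ ρ q (ih hm)

theorem sub_one_fix (q : Q) {m : M} (hm : m ∈ fix ρ) : (ρ q - 1 : AddMonoid.End M) m = 0 := by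
  show ρ q m - m = 0
  rw [hm q, sub_self]

theorem sub_one_mem_of_mem_sup {i : ℕ} (q : Q) {m : M} (hm : m ∈ ser ρ i ⊔ fix ρ) :
    (ρ q - 1 : AddMonoid.End M) m ∈ ser ρ (i + 1) := by
  obtain ⟨a, ha, b, hb, rfl⟩ := AddSubgroup.mem_sup.mp hm
  rw [map_add, sub_one_fix ρ q hb, add_zero]
  exact mem_ser_succ ρ q ha

theorem rho_mem_ser {i : ℕ} (q : Q) {m : M} (hm : m ∈ ser ρ i) : ρ q m ∈ ser ρ i := by
  have h : ρ q m = (ρ q - 1 : AddMonoid.End M) m + m := (sub_add_cancel _ _).symm
  rw [h]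
  exact add_mem (ser_antitone ρ i (mem_ser_succ ρ q hm)) hm

variable [Finite Q] {p : ℕ} [hp : Fact p.Prime] (hQ : IsPGroup p Q) (hM : ∀ m : M, p • m = 0)
include hM

omit [Finite Q] in
theorem natCast_apply_eq_zero (m : M) : ((p : AddMonoid.End M)) m = 0 := by
  rw [AddMonoid.End.natCast_apply]; exact hM m

omit [Finite Q] in
/-- The geometric sum of an endomorphism. -/
theorem geom_eq (q : Q) (m : M) :
    ∑ k ∈ Finset.range p, ρ (q ^ k) m = ((ρ q - 1) ^ (p - 1) : AddMonoid.End M) m := by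
  rcases subsingleton_or_nontrivial M with hs | hn
  · exact Subsingleton.elim _ _
  haveI : Nontrivial (AddMonoid.End M) := by
    obtain ⟨x, hx⟩ := exists_ne (0 : M)
    exact ⟨1, 0, fun h => hx (DFunLike.congr_fun h x)⟩
  haveI : CharP (AddMonoid.End M) p := by
    have h0 : (p : AddMonoid.End M) = 0 := AddMonoidHom.ext (natCast_apply_eq_zero hM)
    refine ⟨fun k => ⟨fun hk => ?_, fun ⟨c, hc⟩ => by rw [hc, Nat.cast_mul, h0, zero_mul]⟩⟩
    obtain ⟨x, hx⟩ := exists_ne (0 : M)
    have h1 : k • x = 0 := by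
      rw [← AddMonoid.End.natCast_apply, hk]; rfl
    have h2 := addOrderOf_dvd_of_nsmul_eq_zero h1
    rwa [addOrderOf_eq_prime (hM x) hx] at h2
  letI := ZMod.algebra (AddMonoid.End M) p
  have hpoly : (∑ k ∈ Finset.range p, (Polynomial.X : Polynomial (ZMod p)) ^ k) =
      (Polynomial.X - 1) ^ (p - 1) := by
    refine mul_right_cancel₀ (Polynomial.X_sub_C_ne_zero (1 : ZMod p)) ?_
    rw [map_one, geom_sum_mul, ← pow_succ, Nat.sub_add_cancel hp.out.one_le, sub_pow_char, one_pow]
  have h2 := congrArg (Polynomial.aeval (ρ q)) hpoly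
  simp only [map_sum, map_pow, Polynomial.aeval_X, map_sub, map_one] at h2
  calc ∑ k ∈ Finset.range p, ρ (q ^ k) m = (∑ k ∈ Finset.range p, ρ q ^ k : AddMonoid.End M) m := by
        simp only [map_pow]
        exact (AddMonoidHom.finsetSum_apply _ _ m).symm
    _ = _ := by rw [h2]

/-- The sum over a subgroup `H` of index `p` refinements. -/
theorem sum_step {H K : Subgroup Q} (hKH : K ≤ H) (hi : K.relIndex H = p) [Fintype H] [Fintype K] :
    ∃ a : Q, a ∈ H ∧ a ∉ K ∧
      ∀ m : M, ∑ h : H, ρ h m = ((ρ a - 1) ^ (p - 1) : AddMonoid.End M) (∑ k : K, ρ k m) := by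
  classical
  obtain ⟨a, haH, haK⟩ : ∃ a ∈ H, a ∉ K := by
    by_contra h
    push Not at h
    rw [Subgroup.relIndex_eq_one.mpr h] at hi
    exact hp.out.one_lt.ne hi
  refine ⟨a, haH, haK, fun m => ?_⟩
  rw [← geom_eq ρ hM]
  simp only [map_sum]
  rw [← Fin.sum_univ_eq_sum_range (fun k => ∑ x : K, ρ (a ^ k) (ρ x m)) p]
  rw [← Finset.sum_product' (f := fun (k : Fin p) (x : K) => ρ (a ^ (k : ℕ)) (ρ x m)),
    Finset.univ_product_univ]
  symm
  refine Fintype.sum_bijective
    (fun y : Fin p × K => (⟨a ^ (y.1 : ℕ) * y.2, mul_mem (pow_mem haH _) (hKH y.2.2)⟩ : H)) ?_ _ _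
    (fun y => by rw [map_mul]; rfl)
  have hcard : Fintype.card (Fin p × K) = Fintype.card H := by
    have h := Subgroup.relIndex_mul_relIndex ⊥ K H bot_le hKH
    rw [Subgroup.relIndex_bot_left, Subgroup.relIndex_bot_left, hi] at h
    rw [Fintype.card_prod, Fintype.card_fin, ← Nat.card_eq_fintype_card, ← Nat.card_eq_fintype_card,
      mul_comm]
    exact h
  rw [Fintype.bijective_iff_injective_and_card]
  refine ⟨?_, hcard⟩
  have key : ∀ d : ℕ, d < p → a ^ d ∈ K → d = 0 := by
    intro d hd hm'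
    by_contra h0
    refine haK ?_
    have hcop : Nat.Coprime d p := Nat.coprime_comm.mp (hp.out.coprime_iff_not_dvd.mpr fun hd' =>
      absurd (Nat.le_of_dvd (Nat.pos_of_ne_zero h0) hd') (not_le.mpr hd))
    have hap : a ^ p ∈ K := by
      haveI : (K.subgroupOf H).Normal := inferInstance
      have h1 : (⟨a, haH⟩ : H) ^ p ∈ K.subgroupOf H := by
        rw [← QuotientGroup.eq_one_iff, QuotientGroup.mk_pow, ← hi]
        exact pow_card_eq_one'
      exact h1
    have hz : a ^ (1 : ℤ) ∈ K := by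
      have h1 := Nat.gcd_eq_gcd_ab d p
      rw [hcop.gcd_eq_one, Nat.cast_one] at h1
      rw [h1, zpow_add, zpow_mul, zpow_mul, zpow_natCast, zpow_natCast]
      exact mul_mem (zpow_mem hm' _) (zpow_mem hap _)
    rwa [zpow_one] at hz
  rintro ⟨i, x⟩ ⟨i', x'⟩ h
  have h' : a ^ (i : ℕ) * x = a ^ (i' : ℕ) * x' := congrArg Subtype.val h
  have hii : (i : ℕ) = i' := by
    rcases le_total (i : ℕ) i' with hle | hle
    · have hd : a ^ ((i' : ℕ) - i) ∈ K := by
        have : a ^ ((i' : ℕ) - i) = (x : Q) * (x' : Q)⁻¹ := by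
          rw [eq_mul_inv_iff_mul_eq]
          apply mul_left_cancel (a := a ^ (i : ℕ))
          rw [← mul_assoc, ← pow_add, Nat.add_sub_cancel' hle, h']
        rw [this]; exact mul_mem x.2 (inv_mem x'.2)
      have := key _ (by omega) hd
      omega
    · have hd : a ^ ((i : ℕ) - i') ∈ K := by
        have : a ^ ((i : ℕ) - i') = (x' : Q) * (x : Q)⁻¹ := by
          rw [eq_mul_inv_iff_mul_eq]
          apply mul_left_cancel (a := a ^ (i' : ℕ))
          rw [← mul_assoc, ← pow_add, Nat.add_sub_cancel' hle, ← h']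
        rw [this]; exact mul_mem x'.2 (inv_mem x.2)
      have := key _ (by omega) hd
      omega
  obtain rfl := Fin.ext hii
  rw [Prod.mk.injEq]
  exact ⟨rfl, Subtype.ext (mul_left_cancel h')⟩

omit [Finite Q] hp hM in
theorem pow_sub_one_mem {i k : ℕ} (hk : 0 < k) (q : Q) {m : M} (hm : m ∈ ser ρ i ⊔ fix ρ) :
    ((ρ q - 1) ^ k : AddMonoid.End M) m ∈ ser ρ (i + k) := by
  induction k with
  | zero => exact absurd hk (lt_irrefl 0)
  | succ k ih =>
    rcases Nat.eq_zero_or_pos k with rfl | hk'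
    · rw [pow_one]; exact sub_one_mem_of_mem_sup ρ q hm
    · rw [pow_succ', ← add_assoc]
      exact mem_ser_succ ρ q (ih hk')

include hQ

/-- The sum over a subgroup lies deep in the series. -/
theorem sum_mem (H₀ : Subgroup Q) [Fintype H₀] (d : ℕ)
    (h₀ : ∀ m, ∑ h : H₀, ρ h m ∈ ser ρ d ⊔ fix ρ) :
    ∀ (n : ℕ) (H : Subgroup Q) [Fintype H], H₀ ≤ H → H₀.relIndex H = p ^ n →
      ∀ m, ∑ h : H, ρ h m ∈ ser ρ (d + n * (p - 1)) ⊔ fix ρ ∧
        (0 < n → ∑ h : H, ρ h m ∈ ser ρ (d + n * (p - 1))) := by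
  classical
  intro n
  induction n with
  | zero =>
    intro H _ hle hi m
    rw [pow_zero, Subgroup.relIndex_eq_one] at hi
    obtain rfl : H = H₀ := le_antisymm hi hle
    refine ⟨?_, fun h => absurd h (lt_irrefl 0)⟩
    rw [zero_mul, add_zero]
    convert h₀ m
  | succ n ih =>
    intro H _ hle hi m
    -- a subgroup of index `p` in between
    obtain ⟨K, hK, hKmax⟩ : ∃ K : Subgroup Q, (H₀ ≤ K ∧ K < H) ∧
        ∀ K' : Subgroup Q, H₀ ≤ K' → K' < H → Nat.card K' ≤ Nat.card K := by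
      have hne : H₀ < H := lt_of_le_of_ne hle fun h => by
        rw [h, Subgroup.relIndex_self] at hi
        exact (Nat.one_lt_pow (Nat.succ_ne_zero n) hp.out.one_lt).ne hi
      haveI : Nonempty {K : Subgroup Q // H₀ ≤ K ∧ K < H} := ⟨⟨H₀, le_rfl, hne⟩⟩
      obtain ⟨⟨K, hK⟩, hmax⟩ := Finite.exists_max
        (fun K : {K : Subgroup Q // H₀ ≤ K ∧ K < H} => Nat.card K.1)
      exact ⟨K, hK, fun K' h1 h2 => hmax ⟨K', h1, h2⟩⟩
    have hindex : K.relIndex H = p := by
      obtain ⟨k, hk⟩ := IsPGroup.iff_card.mp (hQ.to_subgroup K)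
      obtain ⟨l, hl⟩ := IsPGroup.iff_card.mp (hQ.to_subgroup H)
      have hlt : Nat.card K < Nat.card H := by
        have h := Set.Finite.card_lt_card (Set.toFinite (H : Set Q)) hK.2
        simpa using h
      have hdvd : p ^ (k + 1) ∣ Nat.card H := by
        rw [hl]; refine pow_dvd_pow p ?_
        rw [hk, hl] at hlt
        exact (Nat.pow_lt_pow_iff_right hp.out.one_lt).mp hlt
      obtain ⟨K', hK'c, hKK'⟩ := Sylow.exists_subgroup_card_pow_succ (G := H)
        (H := K.subgroupOf H) (n := k) hdvd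
        (by rw [Nat.card_congr (Subgroup.subgroupOfEquivOfLe hK.2.le).toEquiv, hk])
      have hmap : K ≤ K'.map H.subtype := fun x hx =>
        ⟨⟨x, hK.2.le hx⟩, hKK' hx, rfl⟩
      have heq : K'.map H.subtype = H := by
        by_contra hne
        have h1 := hKmax _ (hK.1.trans hmap) (lt_of_le_of_ne (Subgroup.map_subtype_le K') hne)
        rw [Subgroup.card_map_of_injective (f := H.subtype) H.subtype_injective, hK'c, hk] at h1
        exact absurd h1 (not_le.mpr (Nat.pow_lt_pow_right hp.out.one_lt (Nat.lt_succ_self k)))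
      have hH : Nat.card H = p ^ (k + 1) := by
        rw [← hK'c, ← Subgroup.card_map_of_injective (f := H.subtype) (K := K') H.subtype_injective, heq]
      have h := Subgroup.relIndex_mul_relIndex ⊥ K H bot_le hK.2.le
      rw [Subgroup.relIndex_bot_left, Subgroup.relIndex_bot_left, hk, hH, pow_succ] at h
      exact Nat.eq_of_mul_eq_mul_left (pow_pos hp.out.pos k) h
    haveI : Fintype K := Fintype.ofFinite K
    have hKi : H₀.relIndex K = p ^ n := by
      have h := Subgroup.relIndex_mul_relIndex H₀ K H hK.1 hK.2.le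
      rw [hindex, hi, pow_succ] at h
      exact Nat.eq_of_mul_eq_mul_right hp.out.pos h
    obtain ⟨a, -, -, ha⟩ := sum_step ρ hM hK.2.le hindex
    have h1 : ∑ h : H, ρ h m ∈ ser ρ (d + (n + 1) * (p - 1)) := by
      rw [ha m, Nat.succ_mul, ← add_assoc]
      exact pow_sub_one_mem ρ (Nat.sub_pos_of_lt hp.out.one_lt) a (ih K hK.1 hKi m).1
    exact ⟨AddSubgroup.mem_sup_left h1, fun _ => h1⟩

variable [Finite M]

omit hp in
/-- A proper descent: commuting nilpotent operators. -/
theorem eq_bot_of_map_iSup {X : AddSubgroup M}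
    (hX : ∀ q : Q, X.map ((ρ q - 1 : AddMonoid.End M) : M →+ M) ≤ X) [Fact p.Prime]
    (h : X ≤ ⨆ q : Q, X.map ((ρ q - 1 : AddMonoid.End M) : M →+ M)) : X = ⊥ := by
  classical
  letI := Fintype.ofFinite Q
  have hnil : ∀ q : Q, ∃ N : ℕ, ∀ m : M, ((ρ q - 1) ^ N : AddMonoid.End M) m = 0 := by
    intro q
    obtain ⟨k, hk⟩ := hQ q
    rcases subsingleton_or_nontrivial M with hs | hn
    · exact ⟨0, fun m => Subsingleton.elim _ _⟩
    haveI : Nontrivial (AddMonoid.End M) := by
      obtain ⟨x, hx⟩ := exists_ne (0 : M)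
      exact ⟨1, 0, fun h => hx (DFunLike.congr_fun h x)⟩
    haveI : CharP (AddMonoid.End M) p :=
      (CharP.charP_iff_prime_eq_zero Fact.out).mpr (AddMonoidHom.ext (natCast_apply_eq_zero hM))
    refine ⟨p ^ k, fun m => ?_⟩
    rw [sub_pow_char_pow_of_commute p k (Commute.one_right _), one_pow, ← map_pow, hk, map_one,
      sub_self]
    rfl
  have key : ∀ s : Finset Q, X ≤ ⨆ q ∈ s, X.map ((ρ q - 1 : AddMonoid.End M) : M →+ M) → X = ⊥ := by
    intro s
    induction s using Finset.induction with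
    | empty => intro h; simpa using h
    | insert g s _ ih =>
      intro h
      rw [Finset.iSup_insert] at h
      set Y := ⨆ q ∈ s, X.map ((ρ q - 1 : AddMonoid.End M) : M →+ M) with hY
      have hYg : ∀ y ∈ Y, (ρ g - 1 : AddMonoid.End M) y ∈ Y := by
        have : Y ≤ Y.comap ((ρ g - 1 : AddMonoid.End M) : M →+ M) := by
          refine iSup₂_le fun q hq => ?_
          rintro _ ⟨x, hx, rfl⟩
          refine AddSubgroup.mem_iSup_of_mem q (AddSubgroup.mem_iSup_of_mem hq ?_)
          exact ⟨(ρ g - 1 : AddMonoid.End M) x, hX g ⟨x, hx, rfl⟩,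
            (DFunLike.congr_fun (commute_sub_one ρ g q).eq x).symm⟩
        exact fun y hy => this hy
      have hYpow : ∀ N : ℕ, ∀ y ∈ Y, ((ρ g - 1) ^ N : AddMonoid.End M) y ∈ Y := by
        intro N
        induction N with
        | zero => exact fun y hy => hy
        | succ N ihy => intro y hy; rw [pow_succ]; exact ihy _ (hYg y hy)
      have hiter : ∀ N : ℕ, ∀ x ∈ X, ∃ x' ∈ X,
          x - ((ρ g - 1) ^ N : AddMonoid.End M) x' ∈ Y := by
        intro N
        induction N with
        | zero => exact fun x hx => ⟨x, hx, by simp⟩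
        | succ N ihN =>
          intro x hx
          obtain ⟨x', hx', hd⟩ := ihN x hx
          obtain ⟨_, ⟨x'', hx'', rfl⟩, y, hy, he⟩ := AddSubgroup.mem_sup.mp (h hx')
          refine ⟨x'', hx'', ?_⟩
          have hy' : ((ρ g - 1) ^ N : AddMonoid.End M) y ∈ Y := hYpow N y hy
          have h2 := add_mem hd hy'
          rw [← he, map_add] at h2
          rw [pow_succ]
          convert h2 using 1
          show x - ((ρ g - 1) ^ N : AddMonoid.End M) ((ρ g - 1 : AddMonoid.End M) x'') = _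
          abel
      refine ih fun x hx => ?_
      obtain ⟨N, hN⟩ := hnil g
      obtain ⟨x', -, hd⟩ := hiter N x hx
      rwa [hN, sub_zero] at hd
  refine key Finset.univ ?_
  simpa using h

omit hp in
theorem ser_ne_top [Fact p.Prime] {i : ℕ} (hne : ¬ ser ρ i ≤ fix ρ) :
    ser ρ (i + 1) ⊔ fix ρ < ser ρ i ⊔ fix ρ := by
  refine lt_of_le_of_ne (sup_le_sup_right (ser_antitone ρ i) _) fun heq => hne ?_
  have h1 : ser ρ (i + 1) ≤ ser ρ (i + 2) := by
    refine iSup_le fun q => ?_
    rintro _ ⟨x, hx, rfl⟩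
    exact sub_one_mem_of_mem_sup ρ q (heq.ge (AddSubgroup.mem_sup_left hx))
  have h2 : ser ρ (i + 1) = ⊥ := eq_bot_of_map_iSup ρ hQ hM
    (fun q => by rintro _ ⟨x, hx, rfl⟩; exact ser_antitone ρ _ (mem_ser_succ ρ q hx)) h1
  intro x hx q
  have h3 := mem_ser_succ ρ q hx
  rw [h2, AddSubgroup.mem_bot] at h3
  exact sub_eq_zero.mp h3

theorem pow_le_relIndex : ∀ i, (∀ k < i, ¬ ser ρ k ≤ fix ρ) →
    p ^ i ≤ (ser ρ i ⊔ fix ρ).index := by
  intro i
  induction i with
  | zero => intro _; rw [pow_zero]; exact Nat.one_le_iff_ne_zero.mpr AddSubgroup.index_ne_zero_of_finite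
  | succ i ih =>
    intro h
    have h1 := ih fun k hk => h k (Nat.lt_succ_of_lt hk)
    have hlt := ser_ne_top ρ hQ hM (h i (Nat.lt_succ_self i))
    rw [← AddSubgroup.relIndex_mul_index hlt.le, pow_succ, mul_comm]
    refine Nat.mul_le_mul ?_ h1
    obtain ⟨n, hn⟩ : ∃ n, Nat.card M = p ^ n := by
      rw [← Nat.card_congr (Multiplicative.ofAdd (α := M)).symm]
      refine IsPGroup.iff_card.mp fun x => ⟨1, ?_⟩
      rw [pow_one]; exact Multiplicative.toAdd.injective (by simpa using hM x.toAdd)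
    have hd : (ser ρ (i + 1) ⊔ fix ρ).relIndex (ser ρ i ⊔ fix ρ) ∣ p ^ n := by
      rw [← hn]
      exact (AddSubgroup.relIndex_dvd_card _ _).trans (AddSubgroup.card_addSubgroup_dvd_card _)
    obtain ⟨k, -, hk⟩ := (Nat.dvd_prime_pow hp.out).mp hd
    rw [hk]
    refine Nat.le_self_pow (fun h0 => hlt.not_ge ?_) p
    rw [h0, pow_zero] at hk
    exact AddSubgroup.relIndex_eq_one.mp hk

variable {j : ℕ} (hcard : Nat.card Q = p ^ j) (hidx : (fix ρ).index ≤ p ^ j)
include hidx

theorem ser_le_fix : ser ρ j ≤ fix ρ := by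
  by_contra hno
  have hall : ∀ k < j + 1, ¬ ser ρ k ≤ fix ρ := fun k hk hle => hno (by
    have : ser ρ j ≤ ser ρ k := antitone_nat_of_succ_le (ser_antitone ρ) (Nat.lt_succ_iff.mp hk)
    exact this.trans hle)
  have h1 := pow_le_relIndex ρ hQ hM (j + 1) hall
  have h2 : (ser ρ (j + 1) ⊔ fix ρ).index ≤ (fix ρ).index :=
    Nat.le_of_dvd (Nat.pos_of_ne_zero AddSubgroup.index_ne_zero_of_finite)
      (AddSubgroup.index_dvd_of_le le_sup_right)
  exact absurd (h1.trans (h2.trans hidx))
    (not_le.mpr (Nat.pow_lt_pow_right hp.out.one_lt (Nat.lt_succ_self j)))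

theorem ser_succ_eq_bot : ser ρ (j + 1) = ⊥ := by
  rw [eq_bot_iff]
  refine iSup_le fun q => ?_
  rintro _ ⟨x, hx, rfl⟩
  exact AddSubgroup.mem_bot.mpr (sub_one_fix ρ q (ser_le_fix ρ hQ hM hidx hx))

include hcard in
/-- The sum over `Q` vanishes. -/
theorem norm_eq_zero [Fintype Q] (hj : p ≠ 2 ∧ 1 ≤ j ∨ 2 ≤ j) (m : M) :
    ∑ q : Q, ρ q m = 0 := by
  classical
  have htop : ∀ x : M, ∑ q : Q, ρ q x = ∑ h : (⊤ : Subgroup Q), ρ h x := fun x =>
    (Fintype.sum_equiv Subgroup.topEquiv.toEquiv _ _ fun _ => rfl).symm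
  have hzero : ∀ k, j + 1 ≤ k → ser ρ k = ⊥ := fun k hk => le_bot_iff.mp
    ((antitone_nat_of_succ_le (ser_antitone ρ) hk).trans (ser_succ_eq_bot ρ hQ hM hidx).le)
  by_cases hp2 : p = 2
  · -- a first operator that descends twice
    have hj2 : 2 ≤ j := hj.resolve_left fun h => h.1 hp2
    by_cases hser : ser ρ j = ⊥
    · have h := (sum_mem ρ hQ hM (⊥ : Subgroup Q) 0 (fun x => by
        simp [ser]) j ⊤ bot_le (by
          rw [Subgroup.relIndex_top_right, Subgroup.index_bot, hcard]) m).2 (by omega)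
      rw [hp2, zero_add, show 2 - 1 = 1 from rfl, mul_one, hser, AddSubgroup.mem_bot] at h
      rw [htop]; exact h
    have hall : ∀ k < j, ¬ ser ρ k ≤ fix ρ := by
      intro k hk hle
      refine hser ?_
      have h1 : ser ρ (k + 1) = ⊥ := by
        rw [eq_bot_iff]
        refine iSup_le fun q => ?_
        rintro _ ⟨x, hx, rfl⟩
        exact AddSubgroup.mem_bot.mpr (sub_one_fix ρ q (hle hx))
      exact le_bot_iff.mp ((antitone_nat_of_succ_le (ser_antitone ρ) hk).trans h1.le)
    -- the factors of the series have order two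
    set X₁ := ser ρ 1 ⊔ fix ρ
    set X₂ := ser ρ 2 ⊔ fix ρ
    have hfac : ∀ i, i + 1 ≤ j →
        (ser ρ (i + 1) ⊔ fix ρ).relIndex (ser ρ i ⊔ fix ρ) * p ^ (j - 1) ≤ p ^ j := by
      intro i hi
      have step : ∀ d k, k + d = j →
          p ^ d * (ser ρ k ⊔ fix ρ).index ≤ p ^ j := by
        intro d
        induction d with
        | zero =>
          intro k hk
          rw [pow_zero, one_mul]
          refine le_trans ?_ hidx
          exact Nat.le_of_dvd (Nat.pos_of_ne_zero AddSubgroup.index_ne_zero_of_finite)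
            (AddSubgroup.index_dvd_of_le le_sup_right)
        | succ d ihd =>
          intro k hk
          have h1 := ihd (k + 1) (by omega)
          have hlt := ser_ne_top ρ hQ hM (hall k (by omega))
          rw [← AddSubgroup.relIndex_mul_index hlt.le, ← mul_assoc] at h1
          refine le_trans (Nat.mul_le_mul_right _ ?_) h1
          rw [pow_succ]
          refine Nat.mul_le_mul_left _ ?_
          rw [hp2]
          by_contra hc
          have h0 : (ser ρ (k + 1) ⊔ fix ρ).relIndex (ser ρ k ⊔ fix ρ) ≠ 0 :=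
            AddSubgroup.index_ne_zero_of_finite
          exact hlt.not_ge (AddSubgroup.relIndex_eq_one.mp (by omega))
      have h1 := step (j - (i + 1)) (i + 1) (by omega)
      have hlt := ser_ne_top ρ hQ hM (hall i (by omega))
      rw [← AddSubgroup.relIndex_mul_index hlt.le] at h1
      refine le_trans ?_ h1
      calc (ser ρ (i + 1) ⊔ fix ρ).relIndex (ser ρ i ⊔ fix ρ) * p ^ (j - 1)
          = p ^ (j - (i + 1)) * ((ser ρ (i + 1) ⊔ fix ρ).relIndex (ser ρ i ⊔ fix ρ) * p ^ i) := by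
            rw [show j - 1 = j - (i + 1) + i by omega, pow_add]; ring
        _ ≤ _ := Nat.mul_le_mul_left _ (Nat.mul_le_mul_left _
            (pow_le_relIndex ρ hQ hM i fun k hk => hall k (by omega)))
    have hf0 : X₁.index ≤ 2 := by
      have h := hfac 0 (by omega)
      rw [show j = j - 1 + 1 by omega, pow_succ, mul_comm (p ^ _) p, Nat.add_sub_cancel] at h
      have h2 := Nat.le_of_mul_le_mul_right h (pow_pos hp.out.pos _)
      rw [show ser ρ 0 ⊔ fix ρ = ⊤ from top_sup_eq _, AddSubgroup.relIndex_top_right] at h2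
      exact h2.trans hp2.le
    have hf1 : X₂.relIndex X₁ ≤ 2 := by
      have h := hfac 1 (by omega)
      rw [show j = j - 1 + 1 by omega, pow_succ, mul_comm (p ^ _) p, Nat.add_sub_cancel] at h
      exact (Nat.le_of_mul_le_mul_right h (pow_pos hp.out.pos _)).trans hp2.le
    obtain ⟨v, hv⟩ : ∃ v : M, ∀ x, x ∈ X₁ ∨ x - v ∈ X₁ := by
      by_cases htop1 : X₁ = ⊤
      · exact ⟨0, fun x => Or.inl (htop1 ▸ trivial)⟩
      · obtain ⟨v, -, hv⟩ := SetLike.exists_of_lt (lt_top_iff_ne_top.mpr htop1)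
        have h2 : X₁.index = 2 := le_antisymm hf0 (by
          by_contra hc
          exact htop1 (AddSubgroup.index_eq_one.mp
            (by have := (AddSubgroup.index_ne_zero_of_finite : X₁.index ≠ 0); omega)))
        refine ⟨v, fun x => ?_⟩
        by_cases hx : x ∈ X₁
        · exact Or.inl hx
        · right
          rw [sub_eq_add_neg, AddSubgroup.add_mem_iff_of_index_two h2, neg_mem_iff]
          exact iff_of_false hx hv
    -- the kernel
    have hδ1 : ∀ q : Q, ∀ x ∈ X₁, (ρ q - 1 : AddMonoid.End M) x ∈ X₂ := fun q x hx =>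
      AddSubgroup.mem_sup_left (sub_one_mem_of_mem_sup ρ q hx)
    have hδv : ∀ q : Q, (ρ q - 1 : AddMonoid.End M) v ∈ X₁ := fun q =>
      AddSubgroup.mem_sup_left (sub_one_mem_of_mem_sup ρ q (AddSubgroup.mem_sup_left trivial))
    let χ : Q →* Multiplicative (X₁ ⧸ X₂.addSubgroupOf X₁) := MonoidHom.mk'
      (fun q => Multiplicative.ofAdd (QuotientAddGroup.mk (⟨_, hδv q⟩ : X₁)))
      (fun q q' => by
        rw [← ofAdd_add, ← QuotientAddGroup.mk_add]
        congr 1
        rw [QuotientAddGroup.eq, AddSubgroup.mem_addSubgroupOf]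
        have he : (ρ (q * q') - 1 : AddMonoid.End M) v =
            (ρ q - 1 : AddMonoid.End M) v + (ρ q' - 1 : AddMonoid.End M) v +
              (ρ q - 1 : AddMonoid.End M) ((ρ q' - 1 : AddMonoid.End M) v) := by
          show ρ (q * q') v - v = ρ q v - v + (ρ q' v - v) + (ρ q (ρ q' v - v) - (ρ q' v - v))
          rw [map_mul, map_sub]
          show ρ q (ρ q' v) - v = _
          abel
        have h2 := hδ1 q _ (hδv q')
        convert neg_mem h2 using 1
        simp only [AddSubgroup.coe_add, AddSubgroup.coe_neg]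
        rw [he]; abel)
    have hχ : χ.ker.index ≤ 2 := by
      rw [Subgroup.index_ker]
      refine le_trans (Nat.card_le_card_of_injective _ Subtype.val_injective) (le_trans (le_of_eq ?_) hf1)
      exact (Nat.card_congr Multiplicative.toAdd).trans rfl
    have h2dvd : 2 ∣ Nat.card χ.ker := by
      obtain ⟨k, hk⟩ := IsPGroup.iff_card.mp (hQ.to_subgroup χ.ker)
      rw [hk, hp2]
      refine dvd_pow_self 2 fun h0 => ?_
      have h := χ.ker.card_mul_index
      rw [hk, h0, pow_zero, one_mul, hcard, hp2] at h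
      have : 2 ^ 2 ≤ 2 ^ j := Nat.pow_le_pow_right two_pos hj2
      omega
    haveI : Fact (Nat.Prime 2) := ⟨Nat.prime_two⟩
    obtain ⟨k, hk⟩ := exists_prime_orderOf_dvd_card' 2 h2dvd
    have hH₀ : (⊥ : Subgroup Q).relIndex (Subgroup.zpowers (k : Q)) = p := by
      rw [Subgroup.relIndex_bot_left, Nat.card_zpowers, Subgroup.orderOf_coe, hk, hp2]
    haveI : Fintype (Subgroup.zpowers (k : Q)) := Fintype.ofFinite _
    obtain ⟨a, haH, -, ha⟩ := sum_step ρ hM (bot_le : (⊥ : Subgroup Q) ≤ Subgroup.zpowers (k : Q)) hH₀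
    have haker : a ∈ χ.ker := Subgroup.zpowers_le.mpr k.2 haH
    have hker : ∀ x, (ρ a - 1 : AddMonoid.End M) x ∈ X₂ := by
      have h1 : (⟨_, hδv a⟩ : X₁) ∈ X₂.addSubgroupOf X₁ :=
        (QuotientAddGroup.eq_zero_iff _).mp (Multiplicative.ofAdd.injective haker)
      intro x
      rcases hv x with hx | hx
      · exact hδ1 a x hx
      · have h2 := add_mem (hδ1 a _ hx) (AddSubgroup.mem_addSubgroupOf.mp h1)
        rwa [← map_add, sub_add_cancel] at h2
    have hbase : ∀ x, ∑ h : Subgroup.zpowers (k : Q), ρ h x ∈ ser ρ 2 ⊔ fix ρ := by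
      intro x
      rw [ha x, hp2, pow_one]
      exact hker _
    have hrel : (Subgroup.zpowers (k : Q)).relIndex ⊤ = p ^ (j - 1) := by
      rw [Subgroup.relIndex_top_right]
      have h := (Subgroup.zpowers (k : Q)).card_mul_index
      rw [Nat.card_zpowers, Subgroup.orderOf_coe, hk, hcard, hp2,
        show (2 : ℕ) ^ j = 2 * 2 ^ (j - 1) by rw [← pow_succ', Nat.sub_add_cancel (by omega)]] at h
      rw [hp2]
      exact Nat.eq_of_mul_eq_mul_left two_pos h
    have h := (sum_mem ρ hQ hM _ 2 hbase (j - 1) ⊤ le_top hrel m).2 (by omega)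
    rw [hp2, hzero _ (by omega), AddSubgroup.mem_bot] at h
    rw [htop]; exact h
  · have hj1 : 1 ≤ j := by rcases hj with h | h <;> omega
    have hp3 : 3 ≤ p := by have := hp.out.two_le; omega
    have h := (sum_mem ρ hQ hM (⊥ : Subgroup Q) 0 (fun x => by
      simp [ser]) j ⊤ bot_le (by
        rw [Subgroup.relIndex_top_right, Subgroup.index_bot, hcard]) m).2 hj1
    have hle : j + 1 ≤ 0 + j * (p - 1) := by
      have : j * 2 ≤ j * (p - 1) := Nat.mul_le_mul_left j (by omega)
      omega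
    rw [hzero _ hle, AddSubgroup.mem_bot] at h
    rw [htop]; exact h

end CfsgLib.LocalEven.NormOff
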