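import Cfsg.Agent.Lib.LocalEven.ZJFusionFailure
import Cfsg.Agent.Lib.LocalEven.SFour
import Cfsg.Agent.Lib.LocalEvenB.BaerSuzuki

/-!
# Normal Sylow `2`-subgroups and inversion inside `N(Z(J(T)))`

* `not_inverted`, `normal_sylow_two_subgroup`, `exists_inverted_sylow_odd`, `exists_inverted_zj`
-/

set_option autoImplicit false
set_option linter.all false

open scoped commutatorElement

namespace CfsgLib.LocalEven.NormalTwo

open Subgroup Cfsg

variable {G : Type*} [Group G] [Finite G]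

/-- A normal Sylow `2`-subgroup forbids inversion of elements of odd order. -/
theorem not_inverted (h : ∀ P : Sylow 2 G, (P : Subgroup G).Normal) {g x : G} (hx : Odd (orderOf x))
    (hg : g * x * g⁻¹ = x⁻¹) : x = 1 := by
  haveI : Fact (Nat.Prime 2) := ⟨Nat.prime_two⟩
  obtain ⟨a, m, hm, ham⟩ := Nat.exists_eq_two_pow_mul_odd (orderOf_pos g).ne'
  have hg2 : ∀ i : ℕ, g ^ (2 * i + 1) * x * (g ^ (2 * i + 1))⁻¹ = x⁻¹ := by
    intro i
    induction i with
    | zero => simpa using hg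
    | succ i ih =>
      have h1 : g * x⁻¹ * g⁻¹ = x := by rw [← conj_inv, hg, inv_inv]
      calc g ^ (2 * (i + 1) + 1) * x * (g ^ (2 * (i + 1) + 1))⁻¹
          = g * (g * (g ^ (2 * i + 1) * x * (g ^ (2 * i + 1))⁻¹) * g⁻¹) * g⁻¹ := by
            rw [show 2 * (i + 1) + 1 = 1 + 1 + (2 * i + 1) by ring, pow_add]; group
        _ = x⁻¹ := by rw [ih, h1, hg]
  obtain ⟨i, hi⟩ := hm
  have hs := hg2 i
  rw [← hi] at hs
  have hsp : IsPGroup 2 (zpowers (g ^ m)) := by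
    refine IsPGroup.of_card (n := a) ?_
    rw [Nat.card_zpowers, orderOf_pow' g (by omega : m ≠ 0), ham, Nat.gcd_mul_left_left,
      Nat.mul_div_cancel _ (by omega : 0 < m)]
  obtain ⟨P, hP⟩ := hsp.exists_le_sylow
  haveI := h P
  have hx2 : x ^ 2 ∈ (P : Subgroup G) := by
    have h1 : (x * (g ^ m) * x⁻¹) * (g ^ m)⁻¹ ∈ (P : Subgroup G) :=
      mul_mem (Normal.conj_mem inferInstance _ (hP (mem_zpowers _)) x) (inv_mem (hP (mem_zpowers _)))
    have h2 : (x * (g ^ m) * x⁻¹) * (g ^ m)⁻¹ = x * (g ^ m * x⁻¹ * (g ^ m)⁻¹) := by group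
    rw [h2, ← conj_inv, hs, inv_inv, ← pow_two] at h1
    exact h1
  obtain ⟨j, hj⟩ := P.2 ⟨_, hx2⟩
  have h1 : orderOf x ∣ 2 ^ (j + 1) := by
    refine orderOf_dvd_of_pow_eq_one ?_
    rw [pow_succ', pow_mul]
    simpa using congrArg Subtype.val hj
  exact orderOf_eq_one_iff.1 (Nat.Coprime.eq_one_of_dvd
    ((Nat.coprime_two_right.2 hx).pow_right _) h1)

/-- Subgroups inherit a normal Sylow `2`-subgroup. -/
theorem normal_sylow_two_subgroup (h : ∀ P : Sylow 2 G, (P : Subgroup G).Normal) (H : Subgroup G) (Q : Sylow 2 ↥H) :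
    (Q : Subgroup ↥H).Normal := by
  obtain ⟨P, hP⟩ := (Q.2.map H.subtype).exists_le_sylow
  haveI := h P
  rw [← Q.3 (P.2.comap_subtype (K := H)) (map_le_iff_le_comap.1 hP)]
  exact Normal.comap inferInstance _

/-- Without a normal Sylow `2`-subgroup an element of odd prime power order is inverted. -/
theorem exists_inverted_sylow_odd (h : ¬ ∀ P : Sylow 2 G, (P : Subgroup G).Normal) :
    ∃ (r : ℕ) (_ : Fact r.Prime), r ≠ 2 ∧ r ∣ Nat.card G ∧ ∃ (T : Sylow r G) (t : G), ∃ z ∈ (T : Subgroup G), z ≠ 1 ∧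
      t * z * t⁻¹ = z⁻¹ := by
  haveI : Fact (Nat.Prime 2) := ⟨Nat.prime_two⟩
  push Not at h
  obtain ⟨P, hP⟩ := h
  haveI := CfsgLib.Core.normal_pCore 2 G
  obtain ⟨q, hq⟩ : ∃ q, q = QuotientGroup.mk' (pCore 2 G) := ⟨_, rfl⟩
  have hqs : Function.Surjective q := hq ▸ QuotientGroup.mk'_surjective _
  have hidx : 2 ∣ Nat.card (G ⧸ pCore 2 G) := by
    by_contra hd
    refine hP ?_
    have hle : pCore 2 G ≤ (P : Subgroup G) := CfsgLib.Core.pCore_le_sylow P
    rw [← Subgroup.index_eq_card] at hd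
    have h1 : (pCore 2 G).relIndex (P : Subgroup G) = 1 := by
      obtain ⟨j, hj⟩ := IsPGroup.iff_card.1 P.2
      have h2 : (pCore 2 G).relIndex (P : Subgroup G) ∣ Nat.card (P : Subgroup G) := Subgroup.index_dvd_card _
      rw [hj] at h2
      obtain ⟨i, -, hi⟩ := (Nat.dvd_prime_pow Nat.prime_two).1 h2
      cases i with
      | zero => simpa using hi
      | succ i => exact absurd ((hi ▸ dvd_pow_self 2 (Nat.succ_ne_zero i)).trans (relIndex_dvd_index_of_le hle)) hd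
    rw [le_antisymm (relIndex_eq_one.1 h1) hle]
    infer_instance
  obtain ⟨v, hv⟩ := exists_prime_orderOf_dvd_card' 2 hidx
  obtain ⟨y, hy1, hyo, hyv⟩ := CfsgLib.LocalEvenB.exists_odd_inverted (v := v)
    (by rw [← pow_two]; exact orderOf_dvd_iff_pow_eq_one.1 hv.dvd) (by
      rw [CfsgLib.Core.pCore_quotient_pCore, mem_bot]
      intro h1; rw [h1, orderOf_one] at hv; omega)
  obtain ⟨r, hr, hrd⟩ := Nat.exists_prime_and_dvd (n := orderOf y) (fun h1 => hy1 (orderOf_eq_one_iff.1 h1))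
  haveI : Fact r.Prime := ⟨hr⟩
  have hr2 : r ≠ 2 := fun h2 => Nat.not_even_iff_odd.2 hyo (even_iff_two_dvd.2 (h2 ▸ hrd))
  obtain ⟨c, hc⟩ := hrd
  have hcpos : c ≠ 0 := fun h0 => (orderOf_pos y).ne' (by rw [hc, h0, mul_zero])
  have hord : orderOf (y ^ c) = r := by
    rw [orderOf_pow_of_dvd hcpos (hc ▸ dvd_mul_left c r), hc, Nat.mul_div_cancel _ (Nat.pos_of_ne_zero hcpos)]
  have hinv : v * y ^ c * v⁻¹ = (y ^ c)⁻¹ := by rw [← conj_pow, hyv, inv_pow]
  obtain ⟨t, z, -, ⟨j, hj⟩, htz, hz1⟩ := CfsgLib.LocalEven.exists_inverting_lift (QuotientGroup.mk' (pCore 2 G))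
    (QuotientGroup.mk'_surjective _) (p := r) hr2 ⟨1, by rw [pow_one, hord]⟩
    (fun h1 => hr.ne_one (by rw [← hord, h1, orderOf_one])) hinv
  have hzne : z ≠ 1 := fun h1 => hz1 (by rw [h1, map_one])
  obtain ⟨T, hT⟩ := (IsPGroup.of_card (by rw [Nat.card_zpowers, hj]) : IsPGroup r ↥(zpowers z)).exists_le_sylow
  refine ⟨r, inferInstance, hr2, ?_, T, t, z, hT (mem_zpowers z), hzne, htz⟩
  cases j with
  | zero => exact absurd (orderOf_eq_one_iff.1 (by simpa using hj)) hzne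
  | succ j => exact (hj ▸ dvd_pow_self r (Nat.succ_ne_zero j) : r ∣ orderOf z).trans (orderOf_dvd_natCard z)

/-- Then some nontrivial element of a Sylow subgroup `T` is inverted in `N(Z(J(T)))`. -/
theorem exists_inverted_zj (h : ¬ ∀ P : Sylow 2 G, (P : Subgroup G).Normal) :
    ∃ (r : ℕ) (_ : Fact r.Prime), r ≠ 2 ∧ r ∣ Nat.card G ∧ ∃ T : Sylow r G, ∃ x ∈ (T : Subgroup G), x ≠ 1 ∧
      ∃ g ∈ normalizer (centerThompsonAOf (T : Subgroup G) : Set G), g * x * g⁻¹ = x⁻¹ := by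
  obtain ⟨r, hr, hr2, hrd, T, t, z, hz, hz1, htz⟩ := exists_inverted_sylow_odd h
  haveI := hr
  refine ⟨r, hr, hr2, hrd, T, ?_⟩
  rcases ZJFail.control_or_concl hr2 T with hctl | ⟨-, g, hg, v, hv, hvo, k, hk, hgv⟩
  · obtain ⟨g, hg, hgz⟩ := hctl (zpowers z) (zpowers_le.2 hz) t (by
      rintro _ ⟨i, rfl⟩
      show t * z ^ i * t⁻¹ ∈ _
      rw [← conj_zpow, htz]; exact zpow_mem (inv_mem hz) i)
    exact ⟨z, hz, hz1, g, hg, (hgz z (mem_zpowers z)).trans htz⟩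
  · obtain ⟨i, hi⟩ := mem_powers_iff_mem_zpowers.2 (hk (-1))
    refine ⟨v, PLocal.centerThompsonA_le _ hv, fun h1 => hr.out.ne_one (by rw [← hvo, h1, orderOf_one]),
      g ^ i, pow_mem hg i, ?_⟩
    have hiter : ∀ i : ℕ, g ^ i * v * (g ^ i)⁻¹ = v ^ ((k : ZMod r).val ^ i) := by
      intro i
      induction i with
      | zero => simp
      | succ i ih =>
        rw [pow_succ g, show g ^ i * g * v * (g ^ i * g)⁻¹ = g ^ i * (g * v * g⁻¹) * (g ^ i)⁻¹ by group, hgv,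
          ← conj_pow, ih, ← pow_mul, pow_succ]
    rw [hiter]
    have h2 : (((k : ZMod r).val ^ i + 1 : ℕ) : ZMod r) = 0 := by
      push_cast
      rw [ZMod.natCast_zmod_val, ← Units.val_pow_eq_pow_val, show k ^ i = -1 from hi]
      simp
    rw [ZMod.natCast_eq_zero_iff] at h2
    exact eq_inv_of_mul_eq_one_left (by rw [← pow_succ, orderOf_dvd_iff_pow_eq_one.1 (hvo ▸ h2)])

end CfsgLib.LocalEven.NormalTwo
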