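import Cfsg.Agent.Lib.LocalEven.OffenderStep
import Cfsg.Agent.Lib.LocalEven.CoprimeComm

/-!
# `|[M, A]| ≥ |A|²` from the steps

* `commutator_bound_of_steps`
-/

set_option autoImplicit false
set_option linter.all false

namespace CfsgLib.LocalEven.SFreeOffender

open Subgroup

universe u

variable {G : Type u} [Group G]

set_option maxHeartbeats 1000000 in
/-- The commutator bound from the steps. -/
theorem commutator_bound_of_steps {L : Type u} [Group L] [Finite L] (M G : Subgroup L)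
    (hM : Cfsg.IsElementaryAbelian 2 M) (hGM : G ≤ normalizer (M : Set L))
    (hf : G ⊓ centralizer (M : Set L) = ⊥)
    (hstep : ∀ A : Subgroup ↥G, Cfsg.IsElementaryAbelian 2 A → A ≠ ⊥ → Step A) :
    ∀ A : Subgroup ↥G, Cfsg.IsElementaryAbelian 2 A →
      Nat.card A ^ 2 ≤ Nat.card ↥⁅M, (A.map G.subtype : Subgroup L)⁆ := by
  haveI : Fact (Nat.Prime 2) := ⟨Nat.prime_two⟩
  intro A
  induction hn : Nat.card A using Nat.strong_induction_on generalizing A with
  | _ n ih =>
    subst hn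
    intro hA
    rcases eq_or_ne A ⊥ with rfl | hA1
    · rw [Subgroup.card_bot, one_pow]
      exact Nat.card_pos
    obtain ⟨B, a, x, r, e, hBA, ha, hx, hr, hr2, he, hidx, hd, hppd⟩ := hstep A hA hA1
    obtain ⟨y, hy, hyB, hyi⟩ := exists_inverted_of_dvd hA hBA ha hx hr hd
    have haB : a ∉ B := fun h => by
      have h1 : a * y * a⁻¹ = y := by rw [mem_centralizer_iff.1 hyB a h, mul_inv_cancel_right]
      have h2 : y ^ 2 = 1 := by rw [pow_two]; nth_rewrite 2 [← h1]; rw [hyi, mul_inv_cancel]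
      exact hr2 ((Nat.prime_dvd_prime_iff_eq hr Nat.prime_two).1 (hy ▸ orderOf_dvd_of_pow_eq_one h2))
    have hlt : Nat.card B < Nat.card A := (Subgroup.card_le_of_le hBA).lt_of_ne fun h =>
      haB ((eq_of_le_of_card_ge hBA h.ge).symm ▸ ha)
    have hBe : Cfsg.IsElementaryAbelian 2 B :=
      ⟨⟨⟨fun u v => Subtype.ext (comm_of_elementary hA (hBA u.2) (hBA v.2))⟩⟩, fun v hv => hA.2 v (hBA hv)⟩
    have hB := ih _ hlt B rfl hBe
    -- the ambient group
    obtain ⟨B', hB'⟩ : ∃ B', B' = B.map G.subtype := ⟨_, rfl⟩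
    obtain ⟨A', hA'⟩ : ∃ A', A' = A.map G.subtype := ⟨_, rfl⟩
    rw [← hB'] at hB; rw [← hA']
    obtain ⟨W, hW⟩ : ∃ W, W = ⁅M, B'⁆ := ⟨_, rfl⟩
    rw [← hW] at hB
    have hA'M : A' ≤ normalizer (M : Set L) := hA' ▸ (map_subtype_le _).trans hGM
    have hB'A' : B' ≤ A' := by rw [hB', hA']; exact map_mono hBA
    have hWM : W ≤ M := by
      rw [hW, commutator_le]
      intro v hv b hb
      rw [commutatorElement_def, mul_assoc, mul_assoc, ← mul_assoc b]
      exact mul_mem hv ((mem_normalizer_iff.1 (hA'M (hB'A' hb)) _).1 (inv_mem hv))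
    have hcommM : ∀ u ∈ M, ∀ v ∈ M, u * v = v * u := fun u hu v hv =>
      congrArg Subtype.val (hM.1.is_comm.comm ⟨u, hu⟩ ⟨v, hv⟩)
    -- the normalizer of `W`
    obtain ⟨X, hXW⟩ : ∃ X, X = normalizer (W : Set L) := ⟨_, rfl⟩
    have hMX : M ≤ X := fun v hv => by
      rw [hXW, mem_normalizer_iff]
      intro w
      exact ⟨fun hw => by rw [hcommM v hv w (hWM hw), mul_inv_cancel_right]; exact hw, fun hw => by
        have hwM : w ∈ M := by
          have := mul_mem (mul_mem (inv_mem hv) (hWM hw)) hv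
          simpa [mul_assoc] using this
        rwa [hcommM v hv w hwM, mul_inv_cancel_right] at hw⟩
    have hsub : ∀ h : ↥G, h ∈ centralizer (B : Set ↥G) → (h : L) ∈ X := by
      intro h hh
      rw [hXW, mem_normalizer_iff_map_conj_eq, hW, map_commutator,
        mem_normalizer_iff_map_conj_eq.1 (hGM h.2)]
      congr 1
      rw [hB']
      apply le_antisymm
      · rintro _ ⟨_, ⟨b, hb, rfl⟩, rfl⟩
        refine ⟨b, hb, ?_⟩
        have := congrArg Subtype.val (mem_centralizer_iff.1 hh b hb)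
        show (b : L) = (h : L) * b * (h : L)⁻¹
        rw [← show (b : L) * h = h * b from this, mul_inv_cancel_right]
      · rintro _ ⟨b, hb, rfl⟩
        refine ⟨(b : L), mem_map_of_mem G.subtype hb, ?_⟩
        have := congrArg Subtype.val (mem_centralizer_iff.1 hh b hb)
        show (h : L) * b * (h : L)⁻¹ = b
        rw [← show (b : L) * h = h * b from this, mul_inv_cancel_right]
    obtain ⟨g, hg⟩ : ∃ g : ↥G, g = a * (y * a * y⁻¹) := ⟨_, rfl⟩
    have hgy : g = (y ^ 2)⁻¹ := by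
      rw [hg, pow_two, mul_inv_rev]
      calc a * (y * a * y⁻¹) = (a * y * a⁻¹) * (a * a) * y⁻¹ := by group
        _ = _ := by rw [hyi, ← pow_two, hA.2 a ha, mul_one]
    have hgo : orderOf g = r := by
      rw [hgy, orderOf_inv, Nat.Coprime.orderOf_pow, hy]
      rw [hy]; exact (Nat.coprime_primes hr Nat.prime_two).2 hr2
    have hgoL : orderOf (g : L) = r := by rw [Subgroup.orderOf_coe, hgo]
    have hgB : g ∈ centralizer (B : Set ↥G) := by rw [hgy]; exact inv_mem (pow_mem hyB 2)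
    have haB' : a ∈ centralizer (B : Set ↥G) :=
      mem_centralizer_iff.2 fun b hb => comm_of_elementary hA (hBA hb) ha
    haveI : (W.subgroupOf X).Normal :=
      (normal_subgroupOf_iff_le_normalizer (hWM.trans hMX)).2 (hXW ▸ le_rfl)
    obtain ⟨π, hπ⟩ : ∃ π, π = QuotientGroup.mk' (W.subgroupOf X) := ⟨_, rfl⟩
    obtain ⟨V, hV⟩ : ∃ V, V = (M.subgroupOf X).map π := ⟨_, rfl⟩
    have hVp : IsPGroup 2 ↥V := by
      rw [hV]
      exact IsPGroup.map (fun v => ⟨1, Subtype.ext (Subtype.ext (by simpa using hM.2 _ v.2))⟩) π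
    have hnorm : ∀ (h : L) (hX : h ∈ X), h ∈ normalizer (M : Set L) → π ⟨h, hX⟩ ∈ normalizer (V : Set _) := by
      intro h hX hh
      rw [hV]
      refine le_normalizer_map π (mem_map_of_mem π ?_)
      rw [mem_normalizer_iff]
      intro v
      exact mem_normalizer_iff.1 hh (v : L)
    obtain ⟨aX, haX⟩ : ∃ aX : ↥X, (aX : L) = a := ⟨⟨a, hsub a haB'⟩, rfl⟩
    obtain ⟨yX, hyX⟩ : ∃ yX : ↥X, (yX : L) = y := ⟨⟨y, hsub y hyB⟩, rfl⟩
    obtain ⟨gX, hgX⟩ : ∃ gX : ↥X, (gX : L) = g := ⟨⟨g, hsub g hgB⟩, rfl⟩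
    have hgne : π gX ≠ 1 := by
      intro h
      rw [hπ, QuotientGroup.mk'_apply, QuotientGroup.eq_one_iff, mem_subgroupOf, hgX] at h
      have h1 : (g : L) ∈ G ⊓ centralizer (M : Set L) :=
        mem_inf.2 ⟨g.2, mem_centralizer_iff.2 fun v hv => hcommM v hv g (hWM h)⟩
      rw [hf, mem_bot] at h1
      rw [h1, orderOf_one] at hgoL
      exact hr.one_lt.ne hgoL
    have hgo' : orderOf (π gX) = r := by
      haveI : Fact r.Prime := ⟨hr⟩
      refine orderOf_eq_prime ?_ hgne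
      rw [← map_pow, show gX ^ r = 1 from Subtype.ext (by rw [SubmonoidClass.coe_pow, hgX, ← hgoL, pow_orderOf_eq_one]; rfl),
        map_one]
    have hmove : π gX ∉ centralizer (V : Set _) := by
      intro hcV
      have key : ⁅M, zpowers (g : L)⁆ ≤ ⁅M, B'⁆ := by
        rw [← hW, commutator_le]
        intro v hv k hk
        obtain ⟨i, rfl⟩ := hk
        have h1 : π ⟨v, hMX hv⟩ * π gX ^ i = π gX ^ i * π ⟨v, hMX hv⟩ :=
          mem_centralizer_iff.1 (zpow_mem hcV i) _ (hV ▸ mem_map_of_mem π (show (⟨v, hMX hv⟩ : ↥X) ∈ M.subgroupOf X from hv))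
        rw [← map_zpow, ← map_mul, ← map_mul] at h1
        have h2 : π (⟨v, hMX hv⟩ * gX ^ i * ⟨v, hMX hv⟩⁻¹ * (gX ^ i)⁻¹) = 1 := by
          rw [map_mul, map_mul, h1, map_mul, map_inv, map_inv]; group
        rw [hπ, QuotientGroup.mk'_apply, QuotientGroup.eq_one_iff, mem_subgroupOf] at h2
        simpa [commutatorElement_def, hgX] using h2
      have hcop : ¬ 2 ∣ Nat.card ↥(zpowers (g : L)) := by
        rw [Nat.card_zpowers, hgoL]
        exact fun h => hr2 ((Nat.prime_dvd_prime_iff_eq Nat.prime_two hr).1 h).symm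
      have h0 := coprime_comm_eq_bot (p := 2) (A := B')
        (fun v => ⟨1, Subtype.ext (by simpa using hM.2 _ v.2)⟩)
        (fun (v : ↥B') => by
          obtain ⟨b₀, hb₀, hbv⟩ : (v : L) ∈ B.map G.subtype := hB'.symm ▸ v.2
          exact ⟨1, Subtype.ext (by
            rw [SubmonoidClass.coe_pow, ← hbv, pow_one, ← map_pow, hBe.2 b₀ hb₀, map_one]; rfl)⟩)
        hcop (hB'A'.trans hA'M) (zpowers_le.2 (hGM g.2))
        ((commutator_eq_bot_iff_le_centralizer).2 fun b hb => mem_centralizer_iff.2 fun k hk => by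
          obtain ⟨b₀, hb₀, rfl⟩ : b ∈ B.map G.subtype := hB'.symm ▸ hb
          obtain ⟨i, rfl⟩ := hk
          have h3 : Commute (g : L) (b₀ : L) := (congrArg Subtype.val (mem_centralizer_iff.1 hgB b₀ hb₀)).symm
          exact (h3.zpow_left i).eq) key
      have h4 : (g : L) ∈ G ⊓ centralizer (M : Set L) :=
        mem_inf.2 ⟨g.2, (le_centralizer_iff.1 (commutator_eq_bot_iff_le_centralizer.1 h0)) (mem_zpowers _)⟩
      rw [hf, mem_bot] at h4
      rw [h4, orderOf_one] at hgoL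
      exact hr.one_lt.ne hgoL
    have hgXn := hnorm (gX : L) gX.2 (hgX ▸ hGM g.2)
    have h1 : 2 ^ (4 * e - 1) ≤ Ppd.fixIndex V (π gX) := by
      have := Ppd.pow_le_fixIndex_of_orderOf (p := 2) hVp (g := π gX) hgXn (e := 0) (N := 4 * e - 1) hr hr2
        (by rw [hgo', pow_one]) (by rw [pow_zero, pow_one]; exact hmove)
        (fun j hj hjN => by rw [pow_one]; exact hppd j hj (by omega))
      rwa [pow_zero, pow_one] at this
    have h2 : Ppd.fixIndex V (π gX) ≤ Ppd.fixIndex V (π aX) * Ppd.fixIndex V (π aX) := by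
      have e1 : gX = aX * (yX * aX * yX⁻¹) := Subtype.ext (by simp [hgX, haX, hyX, hg])
      rw [e1, map_mul, map_mul, map_mul, map_inv]
      refine (Ppd.fixIndex_mul_le V _ _).trans (le_of_eq ?_)
      rw [Ppd.fixIndex_conj (hnorm (yX : L) yX.2 (hyX ▸ hGM y.2))]
    obtain ⟨k, hk⟩ := IsPGroup.iff_card.1 hVp
    obtain ⟨j, -, hj⟩ := (Nat.dvd_prime_pow Nat.prime_two).1
      (hk ▸ relIndex_dvd_card (V ⊓ centralizer ({π aX} : Set _)) V)
    have hj' : 2 * e ≤ j := by
      have h3 : 2 ^ (4 * e - 1) ≤ 2 ^ (j + j) := by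
        rw [pow_add]
        refine h1.trans (h2.trans (le_of_eq ?_))
        rw [Ppd.fixIndex, hj]
      have := (Nat.pow_le_pow_iff_right (by norm_num : 1 < 2)).1 h3
      omega
    -- commutators with `a` in `M / W`
    obtain ⟨C, hC⟩ : ∃ C, C = ⁅M, A'⁆ := ⟨_, rfl⟩
    have hWC : W ≤ C := by rw [hW, hC]; exact commutator_mono le_rfl hB'A'
    have hCM : C ≤ M := by
      rw [hC, commutator_le]
      intro v hv b hb
      rw [commutatorElement_def, mul_assoc, mul_assoc, ← mul_assoc b]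
      exact mul_mem hv ((mem_normalizer_iff.1 (hA'M hb) _).1 (inv_mem hv))
    have hinj : Ppd.fixIndex V (π aX) ≤ W.relIndex C := by
      let δ : ↥V → ↥((C.subgroupOf X).map π) := fun v =>
        ⟨(v : ↥X ⧸ W.subgroupOf X) * π aX * (v : ↥X ⧸ W.subgroupOf X)⁻¹ * (π aX)⁻¹, by
        obtain ⟨m, hm, hmv⟩ : (v : ↥X ⧸ W.subgroupOf X) ∈ (M.subgroupOf X).map π := hV ▸ v.2
        rw [← hmv, ← map_inv, ← map_inv, ← map_mul, ← map_mul, ← map_mul]
        refine mem_map_of_mem π ?_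
        rw [mem_subgroupOf, coe_mul, coe_mul, coe_mul, coe_inv, coe_inv, hC, haX, ← commutatorElement_def]
        exact commutator_mem_commutator hm (hA' ▸ mem_map_of_mem G.subtype ha)⟩
      have hcV : ∀ u ∈ V, ∀ v ∈ V, u * v = v * u := by
        rw [hV]
        rintro _ ⟨u, hu, rfl⟩ _ ⟨v, hv, rfl⟩
        rw [← map_mul, ← map_mul, show u * v = v * u from Subtype.ext (hcommM _ hu _ hv)]
      have hδ : ∀ u v : ↥V, δ u = δ v → (u⁻¹ * v : ↥V) ∈ (V ⊓ centralizer ({π aX} : Set _)).subgroupOf V := by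
        intro u v h
        have h' : (u : ↥X ⧸ W.subgroupOf X) * π aX * (u : ↥X ⧸ W.subgroupOf X)⁻¹ * (π aX)⁻¹ =
            (v : ↥X ⧸ W.subgroupOf X) * π aX * (v : ↥X ⧸ W.subgroupOf X)⁻¹ * (π aX)⁻¹ :=
          congrArg Subtype.val h
        rw [mem_subgroupOf, mem_inf]
        refine ⟨SetLike.coe_mem _, mem_centralizer_singleton_iff.2 ?_⟩
        have h5 := mul_right_cancel h'
        rw [coe_mul, coe_inv]
        calc ((u : ↥X ⧸ W.subgroupOf X))⁻¹ * (v : ↥X ⧸ W.subgroupOf X) * π aX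
            = (u : ↥X ⧸ W.subgroupOf X)⁻¹ * ((v : ↥X ⧸ W.subgroupOf X) * π aX * (v : ↥X ⧸ W.subgroupOf X)⁻¹) *
                (v : ↥X ⧸ W.subgroupOf X) := by group
          _ = (u : ↥X ⧸ W.subgroupOf X)⁻¹ * ((u : ↥X ⧸ W.subgroupOf X) * π aX * (u : ↥X ⧸ W.subgroupOf X)⁻¹) *
                (v : ↥X ⧸ W.subgroupOf X) := by rw [h5]
          _ = _ := by group
      let Δ : ↥V ⧸ (V ⊓ centralizer ({π aX} : Set _)).subgroupOf V → ↥((C.subgroupOf X).map π) :=
        fun q => δ q.out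
      have hΔ : Function.Injective Δ := fun q q' h => by
        rw [← q.out_eq, ← q'.out_eq]
        exact QuotientGroup.eq.2 (hδ _ _ h)
      have h6 := Nat.card_le_card_of_injective Δ hΔ
      rw [← index, ← relIndex] at h6
      refine h6.trans (le_of_eq ?_)
      rw [hπ, ← relIndex_bot_left, ← relIndex_comap, MonoidHom.comap_bot, QuotientGroup.ker_mk',
        relIndex_subgroupOf (hCM.trans hMX)]
    have hfin : Nat.card ↥W * W.relIndex C = Nat.card ↥C := by
      rw [← relIndex_bot_left, ← relIndex_bot_left, relIndex_mul_relIndex _ _ _ bot_le hWC]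
    rw [← hC]
    calc Nat.card A ^ 2 ≤ (2 ^ e * Nat.card B) ^ 2 := Nat.pow_le_pow_left hidx 2
      _ = Nat.card B ^ 2 * 2 ^ (2 * e) := by ring
      _ ≤ Nat.card ↥W * W.relIndex C := Nat.mul_le_mul hB
          ((Nat.pow_le_pow_right two_pos hj').trans (le_of_eq_of_le (by rw [Ppd.fixIndex, hj]) hinj))
      _ = Nat.card ↥C := hfin

end CfsgLib.LocalEven.SFreeOffender
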