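import Mathlib

/-!
# A minimal offender with two-conjugate generation: the spread

`P` acts on an elementary abelian `V`, `A` is a quadratic offender every proper nontrivial subgroup of which
is strictly worse, and `P = ⟨A, A^x⟩` for all `x` outside the maximal subgroup `M` over the Sylow
subgroup `T`.
-/

set_option autoImplicit false
set_option linter.all false

namespace CfsgLib.LocalEven.OffSL2

open Subgroup

section Basic

variable {P V : Type*} [Group P] [AddCommGroup V] (act : P →* AddMonoid.End V)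

theorem act_mul (g h : P) (v : V) : act (g * h) v = act g (act h v) := by rw [map_mul]; rfl

theorem act_one (v : V) : act 1 v = v := by rw [map_one]; rfl

theorem act_inv (g : P) (v : V) : act g⁻¹ (act g v) = v := by rw [← act_mul, inv_mul_cancel, act_one]

theorem act_inv' (g : P) (v : V) : act g (act g⁻¹ v) = v := by rw [← act_mul, mul_inv_cancel, act_one]

theorem act_injective (g : P) : Function.Injective (act g) := fun u v h => by
  rw [← act_inv act g u, h, act_inv]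

/-- The common fixed points of a subgroup. -/
def fix (S : Subgroup P) : AddSubgroup V where
  carrier := {v | ∀ a ∈ S, act a v = v}
  zero_mem' := fun _ _ => map_zero _
  add_mem' := fun {u v} hu hv a ha => by rw [map_add, hu a ha, hv a ha]
  neg_mem' := fun {u} hu a ha => by rw [map_neg, hu a ha]

/-- The stabiliser of a vector. -/
def stabV (v : V) : Subgroup P where
  carrier := {g | act g v = v}
  one_mem' := act_one act v
  mul_mem' := fun {g h} hg hh => by show act (g * h) v = v; rw [act_mul, hh, hg]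
  inv_mem' := fun {g} hg => by show act g⁻¹ v = v; nth_rewrite 1 [← (hg : act g v = v)]; rw [act_inv]

/-- The stabiliser of a set of vectors. -/
def stabS [Finite V] (U : AddSubgroup V) : Subgroup P where
  carrier := {g | ∀ u ∈ U, act g u ∈ U}
  one_mem' := fun u hu => by rw [act_one]; exact hu
  mul_mem' := fun {g h} hg hh u hu => by rw [act_mul]; exact hg _ (hh u hu)
  inv_mem' := fun {g} hg u hu => by
    obtain ⟨⟨w, hw⟩, hwu⟩ := Finite.injective_iff_surjective.1
      (show Function.Injective (fun x : U => (⟨act g x, hg x x.2⟩ : U)) from fun x x' h =>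
        Subtype.ext (act_injective act g (congrArg Subtype.val h))) ⟨u, hu⟩
    have : act g w = u := congrArg Subtype.val hwu
    rw [← this, act_inv]
    exact hw

theorem mem_fix_conj {S : Subgroup P} {g : P} {v : V} :
    v ∈ fix act (S.map (MulAut.conj g).toMonoidHom) ↔ act g⁻¹ v ∈ fix act S := by
  constructor
  · intro h a ha
    have := h _ (mem_map_of_mem _ ha)
    change act (g * a * g⁻¹) v = v at this
    rw [act_mul, act_mul] at this
    conv_rhs => rw [← this, act_inv]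
  · rintro h _ ⟨a, ha, rfl⟩
    show act (g * a * g⁻¹) v = v
    rw [act_mul, act_mul, h a ha, act_inv']

theorem fix_top_act {v : V} (hv : v ∈ fix act ⊤) (g : P) : act g v = v := hv g (mem_top g)

theorem fix_top_le (S : Subgroup P) : fix act ⊤ ≤ fix act S := fun _ hv a _ => hv a (mem_top a)

theorem mem_top_of_gen {S S' : Subgroup P} (h : S ⊔ S' = ⊤) {v : V} (h1 : v ∈ fix act S)
    (h2 : v ∈ fix act S') : v ∈ fix act ⊤ := fun g _ =>
  (h.ge.trans (sup_le (fun a ha => h1 a ha) (fun a ha => h2 a ha)) : (⊤ : Subgroup P) ≤ stabV act v) (mem_top g)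

end Basic

theorem card_sup_mul_inf {V : Type*} [AddCommGroup V] (U W : AddSubgroup V) :
    Nat.card ↥(U ⊔ W) * Nat.card ↥(U ⊓ W) = Nat.card U * Nat.card W := by
  let f : U × W →+ ↥(U ⊔ W) :=
    { toFun := fun q => ⟨(q.1 : V) + q.2, AddSubgroup.add_mem_sup q.1.2 q.2.2⟩
      map_zero' := Subtype.ext (by simp)
      map_add' := fun q r => Subtype.ext (by simp [add_add_add_comm]) }
  have hf : Function.Surjective f := fun ⟨v, hv⟩ => by
    obtain ⟨u, hu, w, hw, rfl⟩ := AddSubgroup.mem_sup.1 hv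
    exact ⟨(⟨u, hu⟩, ⟨w, hw⟩), rfl⟩
  have hk : f.ker ≃ ↥(U ⊓ W) :=
    { toFun := fun q => ⟨(q.1.1 : V), AddSubgroup.mem_inf.2 ⟨q.1.1.2, by
        have h : (q.1.1 : V) + q.1.2 = 0 := congrArg Subtype.val q.2
        rw [eq_neg_of_add_eq_zero_left h]; exact neg_mem q.1.2.2⟩⟩
      invFun := fun v => ⟨(⟨v, (AddSubgroup.mem_inf.1 v.2).1⟩, ⟨-(v : V), neg_mem (AddSubgroup.mem_inf.1 v.2).2⟩),
        Subtype.ext (by simp [f])⟩
      left_inv := fun q => by
        have h : (q.1.1 : V) + q.1.2 = 0 := congrArg Subtype.val q.2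
        exact Subtype.ext (Prod.ext rfl (Subtype.ext (neg_eq_of_add_eq_zero_right h)))
      right_inv := fun v => rfl }
  rw [← Nat.card_prod U W, AddSubgroup.card_eq_card_quotient_mul_card_addSubgroup f.ker,
    Nat.card_congr (QuotientAddGroup.quotientKerEquivOfSurjective f hf).toEquiv, Nat.card_congr hk]

theorem eq_top_of_card {V : Type*} [AddCommGroup V] [Finite V] (U : AddSubgroup V) (h : Nat.card V ≤ Nat.card U) :
    U = ⊤ := AddSubgroup.eq_top_of_card_eq U (le_antisymm (Nat.card_le_card_of_injective _ U.subtype_injective) h)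

variable {P V : Type*} [Group P] [Finite P] [AddCommGroup V] [Finite V] {p : ℕ} [Fact p.Prime]

/-- The hypotheses. -/
structure Hyp (act : P →* AddMonoid.End V) (T : Sylow p P) (M A : Subgroup P) (y : V) : Prop where
  inj : Function.Injective act
  AT : A ≤ (T : Subgroup P)
  TM : (T : Subgroup P) ≤ M
  Mne : M ≠ ⊤
  quad : ∀ a ∈ A, ∀ v, act a v - v ∈ fix act A
  hq : Nat.card V ≤ Nat.card A * Nat.card (fix act A)
  strict : ∀ A₀ : Subgroup P, A₀ ≤ A → A₀ ≠ ⊥ → A₀ ≠ A →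
    Nat.card A₀ * Nat.card (fix act A₀) < Nat.card A * Nat.card (fix act A)
  hy : y ∈ fix act (T : Subgroup P)
  hyZ : y ∉ fix act ⊤
  gen : ∀ x ∉ M, A ⊔ A.map (MulAut.conj x).toMonoidHom = ⊤
  core : ∀ r ∈ (T : Subgroup P), (∀ g : P, g⁻¹ * r * g ∈ M) → ∀ g : P, g⁻¹ * r * g ∈ (T : Subgroup P)

variable {act : P →* AddMonoid.End V} {T : Sylow p P} {M A : Subgroup P} {y : V}

theorem Hyp.exists_out (h : Hyp act T M A y) : ∃ g, g ∉ M := by
  by_contra hc
  push Not at hc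
  exact h.Mne (eq_top_iff.2 fun g _ => hc g)

theorem Hyp.inf_fix (h : Hyp act T M A y) {g : P} (hg : g ∉ M) {v : V} (h1 : v ∈ fix act A)
    (h2 : act g⁻¹ v ∈ fix act A) : v ∈ fix act ⊤ :=
  mem_top_of_gen act (h.gen g hg) h1 ((mem_fix_conj act).2 h2)

/-- `(1b)` -/
theorem Hyp.shift (h : Hyp act T M A y) {g : P} {a : P} (ha' : g⁻¹ * a * g ∉ M)
    {v : V} (hv : act g⁻¹ v ∈ fix act A) (hd : act a v - v ∈ fix act ⊤) : v ∈ fix act ⊤ := by
  obtain ⟨z, hz⟩ : ∃ z, z = act a v - v := ⟨_, rfl⟩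
  rw [← hz] at hd
  have h1 : act (g⁻¹ * a * g)⁻¹ (act g⁻¹ v) = act g⁻¹ v - z := by
    rw [← act_mul, show (g⁻¹ * a * g)⁻¹ * g⁻¹ = g⁻¹ * a⁻¹ by group, act_mul]
    have : v = act a v - z := by rw [hz, sub_sub_cancel]
    conv_lhs => rw [this]
    rw [map_sub, map_sub, act_inv, fix_top_act act hd, fix_top_act act hd]
  have h2 := h.inf_fix ha' hv (by rw [h1]; exact sub_mem hv (fix_top_le act A hd))
  intro k _
  have h3 := fix_top_act act h2 (g⁻¹ * k * g)
  rw [← act_mul, mul_assoc, mul_inv_cancel, mul_one, act_mul] at h3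
  exact act_injective act _ h3

/-- The span of the translates of `y` and the fixed points. -/
def orbitSpan (act : P →* AddMonoid.End V) (y : V) : AddSubgroup V :=
  AddSubgroup.closure (Set.range fun g => act g y) ⊔ fix act ⊤

theorem orbitSpan_stable (g : P) {u : V} (hu : u ∈ orbitSpan act y) : act g u ∈ orbitSpan act y := by
  have : orbitSpan act y ≤ (orbitSpan act y).comap (act g) := by
    refine sup_le ((AddSubgroup.closure_le _).2 ?_) fun z hz => ?_
    · rintro _ ⟨k, rfl⟩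
      show act g (act k y) ∈ orbitSpan act y
      rw [← act_mul]
      exact AddSubgroup.mem_sup_left (AddSubgroup.subset_closure ⟨_, rfl⟩)
    · show act g z ∈ orbitSpan act y
      rw [fix_top_act act hz]
      exact AddSubgroup.mem_sup_right hz
  exact this hu

theorem mem_orbitSpan (g : P) : act g y ∈ orbitSpan act y :=
  AddSubgroup.mem_sup_left (AddSubgroup.subset_closure ⟨g, rfl⟩)

/-- `(2)` -/
theorem Hyp.decompose (h : Hyp act T M A y) {g : P} (hg : g ∉ M) {u : V} (hu : u ∈ orbitSpan act y) :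
    ∃ w x : V, w ∈ orbitSpan act y ∧ w ∈ fix act A ∧ x ∈ orbitSpan act y ∧ act g⁻¹ x ∈ fix act A ∧ w + x = u := by
  obtain ⟨S, hS⟩ : ∃ S, S = (orbitSpan act y ⊓ fix act A) ⊔
      (orbitSpan act y ⊓ fix act (A.map (MulAut.conj g).toMonoidHom)) := ⟨_, rfl⟩
  have hSU : S ≤ orbitSpan act y := hS ▸ sup_le inf_le_left inf_le_left
  have hA : A ≤ stabS act S := fun a ha s hs => by
    rw [← sub_add_cancel (act a s) s]
    exact add_mem (hS ▸ AddSubgroup.mem_sup_left (AddSubgroup.mem_inf.2 ⟨sub_mem (orbitSpan_stable a (hSU hs)) (hSU hs), h.quad a ha s⟩)) hs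
  have hB : A.map (MulAut.conj g).toMonoidHom ≤ stabS act S := by
    rintro _ ⟨a, ha, rfl⟩ s hs
    show act (g * a * g⁻¹) s ∈ S
    rw [act_mul, act_mul, ← sub_add_cancel (act g (act a (act g⁻¹ s))) s]
    refine add_mem (hS ▸ AddSubgroup.mem_sup_right (AddSubgroup.mem_inf.2 ⟨sub_mem (orbitSpan_stable g (orbitSpan_stable a
      (orbitSpan_stable g⁻¹ (hSU hs)))) (hSU hs), (mem_fix_conj act).2 ?_⟩)) hs
    rw [map_sub, act_inv]
    exact h.quad a ha _
  have htop := (h.gen g hg).ge.trans (sup_le hA hB)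
  have hU : orbitSpan act y ≤ S := by
    refine sup_le ((AddSubgroup.closure_le _).2 ?_) fun z hz =>
      hS ▸ AddSubgroup.mem_sup_left ⟨AddSubgroup.mem_sup_right hz, fix_top_le act A hz⟩
    rintro _ ⟨k, rfl⟩
    exact htop (mem_top k) y (hS ▸ AddSubgroup.mem_sup_left
      ⟨by simpa [act_one] using mem_orbitSpan (act := act) (y := y) 1, fun a ha => h.hy a (h.AT ha)⟩)
  obtain ⟨w, ⟨hw1, hw2⟩, x, ⟨hx1, hx2⟩, e⟩ := AddSubgroup.mem_sup.1 (hS ▸ hU hu)
  exact ⟨w, x, hw1, hw2, hx1, (mem_fix_conj act).1 hx2, e⟩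

theorem Hyp.moved (h : Hyp act T M A y) {g : P} (hg : g ∉ M) : act g y ∉ fix act A := by
  intro hm
  have h2 := h.inf_fix hg hm (by rw [act_inv]; exact fun a ha => h.hy a (h.AT ha))
  refine h.hyZ fun k _ => ?_
  have h3 := fix_top_act act h2 (g * k * g⁻¹)
  rw [← act_mul, mul_assoc, inv_mul_cancel, mul_one, act_mul] at h3
  exact act_injective act _ h3

/-- `(3)` -/
theorem Hyp.fixed (h : Hyp act T M A y) {g : P} (hg : g ∉ M) {a : P} (ha : a ∈ A) (ha' : g⁻¹ * a * g ∉ M)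
    {u : V} (hu : u ∈ orbitSpan act y) (hau : act a u = u) : u ∈ fix act A := by
  obtain ⟨w, x, -, hw, -, hx, rfl⟩ := h.decompose hg hu
  rw [map_add, hw a ha, add_right_inj] at hau
  exact add_mem hw (fix_top_le act A (h.shift ha' hx (by rw [hau, sub_self]; exact zero_mem _)))

/-- `(4)` -/
theorem Hyp.fixes_span (h : Hyp act T M A y) {g : P} (hg : g ∉ M) {a : P} (ha : a ∈ A) (ha' : g⁻¹ * a * g ∈ M) :
    ∀ u ∈ orbitSpan act y, act a u = u := by
  by_cases hall : ∀ k : P, k⁻¹ * a * k ∈ M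
  · have hk := h.core a (h.AT ha) hall
    intro u hu
    have : orbitSpan act y ≤ fix act (Subgroup.zpowers a) := by
      refine sup_le ((AddSubgroup.closure_le _).2 ?_) (fix_top_le act _)
      rintro _ ⟨k, rfl⟩ b hb
      refine (zpowers_le.2 ?_ : Subgroup.zpowers a ≤ stabV act (act k y)) hb
      show act a (act k y) = act k y
      rw [← act_mul, show a * k = k * (k⁻¹ * a * k) by group, act_mul, h.hy _ (hk k)]
    exact this hu a (mem_zpowers a)
  push Not at hall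
  obtain ⟨k, hk⟩ := hall
  have hkM : k ∉ M := fun hkM => hk (M.mul_mem (M.mul_mem (M.inv_mem hkM) (h.TM (h.AT ha))) hkM)
  exfalso
  obtain ⟨d, hd⟩ : ∃ d, d = g⁻¹ * a * g := ⟨_, rfl⟩
  rw [← hd] at ha'
  obtain ⟨i, hi⟩ := IsPGroup.iff_orderOf.1 T.2 (⟨a, h.AT ha⟩ : (T : Subgroup P))
  rw [Subgroup.orderOf_mk] at hi
  have hdord : orderOf (⟨d, ha'⟩ : M) = p ^ i := by
    rw [Subgroup.orderOf_mk, ← hi, hd, show g⁻¹ * a * g = (MulAut.conj g⁻¹).toMonoidHom a by simp,
      orderOf_injective _ (MulAut.conj g⁻¹).injective]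
  obtain ⟨S, hS⟩ := (IsPGroup.of_card (n := i) (by rw [Nat.card_zpowers, hdord]) :
    IsPGroup p (Subgroup.zpowers (⟨d, ha'⟩ : M))).exists_le_sylow
  obtain ⟨m, hm⟩ := MulAction.exists_smul_eq M (T.subtype h.TM) S
  have hd' : (m : P)⁻¹ * d * m ∈ (T : Subgroup P) := by
    have h1 := hS (mem_zpowers _)
    rw [← hm] at h1
    obtain ⟨t, ht, hte⟩ := h1
    have hteP : (m : P) * t * (m : P)⁻¹ = d := congrArg Subtype.val hte
    rw [← hteP, show (m : P)⁻¹ * ((m : P) * t * (m : P)⁻¹) * m = (t : P) by group]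
    exact mem_subgroupOf.1 ht
  have hh : g * m ∉ M := fun hc => hg (by simpa [mul_assoc] using M.mul_mem hc (M.inv_mem m.2))
  refine h.moved hh (h.fixed hkM ha hk (mem_orbitSpan _) ?_)
  rw [← act_mul, show a * (g * m) = (g * m) * ((m : P)⁻¹ * d * m) by rw [hd]; group, act_mul, h.hy _ hd']

/-- The elements of `A` fixing the span. -/
def spanKer (act : P →* AddMonoid.End V) (A : Subgroup P) (y : V) : Subgroup P :=
  A ⊓ ⨅ u : orbitSpan act y, stabV act (u : V)

theorem mem_spanKer {a : P} : a ∈ spanKer act A y ↔ a ∈ A ∧ ∀ u ∈ orbitSpan act y, act a u = u := by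
  simp only [spanKer, mem_inf, mem_iInf, Subtype.forall]
  rfl

theorem Hyp.card_facts (h : Hyp act T M A y) :
    spanKer act A y = ⊥ ∧ orbitSpan act y = ⊤ ∧
      Nat.card (fix act A) = Nat.card A * Nat.card (fix act ⊤) ∧
      Nat.card V = Nat.card A * Nat.card (fix act A) := by
  obtain ⟨g, hg⟩ := h.exists_out
  obtain ⟨U, hU⟩ : ∃ U, U = orbitSpan act y := ⟨_, rfl⟩
  obtain ⟨Z, hZ⟩ : ∃ Z, Z = fix act ⊤ := ⟨_, rfl⟩
  obtain ⟨W, hW⟩ : ∃ W, W = fix act A := ⟨_, rfl⟩
  obtain ⟨X, hX⟩ : ∃ X, X = fix act (A.map (MulAut.conj g).toMonoidHom) := ⟨_, rfl⟩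
  have hZU : Z ≤ U := by rw [hZ, hU]; exact le_sup_right
  have hUs : ∀ (k : P) {v : V}, v ∈ U → act k v ∈ U := by
    intro k v hv; rw [hU] at hv ⊢; exact orbitSpan_stable k hv
  have hXm : ∀ v, v ∈ X ↔ act g⁻¹ v ∈ W := fun v => by rw [hX, hW]; exact mem_fix_conj act
  have hXW : Nat.card ↥(U ⊓ X) = Nat.card ↥(U ⊓ W) := Nat.card_congr
    { toFun := fun v => ⟨act g⁻¹ v, AddSubgroup.mem_inf.2 ⟨hUs _ (AddSubgroup.mem_inf.1 v.2).1,
        (hXm _).1 (AddSubgroup.mem_inf.1 v.2).2⟩⟩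
      invFun := fun v => ⟨act g v, AddSubgroup.mem_inf.2 ⟨hUs _ (AddSubgroup.mem_inf.1 v.2).1,
        (hXm _).2 (by rw [act_inv]; exact (AddSubgroup.mem_inf.1 v.2).2)⟩⟩
      left_inv := fun v => Subtype.ext (act_inv' act g v)
      right_inv := fun v => Subtype.ext (act_inv act g v) }
  have hsum : (U ⊓ W) ⊔ (U ⊓ X) = U := by
    refine le_antisymm (sup_le inf_le_left inf_le_left) fun u hu => ?_
    obtain ⟨w, x, hw1, hw2, hx1, hx2, rfl⟩ := h.decompose hg (hU ▸ hu)
    rw [← hU] at hw1 hx1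
    rw [← hW] at hw2 hx2
    exact AddSubgroup.add_mem_sup (AddSubgroup.mem_inf.2 ⟨hw1, hw2⟩) (AddSubgroup.mem_inf.2 ⟨hx1, (hXm _).2 hx2⟩)
  have hint : (U ⊓ W) ⊓ (U ⊓ X) = Z := by
    refine le_antisymm (fun v hv => hZ ▸ h.inf_fix hg (hW ▸ hv.1.2) (hW ▸ (hXm v).1 hv.2.2)) ?_
    exact le_inf (le_inf hZU (hZ ▸ hW ▸ fix_top_le act A)) (le_inf hZU (hZ ▸ hX ▸ fix_top_le act _))
  have e1 := card_sup_mul_inf (U ⊓ W) (U ⊓ X)
  rw [hsum, hint, hXW] at e1
  have e2 := card_sup_mul_inf U W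
  obtain ⟨A1, hA1⟩ : ∃ A1, A1 = spanKer act A y := ⟨_, rfl⟩
  have hA1A : A1 ≤ A := hA1 ▸ inf_le_left
  -- the orbit of one vector
  obtain ⟨x, hx⟩ : ∃ x, x = act g y := ⟨_, rfl⟩
  have hxU : x ∈ U := hx ▸ hU ▸ mem_orbitSpan g
  let f : A → ↥(U ⊓ W) ⧸ Z.addSubgroupOf (U ⊓ W) := fun a => QuotientAddGroup.mk
    ⟨act a x - x, AddSubgroup.mem_inf.2 ⟨sub_mem (hUs _ hxU) hxU, hW ▸ h.quad a a.2 x⟩⟩
  have hkey : ∀ a b : A, f a = f b → (a : P)⁻¹ * b ∈ A1 := by
    intro a b hab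
    have hz : -(act (a : P) x - x) + (act (b : P) x - x) ∈ Z := (QuotientAddGroup.eq.1 hab :)
    rw [neg_sub, sub_add_sub_cancel', ] at hz
    rw [hA1, mem_spanKer]
    refine ⟨mul_mem (inv_mem a.2) b.2, ?_⟩
    by_cases hM : g⁻¹ * ((a : P)⁻¹ * b) * g ∈ M
    · exact h.fixes_span hg (mul_mem (inv_mem a.2) b.2) hM
    exfalso
    refine h.moved hg (fix_top_le act A (hx ▸ h.shift hM (hx ▸ ?_) ?_))
    · rw [act_inv]; exact fun c hc => h.hy c (h.AT hc)
    · rw [act_mul, show act (a : P)⁻¹ (act (b : P) x) - x = act (a : P)⁻¹ (act (b : P) x - act (a : P) x) by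
        rw [map_sub, act_inv], fix_top_act act (hZ ▸ hz)]
      exact hZ ▸ hz
  have hbound : Nat.card A * Nat.card Z ≤ Nat.card A1 * Nat.card ↥(U ⊓ W) := by
    have hinj : Function.Injective fun q : A ⧸ A1.subgroupOf A => f q.out := fun q q' hqq => by
      rw [← QuotientGroup.out_eq' q, ← QuotientGroup.out_eq' q', QuotientGroup.eq]
      exact hkey _ _ hqq
    have h1 := Nat.card_le_card_of_injective _ hinj
    rw [Subgroup.card_eq_card_quotient_mul_card_subgroup (A1.subgroupOf A),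
      Nat.card_congr (Subgroup.subgroupOfEquivOfLe hA1A).toEquiv,
      AddSubgroup.card_eq_card_quotient_mul_card_addSubgroup (Z.addSubgroupOf (U ⊓ W)),
      Nat.card_congr (AddSubgroup.addSubgroupOfEquivOfLe (le_inf hZU (hZ ▸ hW ▸ fix_top_le act A))).toEquiv]
    calc _ ≤ Nat.card (↥(U ⊓ W) ⧸ Z.addSubgroupOf (U ⊓ W)) * Nat.card A1 * Nat.card Z :=
          Nat.mul_le_mul_right _ (Nat.mul_le_mul_right _ h1)
      _ = _ := by ring
  have hA1ne : A1 ≠ A := by
    intro e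
    refine h.moved hg fun a ha => ?_
    rw [← e, hA1, mem_spanKer] at ha
    exact ha.2 _ (mem_orbitSpan g)
  have hZpos : 0 < Nat.card Z := Nat.card_pos
  have hWpos : 0 < Nat.card W := Nat.card_pos
  have hIpos : 0 < Nat.card ↥(U ⊓ W) := Nat.card_pos
  have e3 : Nat.card ↥(U ⊔ W) * Nat.card Z = Nat.card ↥(U ⊓ W) * Nat.card W := by
    refine Nat.eq_of_mul_eq_mul_right hIpos ?_
    linear_combination Nat.card Z * e2 + Nat.card W * e1
  have hbot : A1 = ⊥ := by
    by_contra hne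
    have h2 := h.strict A1 hA1A hne hA1ne
    have h3 : Nat.card ↥(U ⊔ W) ≤ Nat.card (fix act A1) := by
      refine Nat.card_le_card_of_injective _ (AddSubgroup.inclusion_injective (sup_le (fun u hu => ?_) fun w hw a ha => ?_))
      · intro a ha
        rw [hA1, mem_spanKer] at ha
        exact ha.2 u (hU ▸ hu)
      · exact (hW ▸ hw : w ∈ fix act A) a (hA1A ha)
    rw [← hW] at h2
    have h4 : Nat.card A1 * Nat.card ↥(U ⊔ W) < Nat.card A * Nat.card W := lt_of_le_of_lt (Nat.mul_le_mul_left _ h3) h2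
    have h5 : Nat.card A * Nat.card W * Nat.card Z ≤ Nat.card A1 * Nat.card ↥(U ⊔ W) * Nat.card Z := by
      calc _ = Nat.card A * Nat.card Z * Nat.card W := by ring
        _ ≤ Nat.card A1 * Nat.card ↥(U ⊓ W) * Nat.card W := Nat.mul_le_mul_right _ hbound
        _ = _ := by rw [mul_assoc, ← e3, ← mul_assoc]
    exact absurd (Nat.mul_lt_mul_of_pos_right h4 hZpos) (not_lt.2 h5)
  rw [hbot, Subgroup.card_bot, one_mul] at hbound
  have h6 : Nat.card V ≤ Nat.card ↥(U ⊔ W) := by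
    refine Nat.le_of_mul_le_mul_right ?_ hZpos
    calc Nat.card V * Nat.card Z ≤ Nat.card A * Nat.card W * Nat.card Z := Nat.mul_le_mul_right _ (hW ▸ h.hq)
      _ = Nat.card A * Nat.card Z * Nat.card W := by ring
      _ ≤ Nat.card ↥(U ⊓ W) * Nat.card W := Nat.mul_le_mul_right _ hbound
      _ = _ := e3.symm
  have hUW := eq_top_of_card _ h6
  rw [hUW, AddSubgroup.card_top] at e3
  have hWX : Nat.card W = Nat.card X := Nat.card_congr
    { toFun := fun v => ⟨act g v, (hXm _).2 (by rw [act_inv]; exact v.2)⟩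
      invFun := fun v => ⟨act g⁻¹ v, (hXm _).1 v.2⟩
      left_inv := fun v => Subtype.ext (act_inv act g v)
      right_inv := fun v => Subtype.ext (act_inv' act g v) }
  have e4 := card_sup_mul_inf W X
  have hWXZ : W ⊓ X = Z :=
    le_antisymm (fun v hv => hZ ▸ h.inf_fix hg (hW ▸ hv.1) (hW ▸ (hXm v).1 hv.2))
      (le_inf (hZ ▸ hW ▸ fix_top_le act A) (hZ ▸ hX ▸ fix_top_le act _))
  rw [hWXZ, ← hWX] at e4
  have hWU : W ≤ U := by
    have h7 : Nat.card W ≤ Nat.card ↥(U ⊓ W) := by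
      refine Nat.le_of_mul_le_mul_right ?_ hWpos
      rw [← e4, ← e3]
      exact Nat.mul_le_mul_right _ (Nat.card_le_card_of_injective _ (W ⊔ X).subtype_injective)
    intro w hw
    have := eq_top_of_card ((U ⊓ W).addSubgroupOf W) (by
      rw [Nat.card_congr (AddSubgroup.addSubgroupOfEquivOfLe (inf_le_right : U ⊓ W ≤ W)).toEquiv]; exact h7)
    exact (AddSubgroup.mem_addSubgroupOf.1 (this.ge (AddSubgroup.mem_top (⟨w, hw⟩ : W)))).1
  rw [inf_eq_right.2 hWU] at hbound e3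
  have h8 : Nat.card W ≤ Nat.card A * Nat.card Z := by
    refine Nat.le_of_mul_le_mul_right ?_ hWpos
    rw [← e3]
    calc _ ≤ Nat.card A * Nat.card W * Nat.card Z := Nat.mul_le_mul_right _ (hW ▸ h.hq)
      _ = _ := by ring
  have h9 := le_antisymm h8 hbound
  refine ⟨hA1 ▸ hbot, ?_, hW ▸ hZ ▸ h9, ?_⟩
  · rw [← hU, ← hUW, sup_eq_left.2 hWU]
  · rw [← hW]
    refine Nat.eq_of_mul_eq_mul_right hZpos ?_
    rw [e3, h9]; ring

theorem Hyp.not_mem (h : Hyp act T M A y) {g : P} (hg : g ∉ M) {a : P} (ha : a ∈ A) (ha1 : a ≠ 1) :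
    g⁻¹ * a * g ∉ M := fun hc => ha1 (by
  have := (mem_spanKer (act := act) (y := y)).2 ⟨ha, h.fixes_span hg ha hc⟩
  rwa [h.card_facts.1, mem_bot] at this)

/-- A moved vector outside the fixed points. -/
theorem Hyp.free (h : Hyp act T M A y) {g : P} (hg : g ∉ M) {a : P} (ha : a ∈ A) (ha1 : a ≠ 1)
    {x : V} (hx : act g⁻¹ x ∈ fix act A) (hd : act a x - x ∈ fix act ⊤) : x ∈ fix act ⊤ :=
  h.shift (h.not_mem hg ha ha1) hx hd

theorem Hyp.exists_decomp (h : Hyp act T M A y) {g : P} (hg : g ∉ M) (v : V) :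
    ∃ w x : V, w ∈ fix act A ∧ act g⁻¹ x ∈ fix act A ∧ w + x = v := by
  obtain ⟨w, x, -, hw, -, hx, e⟩ := h.decompose hg (h.card_facts.2.1 ▸ AddSubgroup.mem_top v)
  exact ⟨w, x, hw, hx, e⟩

/-- Every vector outside `C(A)` is fixed by a conjugate `A^(a g)`. -/
theorem Hyp.cover (h : Hyp act T M A y) {g : P} (hg : g ∉ M) {v : V} (hv : v ∉ fix act A) :
    ∃ a ∈ A, act (a * g)⁻¹ v ∈ fix act A := by
  obtain ⟨w, x, hw, hx, rfl⟩ := h.exists_decomp hg v
  have hxZ : x ∉ fix act ⊤ := fun hc => hv (add_mem hw (fix_top_le act A hc))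
  let Q := ↥(fix act A) ⧸ (fix act ⊤).addSubgroupOf (fix act A)
  let f : A → Q := fun a => QuotientAddGroup.mk ⟨act a x - x, h.quad a a.2 x⟩
  have hinj : Function.Injective f := fun a b hab => by
    by_contra hne
    have hz : -(act (a : P) x - x) + (act (b : P) x - x) ∈ fix act ⊤ := (QuotientAddGroup.eq.1 hab :)
    rw [neg_sub, sub_add_sub_cancel'] at hz
    refine hxZ (h.free hg (a := (a : P)⁻¹ * b) (mul_mem (inv_mem a.2) b.2)
      (fun e => hne (Subtype.ext (inv_mul_eq_one.1 e))) hx ?_)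
    rw [act_mul, show act (a : P)⁻¹ (act (b : P) x) - x = act (a : P)⁻¹ (act (b : P) x - act (a : P) x) by
      rw [map_sub, act_inv], fix_top_act act hz]
    exact hz
  have hcard : Nat.card Q = Nat.card A := by
    have := AddSubgroup.card_eq_card_quotient_mul_card_addSubgroup ((fix act ⊤).addSubgroupOf (fix act A))
    rw [Nat.card_congr (AddSubgroup.addSubgroupOfEquivOfLe (fix_top_le act A)).toEquiv, h.card_facts.2.2.1] at this
    exact (Nat.eq_of_mul_eq_mul_right Nat.card_pos this).symm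
  obtain ⟨a, ha⟩ := ((Nat.bijective_iff_injective_and_card f).2 ⟨hinj, hcard.symm⟩).2 (QuotientAddGroup.mk ⟨w, hw⟩)
  have hz : -(act (a : P) x - x) + w ∈ fix act ⊤ := (QuotientAddGroup.eq.1 ha :)
  obtain ⟨z, hzdef⟩ : ∃ z, z = -(act (a : P) x - x) + w := ⟨_, rfl⟩
  rw [← hzdef] at hz
  refine ⟨a, a.2, ?_⟩
  have : w + x = act (a : P) x + z := by rw [hzdef]; abel
  rw [this, map_add, fix_top_act act hz, _root_.mul_inv_rev, act_mul, act_inv]
  exact add_mem hx (fix_top_le act A hz)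

/-- `M` leaves `C(A)` invariant. -/
theorem Hyp.stable (h : Hyp act T M A y) {m : P} (hm : m ∈ M) {w : V} (hw : w ∈ fix act A) :
    act m w ∈ fix act A := by
  by_contra hc
  obtain ⟨g, hg⟩ := h.exists_out
  obtain ⟨a, ha, hag⟩ := h.cover hg hc
  have hk : m⁻¹ * (a * g) ∉ M := fun hk => hg (by
    have := M.mul_mem (M.inv_mem (h.TM (h.AT ha))) (M.mul_mem hm hk)
    simpa [← mul_assoc] using this)
  have h2 := h.inf_fix hk hw (by
    rwa [_root_.mul_inv_rev, inv_inv, act_mul])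
  exact hc (by rw [fix_top_act act h2]; exact hw)

/-- The spread: `b` maps `C(A)` onto `a` applied to `C(A^g)`. -/
theorem Hyp.pairing (h : Hyp act T M A y) {g : P} (hg : g ∉ M) {c : P} (hc : c ∈ A) (hc1 : c ≠ 1) :
    ∃ a ∈ A, ∀ x, act g⁻¹ x ∈ fix act A →
      act (g * c * g⁻¹) (act a x - x) - (act a x - x) - x ∈ fix act ⊤ := by
  obtain ⟨b, hb⟩ : ∃ b, b = g * c * g⁻¹ := ⟨_, rfl⟩
  rw [← hb]
  have hginv : g⁻¹ ∉ M := fun hh => hg (by simpa using M.inv_mem hh)
  have hbM : b ∉ M := by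
    have := h.not_mem hginv hc hc1
    rwa [inv_inv, ← hb] at this
  have hbB : b ∈ A.map (MulAut.conj g).toMonoidHom := ⟨c, hc, hb.symm⟩
  obtain ⟨w0, hw0, hw0Z⟩ : ∃ w ∈ fix act A, w ∉ fix act ⊤ :=
    ⟨y, fun a ha => h.hy a (h.AT ha), h.hyZ⟩
  have hbw : act b w0 ∉ fix act A := by
    intro hh
    have h2 := h.inf_fix hbM hh (by rw [act_inv]; exact hw0)
    exact hw0Z (act_inv act b w0 ▸ (fix_top_act act h2 b⁻¹).symm ▸ h2)
  obtain ⟨a, ha, hag⟩ := h.cover hg hbw
  have hm : b⁻¹ * (a * g) ∈ M := by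
    by_contra hcon
    refine hw0Z (h.inf_fix hcon hw0 ?_)
    rwa [_root_.mul_inv_rev, inv_inv, act_mul]
  refine ⟨a, ha, fun x hx => ?_⟩
  obtain ⟨w, hw, hwx⟩ : ∃ w ∈ fix act A, act b w = act a x := ⟨act (b⁻¹ * (a * g)) (act g⁻¹ x), h.stable hm hx, by
    rw [← act_mul, ← act_mul, show b * (b⁻¹ * (a * g)) * g⁻¹ = a by group]⟩
  have hfX : ∀ v, act g⁻¹ (act b v - v) ∈ fix act A := fun v => by
    rw [hb, map_sub, act_mul, act_mul, act_inv]
    exact h.quad c hc _
  obtain ⟨f, hf⟩ : ∃ f, f = act a x - x := ⟨_, rfl⟩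
  rw [← hf]
  have hfW : f ∈ fix act A := hf ▸ h.quad a ha x
  have hdiff : f - w = (act b w - w) - x := by rw [hwx, hf]; abel
  have hz : f - w ∈ fix act ⊤ := by
    refine h.inf_fix hg (sub_mem hfW hw) ?_
    rw [hdiff, map_sub]
    exact sub_mem (hfX w) hx
  have : act b f - f - x = f - w := by
    rw [show f = w + (f - w) by abel, map_add, fix_top_act act hz, hdiff]
    abel
  rwa [this]

theorem Hyp.mem_ker (h : Hyp act T M A y) {n : P} (hnn : ∀ k : P, k⁻¹ * n * k ∈ (T : Subgroup P)) : n = 1 := by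
  refine h.inj ?_
  rw [map_one]
  refine AddMonoidHom.ext fun v => ?_
  have hU : orbitSpan act y ≤ fix act (Subgroup.zpowers n) := by
    refine sup_le ((AddSubgroup.closure_le _).2 ?_) (fix_top_le act _)
    rintro _ ⟨k, rfl⟩ b hb
    refine (zpowers_le.2 ?_ : Subgroup.zpowers n ≤ stabV act (act k y)) hb
    show act n (act k y) = act k y
    rw [← act_mul, show n * k = k * (k⁻¹ * n * k) by group, act_mul, h.hy _ (hnn k)]
  exact hU (h.card_facts.2.1 ▸ AddSubgroup.mem_top v) n (mem_zpowers n)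

end CfsgLib.LocalEven.OffSL2
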