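import Mathlib
import Cfsg.Agent.Lib.LocalEven.JordanField
import Cfsg.Agent.Lib.LocalEvenB.QuadraticSL2

/-!
# The field of a spread given by two groups of shears
-/

set_option autoImplicit false
set_option linter.all false

namespace CfsgLib.LocalEven.OffSL2

open Matrix

variable {P V : Type*} [Group P] [Finite P] [AddCommGroup V] [Finite V]

/-- Two groups of shears for the decomposition `V = W × X`. -/
structure Shears (act : P →* AddMonoid.End V) (A B : Subgroup P) (W X : AddSubgroup V) : Prop where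
  gen : A ⊔ B = ⊤
  cap : W ⊓ X = ⊥
  cA : Nat.card A = Nat.card W
  cB : Nat.card B = Nat.card A
  cX : Nat.card X = Nat.card A
  cV : Nat.card V = Nat.card W * Nat.card X
  nontriv : W ≠ ⊥
  fixA : ∀ a ∈ A, ∀ w ∈ W, act a w = w
  moveA : ∀ a ∈ A, ∀ v, act a v - v ∈ W
  fixB : ∀ b ∈ B, ∀ x ∈ X, act b x = x
  moveB : ∀ b ∈ B, ∀ v, act b v - v ∈ X
  freeA : ∀ a ∈ A, a ≠ 1 → ∀ x ∈ X, act a x = x → x = 0
  freeB : ∀ b ∈ B, b ≠ 1 → ∀ w ∈ W, act b w = w → w = 0
  pairing : ∀ b ∈ B, b ≠ 1 → ∃ a ∈ A, ∀ x ∈ X, act b (act a x - x) - (act a x - x) = x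

variable {act : P →* AddMonoid.End V} {A B : Subgroup P} {W X : AddSubgroup V}

/-- `x ↦ a x - x` from `X` to `W`. -/
def phi (h : Shears act A B W X) (a : A) : X →+ W where
  toFun x := ⟨act a x - x, h.moveA a a.2 x⟩
  map_zero' := Subtype.ext (by simp)
  map_add' x y := Subtype.ext (by simp; abel)

/-- `w ↦ b w - w` from `W` to `X`. -/
def psi (h : Shears act A B W X) (b : B) : W →+ X where
  toFun x := ⟨act b x - x, h.moveB b b.2 x⟩
  map_zero' := Subtype.ext (by simp)
  map_add' x y := Subtype.ext (by simp; abel)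

theorem phi_mul (h : Shears act A B W X) (a a' : A) (x : X) : phi h (a * a') x = phi h a x + phi h a' x := by
  refine Subtype.ext ?_
  show act ((a : P) * a') x - x = (act (a : P) x - x) + (act (a' : P) x - x)
  rw [map_mul]
  show act (a : P) (act (a' : P) x) - x = _
  have h2 := h.fixA a a.2 _ (h.moveA a' a'.2 x)
  rw [map_sub] at h2
  linear_combination (norm := abel) h2

theorem psi_mul (h : Shears act A B W X) (a a' : B) (x : W) : psi h (a * a') x = psi h a x + psi h a' x := by
  refine Subtype.ext ?_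
  show act ((a : P) * a') x - x = (act (a : P) x - x) + (act (a' : P) x - x)
  rw [map_mul]
  show act (a : P) (act (a' : P) x) - x = _
  have h2 := h.fixB a a.2 _ (h.moveB a' a'.2 x)
  rw [map_sub] at h2
  linear_combination (norm := abel) h2

theorem phi_inj (h : Shears act A B W X) {a : A} (ha : a ≠ 1) : Function.Injective (phi h a) := by
  rw [injective_iff_map_eq_zero]
  intro x hx
  refine Subtype.ext (h.freeA a a.2 (fun e => ha (Subtype.ext e)) x x.2 ?_)
  exact sub_eq_zero.1 (congrArg Subtype.val hx)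

theorem phi_bij (h : Shears act A B W X) {a : A} (ha : a ≠ 1) : Function.Bijective (phi h a) :=
  (Nat.bijective_iff_injective_and_card _).2 ⟨phi_inj h ha, by rw [h.cX, h.cA]⟩

/-- The main statement: coordinates over a field. -/
theorem exists_coords (h : Shears act A B W X) {p : ℕ} [hp : Fact p.Prime] (hpV : ∀ v : V, p • v = 0) :
    ∃ (F : Type) (_ : Field F) (_ : Fintype F) (θ : (Fin 2 → F) ≃+ V) (ρ : P →* SpecialLinearGroup (Fin 2) F),
      Fintype.card F = Nat.card A ∧ Function.Surjective ρ ∧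
        (∀ g v, act g (θ v) = θ ((ρ g : Matrix (Fin 2) (Fin 2) F) *ᵥ v)) ∧
        (∀ v, θ v ∈ W ↔ v 1 = 0) := by
  classical
  have hWc : 1 < Nat.card W := by
    haveI : Nontrivial W := (AddSubgroup.nontrivial_iff_ne_bot W).2 h.nontriv
    exact Finite.one_lt_card
  obtain ⟨e, he⟩ : ∃ e : A, e ≠ 1 := by
    haveI : Nontrivial A := Finite.one_lt_card_iff_nontrivial.1 (h.cA ▸ hWc)
    exact exists_ne 1
  obtain ⟨xX, hxX⟩ : ∃ x : X, x ≠ 0 := by
    haveI : Nontrivial X := Finite.one_lt_card_iff_nontrivial.1 (by rw [h.cX, h.cA]; exact hWc)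
    exact exists_ne 0
  haveI : Finite (AddMonoid.End X) := Finite.of_injective (fun f : AddMonoid.End X => (f : X → X)) DFunLike.coe_injective
  let φe : X ≃+ W := AddEquiv.ofBijective (phi h e) (phi_bij h he)
  let lA : Additive A →+ AddMonoid.End X :=
    { toFun := fun a => φe.symm.toAddMonoidHom.comp (phi h (Additive.toMul a))
      map_zero' := AddMonoidHom.ext fun x => by
        show φe.symm (phi h 1 x) = 0
        rw [show phi h 1 x = 0 from Subtype.ext (by simp [phi]), map_zero]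
      map_add' := fun a a' => AddMonoidHom.ext fun x => by
        show φe.symm (phi h (Additive.toMul a * Additive.toMul a') x) = φe.symm (phi h _ x) + φe.symm (phi h _ x)
        rw [phi_mul, map_add] }
  let lB : Additive B →+ AddMonoid.End X :=
    { toFun := fun b => (psi h (Additive.toMul b)).comp φe.toAddMonoidHom
      map_zero' := AddMonoidHom.ext fun x => Subtype.ext (by
        show act ((1 : B) : P) (φe x : V) - (φe x : V) = 0
        simp)
      map_add' := fun b b' => AddMonoidHom.ext fun x => psi_mul h _ _ _ }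
  have hA : ∀ (a : A) (x : X), φe (lA (Additive.ofMul a) x) = phi h a x := fun a x => φe.apply_symm_apply _
  have hlAinj : Function.Injective lA := (injective_iff_map_eq_zero lA).2 fun a ha => by
    by_contra hne
    obtain ⟨a, rfl⟩ := Additive.ofMul.surjective a
    refine hxX (phi_inj h (a := a) (fun e' => hne (congrArg Additive.ofMul e')) ?_)
    rw [map_zero, ← hA a xX, ha]
    exact map_zero φe
  have hone : lA (Additive.ofMul e) = 1 := AddMonoidHom.ext fun x => φe.symm_apply_apply x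
  -- pairing
  have hpair : ∀ b : B, b ≠ 1 → ∃ a : A, a ≠ 1 ∧ lB (Additive.ofMul b) * lA (Additive.ofMul a) = 1 := by
    intro b hb
    obtain ⟨a, ha, hab⟩ := h.pairing b b.2 (fun e' => hb (Subtype.ext e'))
    have hm : lB (Additive.ofMul b) * lA (Additive.ofMul (⟨a, ha⟩ : A)) = 1 := AddMonoidHom.ext fun x => by
      show psi h b (φe (lA (Additive.ofMul (⟨a, ha⟩ : A)) x)) = x
      rw [hA]
      exact Subtype.ext (hab x x.2)
    refine ⟨⟨a, ha⟩, fun h1 => hxX ?_, hm⟩
    have h2 := DFunLike.congr_fun hm xX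
    rw [h1, show lA (Additive.ofMul (1 : A)) = 0 from map_zero lA, mul_zero] at h2
    exact h2.symm
  have hcomm' : ∀ u v : AddMonoid.End X, u * v = 1 → v * u = 1 := fun u v huv => by
    have hu : IsUnit u := (CfsgLib.LocalEven.Jordan.isUnit_of_mul u v (huv ▸ isUnit_one)).1
    refine hu.mul_left_cancel ?_
    rw [← mul_assoc, huv, one_mul, mul_one]
  choose! pa hpa1 hpam using hpair
  have hpainj : ∀ b b' : B, b ≠ 1 → b' ≠ 1 → pa b = pa b' → b = b' := by
    intro b b' hb hb' hbb
    have h1 := hpam b hb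
    have h2 := hcomm' _ _ (hpam b' hb')
    rw [hbb] at h1
    have h3 : lB (Additive.ofMul b) = lB (Additive.ofMul b') := left_inv_eq_right_inv h1 h2
    have h4 : lB (Additive.ofMul (b'⁻¹ * b)) = 0 := by rw [ofMul_mul, ofMul_inv, map_add, map_neg, h3, neg_add_cancel]
    by_contra hne
    refine hxX (φe.injective ?_)
    rw [map_zero]
    refine Subtype.ext (h.freeB _ (b'⁻¹ * b).2 (fun e' => hne (inv_mul_eq_one.1 (Subtype.ext e')).symm) _ (φe xX).2 ?_)
    exact sub_eq_zero.1 (congrArg Subtype.val (DFunLike.congr_fun h4 xX))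
  have hsur : ∀ a : A, a ≠ 1 → ∃ b : B, b ≠ 1 ∧ pa b = a := by
    let f : {b : B // b ≠ 1} → {a : A // a ≠ 1} := fun b => ⟨pa b, hpa1 b b.2⟩
    have hf : Function.Bijective f := (Nat.bijective_iff_injective_and_card f).2
      ⟨fun b b' hbb => Subtype.ext (hpainj b b' b.2 b'.2 (congrArg Subtype.val hbb)), by
        haveI := Fintype.ofFinite A
        haveI := Fintype.ofFinite B
        simp only [Nat.card_eq_fintype_card, Fintype.card_subtype_compl, Fintype.card_subtype_eq]
        rw [← Nat.card_eq_fintype_card, ← Nat.card_eq_fintype_card, h.cB]⟩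
    intro a ha
    obtain ⟨b, hb⟩ := hf.2 ⟨a, ha⟩
    exact ⟨b, b.2, congrArg Subtype.val hb⟩
  -- the two sets of maps
  obtain ⟨L, hL⟩ : ∃ L, L = lA.range := ⟨_, rfl⟩
  obtain ⟨L', hL'⟩ : ∃ L', L' = lB.range := ⟨_, rfl⟩
  have hLI : CfsgLib.LocalEven.Jordan.InvIn L L' := by
    intro u hu hu0
    rw [hL] at hu
    obtain ⟨a, rfl⟩ := hu
    obtain ⟨a, rfl⟩ := Additive.ofMul.surjective a
    obtain ⟨b, hb, rfl⟩ := hsur a fun e' => hu0 (by rw [e']; exact map_zero lA)
    exact ⟨lB (Additive.ofMul b), hL' ▸ ⟨_, rfl⟩, hcomm' _ _ (hpam b hb), hpam b hb⟩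
  have hL'I : CfsgLib.LocalEven.Jordan.InvIn L' L := by
    intro u hu hu0
    rw [hL'] at hu
    obtain ⟨b, rfl⟩ := hu
    obtain ⟨b, rfl⟩ := Additive.ofMul.surjective b
    have hb : b ≠ 1 := fun e' => hu0 (by rw [e']; exact map_zero lB)
    exact ⟨lA (Additive.ofMul (pa b)), hL ▸ ⟨_, rfl⟩, hpam b hb, hcomm' _ _ (hpam b hb)⟩
  have h1 : (1 : AddMonoid.End X) ∈ L := hL ▸ ⟨_, hone⟩
  have h1' : (1 : AddMonoid.End X) ∈ L' := by
    obtain ⟨b, hb, hbe⟩ := hsur e he
    have := hpam b hb
    rw [hbe, hone, mul_one] at this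
    exact hL' ▸ ⟨_, this⟩
  have hLL : L = L' := CfsgLib.LocalEven.Jordan.eq_of_invIn hLI hL'I h1 h1'
  rw [← hLL] at hLI
  have hchar : (p : AddMonoid.End X) = 0 := by
    refine AddMonoidHom.ext fun x => ?_
    exact Subtype.ext (hpV x)
  have hcommL : ∀ u ∈ L, ∀ v ∈ L, u * v = v * u := fun u hu v hv =>
    CfsgLib.LocalEven.Jordan.jordan_comm hchar h1 hLI hu hv
  have hmemL : ∀ u, lA u ∈ L := fun u => by rw [hL]; exact ⟨u, rfl⟩
  have hmemL' : ∀ u, lB u ∈ L := fun u => by rw [hLL, hL']; exact ⟨u, rfl⟩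
  obtain ⟨K, hK⟩ : ∃ K, K = Subring.centralizer (L : Set (AddMonoid.End X)) := ⟨_, rfl⟩
  have hev : Function.Bijective fun a : A => lA (Additive.ofMul a) xX := by
    refine (Nat.bijective_iff_injective_and_card _).2 ⟨fun a a' haa => ?_, h.cX.symm⟩
    by_contra hne
    refine hxX (phi_inj h (a := a'⁻¹ * a) (fun e' => hne (inv_mul_eq_one.1 e').symm) ?_)
    rw [map_zero, ← hA, ofMul_mul, ofMul_inv, map_add, map_neg]
    show φe (-(lA (Additive.ofMul a') xX) + lA (Additive.ofMul a) xX) = 0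
    rw [show lA (Additive.ofMul a) xX = lA (Additive.ofMul a') xX from haa, neg_add_cancel, map_zero]
  have hKL : ∀ u, u ∈ K ↔ u ∈ L := by
    intro u
    rw [hK, Subring.mem_centralizer_iff]
    refine ⟨fun hu => ?_, fun hu v hv => hcommL v hv u hu⟩
    obtain ⟨a, ha⟩ := hev.2 (u xX)
    have : u = lA (Additive.ofMul a) := AddMonoidHom.ext fun x => by
      obtain ⟨c, rfl⟩ := hev.2 x
      have e1 : u (lA (Additive.ofMul c) xX) = lA (Additive.ofMul c) (u xX) :=
        (DFunLike.congr_fun (hu _ (hmemL _)) xX).symm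
      have e2 : lA (Additive.ofMul a) (lA (Additive.ofMul c) xX) = lA (Additive.ofMul c) (lA (Additive.ofMul a) xX) :=
        DFunLike.congr_fun (hcommL _ (hmemL _) _ (hmemL _)) xX
      exact e1.trans ((congrArg _ ha.symm).trans e2.symm)
    rw [this]
    exact hmemL _
  letI : CommRing K :=
    { (inferInstance : Ring K) with
      mul_comm := fun u v => Subtype.ext (hcommL u ((hKL u).1 u.2) v ((hKL v).1 v.2)) }
  haveI : Nontrivial K := ⟨⟨1, 0, fun e' => hxX (by
    have := congrArg (fun u : K => (u : AddMonoid.End X) xX) e'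
    exact this)⟩⟩
  haveI : NoZeroDivisors K := ⟨fun {u v} huv => by
    by_contra hne
    push Not at hne
    obtain ⟨w, -, -, hw⟩ := hLI u ((hKL u).1 u.2) (fun e' => hne.1 (Subtype.ext e'))
    refine hne.2 (Subtype.ext ?_)
    show (v : AddMonoid.End X) = 0
    have huv' : (u : AddMonoid.End X) * v = 0 := congrArg Subtype.val huv
    rw [← one_mul (v : AddMonoid.End X), ← hw, mul_assoc, huv', mul_zero]⟩
  haveI : IsDomain K := NoZeroDivisors.to_isDomain _
  haveI : Fintype K := Fintype.ofFinite _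
  letI : Field K := Fintype.fieldOfDomain K
  have hcardK : Fintype.card K = Nat.card A := by
    rw [← Nat.card_eq_fintype_card]
    refine Nat.card_congr ?_
    refine (Equiv.ofBijective (fun a : A => (⟨lA (Additive.ofMul a), (hKL _).2 (hmemL _)⟩ : K))
      ⟨fun a a' haa => ?_, fun u => ?_⟩).symm
    · exact Additive.ofMul.injective (hlAinj (congrArg Subtype.val haa))
    · obtain ⟨a, ha⟩ := (hL ▸ (hKL u).1 u.2 : (u : AddMonoid.End X) ∈ lA.range)
      exact ⟨Additive.toMul a, Subtype.ext ha⟩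
  haveI : CharP K p := (CharP.charP_iff_prime_eq_zero hp.out).2 (Subtype.ext (by
    rw [Subring.coe_zero]
    exact (map_natCast K.subtype p).trans hchar))
  obtain ⟨n, -, hn⟩ := FiniteField.card K p
  letI : Fintype (GaloisField p n) := Fintype.ofFinite _
  have hcF : Fintype.card (GaloisField p n) = Fintype.card K := by
    rw [← Nat.card_eq_fintype_card, GaloisField.card p n n.pos.ne', hn]
  let σ : GaloisField p n ≃+* K := FiniteField.ringEquivOfCardEq hcF
  -- coordinates
  let co : GaloisField p n → X := fun t => (σ t : AddMonoid.End X) xX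
  have hco_add : ∀ s t, co (s + t) = co s + co t := fun s t => by
    show (σ (s + t) : AddMonoid.End X) xX = _
    rw [map_add]; rfl
  have hco_mul : ∀ s t, co (s * t) = (σ s : AddMonoid.End X) (co t) := fun s t => by
    show (σ (s * t) : AddMonoid.End X) xX = _
    rw [map_mul]; rfl
  let θ0 : (Fin 2 → GaloisField p n) →+ V :=
    { toFun := fun v => (φe (co (v 0)) : V) + (co (v 1) : V)
      map_zero' := by
        have : co 0 = 0 := by show (σ 0 : AddMonoid.End X) xX = 0; rw [map_zero]; rfl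
        simp [this]
      map_add' := fun u v => by
        simp only [Pi.add_apply, hco_add, map_add, AddSubgroup.coe_add]
        abel }
  have hcoinj : ∀ t, co t = 0 → t = 0 := by
    intro t ht
    by_contra hne
    obtain ⟨w, -, -, hw⟩ := hLI _ ((hKL _).1 (σ t).2) (fun e' => hne ((map_eq_zero σ).1 (Subtype.ext e')))
    refine hxX ?_
    have := DFunLike.congr_fun hw xX
    rw [← show w ((σ t : AddMonoid.End X) xX) = xX from this, show (σ t : AddMonoid.End X) xX = 0 from ht, map_zero]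
  have hsplit : ∀ (w : W) (x : X), (w : V) + x = 0 → w = 0 ∧ x = 0 := fun w x hwx => by
    have hxW : (x : V) ∈ W ⊓ X := AddSubgroup.mem_inf.2 ⟨by rw [eq_neg_of_add_eq_zero_right hwx]; exact neg_mem w.2, x.2⟩
    rw [h.cap, AddSubgroup.mem_bot] at hxW
    rw [hxW, add_zero] at hwx
    exact ⟨Subtype.ext hwx, Subtype.ext hxW⟩
  have hθ : Function.Bijective θ0 := by
    refine (Nat.bijective_iff_injective_and_card _).2 ⟨(injective_iff_map_eq_zero θ0).2 fun v hv => ?_, ?_⟩
    · obtain ⟨e1, e2⟩ := hsplit _ _ hv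
      funext i
      fin_cases i
      · exact hcoinj _ ((map_eq_zero_iff φe φe.injective).1 e1)
      · exact hcoinj _ e2
    · rw [Nat.card_fun, Nat.card_fin, Nat.card_eq_fintype_card (α := GaloisField p n), hcF, hcardK, h.cV, h.cX,
        ← h.cA, pow_two]
  let θ : (Fin 2 → GaloisField p n) ≃+ V := AddEquiv.ofBijective θ0 hθ
  have hθv : ∀ v, θ v = (φe (co (v 0)) : V) + (co (v 1) : V) := fun v => rfl
  have hmem : ∀ (a : A), ∃ t, (σ t : AddMonoid.End X) = lA (Additive.ofMul a) := fun a =>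
    ⟨σ.symm ⟨_, (hKL _).2 (hmemL _)⟩, by rw [RingEquiv.apply_symm_apply]⟩
  have hmemB : ∀ (b : B), ∃ t, (σ t : AddMonoid.End X) = lB (Additive.ofMul b) := fun b =>
    ⟨σ.symm ⟨lB (Additive.ofMul b), (hKL _).2 (hmemL' _)⟩, by rw [RingEquiv.apply_symm_apply]⟩
  have hactA : ∀ (a : A) t, (σ t : AddMonoid.End X) = lA (Additive.ofMul a) → ∀ v,
      act a (θ v) = θ ((CfsgLib.LocalEvenB.upU t : Matrix (Fin 2) (Fin 2) (GaloisField p n)) *ᵥ v) := by
    intro a t ht v
    have e1 : (φe (co (t * v 1)) : V) = act a (co (v 1)) - co (v 1) := by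
      rw [hco_mul, ht, hA]; rfl
    rw [hθv, hθv, map_add, h.fixA a a.2 _ (φe (co (v 0))).2]
    simp only [CfsgLib.LocalEvenB.coe_upU, mulVec, dotProduct, Fin.sum_univ_two, cons_val_zero, cons_val_one,
      of_apply, cons_val', one_mul, zero_mul, zero_add]
    rw [hco_add, map_add, AddSubgroup.coe_add, e1]
    abel
  have hactB : ∀ (b : B) t, (σ t : AddMonoid.End X) = lB (Additive.ofMul b) → ∀ v,
      act b (θ v) = θ ((CfsgLib.LocalEvenB.loU t : Matrix (Fin 2) (Fin 2) (GaloisField p n)) *ᵥ v) := by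
    intro b t ht v
    have e1 : (co (t * v 0) : V) = act b (φe (co (v 0)) : V) - φe (co (v 0)) := by
      rw [hco_mul, ht]; rfl
    rw [hθv, hθv, map_add, h.fixB b b.2 _ (co (v 1)).2]
    simp only [CfsgLib.LocalEvenB.coe_loU, mulVec, dotProduct, Fin.sum_univ_two, cons_val_zero, cons_val_one,
      of_apply, cons_val', one_mul, zero_mul, add_zero]
    rw [hco_add, AddSubgroup.coe_add, e1]
    abel
  let Good : P → Prop := fun g => ∃ s : SpecialLinearGroup (Fin 2) (GaloisField p n),
    ∀ v, act g (θ v) = θ ((s : Matrix (Fin 2) (Fin 2) (GaloisField p n)) *ᵥ v)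
  let GK : Subgroup P :=
    { carrier := {g | Good g}
      one_mem' := ⟨1, fun v => by rw [map_one]; exact congrArg θ (one_mulVec v).symm⟩
      mul_mem' := fun {g k} ⟨s, hs⟩ ⟨t, ht⟩ => ⟨s * t, fun v => by
        rw [map_mul]
        show act g (act k (θ v)) = _
        rw [ht, hs]
        exact congrArg θ (mulVec_mulVec v _ _)⟩
      inv_mem' := fun {g} ⟨s, hs⟩ => ⟨s⁻¹, fun v => by
        have := hs ((s⁻¹ : SpecialLinearGroup (Fin 2) (GaloisField p n)) *ᵥ v)
        replace this := this.trans (congrArg θ ((mulVec_mulVec v _ _).trans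
          ((congrArg (fun m => m *ᵥ v) (congrArg Subtype.val (mul_inv_cancel s))).trans (one_mulVec v))))
        rw [← this]
        show act g⁻¹ (act g _) = _
        exact (DFunLike.congr_fun (map_mul act g⁻¹ g) _).symm.trans
          (by rw [inv_mul_cancel, map_one]; rfl)⟩ }
  have hall : ∀ g, Good g := fun g => by
    have : A ⊔ B ≤ GK := sup_le
      (fun a ha => (hmem ⟨a, ha⟩).elim fun t ht => ⟨_, hactA ⟨a, ha⟩ t ht⟩)
      (fun b hb => (hmemB ⟨b, hb⟩).elim fun t ht => ⟨_, hactB ⟨b, hb⟩ t ht⟩)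
    exact this (h.gen.ge (Subgroup.mem_top g))
  choose r hr using hall
  have huniq : ∀ s t : SpecialLinearGroup (Fin 2) (GaloisField p n),
      (∀ v, θ ((s : Matrix (Fin 2) (Fin 2) (GaloisField p n)) *ᵥ v) =
        θ ((t : Matrix (Fin 2) (Fin 2) (GaloisField p n)) *ᵥ v)) → s = t := fun s t hst =>
    Subtype.ext (Matrix.ext_of_mulVec_single fun i => θ.injective (hst _))
  let ρ : P →* SpecialLinearGroup (Fin 2) (GaloisField p n) := MonoidHom.mk' r fun g k => huniq _ _ fun v => by
    rw [← hr, map_mul]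
    show act g (act k (θ v)) = _
    rw [hr, hr]
    exact congrArg θ (mulVec_mulVec v _ _)
  have hup : ∀ t, CfsgLib.LocalEvenB.upU t ∈ ρ.range := fun t => by
    obtain ⟨a, ha⟩ := (hL ▸ (hKL _).1 (σ t).2 : (σ t : AddMonoid.End X) ∈ lA.range)
    exact ⟨(Additive.toMul a : A), huniq _ _ fun v => (hr _ v).symm.trans (hactA _ t ha.symm v)⟩
  have hlo : ∀ t, CfsgLib.LocalEvenB.loU t ∈ ρ.range := fun t => by
    obtain ⟨b, hb⟩ := (hL' ▸ hLL ▸ (hKL _).1 (σ t).2 : (σ t : AddMonoid.End X) ∈ lB.range)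
    exact ⟨(Additive.toMul b : B), huniq _ _ fun v => (hr _ v).symm.trans (hactB _ t hb.symm v)⟩
  have hsurj : Function.Surjective ρ := fun s =>
    CfsgLib.LocalEvenB.mem_of_up_weyl ρ.range hup (by
      rw [CfsgLib.LocalEvenB.weyl_eq_up]
      exact mul_mem (mul_mem (hup _) (hlo _)) (hup _)) s
  refine ⟨GaloisField p n, inferInstance, inferInstance, θ, ρ, hcF.trans hcardK, hsurj, hr, fun v => ?_⟩
  rw [hθv]
  constructor
  · intro hv
    refine hcoinj _ (Subtype.ext ?_)
    have hx : (co (v 1) : V) ∈ W ⊓ X := AddSubgroup.mem_inf.2 ⟨by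
      simpa using sub_mem hv (φe (co (v 0))).2, (co (v 1)).2⟩
    rw [h.cap, AddSubgroup.mem_bot] at hx
    exact hx
  · intro hv
    rw [hv, show co 0 = 0 by show (σ 0 : AddMonoid.End X) xX = 0; rw [map_zero]; rfl]
    simp

end CfsgLib.LocalEven.OffSL2
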