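import Cfsg.Prelude.Def_LocalEven
import Cfsg.Agent.Lib.LocalEven.OffenderSL2Core
import Cfsg.Agent.Lib.LocalEven.OffenderSL2Field

/-!
# A minimal offender with two-conjugate generation gives a natural `SL₂`-module
-/

set_option autoImplicit false
set_option linter.all false

namespace CfsgLib.LocalEven.OffSL2

open Subgroup Matrix

section Quot

variable {P V : Type*} [Group P] [AddCommGroup V] (act : P →* AddMonoid.End V)

/-- The action on `V / C_V(P)`. -/
def bact : P →* AddMonoid.End (V ⧸ fix act ⊤) where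
  toFun g := QuotientAddGroup.map _ _ (act g) fun z hz => by
    show act g z ∈ fix act ⊤
    rw [fix_top_act act hz]; exact hz
  map_one' := AddMonoidHom.ext fun q => by
    induction q using QuotientAddGroup.induction_on with
    | _ v => exact congrArg _ (act_one act v)
  map_mul' g k := AddMonoidHom.ext fun q => by
    induction q using QuotientAddGroup.induction_on with
    | _ v => exact congrArg _ (act_mul act g k v)

theorem bact_mk (g : P) (v : V) :
    bact act g (QuotientAddGroup.mk v) = QuotientAddGroup.mk (act g v) := rfl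

end Quot

theorem card_map_mk {V : Type*} [AddCommGroup V] {U Z : AddSubgroup V} (hZ : Z ≤ U) :
    Nat.card (U.map (QuotientAddGroup.mk' Z)) * Nat.card Z = Nat.card U := by
  obtain ⟨f, hf⟩ : ∃ f, f = (QuotientAddGroup.mk' Z).comp U.subtype := ⟨_, rfl⟩
  have hr : f.range = U.map (QuotientAddGroup.mk' Z) := by
    rw [hf, AddMonoidHom.range_comp, AddSubgroup.range_subtype]
  have hk : f.ker = Z.addSubgroupOf U := by
    ext u
    rw [hf, AddMonoidHom.mem_ker, AddSubgroup.mem_addSubgroupOf]
    exact QuotientAddGroup.eq_zero_iff (u : V)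
  rw [AddSubgroup.card_eq_card_quotient_mul_card_addSubgroup f.ker,
    Nat.card_congr (QuotientAddGroup.quotientKerEquivRange f).toEquiv, hr, hk,
    Nat.card_congr (AddSubgroup.addSubgroupOfEquivOfLe hZ).toEquiv]

variable {P V : Type*} [Group P] [Finite P] [AddCommGroup V] [Finite V] {p : ℕ} [Fact p.Prime]
variable {act : P →* AddMonoid.End V} {T : Sylow p P} {M A : Subgroup P} {y : V}

theorem Hyp.shears (h : Hyp act T M A y) {g : P} (hg : g ∉ M) :
    Shears (bact act) A (A.map (MulAut.conj g).toMonoidHom)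
      ((fix act A).map (QuotientAddGroup.mk' (fix act ⊤)))
      ((fix act (A.map (MulAut.conj g).toMonoidHom)).map (QuotientAddGroup.mk' (fix act ⊤))) := by
  obtain ⟨hk, hU, hW, hV⟩ := h.card_facts
  have hXW : Nat.card (fix act (A.map (MulAut.conj g).toMonoidHom)) = Nat.card (fix act A) := Nat.card_congr
    { toFun := fun v => ⟨act g⁻¹ v, (mem_fix_conj act).1 v.2⟩
      invFun := fun v => ⟨act g v, (mem_fix_conj act).2 (by rw [act_inv]; exact v.2)⟩
      left_inv := fun v => Subtype.ext (act_inv' act g v)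
      right_inv := fun v => Subtype.ext (act_inv act g v) }
  have hcA : Nat.card ((fix act A).map (QuotientAddGroup.mk' (fix act ⊤))) = Nat.card A :=
    Nat.eq_of_mul_eq_mul_right Nat.card_pos ((card_map_mk (fix_top_le act A)).trans hW)
  have hcX : Nat.card ((fix act (A.map (MulAut.conj g).toMonoidHom)).map (QuotientAddGroup.mk' (fix act ⊤))) =
      Nat.card A :=
    Nat.eq_of_mul_eq_mul_right Nat.card_pos ((card_map_mk (fix_top_le act _)).trans (hXW.trans hW))
  have hqA : ∀ a ∈ A, ∀ v, (QuotientAddGroup.mk (act a v - v) : V ⧸ fix act ⊤) ∈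
      (fix act A).map (QuotientAddGroup.mk' (fix act ⊤)) := fun a ha v => ⟨_, h.quad a ha v, rfl⟩
  refine ⟨h.gen g hg, ?_, hcA.symm, card_map_of_injective (MulAut.conj g).injective, hcX, ?_, ?_, ?_, ?_, ?_, ?_, ?_, ?_, ?_⟩
  · rw [eq_bot_iff]
    rintro _ ⟨⟨w, hw, rfl⟩, x, hx, hxw⟩
    have hz : -x + w ∈ fix act ⊤ := QuotientAddGroup.eq.1 hxw
    rw [AddSubgroup.mem_bot]
    refine (QuotientAddGroup.eq_zero_iff w).2 (h.inf_fix hg hw ?_)
    have : w = x + (-x + w) := by abel
    rw [this, map_add, fix_top_act act hz]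
    exact add_mem ((mem_fix_conj act).1 hx) (fix_top_le act A hz)
  · rw [hcA, hcX]
    refine Nat.eq_of_mul_eq_mul_right (Nat.card_pos : 0 < Nat.card (fix act ⊤)) ?_
    rw [← AddSubgroup.card_eq_card_quotient_mul_card_addSubgroup, hV, hW, mul_assoc]
  · intro hb
    exact h.hyZ ((QuotientAddGroup.eq_zero_iff y).1 ((AddSubgroup.eq_bot_iff_forall _).1 hb _
      ⟨y, fun a ha => h.hy a (h.AT ha), rfl⟩))
  · rintro a ha _ ⟨w, hw, rfl⟩
    exact congrArg QuotientAddGroup.mk (hw a ha)
  · intro a ha q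
    induction q using QuotientAddGroup.induction_on with
    | _ v => exact hqA a ha v
  · rintro b hb _ ⟨w, hw, rfl⟩
    exact congrArg QuotientAddGroup.mk (hw b hb)
  · rintro _ ⟨c, hc, rfl⟩ q
    induction q using QuotientAddGroup.induction_on with
    | _ v =>
      refine ⟨_, (mem_fix_conj act).2 ?_, rfl⟩
      show act g⁻¹ (act (g * c * g⁻¹) v - v) ∈ fix act A
      rw [map_sub, act_mul, act_mul, act_inv]
      exact h.quad c hc _
  · rintro a ha ha1 _ ⟨x, hx, rfl⟩ hax
    refine (QuotientAddGroup.eq_zero_iff x).2 (h.free hg ha ha1 ((mem_fix_conj act).1 hx) ?_)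
    exact (QuotientAddGroup.eq_zero_iff _).1 (show (QuotientAddGroup.mk (act a x - x) : V ⧸ fix act ⊤) = 0 by
      rw [QuotientAddGroup.mk_sub, ← bact_mk]; exact sub_eq_zero.2 hax)
  · rintro _ ⟨c, hc, rfl⟩ hc1 _ ⟨w, hw, rfl⟩ hcw
    have hz : act (g * c * g⁻¹) w - w ∈ fix act ⊤ :=
      (QuotientAddGroup.eq_zero_iff _).1 (show (QuotientAddGroup.mk (act (g * c * g⁻¹) w - w) : V ⧸ fix act ⊤) = 0 by
        rw [QuotientAddGroup.mk_sub, ← bact_mk]; exact sub_eq_zero.2 hcw)
    refine (QuotientAddGroup.eq_zero_iff w).2 ?_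
    have hu := h.free (g := g⁻¹) (fun hh => hg (by simpa using M.inv_mem hh)) hc
      (fun e => hc1 (by simp [e])) (x := act g⁻¹ w) (by rw [inv_inv, act_inv']; exact hw) (by
        have e1 : act g⁻¹ (act (g * c * g⁻¹) w - w) = act c (act g⁻¹ w) - act g⁻¹ w := by
          rw [map_sub, act_mul, act_mul, act_inv]
        rw [← e1, fix_top_act act hz]; exact hz)
    have := fix_top_act act hu g
    rw [act_inv'] at this
    rw [this]; exact hu
  · rintro _ ⟨c, hc, rfl⟩ hc1
    obtain ⟨a, ha, hpair⟩ := h.pairing hg hc (fun e => hc1 (by simp [e]))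
    refine ⟨a, ha, ?_⟩
    rintro _ ⟨x, hx, rfl⟩
    refine sub_eq_zero.1 ((QuotientAddGroup.eq_zero_iff _).2 (hpair x ((mem_fix_conj act).1 hx)))

/-- The natural module. -/
theorem Hyp.natural (h : Hyp act T M A y) (hpV : ∀ v : V, p • v = 0) :
    (∀ w ∈ fix act A, ∃ a ∈ A, ∃ x : V, w - (act a x - x) ∈ fix act ⊤) ∧
    ∃ (F : Type) (_ : Field F) (_ : Fintype F) (ψ : V →+ (Fin 2 → F))
      (ρ : P →* SpecialLinearGroup (Fin 2) F),
      Fintype.card F = Nat.card A ∧ Function.Bijective ρ ∧ Function.Surjective ψ ∧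
        (∀ v, ψ v = 0 ↔ v ∈ fix act ⊤) ∧
        ∀ g v, ψ (act g v) = (ρ g : Matrix (Fin 2) (Fin 2) F) *ᵥ ψ v := by
  obtain ⟨g, hg⟩ := h.exists_out
  refine ⟨fun w hw => ?_, ?_⟩
  · have hx : act g y ∉ fix act A := h.moved hg
    obtain ⟨a, ha, hag⟩ := h.cover hg (v := w + act g y) (fun hc => hx (by simpa using sub_mem hc hw))
    refine ⟨a, ha, act g y, ?_⟩
    have hagM : a * g ∉ M := fun hc => hg (by
      simpa using M.mul_mem (M.inv_mem (h.TM (h.AT ha))) hc)
    refine h.inf_fix hagM (sub_mem hw (h.quad a ha _)) ?_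
    rw [show w - (act a (act g y) - act g y) = (w + act g y) - act a (act g y) by abel, map_sub]
    refine sub_mem hag ?_
    rw [← act_mul, ← act_mul, show (a * g)⁻¹ * a * g = 1 by group, act_one]
    exact fun c hc => h.hy c (h.AT hc)
  · obtain ⟨F, i1, i2, θ, ρ, hc, hsur, hact, -⟩ := exists_coords (h.shears hg)
      (p := p) (fun q => by
        induction q using QuotientAddGroup.induction_on with
        | _ v => exact congrArg QuotientAddGroup.mk (hpV v))
    refine ⟨F, i1, i2, θ.symm.toAddMonoidHom.comp (QuotientAddGroup.mk' _), ρ, hc, ⟨?_, hsur⟩,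
      θ.symm.surjective.comp (QuotientAddGroup.mk'_surjective _), fun v => ?_, fun k v => ?_⟩
    · rw [← MonoidHom.ker_eq_bot_iff, eq_bot_iff]
      intro n hn
      rw [mem_bot]
      refine h.mem_ker fun k => ?_
      have hmod : ∀ m ∈ ρ.ker, ∀ v, act m v - v ∈ fix act ⊤ := fun m hm v => by
        rw [← QuotientAddGroup.eq_zero_iff, QuotientAddGroup.mk_sub, sub_eq_zero, ← bact_mk,
          ← θ.apply_symm_apply (QuotientAddGroup.mk v), hact, (MonoidHom.mem_ker.1 hm)]
        exact congrArg θ (one_mulVec _)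
      have hpg : IsPGroup p ρ.ker := fun m => by
        refine ⟨1, Subtype.ext ?_⟩
        rw [SubmonoidClass.coe_pow, pow_one, OneMemClass.coe_one]
        refine h.inj (AddMonoidHom.ext fun v => ?_)
        have hstep : ∀ i : ℕ, act ((m : P) ^ i) v = v + i • (act (m : P) v - v) := by
          intro i
          induction i with
          | zero => rw [pow_zero, act_one, zero_smul, add_zero]
          | succ i ih =>
            rw [pow_succ', act_mul, ih, map_add, map_nsmul, fix_top_act act (hmod m m.2 v), succ_nsmul]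
            abel
        refine (hstep p).trans ?_
        rw [hpV, add_zero, map_one]
        rfl
      have hle : ρ.ker ≤ (T : Subgroup P) :=
        le_sup_right.trans (T.3 (T.2.to_sup_of_normal_right hpg) le_sup_left).le
      exact hle (by simpa using (inferInstance : ρ.ker.Normal).conj_mem n hn k⁻¹)
    · show θ.symm (QuotientAddGroup.mk v) = 0 ↔ _
      rw [map_eq_zero_iff _ θ.symm.injective]
      exact QuotientAddGroup.eq_zero_iff v
    · show θ.symm (QuotientAddGroup.mk (act k v)) = _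
      rw [← bact_mk]
      refine θ.injective ?_
      rw [θ.apply_symm_apply, ← hact]
      exact congrArg _ (θ.apply_symm_apply _).symm

/-- In a `p`-minimal group the core of the maximal subgroup meets the Sylow subgroup in a normal subgroup. -/
theorem core_cond (T : Sylow p P) (M : Subgroup P) (hM : IsCoatom M) (hTM : (T : Subgroup P) ≤ M)
    (hmin : Cfsg.IsPMinimal p P) :
    ∀ r ∈ (T : Subgroup P), (∀ g : P, g⁻¹ * r * g ∈ M) → ∀ g : P, g⁻¹ * r * g ∈ (T : Subgroup P) := by
  obtain ⟨N, hN⟩ : ∃ N, N = M.normalCore := ⟨_, rfl⟩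
  haveI hNn : N.Normal := hN ▸ M.normalCore_normal
  obtain ⟨S, hS⟩ := (T.2.comap_subtype : IsPGroup p ((T : Subgroup P).subgroupOf N)).exists_le_sylow
  have hSe : (S : Subgroup N).map N.subtype = (T : Subgroup P) ⊓ N := by
    obtain ⟨T', hT'⟩ := (S.2.map N.subtype).exists_le_sylow
    obtain ⟨k, hk⟩ := MulAction.exists_smul_eq P T T'
    refine (Subgroup.eq_of_le_of_card_ge ?_ ?_).symm
    · rintro x ⟨hx, hxN⟩
      exact ⟨⟨x, hxN⟩, hS (mem_subgroupOf.2 hx), rfl⟩
    · have h2 : (S : Subgroup N).map N.subtype ≤ ((T : Subgroup P) ⊓ N).map (MulAut.conj k).toMonoidHom := by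
        intro x hx
        have hxT := hT' hx
        rw [← hk] at hxT
        obtain ⟨t, ht, htx⟩ := hxT
        refine ⟨t, ⟨ht, ?_⟩, htx⟩
        have hxN : x ∈ N := map_subtype_le _ hx
        change k * t * k⁻¹ = x at htx
        rw [show t = k⁻¹ * x * k⁻¹⁻¹ by rw [← htx]; group]
        exact hNn.conj_mem x hxN k⁻¹
      refine (card_le_of_le h2).trans ?_
      rw [card_map_of_injective (MulAut.conj k).injective]
  have hnorm : Subgroup.normalizer (((T : Subgroup P) ⊓ N : Subgroup P) : Set P) = ⊤ := by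
    by_contra hne
    obtain ⟨M', hM', hle⟩ := (eq_top_or_exists_le_coatom _).resolve_left hne
    have hT : (T : Subgroup P) ≤ Subgroup.normalizer (((T : Subgroup P) ⊓ N : Subgroup P) : Set P) :=
      Subgroup.le_normalizer_iff.2 fun t ht x hx =>
        ⟨(T : Subgroup P).mul_mem ((T : Subgroup P).mul_mem ht hx.1) ((T : Subgroup P).inv_mem ht),
          hNn.conj_mem x hx.2 t⟩
    have hMM : M' = M := (hmin T).2.unique ⟨hM', hT.trans hle⟩ ⟨hM, hTM⟩
    refine hM.1 (top_le_iff.1 ?_)
    rw [← Sylow.normalizer_sup_eq_top S, hSe]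
    exact sup_le (hle.trans hMM.le) (hN ▸ M.normalCore_le)
  intro r hr hall g
  have hrN : r ∈ N := hN ▸ fun b => by simpa using hall b⁻¹
  have hgn : g⁻¹ ∈ Subgroup.normalizer (((T : Subgroup P) ⊓ N : Subgroup P) : Set P) := hnorm ▸ mem_top _
  have := ((mem_normalizer_iff.1 hgn r).1 ⟨hr, hrN⟩).1
  rw [inv_inv] at this
  exact this

end CfsgLib.LocalEven.OffSL2
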