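import Cfsg.Prelude.Def_LocalStructure
import Cfsg.Agent.Lib.Transfer.PResidual
import Cfsg.Agent.Lib.Components.Subnormal
import Cfsg.Agent.Lib.LocalEven.PClosed
import Cfsg.Agent.Lib.Core.Coprime
import Cfsg.Agent.Lib.Core.Cores
import Mathlib.Data.Nat.Factorization.Basic

/-!
# The core of the maximal subgroup above a Sylow subgroup of a `p`-minimal group

* `subnormal_le_normalCore`, `inf_sylow_le_pCore`, `pResidual_le_or_le_normalCore`,
  `card_primeFactors_le_two`
-/

set_option autoImplicit false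

namespace CfsgLib.LocalEven.PMinimalCore

open Subgroup

variable {P : Type*} [Group P] [Finite P]

/-- The subnormal subgroups contained in a maximal subgroup lie in its core. -/
theorem subnormal_le_normalCore {M : Subgroup P} (hM : IsCoatom M) {N : Subgroup P}
    (hN : N.IsSubnormal) (hNM : N ≤ M) : N ≤ M.normalCore := by
  set J : Subgroup P := sSup {A : Subgroup P | A.IsSubnormal ∧ A ≤ M} with hJ
  have hJsn : J.IsSubnormal := Components.isSubnormal_sSup fun A hA => hA.1
  have hJM : J ≤ M := sSup_le fun A hA => hA.2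
  have hNJ : N ≤ J := le_sSup ⟨hN, hNM⟩
  have hconj : ∀ m ∈ M, ∀ x ∈ J, m * x * m⁻¹ ∈ J := by
    intro m hm x hx
    have hle : J.map (MulAut.conj m).toMonoidHom ≤ J := by
      refine le_sSup ⟨hJsn.map (MulAut.conj m).surjective, ?_⟩
      rintro _ ⟨y, hy, rfl⟩
      exact M.mul_mem (M.mul_mem hm (hJM hy)) (M.inv_mem hm)
    exact hle ⟨x, hx, rfl⟩
  have hMn : M ≤ normalizer (J : Set P) := fun m hm => by
    rw [mem_normalizer_iff]
    exact fun x => ⟨hconj m hm x, fun h => by
      simpa [mul_assoc] using hconj m⁻¹ (M.inv_mem hm) _ h⟩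
  haveI : J.Normal := by
    rw [← normalizer_eq_top_iff]
    by_contra hne
    have heq : normalizer (J : Set P) = M :=
      (hMn.eq_or_lt.resolve_right fun h => hne (hM.2 _ h)).symm
    rcases Subgroup.IsSubnormal.iff_eq_top_or_exists.mp hJsn with h | ⟨K, hJK, hK, hn⟩
    · exact hM.1 (top_le_iff.mp (h ▸ hJM))
    · have hKN : K ≤ normalizer (J : Set P) :=
        (normal_subgroupOf_iff_le_normalizer hJK.le).mp hn
      exact hJK.not_ge (le_sSup ⟨hK, heq ▸ hKN⟩)
  exact hNJ.trans (normal_le_normalCore.mpr hJM)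

variable {p : ℕ} [hp : Fact p.Prime]

/-- A proper overgroup of `S` lies in `M`. -/
theorem le_of_sylow_le (hP : Cfsg.IsPMinimal p P) (S : Sylow p P) {M : Subgroup P}
    (hM : IsCoatom M) (hSM : (S : Subgroup P) ≤ M) {X : Subgroup P}
    (hX : (S : Subgroup P) ≤ X) (hne : X ≠ ⊤) : X ≤ M := by
  obtain ⟨-, M₀, -, hun⟩ := hP S
  obtain ⟨M', hM', hle⟩ := (eq_top_or_exists_le_coatom X).resolve_left hne
  rw [hun M ⟨hM, hSM⟩, ← hun M' ⟨hM', hX.trans hle⟩]
  exact hle

theorem normalCore_inf_sylow_le_pCore (hP : Cfsg.IsPMinimal p P) (S : Sylow p P)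
    {M : Subgroup P} (hM : IsCoatom M) (hSM : (S : Subgroup P) ≤ M) :
    M.normalCore ⊓ (S : Subgroup P) ≤ Cfsg.pCore p P := by
  obtain ⟨T, hT⟩ := CfsgLib.LocalEven.exists_sylow_inf S M.normalCore
  set D := M.normalCore ⊓ (S : Subgroup P) with hD
  have hTD : (T : Subgroup M.normalCore).map M.normalCore.subtype = D := hT.trans (inf_comm _ _)
  have hfr := Sylow.normalizer_sup_eq_top T
  rw [hTD] at hfr
  have hSn : (S : Subgroup P) ≤ normalizer (D : Set P) :=
    (le_inf le_normalizer_of_normal le_normalizer).trans inf_normalizer_le_normalizer_inf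
  have htop : normalizer (D : Set P) = ⊤ := by
    by_contra hne
    exact hM.1 (top_le_iff.mp (hfr ▸ sup_le (le_of_sylow_le hP S hM hSM hSn hne)
      (normalCore_le M)))
  haveI : D.Normal := normalizer_eq_top_iff.mp htop
  exact CfsgLib.Core.le_pCore (S.2.to_le inf_le_right)

theorem inf_sylow_le_pCore (hP : Cfsg.IsPMinimal p P) (S : Sylow p P)
    {M : Subgroup P} (hM : IsCoatom M) (hSM : (S : Subgroup P) ≤ M) {N : Subgroup P}
    (hN : N.IsSubnormal) (hNM : N ≤ M) : N ⊓ (S : Subgroup P) ≤ Cfsg.pCore p P :=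
  (inf_le_inf_right _ (subnormal_le_normalCore hM hN hNM)).trans
    (normalCore_inf_sylow_le_pCore hP S hM hSM)

theorem pResidual_le_or_le_normalCore (hP : Cfsg.IsPMinimal p P) (S : Sylow p P)
    {M : Subgroup P} (hM : IsCoatom M) (hSM : (S : Subgroup P) ≤ M) (N : Subgroup P) [N.Normal] :
    Cfsg.pResidual p P ≤ N ∨ N ≤ M.normalCore := by
  by_cases h : N ⊔ (S : Subgroup P) = ⊤
  · exact Or.inl (CfsgLib.LocalEven.pResidual_le_of_sup_eq_top S.2 h)
  · exact Or.inr (normal_le_normalCore.mpr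
      (le_sup_left.trans (le_of_sylow_le hP S hM hSM le_sup_right h)))

theorem normalCore_lt_sup_pResidual (S : Sylow p P) {M : Subgroup P} (hM : IsCoatom M)
    (hSM : (S : Subgroup P) ≤ M) : M.normalCore < Cfsg.pResidual p P ⊔ M.normalCore := by
  refine lt_of_le_of_ne le_sup_right fun h => hM.1 (top_le_iff.mp ?_)
  rw [← CfsgLib.Transfer.pResidual_sup_sylow S]
  exact sup_le ((le_sup_left.trans h.ge).trans (normalCore_le M)) hSM

theorem card_primeFactors_le_two (hP : Cfsg.IsPMinimal p P) (S : Sylow p P)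
    {M : Subgroup P} (hM : IsCoatom M) (hSM : (S : Subgroup P) ≤ M)
    (T : Sylow p (Cfsg.pResidual p P)) (hT : (T : Subgroup (Cfsg.pResidual p P)).Normal) :
    (Nat.card P).primeFactors.card ≤ 2 := by
  haveI := T.characteristic_of_normal hT
  have hTQ : (T : Subgroup (Cfsg.pResidual p P)).map (Cfsg.pResidual p P).subtype ≤
      Cfsg.pCore p P := by
    haveI : ((T : Subgroup (Cfsg.pResidual p P)).map (Cfsg.pResidual p P).subtype).Normal :=
      inferInstance
    exact CfsgLib.Core.le_pCore (T.isPGroup'.map _)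
  have hidx : ¬ p ∣
      ((QuotientGroup.mk' (Cfsg.pCore p P)).comp (Cfsg.pResidual p P).subtype).ker.index := by
    refine fun h => T.not_dvd_index (h.trans (index_dvd_of_le fun x hx => ?_))
    rw [MonoidHom.mem_ker]
    exact (QuotientGroup.eq_one_iff _).mpr (hTQ ⟨x, hx, rfl⟩)
  clear hTQ hT this T
  set K := Cfsg.pResidual p P with hK
  set Q := Cfsg.pCore p P with hQ
  set π := QuotientGroup.mk' Q with hπdef
  have hπ : Function.Surjective π := QuotientGroup.mk'_surjective Q
  set K' := K.map π with hK'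
  set S' := (S : Subgroup P).map π with hS'
  haveI : K'.Normal := Subgroup.Normal.map inferInstance π hπ
  have hS'p : IsPGroup p S' := S.2.map π
  have hKcop : (Nat.card K').Coprime p := by
    rw [Nat.coprime_comm, hp.out.coprime_iff_not_dvd]
    rwa [index_ker, MonoidHom.range_comp, range_subtype] at hidx
  obtain ⟨k, hk⟩ := hS'p.exists_card_eq
  haveI : Group.IsNilpotent S' := hS'p.isNilpotent
  have hinv : ∀ (q : ℕ) [Fact q.Prime], ∃ R : Sylow q K', S' ≤
      normalizer ((((R : Subgroup K').map K'.subtype) : Subgroup (P ⧸ Q)) : Set (P ⧸ Q)) :=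
    fun q _ => CfsgLib.Core.exists_invariant_sylow (A := S') (K := K')
      le_normalizer_of_normal (by rw [hk]; exact hKcop.symm.pow_left k) (Or.inl inferInstance) q
  have hKS : K' ⊔ S' = ⊤ := by
    rw [hK', hS', ← Subgroup.map_sup, CfsgLib.Transfer.pResidual_sup_sylow S,
      map_top_of_surjective π hπ]
  by_cases hex : ∃ (q : ℕ) (_ : Fact q.Prime) (R : Sylow q K'),
      S' ≤ normalizer ((((R : Subgroup K').map K'.subtype) : Subgroup (P ⧸ Q)) : Set (P ⧸ Q)) ∧
      (R : Subgroup K').map K'.subtype ⊔ S' = ⊤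
  · obtain ⟨q, hq, R, hRn, htop⟩ := hex
    set R' := (R : Subgroup K').map K'.subtype with hR'
    obtain ⟨i, hi⟩ := (R.isPGroup'.map K'.subtype).exists_card_eq
    obtain ⟨j, hj⟩ := (CfsgLib.Core.isPGroup_pCore p P).exists_card_eq
    rw [← hR'] at hi
    rw [← hQ] at hj
    have hdvd : Nat.card (P ⧸ Q) ∣ Nat.card R' * Nat.card S' := by
      have e := CfsgLib.Core.card_sup_mul_card_inf S' R' hRn
      rw [sup_comm] at htop
      rw [htop, card_top] at e
      rw [mul_comm (Nat.card R'), ← e]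
      exact dvd_mul_right _ _
    have hall : Nat.card P ∣ q ^ i * p ^ (k + j) := by
      rw [Q.card_eq_card_quotient_mul_card_subgroup, hj, pow_add, ← mul_assoc]
      refine mul_dvd_mul_right ?_ _
      rwa [hi, hk] at hdvd
    refine (Finset.card_le_card (t := {q, p}) fun r hr => ?_).trans Finset.card_le_two
    obtain ⟨hrp, hrd, -⟩ := Nat.mem_primeFactors.mp hr
    rcases hrp.dvd_mul.mp (hrd.trans hall) with h | h
    · simp [(Nat.prime_dvd_prime_iff_eq hrp hq.out).mp (hrp.dvd_of_dvd_pow h)]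
    · simp [(Nat.prime_dvd_prime_iff_eq hrp hp.out).mp (hrp.dvd_of_dvd_pow h)]
  · exfalso
    push Not at hex
    have hcomap : ∀ X : Subgroup (P ⧸ Q), S' ≤ X → X ≠ ⊤ → X ≤ M.map π := by
      intro X hX hne
      have hSX : (S : Subgroup P) ≤ X.comap π := map_le_iff_le_comap.mp hX
      have hne' : X.comap π ≠ ⊤ := fun h => hne (by
        rw [← map_comap_eq_self_of_surjective hπ X, h, map_top_of_surjective π hπ])
      rw [← map_comap_eq_self_of_surjective hπ X]
      exact map_mono (le_of_sylow_le hP S hM hSM hSX hne')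
    have hKM : K' ≤ M.map π := by
      refine Subgroup.subgroupOf_eq_top.mp
        (CfsgLib.Core.eq_top_of_forall_exists_sylow_le ((M.map π).subgroupOf K') fun q hq _ => ?_)
      haveI : Fact q.Prime := ⟨hq⟩
      obtain ⟨R, hR⟩ := hinv q
      refine ⟨R, fun x hx => ?_⟩
      exact (le_sup_left.trans (hcomap _ le_sup_right (hex q ‹_› R hR))) ⟨x, hx, rfl⟩
    have hQM : Q ≤ M := ((CfsgLib.Core.pCore_le_sylow S)).trans hSM
    have htop : M.map π = ⊤ := top_le_iff.mp (hKS ▸ sup_le hKM (map_mono hSM))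
    refine hM.1 ?_
    have := congrArg (Subgroup.comap π) htop
    rwa [comap_map_eq, QuotientGroup.ker_mk', sup_eq_left.mpr hQM, comap_top] at this

end CfsgLib.LocalEven.PMinimalCore
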