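import Cfsg.Agent.Lib.LocalEven.PClosed
import Cfsg.Agent.Lib.LocalEven.Subnormal
import Cfsg.Agent.Lib.ClassSizes.Basic

/-! Transitive families of `p`-minimal or strongly `p`-irreducible subgroups. -/

namespace CfsgLib.LocalEven

open Subgroup
open scoped commutatorElement

variable {H : Type*} [Group H] [Finite H] {p : ℕ} [Fact p.Prime]

theorem ne_top_of_minimalOver {Y : Subgroup H} (hY : Cfsg.IsMinimalOver Y) : Y ≠ ⊤ := by
  obtain ⟨M, ⟨hM, hYM⟩, -⟩ := hY.2
  exact fun e => hM.1 (top_le_iff.mp (e ▸ hYM))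

theorem residual_le_commutator_of_stronglyIrreducible (h : Cfsg.IsStronglyPIrreducible p H) :
    Cfsg.pResidual p H ≤ ⁅(⊤ : Subgroup H), (⊤ : Subgroup H)⁆ := by
  refine h.2 _ inferInstance fun hle => h.1 ?_
  set O := Cfsg.pCore p H
  set q := QuotientGroup.mk' O with hq
  have hqs : Function.Surjective q := QuotientGroup.mk'_surjective _
  refine (pClosed_iff_of_surjective q hqs (by rw [hq, QuotientGroup.ker_mk']; exact CfsgLib.Core.isPGroup_pCore p H)).mp ?_
  have hc : commutator (H ⧸ O) ≤ center (H ⧸ O) := by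
    rw [commutator_def, ← Subgroup.map_top_of_surjective q hqs, ← Subgroup.map_commutator]
    rintro _ ⟨x, hx, rfl⟩
    refine mem_center_iff.mpr fun y => ?_
    obtain ⟨z, rfl⟩ := hqs y
    symm
    rw [← commutatorElement_eq_one_iff_mul_comm, ← map_commutatorElement, hq, QuotientGroup.mk'_apply,
      QuotientGroup.eq_one_iff]
    exact hle (commutator_mem_commutator hx (mem_top z))
  haveI : Group.IsNilpotent (Abelianization (H ⧸ O)) := inferInstance
  haveI : Group.IsNilpotent (H ⧸ O) :=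
    Subgroup.isNilpotent_of_ker_le_center Abelianization.of ((le_of_eq (Abelianization.ker_of _)).trans hc)
  intro P
  exact Sylow.normal_of_normalizerCondition Group.normalizerCondition_of_isNilpotent P

omit [Fact p.Prime] in
theorem pClosed_of_coprime (h : (Nat.card H).Coprime p) [Fact p.Prime] : Cfsg.IsPClosed p H := by
  intro P
  obtain ⟨n, hn⟩ := P.2.exists_card_eq
  have h1 : Nat.card (P : Subgroup H) = 1 := by
    rcases Nat.eq_zero_or_pos n with h0 | h0
    · rw [hn, h0, pow_zero]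
    · exfalso
      have hd : p ∣ Nat.card H := (dvd_pow_self p h0.ne').trans (hn ▸ Subgroup.card_subgroup_dvd_card _)
      exact (Fact.out : p.Prime).ne_one (Nat.eq_one_of_dvd_coprimes h hd dvd_rfl)
  rw [Subgroup.eq_bot_of_card_eq _ h1]
  infer_instance

theorem coprime_card_of_pClosed_of_pCore_eq_bot (h : Cfsg.IsPClosed p H) (hred : Cfsg.pCore p H = ⊥) :
    (Nat.card H).Coprime p := by
  have h1 := pClosed_iff_not_dvd.mp h
  rw [hred, index_bot] at h1
  exact ((Nat.Prime.coprime_iff_not_dvd (Fact.out : p.Prime)).mpr h1).symm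

/-- Maps with central values of order prime to `p` vanish when `O^p(E) ≤ E'`. -/
theorem commutator_eq_bot_of_values {X E : Subgroup H}
    (hres : (Cfsg.pResidual p ↥E).map E.subtype ≤ ⁅E, E⁆)
    (h1 : ⁅⁅X, E⁆, E⁆ = ⊥) (hcop : ∀ x ∈ X, ∀ e ∈ E, (orderOf ⁅x, e⁆).Coprime p) : ⁅X, E⁆ = ⊥ := by
  have h2 : ⁅⁅E, E⁆, X⁆ = ⊥ := eq_bot_iff.mpr
    (CfsgLib.ClassSizes.three_subgroup_le ⊥ (by rw [commutator_comm E X]; exact h1.le) h1.le)
  rw [eq_bot_iff, commutator_le]
  intro x hx e he
  rw [mem_bot]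
  have hcomm : ∀ f ∈ E, ⁅x, e⁆ * f = f * ⁅x, e⁆ := fun f hf => commutatorElement_eq_one_iff_mul_comm.mp
    (mem_bot.mp (h1 ▸ commutator_mem_commutator (commutator_mem_commutator hx he) hf))
  have hpow : ∀ n : ℕ, ⁅x, e ^ n⁆ = ⁅x, e⁆ ^ n := by
    intro n
    induction n with
    | zero => simp
    | succ n ih =>
      rw [pow_succ, commutatorElement_mul_right_eq_mul_conj, ih, pow_succ, mul_assoc (⁅x, e⁆ ^ n) (e ^ n),
        ← hcomm (e ^ n) (pow_mem he n)]
      simp [mul_assoc]
  obtain ⟨k, hk⟩ := CfsgLib.Transfer.exists_pow_prime_pow_coprime (p := p) (⟨e, he⟩ : ↥E)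
  have h3 : e ^ p ^ k ∈ ⁅E, E⁆ := hres ⟨_, CfsgLib.Transfer.mem_pResidual_of_coprime hk, rfl⟩
  have h4 : ⁅x, e⁆ ^ p ^ k = 1 := by
    rw [← hpow, commutatorElement_eq_one_iff_mul_comm]
    exact (commutatorElement_eq_one_iff_mul_comm.mp
      (mem_bot.mp (h2 ▸ commutator_mem_commutator h3 hx))).symm
  rw [← orderOf_eq_one_iff]
  exact Nat.eq_one_of_dvd_coprimes ((hcop x hx e he).pow_right k) dvd_rfl (orderOf_dvd_of_pow_eq_one h4)

/-- In a group with `O_p = 1`, central subgroups of subnormal subgroups have order prime to `p`. -/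
theorem coprime_of_central (hred : Cfsg.pCore p H = ⊥) {R E Z : Subgroup H} [R.Normal] (hER : E ≤ R)
    (hn : R ≤ normalizer (E : Set H)) (hZE : Z ≤ E) (hZ : ⁅Z, E⁆ = ⊥) {z : H} (hz : z ∈ Z) :
    (orderOf z).Coprime p := by
  haveI : (E.subgroupOf R).Normal := (normal_subgroupOf_iff_le_normalizer hER).mpr hn
  obtain ⟨k, m, hm, hkm⟩ :=
    Nat.exists_eq_pow_mul_and_not_dvd (orderOf_pos z).ne' p (Fact.out : p.Prime).ne_one
  have hw : orderOf (z ^ m) = p ^ k := by
    rw [orderOf_pow, hkm, Nat.gcd_eq_right (dvd_mul_left _ _)]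
    exact Nat.mul_div_cancel _ (Nat.pos_of_ne_zero (fun h => hm (h ▸ dvd_zero p)))
  have hwZ : z ^ m ∈ Z := pow_mem hz m
  have hle : zpowers (z ^ m) ≤ E := zpowers_le.mpr (hZE hwZ)
  have hn' : E ≤ normalizer (zpowers (z ^ m) : Set H) := by
    refine le_trans ?_ (centralizer_le_normalizer _)
    refine le_centralizer_iff.mp (zpowers_le.mpr ?_)
    exact commutator_eq_bot_iff_le_centralizer.mp hZ hwZ
  have h := CfsgLib.Components.subnormal_pGroup_le_pCore (p := p)
    (IsSubnormal.step (zpowers (z ^ m)) E hle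
      (IsSubnormal.step E R hER (‹R.Normal›).isSubnormal inferInstance)
      ((normal_subgroupOf_iff_le_normalizer hle).mpr hn'))
    (IsPGroup.of_card (n := k) (by rw [Nat.card_zpowers, hw]))
  rw [hred, le_bot_iff, zpowers_eq_bot, ← orderOf_eq_one_iff, hw] at h
  rw [hkm, h, one_mul]
  exact ((Nat.Prime.coprime_iff_not_dvd (Fact.out : p.Prime)).mpr hm).symm

theorem residual_sSup_le_commutator {𝒦 : Set (Subgroup H)}
    (h : ∀ E ∈ 𝒦, (Cfsg.pResidual p ↥E).map E.subtype ≤ ⁅E, E⁆) :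
    (Cfsg.pResidual p ↥(sSup 𝒦)).map (sSup 𝒦).subtype ≤ ⁅sSup 𝒦, sSup 𝒦⁆ := by
  set R := sSup 𝒦 with hR
  have hq : IsPGroup p (↥R ⧸ commutator ↥R) := by
    obtain ⟨T⟩ := (inferInstance : Nonempty (Sylow p (↥R ⧸ commutator ↥R)))
    set q := QuotientGroup.mk' (commutator ↥R) with hq
    haveI : (T : Subgroup (↥R ⧸ commutator ↥R)).Normal := ⟨fun n hn g => by
      have : g * n * g⁻¹ = n := by
        obtain ⟨a, rfl⟩ := QuotientGroup.mk'_surjective (commutator ↥R) g
        obtain ⟨b, rfl⟩ := QuotientGroup.mk'_surjective (commutator ↥R) n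
        rw [← map_inv, ← map_mul, ← map_mul, ← mul_inv_eq_one, ← map_inv, ← map_mul, QuotientGroup.mk'_apply,
          QuotientGroup.eq_one_iff]
        simpa [commutatorElement_def, commutator_def] using commutator_mem_commutator (mem_top a) (mem_top b)
      rwa [this]⟩
    have hle : R ≤ ((T : Subgroup (↥R ⧸ commutator ↥R)).comap q).map R.subtype := by
      refine sSup_le fun E hE e he => ?_
      have heR : e ∈ R := le_sSup hE he
      refine ⟨⟨e, heR⟩, ?_, rfl⟩
      show q ⟨e, heR⟩ ∈ (T : Subgroup (↥R ⧸ commutator ↥R))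
      obtain ⟨k, hk⟩ := CfsgLib.Transfer.exists_pow_prime_pow_coprime (p := p) (⟨e, he⟩ : ↥E)
      have h1 : e ^ p ^ k ∈ ⁅R, R⁆ :=
        commutator_mono (le_sSup hE) (le_sSup hE) (h E hE ⟨_, CfsgLib.Transfer.mem_pResidual_of_coprime hk, rfl⟩)
      rw [← R.map_subtype_commutator] at h1
      obtain ⟨y, hy, hy'⟩ := h1
      have h2 : q ⟨e, heR⟩ ^ p ^ k = 1 := by
        rw [← map_pow, hq, QuotientGroup.mk'_apply, QuotientGroup.eq_one_iff,
          show (⟨e, heR⟩ : ↥R) ^ p ^ k = y from Subtype.ext (by simpa using hy'.symm)]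
        exact hy
      obtain ⟨j, -, hj⟩ := (Nat.dvd_prime_pow (Fact.out : p.Prime)).mp (orderOf_dvd_of_pow_eq_one h2)
      obtain ⟨U, hU⟩ := (IsPGroup.of_card (n := j) (by rw [Nat.card_zpowers, hj]) :
        IsPGroup p (zpowers (q ⟨e, heR⟩))).exists_le_sylow
      obtain ⟨a, ha⟩ := sylow_conj T U
      have h3 := hU (mem_zpowers _)
      rw [← ha] at h3
      obtain ⟨t, ht, ht'⟩ := h3
      rw [← ht']
      exact (‹Subgroup.Normal (T : Subgroup (↥R ⧸ commutator ↥R))›).conj_mem t ht a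
    intro x
    obtain ⟨r, rfl⟩ := QuotientGroup.mk'_surjective _ x
    obtain ⟨r', hr', e⟩ := hle r.2
    obtain rfl : r' = r := Subtype.ext e
    obtain ⟨k, hk⟩ := T.2 ⟨q r', hr'⟩
    exact ⟨k, congrArg Subtype.val hk⟩
  rw [← R.map_subtype_commutator]
  exact map_mono (CfsgLib.Transfer.pResidual_le_of_isPGroup_quotient hq)

section Irreducible

variable {𝒦 : Set (Subgroup H)}

/-- The reduced case. -/
theorem irreducible_of_transitive (hred : Cfsg.pCore p H = ⊥) (hne : 𝒦.Nonempty)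
    (hinv : ∀ h : H, ∀ E ∈ 𝒦, E.map (MulAut.conj h).toMonoidHom ∈ 𝒦)
    (htr : ∀ E ∈ 𝒦, ∀ K ∈ 𝒦, ∃ h : H, K = E.map (MulAut.conj h).toMonoidHom)
    (hres : Cfsg.pResidual p H ≤ sSup 𝒦) (hnorm : ∀ E ∈ 𝒦, sSup 𝒦 ≤ normalizer (E : Set H))
    (hirr : ∀ E ∈ 𝒦, Cfsg.IsStronglyPIrreducible p ↥E) :
    Cfsg.IsPIrreducible p H ∧ ∀ E ∈ 𝒦, ∀ K ∈ 𝒦,
      (Cfsg.pResidual p ↥E).map E.subtype = (Cfsg.pResidual p ↥K).map K.subtype ∨ ⁅E, K⁆ = ⊥ := by
  set R := sSup 𝒦 with hR
  haveI hRn : R.Normal := ⟨fun n hn g => by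
    have : R.map (MulAut.conj g).toMonoidHom ≤ R := by
      rw [hR, sSup_eq_iSup, Subgroup.map_iSup]
      refine iSup_le fun E => ?_
      rw [Subgroup.map_iSup]
      exact iSup_le fun hE => le_iSup₂_of_le _ (hinv g E hE) le_rfl
    exact this ⟨n, hn, rfl⟩⟩
  have hER : ∀ E ∈ 𝒦, E ≤ R := fun E hE => le_sSup hE
  have hEc : ∀ E ∈ 𝒦, (Cfsg.pResidual p ↥E).map E.subtype ≤ ⁅E, E⁆ := fun E hE =>
    (map_mono (residual_le_commutator_of_stronglyIrreducible (hirr E hE))).trans
      (by rw [← commutator_def, E.map_subtype_commutator])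
  -- a normal subgroup of `E`
  have hI : ∀ E ∈ 𝒦, ∀ I : Subgroup H, I ≤ E → E ≤ normalizer (I : Set H) → ⁅I, E⁆ ≠ ⊥ →
      (Cfsg.pResidual p ↥E).map E.subtype ≤ I := by
    intro E hE I hIE hn hne
    haveI : (I.subgroupOf E).Normal := (normal_subgroupOf_iff_le_normalizer hIE).mpr hn
    refine le_trans (map_mono ((hirr E hE).2 (I.subgroupOf E) inferInstance fun hle => hne ?_))
      (map_subgroupOf_eq_of_le hIE).le
    haveI : (E.subgroupOf R).Normal := (normal_subgroupOf_iff_le_normalizer (hER E hE)).mpr (hnorm E hE)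
    rw [eq_bot_iff, ← hred]
    refine le_trans ?_ (CfsgLib.Components.subnormal_pGroup_le_pCore
      (IsSubnormal.trans' (normal_of_characteristic (Cfsg.pCore p ↥E)).isSubnormal
        (IsSubnormal.step E R (hER E hE) hRn.isSubnormal inferInstance))
      ((CfsgLib.Core.isPGroup_pCore p _).map _))
    have h := map_mono (f := E.subtype) hle
    rwa [Subgroup.map_commutator, map_subgroupOf_eq_of_le hIE, ← MonoidHom.range_eq_map, range_subtype] at h
  -- centralising
  have hC : ∀ E ∈ 𝒦, ∀ X Z : Subgroup H, Z ≤ E → ⁅X, E⁆ ≤ Z → ⁅Z, E⁆ = ⊥ → ⁅X, E⁆ = ⊥ := fun E hE X Z hZE hX hZ =>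
    commutator_eq_bot_of_values (hEc E hE) (eq_bot_iff.mpr ((commutator_mono hX le_rfl).trans hZ.le))
      fun x hx e he => coprime_of_central hred (hER E hE) (hnorm E hE) hZE hZ (hX (commutator_mem_commutator hx he))
  have hcard : ∀ E ∈ 𝒦, ∀ h : H,
      (Cfsg.pResidual p ↥(E.map (MulAut.conj h).toMonoidHom)).map (E.map (MulAut.conj h).toMonoidHom).subtype =
        ((Cfsg.pResidual p ↥E).map E.subtype).map (MulAut.conj h).toMonoidHom := by
    intro E hE h
    set e := E.equivMapOfInjective (MulAut.conj h).toMonoidHom (MulAut.conj h).injective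
    rw [← CfsgLib.Transfer.map_pResidual_mulEquiv e, map_map, map_map]
    rfl
  refine ⟨⟨fun hc => ?_, fun N hN hNc => ?_⟩, ?_⟩
  · obtain ⟨E, hE⟩ := hne
    exact (hirr E hE).1 (pClosed_of_coprime
      ((coprime_card_of_pClosed_of_pCore_eq_bot hc hred).coprime_dvd_left (Subgroup.card_subgroup_dvd_card E)))
  · haveI := hN
    by_cases hA : ∃ E ∈ 𝒦, ⁅N ⊓ E, E⁆ ≠ ⊥
    · obtain ⟨E, hE, hne'⟩ := hA
      have h0 : (Cfsg.pResidual p ↥E).map E.subtype ≤ N :=
        (hI E hE (N ⊓ E) inf_le_right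
          ((le_inf (CfsgLib.Core.le_normalizer_of_normal _ N) le_normalizer).trans
            inf_normalizer_le_normalizer_inf) hne').trans inf_le_left
      have h1 : ∀ K ∈ 𝒦, (Cfsg.pResidual p ↥K).map K.subtype ≤ N := by
        intro K hK
        obtain ⟨h, rfl⟩ := htr E hE K hK
        rw [hcard E hE h]
        rintro _ ⟨x, hx, rfl⟩
        exact hN.conj_mem x (h0 hx) h
      -- `R` is a `p`-group modulo `N ⊓ R`
      refine CfsgLib.Transfer.pResidual_le_iff.mpr fun g hg => ?_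
      have hgR : g ∈ R := hres (CfsgLib.Transfer.mem_pResidual_of_coprime hg)
      set q := QuotientGroup.mk' N
      have hp' : IsPGroup p ↥(R.map q) := by
        have key : ∀ K ∈ 𝒦, K.map q ≤ Cfsg.pCoreOf p (R.map q) := by
          intro K hK
          refine CfsgLib.LocalEvenB.le_pCoreOf (map_mono (hER K hK)) ?_ ?_
          · intro x
            obtain ⟨k, hk, hk'⟩ := x.2
            obtain ⟨j, hj⟩ := CfsgLib.Transfer.exists_pow_prime_pow_coprime (p := p) (⟨k, hk⟩ : ↥K)
            refine ⟨j, Subtype.ext ?_⟩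
            rw [SubmonoidClass.coe_pow, OneMemClass.coe_one, ← hk', ← map_pow, QuotientGroup.mk'_apply,
              QuotientGroup.eq_one_iff]
            exact h1 K hK ⟨_, CfsgLib.Transfer.mem_pResidual_of_coprime hj, rfl⟩
          · exact (map_mono (hnorm K hK)).trans (le_normalizer_map q)
        refine IsPGroup.to_le (CfsgLib.LocalEvenB.isPGroup_pCoreOf (R.map q)) ?_
        rw [map_le_iff_le_comap, hR]
        exact sSup_le fun K hK => map_le_iff_le_comap.mp (key K hK)
      rw [← QuotientGroup.eq_one_iff]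
      exact congrArg Subtype.val (CfsgLib.Transfer.eq_one_of_coprime_of_isPGroup hp'
        (g := ⟨q g, mem_map_of_mem q hgR⟩) (by rw [orderOf_mk]; exact hg.coprime_dvd_left (orderOf_map_dvd q g)))
    · exfalso
      push Not at hA
      set U := N ⊓ R with hU
      have hUR : ⁅U, R⁆ = ⊥ := by
        rw [commutator_comm, commutator_eq_bot_iff_le_centralizer, hR]
        refine sSup_le fun E hE => ?_
        rw [← commutator_eq_bot_iff_le_centralizer, commutator_comm]
        refine hC E hE U (N ⊓ E) inf_le_right ?_ (hA E hE)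
        exact le_inf ((commutator_mono inf_le_left le_rfl).trans (commutator_le_left N E))
          (le_normalizer_iff_commutator_le_right.mp (inf_le_right.trans (hnorm E hE)))
      have hNR : ⁅N, R⁆ = ⊥ := by
        have hle : ⁅N, R⁆ ≤ U := le_inf (commutator_le_left N R) (commutator_le_right N R)
        refine commutator_eq_bot_of_values (residual_sSup_le_commutator hEc)
          (eq_bot_iff.mpr ((commutator_mono hle le_rfl).trans hUR.le)) fun x hx e he => ?_
        exact coprime_of_central hred (E := U) (R := R) inf_le_right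
          (CfsgLib.Core.le_normalizer_of_normal _ U) le_rfl
          (eq_bot_iff.mpr ((commutator_mono le_rfl inf_le_right).trans hUR.le))
          (hle (commutator_mem_commutator hx he))
      apply hNc
      have hk : ((QuotientGroup.mk' (Cfsg.pResidual p H)).comp N.subtype).ker ≤ center ↥N := by
        intro z hz
        rw [MonoidHom.mem_ker, MonoidHom.comp_apply, QuotientGroup.mk'_apply, QuotientGroup.eq_one_iff] at hz
        exact mem_center_iff.mpr fun w => Subtype.ext (commutatorElement_eq_one_iff_mul_comm.mp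
          (mem_bot.mp (hNR ▸ commutator_mem_commutator w.2 (hres hz))))
      haveI : Group.IsNilpotent (H ⧸ Cfsg.pResidual p H) :=
        (CfsgLib.Transfer.isPGroup_quotient_pResidual (p := p)).isNilpotent
      haveI : Group.IsNilpotent ↥N := Subgroup.isNilpotent_of_ker_le_center _ hk
      intro P
      exact Sylow.normal_of_normalizerCondition Group.normalizerCondition_of_isNilpotent P
  · intro E hE K hK
    have heq : ∀ A ∈ 𝒦, ∀ B ∈ 𝒦, ⁅A ⊓ B, A⁆ ≠ ⊥ →
        (Cfsg.pResidual p ↥A).map A.subtype = (Cfsg.pResidual p ↥B).map B.subtype := by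
      intro A hA B hB hne'
      have h1 : (Cfsg.pResidual p ↥A).map A.subtype ≤ B :=
        (hI A hA _ inf_le_left ((le_inf le_normalizer ((hER A hA).trans (hnorm B hB))).trans
          inf_normalizer_le_normalizer_inf) hne').trans inf_le_right
      have h2 : (Cfsg.pResidual p ↥A).map A.subtype ≤ (Cfsg.pResidual p ↥B).map B.subtype := by
        rw [map_le_iff_le_comap]
        refine CfsgLib.Transfer.pResidual_le_iff.mpr fun g hg => ?_
        exact ⟨⟨g, h1 (mem_map_of_mem _ (CfsgLib.Transfer.mem_pResidual_of_coprime hg))⟩,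
          CfsgLib.Transfer.mem_pResidual_of_coprime (by rwa [orderOf_mk, orderOf_coe]), rfl⟩
      obtain ⟨h, rfl⟩ := htr A hA B hB
      exact eq_of_le_of_card_ge h2 (by
        rw [hcard A hA h, card_map_of_injective (MulAut.conj h).injective])
    by_cases h1 : ⁅E ⊓ K, E⁆ = ⊥
    swap
    · exact Or.inl (heq E hE K hK h1)
    by_cases h2 : ⁅E ⊓ K, K⁆ = ⊥
    swap
    · exact Or.inl (heq K hK E hE (by rwa [inf_comm K E])).symm
    refine Or.inr (hC K hK E (E ⊓ K) inf_le_right ?_ h2)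
    exact le_inf (le_normalizer_iff_commutator_le_left.mp ((hER K hK).trans (hnorm E hE)))
      (le_normalizer_iff_commutator_le_right.mp ((hER E hE).trans (hnorm K hK)))

end Irreducible

section Minimal

/-- The largest proper overgroup of `T ⊓ A` in `A`, if there is one. -/
def maxOver (T A : Subgroup H) : Subgroup H := sSup {Y | T ⊓ A ≤ Y ∧ Y < A}

theorem maxOver_conj {T A : Subgroup H} {g : H}
    (h : (T ⊓ A).map (MulAut.conj g).toMonoidHom = T ⊓ A.map (MulAut.conj g).toMonoidHom) :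
    (maxOver T A).map (MulAut.conj g).toMonoidHom = maxOver T (A.map (MulAut.conj g).toMonoidHom) := by
  set e := (MulAut.conj g).mapSubgroup
  have he : ∀ X, e X = X.map (MulAut.conj g).toMonoidHom := fun _ => rfl
  simp only [← he] at h ⊢
  refine le_antisymm ?_ (sSup_le fun Y hY => ?_)
  · rw [maxOver, e.map_sSup]
    exact iSup₂_le fun Y hY => le_sSup ⟨h ▸ e.monotone hY.1, e.strictMono hY.2⟩
  · rw [← e.apply_symm_apply Y]
    refine e.monotone (le_sSup ⟨?_, ?_⟩)
    · rw [← e.le_iff_le, e.apply_symm_apply, h]; exact hY.1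
    · rw [← e.lt_iff_lt, e.apply_symm_apply]; exact hY.2

/-- A Sylow subgroup meets a subnormal subgroup `A ◁ B ◁ H` in a maximal `p`-subgroup. -/
theorem le_sylow_of_subnormal (T : Sylow p H) {A B : Subgroup H} [B.Normal] (hAB : A ≤ B)
    (hn : B ≤ normalizer (A : Set H)) {Y : Subgroup H} (hY : IsPGroup p Y) (hYA : Y ≤ A)
    (hTY : (T : Subgroup H) ⊓ A ≤ Y) : Y ≤ T := by
  haveI : (A.subgroupOf B).Normal := (normal_subgroupOf_iff_le_normalizer hAB).mpr hn
  obtain ⟨P, hP⟩ := exists_sylow_inf T B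
  obtain ⟨Q, hQ⟩ := exists_sylow_inf P (A.subgroupOf B)
  set Y' := (Y.subgroupOf B).subgroupOf (A.subgroupOf B)
  have hY'p : IsPGroup p Y' :=
    (hY.comap_of_injective B.subtype B.subtype_injective).comap_of_injective _ (A.subgroupOf B).subtype_injective
  have hPT : ∀ x : ↥B, x ∈ (P : Subgroup ↥B) → (x : H) ∈ (T : Subgroup H) := fun x hx =>
    (hP.le ⟨x, hx, rfl⟩).1
  have hQY : (Q : Subgroup ↥(A.subgroupOf B)) ≤ Y' := fun x hx => by
    refine hTY ⟨hPT x ?_, x.2⟩
    exact (hQ.le ⟨x, hx, rfl⟩).1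
  have hQe := Q.3 hY'p hQY
  intro y hy
  have : (⟨⟨y, hAB (hYA hy)⟩, hYA hy⟩ : ↥(A.subgroupOf B)) ∈ (Q : Subgroup ↥(A.subgroupOf B)) :=
    hQe.le (show y ∈ Y from hy)
  exact hPT _ ((hQ.le ⟨_, this, rfl⟩).1)

variable {𝒦 : Set (Subgroup H)}

/-- The `p`-minimal case. -/
theorem minimalOver_of_transitive (hne : 𝒦.Nonempty)
    (hinv : ∀ h : H, ∀ E ∈ 𝒦, E.map (MulAut.conj h).toMonoidHom ∈ 𝒦)
    (htr : ∀ E ∈ 𝒦, ∀ K ∈ 𝒦, ∃ h : H, K = E.map (MulAut.conj h).toMonoidHom)
    (hres : Cfsg.pResidual p H ≤ sSup 𝒦)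
    (hnorm : ∀ E ∈ 𝒦, sSup 𝒦 ⊔ Cfsg.pCore p H ≤ normalizer ((E ⊔ Cfsg.pCore p H : Subgroup H) : Set H))
    (hmin : ∀ E ∈ 𝒦, ∀ S : Sylow p ↥E, Cfsg.IsMinimalOver (S : Subgroup ↥E)) (T : Sylow p H) :
    Cfsg.IsMinimalOver (T : Subgroup H) := by
  set O := Cfsg.pCore p H with hO
  set R := sSup 𝒦 with hR
  haveI hRn : R.Normal := ⟨fun n hn g => by
    have : R.map (MulAut.conj g).toMonoidHom ≤ R := by
      rw [hR, sSup_eq_iSup, Subgroup.map_iSup]
      refine iSup_le fun E => ?_
      rw [Subgroup.map_iSup]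
      exact iSup_le fun hE => le_iSup₂_of_le _ (hinv g E hE) le_rfl
    exact this ⟨n, hn, rfl⟩⟩
  set B := R ⊔ O with hB
  have hOT : O ≤ (T : Subgroup H) := CfsgLib.Core.pCore_le_sylow T
  have hOp : IsPGroup p O := CfsgLib.Core.isPGroup_pCore p H
  have hRT : (⊤ : Subgroup H) ≤ R ⊔ (T : Subgroup H) :=
    (CfsgLib.Transfer.pResidual_sup_sylow T).ge.trans (sup_le_sup_right hres _)
  have hEB : ∀ E ∈ 𝒦, E ⊔ O ≤ B := fun E hE => sup_le_sup_right (le_sSup hE) O
  have hEO : ∀ E : Subgroup H, E ≤ normalizer (O : Set H) := fun E => CfsgLib.Core.le_normalizer_of_normal _ O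
  -- Dedekind
  have hded : ∀ (E X : Subgroup H), O ≤ X → X ⊓ (E ⊔ O) = (X ⊓ E) ⊔ O := by
    intro E X hX
    refine le_antisymm (fun x hx => ?_) (sup_le (inf_le_inf_left X le_sup_left) (le_inf hX le_sup_right))
    have hx2 : x ∈ ((E ⊔ O : Subgroup H) : Set H) := hx.2
    rw [Subgroup.coe_mul_of_left_le_normalizer_right E O (hEO E)] at hx2
    obtain ⟨e, he, o, ho, rfl⟩ := hx2
    exact mul_mem (mem_sup_left (mem_inf.mpr ⟨by simpa using mul_mem (show e * o ∈ X from hx.1) (inv_mem (hX ho)), he⟩)) (mem_sup_right ho)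
  -- `T ⊓ E` is Sylow in `E`, and `T ⊓ (E ⊔ O)` has a largest proper overgroup
  have key : ∀ E ∈ 𝒦, maxOver (T : Subgroup H) (E ⊔ O) < E ⊔ O ∧
      normalClosure ((((T : Subgroup H) ⊓ E).subgroupOf E : Subgroup ↥E) : Set ↥E) = ⊤ := by
    intro E hE
    obtain ⟨S, hS⟩ := ((T.2.to_le inf_le_left).comap_of_injective E.subtype E.subtype_injective :
      IsPGroup p (((T : Subgroup H) ⊓ E).subgroupOf E)).exists_le_sylow
    have hSE : (S : Subgroup ↥E).map E.subtype ≤ E := map_subtype_le _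
    have hST : (S : Subgroup ↥E).map E.subtype ≤ T := by
      refine le_sup_left.trans (le_sylow_of_subnormal T (hEB E hE) (hnorm E hE) (Y := (S : Subgroup ↥E).map E.subtype ⊔ O)
        ((S.2.map _).to_sup_of_normal_right hOp) (sup_le_sup_right hSE O) ?_)
      rw [hded E _ hOT]
      refine sup_le_sup_right ?_ O
      rw [← map_subgroupOf_eq_of_le (inf_le_right : (T : Subgroup H) ⊓ E ≤ E)]
      exact map_mono hS
    have hSe : (S : Subgroup ↥E) = ((T : Subgroup H) ⊓ E).subgroupOf E :=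
      le_antisymm (fun x hx => ⟨hST ⟨x, hx, rfl⟩, x.2⟩) hS
    obtain ⟨hcl, M, ⟨hM, hSM⟩, huniq⟩ := hmin E hE S
    refine ⟨?_, hSe ▸ hcl⟩
    set W := M.map E.subtype ⊔ O with hW
    have hle : maxOver (T : Subgroup H) (E ⊔ O) ≤ W := by
      refine sSup_le fun Y ⟨hTY, hY⟩ => ?_
      have hOY : O ≤ Y := (le_inf hOT le_sup_right).trans hTY
      rw [← inf_eq_left.mpr hY.le, hded E Y hOY]
      refine sup_le_sup_right ?_ O
      have hne' : (Y ⊓ E).subgroupOf E ≠ ⊤ := fun h => hY.not_ge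
        (sup_le ((subgroupOf_eq_top.mp h).trans inf_le_left) hOY)
      obtain ⟨M', hM', hle'⟩ := (eq_top_or_exists_le_coatom _).resolve_left hne'
      rw [← map_subgroupOf_eq_of_le (inf_le_right : Y ⊓ E ≤ E)]
      refine map_mono (hle'.trans_eq (huniq M' ⟨hM', ?_⟩))
      rw [hSe]
      exact (comap_mono (le_inf ((inf_le_inf_left _ le_sup_left).trans hTY) inf_le_right)).trans hle'
    refine hle.trans_lt (lt_of_le_of_ne (sup_le_sup_right (map_subtype_le _) O) fun e => hM.1 ?_)
    rw [eq_top_iff]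
    rintro ⟨x, hx⟩ -
    have hx2 : x ∈ ((W : Subgroup H) : Set H) := e ▸ mem_sup_left hx
    rw [hW, Subgroup.coe_mul_of_left_le_normalizer_right _ O (hEO _)] at hx2
    obtain ⟨m, ⟨m', hm, rfl⟩, o, ho, e'⟩ := hx2
    have hoE : o ∈ E := by
      rw [show o = (E.subtype m')⁻¹ * x by rw [← e']; group]
      exact mul_mem (inv_mem m'.2) hx
    rw [show (⟨x, hx⟩ : ↥E) = m' * ⟨o, hoE⟩ from Subtype.ext e'.symm]
    exact mul_mem hm (hSM (hSe ▸ ⟨hOT ho, hoE⟩))
  -- generation
  have hcl : normalClosure ((T : Subgroup H) : Set H) = ⊤ := by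
    refine top_le_iff.mp (hRT.trans (sup_le (sSup_le fun E hE => ?_) subset_normalClosure))
    have h := (key E hE).2
    have h' : (⊤ : Subgroup ↥E) ≤ (normalClosure ((T : Subgroup H) : Set H)).subgroupOf E :=
      h.ge.trans (normalClosure_le_normal fun x hx => subset_normalClosure hx.1)
    exact subgroupOf_eq_top.mp (top_le_iff.mp h')
  refine ⟨hcl, ?_⟩
  -- the stabilizer
  set f := fun E : Subgroup H => maxOver (T : Subgroup H) (E ⊔ O) with hf
  let Ms : Subgroup H :=
    { carrier := {g | ∀ E ∈ 𝒦, (f E).map (MulAut.conj g).toMonoidHom = f (E.map (MulAut.conj g).toMonoidHom)}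
      one_mem' := fun E _ => by rw [conj_one, conj_one]
      mul_mem' := by
        intro a b ha hb E hE
        rw [← conj_conj, hb E hE, ha _ (hinv b E hE), conj_conj]
      inv_mem' := by
        intro a ha E hE
        have h := ha _ (hinv a⁻¹ E hE)
        rw [conj_conj, mul_inv_cancel, conj_one] at h
        rw [← h, conj_conj, inv_mul_cancel, conj_one] }
  have hOg : ∀ g : H, O.map (MulAut.conj g).toMonoidHom = O := fun g =>
    mem_normalizer_conj_iff.mp (CfsgLib.Core.le_normalizer_of_normal ⊤ O (mem_top g))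
  have hTMs : (T : Subgroup H) ≤ Ms := by
    intro t ht E _
    show (maxOver (T : Subgroup H) (E ⊔ O)).map _ = maxOver (T : Subgroup H) (_ ⊔ O)
    rw [maxOver_conj (by rw [Subgroup.map_inf _ _ _ (MulAut.conj t).injective,
      mem_normalizer_conj_iff.mp (le_normalizer ht)]), Subgroup.map_sup, hOg]
  have hsat : ∀ X : Subgroup H, (T : Subgroup H) ≤ X → X ≠ ⊤ → X ≤ Ms := by
    intro X hTX hX
    have hOX : O ≤ X := hOT.trans hTX
    -- `X` contains no `E ⊔ O`
    have hnc : ∀ E ∈ 𝒦, ¬ E ⊔ O ≤ X := by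
      intro E hE hle
      refine hX (top_le_iff.mp (hRT.trans (sup_le (sSup_le fun K hK => ?_) hTX)))
      obtain ⟨h, rfl⟩ := htr E hE K hK
      have hh : h ∈ ((R ⊔ (T : Subgroup H) : Subgroup H) : Set H) := hRT (mem_top h)
      rw [sup_comm, Subgroup.coe_mul_of_left_le_normalizer_right _ R (CfsgLib.Core.le_normalizer_of_normal _ R)] at hh
      obtain ⟨t, ht, r, hr, rfl⟩ := hh
      rw [← conj_conj]
      refine le_trans (map_mono ((map_mono le_sup_left).trans
        (mem_normalizer_conj_iff.mp (hnorm E hE (mem_sup_left hr))).le)) ?_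
      exact (map_mono hle).trans (mem_normalizer_conj_iff.mp (le_normalizer (hTX ht))).le
    have hXB : X ⊓ B ≤ Ms := by
      intro x hx E hE
      show (maxOver (T : Subgroup H) (E ⊔ O)).map _ = maxOver (T : Subgroup H) (_ ⊔ O)
      set A := E ⊔ O with hA
      have hxA : x ∈ normalizer (A : Set H) := hnorm E hE hx.2
      have hEx : E.map (MulAut.conj x).toMonoidHom ⊔ O = A := by
        rw [← mem_normalizer_conj_iff.mp hxA, hA, Subgroup.map_sup, hOg]
      rw [hEx]
      set I := X ⊓ A with hI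
      have hTI : (T : Subgroup H) ⊓ A ≤ I := inf_le_inf_right A hTX
      have hIlt : I < A := lt_of_le_of_ne inf_le_right fun e => hnc E hE (le_of_eq_of_le e.symm inf_le_left)
      have hIle : I ≤ maxOver (T : Subgroup H) A := le_sSup ⟨hTI, hIlt⟩
      have hxI : x ∈ normalizer (I : Set H) :=
        inf_normalizer_le_normalizer_inf ⟨le_normalizer hx.1, hxA⟩
      -- Frattini
      have hSyl : ∀ Y : Subgroup H, IsPGroup p Y → Y ≤ I → (T : Subgroup H) ⊓ A ≤ Y → Y = (T : Subgroup H) ⊓ A :=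
        fun Y hY hYI hTY => le_antisymm
          (le_inf (le_sylow_of_subnormal T (hEB E hE) (hnorm E hE) hY (hYI.trans inf_le_right) hTY)
            (hYI.trans inf_le_right)) hTY
      obtain ⟨P, hP⟩ := ((T.2.to_le inf_le_left).comap_of_injective I.subtype I.subtype_injective :
        IsPGroup p (((T : Subgroup H) ⊓ A).subgroupOf I)).exists_le_sylow
      have hPe : (P : Subgroup ↥I).map I.subtype = (T : Subgroup H) ⊓ A :=
        hSyl _ (P.2.map _) (map_subtype_le _) (by
          rw [← map_subgroupOf_eq_of_le hTI]; exact map_mono hP)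
      set TA := (T : Subgroup H) ⊓ A with hTA
      have hxT : TA.map (MulAut.conj x).toMonoidHom ≤ I :=
        (map_mono hTI).trans (mem_normalizer_conj_iff.mp hxI).le
      obtain ⟨a, ha⟩ := exists_sylow_conj_le P
        (((T.2.to_le inf_le_left).map _).comap_of_injective I.subtype I.subtype_injective :
          IsPGroup p ((TA.map (MulAut.conj x).toMonoidHom).subgroupOf I))
      have hn : TA.map (MulAut.conj ((a : H) * x)).toMonoidHom = TA := by
        refine eq_of_le_of_card_ge ?_ (card_map_of_injective (MulAut.conj _).injective).ge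
        rw [← conj_conj]
        rintro _ ⟨w, hw, rfl⟩
        exact hPe.le ⟨_, ha ⟨⟨w, hxT hw⟩, hw, rfl⟩, rfl⟩
      have hax : ((a : H) * x) ∈ normalizer (A : Set H) :=
        mul_mem (le_normalizer (inf_le_right (a := X) a.2)) hxA
      have h1 : (maxOver (T : Subgroup H) A).map (MulAut.conj ((a : H) * x)).toMonoidHom =
          maxOver (T : Subgroup H) A := by
        rw [maxOver_conj (by rw [mem_normalizer_conj_iff.mp hax]; exact hn), mem_normalizer_conj_iff.mp hax]
      have h2 := mul_mem (inv_mem (le_normalizer (hIle a.2))) (mem_normalizer_conj_iff.mpr h1)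
      rw [inv_mul_cancel_left] at h2
      exact mem_normalizer_conj_iff.mp h2
    intro x hx
    have hx2 : x ∈ (((T : Subgroup H) ⊔ R : Subgroup H) : Set H) := (hRT.trans_eq (sup_comm _ _)) (mem_top x)
    rw [Subgroup.coe_mul_of_left_le_normalizer_right _ R (CfsgLib.Core.le_normalizer_of_normal _ R)] at hx2
    obtain ⟨t, ht, r, hr, rfl⟩ := hx2
    refine mul_mem (hTMs ht) (hXB ⟨?_, mem_sup_left hr⟩)
    simpa using mul_mem (inv_mem (hTX ht)) hx
  have hMs : Ms ≠ ⊤ := by
    obtain ⟨E, hE⟩ := hne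
    intro e
    obtain ⟨hlt, hncl⟩ := key E hE
    set W := maxOver (T : Subgroup H) (E ⊔ O) with hW
    have hTA : (T : Subgroup H) ⊓ (E ⊔ O) ≤ W := by
      refine le_sSup ⟨le_rfl, lt_of_le_of_ne inf_le_right fun h => ?_⟩
      have hET : E ≤ (T : Subgroup H) := le_sup_left.trans (h ▸ inf_le_left)
      obtain ⟨S⟩ := (inferInstance : Nonempty (Sylow p ↥E))
      exact ne_top_of_minimalOver (hmin E hE S) (top_le_iff.mp
        ((S.3 ((T.2.to_le hET).of_equiv (topEquiv.symm)) le_top).le))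
    refine hlt.not_ge (sup_le ?_ ((le_inf hOT le_sup_right).trans hTA))
    have hTW : (T : Subgroup H) ⊓ E ≤ W := (inf_le_inf_left _ le_sup_left).trans hTA
    have hEW : E ≤ normalizer (W : Set H) := fun g hg => by
      rw [mem_normalizer_conj_iff]
      have := (e.ge (mem_top g) : g ∈ Ms) E hE
      rw [mem_normalizer_conj_iff.mp (le_normalizer hg)] at this
      exact this
    haveI : (W.subgroupOf E).Normal := normal_subgroupOf_of_le_normalizer hEW
    exact subgroupOf_eq_top.mp (top_le_iff.mp (hncl.ge.trans (normalClosure_le_normal fun x hx => hTW hx)))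
  obtain ⟨M, hM, hle⟩ := (eq_top_or_exists_le_coatom Ms).resolve_left hMs
  refine ⟨M, ⟨hM, hTMs.trans hle⟩, fun N hN => ?_⟩
  exact (hN.1.le_iff.mp ((hsat N hN.2 hN.1.1).trans hle)).resolve_left hM.1 |>.symm

end Minimal

end CfsgLib.LocalEven
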