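import Cfsg.Agent.Lib.PGroups.Extraspecial
import Mathlib.GroupTheory.Perm.Cycle.Type

/-!
# Automorphisms of order 5 of extraspecial 2-groups of plus type

* `card_sq_eq_one`, `four_dvd_of_order_five`
-/

set_option autoImplicit false

namespace CfsgLib.LocalEven.PlusTypeFive

open Finset

variable {E : Type*} [Group E] [Fintype E]

open scoped Classical in
/-- An extraspecial 2-group of plus type and order `2^(2m+1)` has `2^(2m) + 2^m` elements with
square one. -/
theorem card_sq_eq_one (m : ℕ) (hE : Cfsg.IsExtraspecial 2 E)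
    (hcard : Nat.card E = 2 ^ (2 * m + 1)) (A : Subgroup E) (hA : IsMulCommutative A)
    (hA2 : ∀ a ∈ A, a ^ 2 = 1) (hAcard : Nat.card A = 2 ^ (m + 1)) :
    (univ.filter fun x : E => x * x = 1).card = 2 ^ (2 * m) + 2 ^ m := by
  haveI : Fact (Nat.Prime 2) := ⟨Nat.prime_two⟩
  haveI := hA
  obtain ⟨n, -, hn, hbound, -⟩ := CfsgLib.PGroups.IsExtraspecial.exists_card hE
  obtain rfl : n = m := by
    have := Nat.pow_right_injective le_rfl (hn.symm.trans hcard); omega
  obtain ⟨hZA, hCA⟩ := CfsgLib.PGroups.IsExtraspecial.center_le_of_maximal_abelian hE (A := A)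
    (fun B hB hAB => (Subgroup.eq_of_le_of_card_ge hAB (hAcard.symm ▸ hbound B hB)).symm)
  set P : E → Prop := fun x => x * x = 1 with hP
  set out : Finset E := univ.filter fun x => x ∉ A with hout
  set inA : Finset E := univ.filter fun x => x ∈ A with hinA
  have hinc : inA.card = 2 ^ (n + 1) := by
    rw [hinA, ← Fintype.card_subtype, ← Nat.card_eq_fintype_card]; exact hAcard
  have houtc : out.card + 2 ^ (n + 1) = 2 ^ (2 * n + 1) := by
    rw [← hinc, ← hcard, Nat.card_eq_fintype_card, ← card_univ (α := E), add_comm, hinA, hout]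
    exact card_filter_add_card_filter_not (s := univ) fun x => x ∈ A
  -- in each coset exactly half of the elements have square one
  have hhalf : ∀ x ∈ out, (inA.filter fun a => P (x * a)).card * 2 = 2 ^ (n + 1) := by
    intro x hx
    have hxA : x ∉ A := (mem_filter.mp hx).2
    obtain ⟨a₀, ha₀, hne⟩ : ∃ a ∈ A, a * x ≠ x * a := by
      by_contra h
      push Not at h
      exact hxA (hCA.le (Subgroup.mem_centralizer_iff.mpr h))
    set z : E := x⁻¹ * a₀⁻¹ * x * a₀ with hz
    have hzc : z ∈ Subgroup.center E := by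
      have := CfsgLib.PGroups.IsExtraspecial.comm_mem hE x⁻¹ a₀⁻¹
      simpa [commutatorElement_def, hz, mul_assoc] using this
    have hz1 : z ≠ 1 := by
      intro h
      refine hne ?_
      have h2 : a₀ * x * z = x * a₀ := by rw [hz]; group
      rw [h, mul_one] at h2; exact h2
    have htwo : ∀ w ∈ Subgroup.center E, w = 1 ∨ w = z := by
      intro w hw
      by_contra h
      push Not at h
      have hsub : ({1, z, w} : Finset E) ⊆ univ.filter (fun y => y ∈ Subgroup.center E) := by
        intro y hy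
        simp only [mem_insert, mem_singleton] at hy
        rcases hy with rfl | rfl | rfl <;> simp [hzc, hw, one_mem]
      have h3 := card_le_card hsub
      rw [← Fintype.card_subtype, ← Nat.card_eq_fintype_card,
        card_insert_of_notMem (by simp [Ne.symm hz1, Ne.symm h.1]),
        card_insert_of_notMem (by simp [Ne.symm h.2]), card_singleton] at h3
      have h4 := CfsgLib.PGroups.IsExtraspecial.card_center hE
      rw [h4] at h3
      omega
    have hsq : ∀ a ∈ A, a * a = 1 := fun a ha => by rw [← pow_two]; exact hA2 a ha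
    have hflip : ∀ b ∈ A, (P (x * (b * a₀)) ↔ ¬ P (x * b)) := by
      intro b hb
      have hcomm : b * a₀ = a₀ * b := setLike_mul_comm hb ha₀
      have hxx : a₀ * x = x * a₀ * z := by
        have e1 : a₀⁻¹ = a₀ := inv_eq_of_mul_eq_one_right (hsq a₀ ha₀)
        rw [mul_assoc x, Subgroup.mem_center_iff.mp hzc a₀, hz, e1]
        calc a₀ * x = a₀ * x * (a₀ * a₀) := by rw [hsq a₀ ha₀, mul_one]
          _ = x * (x⁻¹ * a₀ * x * a₀ * a₀) := by group
      have e : x * (b * a₀) * (x * (b * a₀)) = x * b * (x * b) * z := by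
        have hzb : z * b = b * z := (Subgroup.mem_center_iff.mp hzc b).symm
        calc x * (b * a₀) * (x * (b * a₀)) = x * b * (a₀ * x) * (b * a₀) := by group
          _ = x * b * (x * a₀ * z) * (a₀ * b) := by rw [hxx, hcomm]
          _ = x * b * (x * (a₀ * a₀) * b) * z := by
              simp only [mul_assoc]
              congr 3
              rw [← mul_assoc z a₀, (Subgroup.mem_center_iff.mp hzc a₀).symm, mul_assoc a₀ z, hzb]
          _ = x * b * (x * b) * z := by rw [hsq a₀ ha₀, mul_one]
      have hsc : (x * b) * (x * b) ∈ Subgroup.center E := by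
        rw [← pow_two]; exact CfsgLib.PGroups.IsExtraspecial.pow_mem_center hE _
      show x * (b * a₀) * (x * (b * a₀)) = 1 ↔ ¬ (x * b * (x * b) = 1)
      rw [e]
      rcases htwo _ hsc with h | h <;> rw [h]
      · simpa using hz1
      · refine iff_of_true ?_ hz1
        rw [← pow_two]; exact CfsgLib.PGroups.IsExtraspecial.center_pow hE hzc
    have hbij : (inA.filter fun a => P (x * a)).card = (inA.filter fun a => ¬ P (x * a)).card := by
      refine card_bij' (fun a _ => a * a₀) (fun a _ => a * a₀) ?_ ?_ ?_ ?_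
      · intro a ha
        obtain ⟨h1, h2⟩ := mem_filter.mp ha
        have h1' := (mem_filter.mp h1).2
        refine mem_filter.mpr ⟨mem_filter.mpr ⟨mem_univ _, A.mul_mem h1' ha₀⟩, ?_⟩
        exact fun h => (hflip a h1').mp h h2
      · intro a ha
        obtain ⟨h1, h2⟩ := mem_filter.mp ha
        have h1' := (mem_filter.mp h1).2
        exact mem_filter.mpr ⟨mem_filter.mpr ⟨mem_univ _, A.mul_mem h1' ha₀⟩, (hflip a h1').mpr h2⟩
      · intro a _; rw [mul_assoc, hsq a₀ ha₀, mul_one]
      · intro a _; rw [mul_assoc, hsq a₀ ha₀, mul_one]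
    have := card_filter_add_card_filter_not (s := inA) fun a => P (x * a)
    rw [hinc] at this
    omega
  -- double counting
  have hdc : ∑ x ∈ out, (inA.filter fun a => P (x * a)).card =
      inA.card * (out.filter P).card := by
    have h1 : ∀ a ∈ inA, (out.filter fun x => P (x * a)).card = (out.filter P).card := by
      intro a ha
      have haA : a ∈ A := (mem_filter.mp ha).2
      refine card_bij' (fun x _ => x * a) (fun x _ => x * a⁻¹) ?_ ?_ ?_ ?_
      · intro x hx
        obtain ⟨h1, h2⟩ := mem_filter.mp hx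
        refine mem_filter.mpr ⟨mem_filter.mpr ⟨mem_univ _, ?_⟩, h2⟩
        rw [A.mul_mem_cancel_right haA]; exact (mem_filter.mp h1).2
      · intro x hx
        obtain ⟨h1, h2⟩ := mem_filter.mp hx
        refine mem_filter.mpr ⟨mem_filter.mpr ⟨mem_univ _, ?_⟩, by rwa [inv_mul_cancel_right]⟩
        rw [A.mul_mem_cancel_right (A.inv_mem haA)]; exact (mem_filter.mp h1).2
      · intro x _; rw [mul_inv_cancel_right]
      · intro x _; rw [inv_mul_cancel_right]
    simp only [card_filter]
    rw [sum_comm]
    simp only [← card_filter]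
    rw [sum_congr rfl h1, sum_const, smul_eq_mul]
  have hsum : (∑ x ∈ out, (inA.filter fun a => P (x * a)).card) * 2 = out.card * 2 ^ (n + 1) := by
    rw [sum_mul, sum_congr rfl hhalf, sum_const, smul_eq_mul]
  rw [hdc, hinc] at hsum
  have h2 : (out.filter P).card * 2 = out.card := by
    refine Nat.eq_of_mul_eq_mul_left (show 0 < 2 ^ (n + 1) by positivity) ?_
    rw [← mul_assoc, hsum, mul_comm]
  have hin : (inA.filter P).card = 2 ^ (n + 1) := by
    rw [filter_true_of_mem fun a ha => ?_, hinc]
    show a * a = 1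
    rw [← pow_two]; exact hA2 a (mem_filter.mp ha).2
  have hsplit : (univ.filter P).card = (out.filter P).card + (inA.filter P).card := by
    rw [← card_filter_add_card_filter_not (s := univ.filter P) (fun x => x ∉ A), hout, hinA]
    simp only [filter_filter, not_not]
    congr 2 <;> ext y <;> simp [and_comm]
  rw [hsplit, hin]
  have e1 : 2 ^ (2 * n + 1) = 2 * 2 ^ (2 * n) := by rw [pow_succ, mul_comm]
  have e2 : 2 ^ (n + 1) = 2 * 2 ^ n := by rw [pow_succ, mul_comm]
  omega

theorem four_dvd_of_order_five (m : ℕ) (hE : Cfsg.IsExtraspecial 2 E)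
    (hcard : Nat.card E = 2 ^ (2 * m + 1)) (A : Subgroup E) (hA : IsMulCommutative A)
    (hA2 : ∀ a ∈ A, a ^ 2 = 1) (hAcard : Nat.card A = 2 ^ (m + 1))
    (ω : E ≃* E) (hω : orderOf ω = 5) (hfix : ∀ x : E, ω x = x ↔ x ∈ Subgroup.center E) :
    4 ∣ m := by
  classical
  haveI : Fact (Nat.Prime 5) := ⟨by norm_num⟩
  haveI : Fact (Nat.Prime 2) := ⟨Nat.prime_two⟩
  have hcen : Nat.card {x : E // x ∈ Subgroup.center E} = 2 :=
    CfsgLib.PGroups.IsExtraspecial.card_center hE
  have hiter : ∀ (k : ℕ) (x : E), (ω : E → E)^[k] x = (ω ^ k) x := by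
    intro k
    induction k with
    | zero => intro x; simp
    | succ k ih => intro x; rw [Function.iterate_succ_apply', ih, pow_succ']; rfl
  have h5 : ω ^ 5 = 1 := hω ▸ pow_orderOf_eq_one ω
  let f : Function.End E := ⇑ω
  have hf : ∀ k, ∀ x, (f ^ k) x = (ω ^ k) x := by
    intro k
    induction k with
    | zero => intro x; rfl
    | succ k ih => intro x; rw [pow_succ', pow_succ']; show ω ((f ^ k) x) = _; rw [ih]; rfl
  have hE5 := Equiv.Perm.card_fixedPoints_modEq (f := f) (p := 5) (n := 1)
    (funext fun x => by rw [pow_one, hf, h5]; rfl)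
  let g : Function.End {x : E // x * x = 1} := fun x => ⟨ω x, by rw [← map_mul, x.2, map_one]⟩
  have hg : ∀ (k : ℕ) (x : {x : E // x * x = 1}), ((g ^ k) x : E) = (ω ^ k) x := by
    intro k
    induction k with
    | zero => intro x; rfl
    | succ k ih => intro x; rw [pow_succ', pow_succ']; show ω ((g ^ k) x : E) = _; rw [ih]; rfl
  have hS5 := Equiv.Perm.card_fixedPoints_modEq (f := g) (p := 5) (n := 1)
    (funext fun x => Subtype.ext (by rw [pow_one, hg, h5]; rfl))
  have c1 : Fintype.card (Function.fixedPoints f) = 2 := by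
    rw [← Nat.card_eq_fintype_card, ← hcen]
    exact Nat.card_congr (Equiv.subtypeEquivRight fun x => hfix x)
  have c2 : Fintype.card (Function.fixedPoints g) = 2 := by
    rw [← Nat.card_eq_fintype_card, ← hcen]
    refine Nat.card_congr
      { toFun := fun x => ⟨(x.1 : E), (hfix _).mp (congrArg Subtype.val x.2)⟩
        invFun := fun x => ⟨⟨x.1, by
          rw [← pow_two]; exact CfsgLib.PGroups.IsExtraspecial.center_pow hE x.2⟩,
          Subtype.ext ((hfix _).mpr x.2)⟩
        left_inv := fun _ => rfl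
        right_inv := fun _ => rfl }
  rw [c1, ← Nat.card_eq_fintype_card, hcard] at hE5
  rw [c2, Fintype.card_subtype, card_sq_eq_one m hE hcard A hA hA2 hAcard] at hS5
  obtain ⟨k, r, hr, rfl⟩ : ∃ k r, r < 4 ∧ m = 4 * k + r :=
    ⟨m / 4, m % 4, Nat.mod_lt _ (by norm_num), (Nat.div_add_mod m 4).symm⟩
  have p1 : ∀ j, 2 ^ (4 * j) % 5 = 1 := fun j => by rw [pow_mul, Nat.pow_mod]; simp
  unfold Nat.ModEq at hE5 hS5
  have a1 : 2 ^ (4 * k + r) % 5 = 2 ^ r % 5 := by
    rw [pow_add, Nat.mul_mod, p1, one_mul, Nat.mod_mod]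
  have a2 : 2 ^ (2 * (4 * k + r)) % 5 = 2 ^ (2 * r) % 5 := by
    rw [show 2 * (4 * k + r) = 4 * (2 * k) + 2 * r by ring, pow_add, Nat.mul_mod, p1, one_mul,
      Nat.mod_mod]
  rw [pow_succ] at hE5
  interval_cases r <;> norm_num at a1 a2 <;> omega

end CfsgLib.LocalEven.PlusTypeFive
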