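import Cfsg.Agent.Lib.LocalEven.OffenderSL2Main

/-!
# Offenders in a group with a strongly `p`-embedded subgroup

Every nontrivial `p`-element fixes exactly one coset of `X`.  A quadratic offender `A` of largest measure then
has `C(A^g) + C(A) = V` for `g ∉ X`; hyperplane arguments show that all these pairs span the same line and that
`A` is a Sylow subgroup.
-/

set_option autoImplicit false
set_option linter.all false

namespace CfsgLib.LocalEven.SEFF

open Subgroup Matrix CfsgLib.LocalEven.OffSL2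

variable {P V : Type*} [Group P] [Finite P] [AddCommGroup V] [Finite V] {p : ℕ} [Fact p.Prime]

/-- The hypotheses. -/
structure Conf (p : ℕ) (act : P →* AddMonoid.End V) (X A : Subgroup P) : Prop where
  inj : Function.Injective act
  hpV : ∀ v : V, p • v = 0
  AX : A ≤ X
  ne : A ≠ ⊥
  Aab : ∀ a ∈ A, ∀ b ∈ A, a * b = b * a
  Aexp : ∀ a ∈ A, a ^ p = 1
  quad : ∀ a ∈ A, ∀ v, act a v - v ∈ fix act A
  best : ∀ D : Subgroup P, (∀ a ∈ D, ∀ b ∈ D, a * b = b * a) → (∀ a ∈ D, a ^ p = 1) →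
    Nat.card D * Nat.card (fix act D) ≤ Nat.card A * Nat.card (fix act A)
  sep : ∀ a ∈ X, a ^ p = 1 → a ≠ 1 → ∀ g : P, g * a * g⁻¹ ∈ X → g ∈ X
  pgroup : ∀ Q : Subgroup P, IsPGroup p Q → Q ⊓ X ≠ ⊥ → Q ≤ X
  out : ∃ g, g ∉ X
  gen : Subgroup.closure {h : P | ∃ k : ℕ, orderOf h = p ^ k} = ⊤

/-- `C(A^g)`. -/
abbrev img (act : P →* AddMonoid.End V) (A : Subgroup P) (g : P) : AddSubgroup V :=
  fix act (A.map (MulAut.conj g).toMonoidHom)

omit [Finite P] [Finite V] in
theorem mem_img {act : P →* AddMonoid.End V} {A : Subgroup P} {g : P} {v : V} :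
    v ∈ img act A g ↔ act g⁻¹ v ∈ fix act A := mem_fix_conj act

omit [Finite P] in
/-- A proper subgroup of an elementary abelian group has index at least `p`. -/
theorem card_mul_le {I L : AddSubgroup V} (hpV : ∀ v : V, p • v = 0) (h : I ≤ L) (hne : ¬ L ≤ I) :
    Nat.card I * p ≤ Nat.card L := by
  obtain ⟨x, hx, hxI⟩ := SetLike.not_le_iff_exists.1 hne
  have hord : addOrderOf x = p := addOrderOf_eq_prime (hpV x) (fun e => hxI (e ▸ zero_mem _))
  have hz : I ⊓ AddSubgroup.zmultiples x = ⊥ := by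
    rw [eq_bot_iff]
    intro v hv
    obtain ⟨hvI, hvx⟩ := AddSubgroup.mem_inf.1 hv
    obtain ⟨k, rfl⟩ := AddSubgroup.mem_zmultiples_iff.1 hvx
    rw [AddSubgroup.mem_bot]
    by_contra hne0
    have hk : ¬ (p : ℤ) ∣ k := fun ⟨c, hc⟩ => hne0 (by
      subst hc
      rw [mul_comm, mul_smul, natCast_zsmul, hpV x, smul_zero])
    have hcop : IsCoprime k (p : ℤ) := ((Nat.prime_iff_prime_int.1 (Fact.out : p.Prime)).coprime_iff_not_dvd.2 hk).symm
    obtain ⟨s, t, hst⟩ := hcop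
    refine hxI ?_
    rw [← one_zsmul x, ← hst, add_smul, mul_smul, mul_smul, natCast_zsmul, hpV x, smul_zero, add_zero]
    exact zsmul_mem hvI s
  have e := card_sup_mul_inf I (AddSubgroup.zmultiples x)
  rw [hz, AddSubgroup.card_bot, mul_one, Nat.card_zmultiples, hord] at e
  rw [← e]
  exact Nat.card_le_card_of_injective _ (AddSubgroup.inclusion_injective
    (sup_le h (AddSubgroup.zmultiples_le.2 hx)))

omit [Finite P] in
/-- Hyperplanes separate. -/
theorem exists_hyperplane {S : AddSubgroup V} {t : V} (hpV : ∀ v : V, p • v = 0) (ht : t ∉ S) :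
    ∃ U : AddSubgroup V, S ≤ U ∧ t ∉ U ∧ Nat.card U * p = Nat.card V := by
  obtain ⟨U, hU⟩ := (Set.toFinite {U : AddSubgroup V | S ≤ U ∧ t ∉ U}).exists_maximal ⟨S, le_rfl, ht⟩
  obtain ⟨⟨hSU, htU⟩, hmax⟩ := hU
  refine ⟨U, hSU, htU, ?_⟩
  have htop : U ⊔ AddSubgroup.zmultiples t = ⊤ := by
    rw [eq_top_iff]
    intro v _
    by_cases hv : v ∈ U
    · exact AddSubgroup.mem_sup_left hv
    have h1 : t ∈ U ⊔ AddSubgroup.zmultiples v := by
      by_contra hcon
      exact hv (hmax (y := U ⊔ AddSubgroup.zmultiples v) ⟨hSU.trans le_sup_left, hcon⟩ le_sup_left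
        (AddSubgroup.mem_sup_right (AddSubgroup.mem_zmultiples v)))
    obtain ⟨u, hu, w, hw, e⟩ := AddSubgroup.mem_sup.1 h1
    obtain ⟨k, rfl⟩ := AddSubgroup.mem_zmultiples_iff.1 hw
    have hk : ¬ (p : ℤ) ∣ k := fun ⟨c, hc⟩ => htU (by
      subst hc
      rw [mul_comm, mul_smul, natCast_zsmul, hpV v, smul_zero, add_zero] at e
      exact e ▸ hu)
    obtain ⟨a, b, hab⟩ := ((Nat.prime_iff_prime_int.1 (Fact.out : p.Prime)).coprime_iff_not_dvd.2 hk).symm
    have e' : v = a • (-u) + a • t := by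
      conv_lhs => rw [← one_zsmul v, ← hab, add_smul, mul_smul, mul_smul, natCast_zsmul, hpV v, smul_zero, add_zero]
      rw [← e, ← smul_add, neg_add_cancel_left]
    rw [e']
    exact AddSubgroup.add_mem_sup (zsmul_mem (neg_mem hu) a) (zsmul_mem (AddSubgroup.mem_zmultiples t) a)
  have hz : U ⊓ AddSubgroup.zmultiples t = ⊥ := by
    rw [eq_bot_iff]
    intro v hv
    obtain ⟨hvU, hvt⟩ := AddSubgroup.mem_inf.1 hv
    obtain ⟨k, rfl⟩ := AddSubgroup.mem_zmultiples_iff.1 hvt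
    rw [AddSubgroup.mem_bot]
    by_cases hk : (p : ℤ) ∣ k
    · obtain ⟨c, rfl⟩ := hk
      rw [mul_comm, mul_smul, natCast_zsmul, hpV t, smul_zero]
    obtain ⟨a, b, hab⟩ := ((Nat.prime_iff_prime_int.1 (Fact.out : p.Prime)).coprime_iff_not_dvd.2 hk).symm
    exfalso
    refine htU ?_
    rw [← one_zsmul t, ← hab, add_smul, mul_smul, mul_smul, natCast_zsmul, hpV t, smul_zero, add_zero]
    exact zsmul_mem hvU a
  have e := card_sup_mul_inf U (AddSubgroup.zmultiples t)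
  rw [htop, hz, AddSubgroup.card_top, AddSubgroup.card_bot, mul_one, Nat.card_zmultiples,
    addOrderOf_eq_prime (hpV t) (fun e => htU (e ▸ zero_mem _))] at e
  exact e.symm

variable {act : P →* AddMonoid.End V} {X A : Subgroup P}

theorem Conf.not_mem (h : Conf p act X A) {g : P} (hg : g ∉ X) {a : P} (ha : a ∈ A) (ha1 : a ≠ 1) :
    g⁻¹ * a * g ∉ X := fun hc => hg (inv_mem_iff.1 (h.sep a (h.AX ha) (h.Aexp a ha) ha1 g⁻¹ (by rwa [inv_inv])))

theorem Conf.conj_not_mem (h : Conf p act X A) {g : P} (hg : g ∉ X) {a : P} (ha : a ∈ A) (ha1 : a ≠ 1) :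
    g * a * g⁻¹ ∉ X := fun hc => hg (h.sep a (h.AX ha) (h.Aexp a ha) ha1 g hc)

theorem Conf.exists_ne_one (h : Conf p act X A) : ∃ a ∈ A, a ≠ 1 := by
  exact (Subgroup.bot_or_exists_ne_one A).resolve_left h.ne

theorem Conf.card_le (h : Conf p act X A) : Nat.card V ≤ Nat.card A * Nat.card (fix act A) := by
  have hb := h.best ⊥ (fun a ha b hb => by rw [mem_bot.1 ha, mem_bot.1 hb])
    (fun a ha => by rw [mem_bot.1 ha, one_pow])
  have : fix act (⊥ : Subgroup P) = ⊤ :=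
    eq_top_iff.2 fun v _ a ha => by rw [mem_bot.1 ha, act_one]
  rwa [Subgroup.card_bot, one_mul, this, AddSubgroup.card_top] at hb

omit [Finite P] in
theorem card_img (g : P) : Nat.card (img act A g) = Nat.card (fix act A) := Nat.card_congr
  { toFun := fun v => ⟨act g⁻¹ v, mem_img.1 v.2⟩
    invFun := fun v => ⟨act g v, mem_img.2 (by rw [act_inv]; exact v.2)⟩
    left_inv := fun v => Subtype.ext (act_inv' act g v)
    right_inv := fun v => Subtype.ext (act_inv act g v) }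

omit [Finite P] [Finite V] in
theorem img_one : img act A 1 = fix act A := by
  refine AddSubgroup.ext fun v => mem_img.trans ?_
  rw [inv_one, act_one]

/-- The pair lemma. -/
theorem Conf.pair (h : Conf p act X A) : ∀ g ∉ X,
    Nat.card (fix act A) = Nat.card A * Nat.card ↥(fix act A ⊓ img act A g) ∧
    Nat.card V = Nat.card A * Nat.card (fix act A) ∧
    fix act A ⊔ img act A g = ⊤ ∧
    (∀ a ∈ A, a ≠ 1 → ∀ x, act g⁻¹ x ∈ fix act A →
      act a x - x ∈ fix act A ⊓ img act A g → x ∈ fix act A) := by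
  intro g hg
  induction hn : Nat.card ↥(A ⊔ A.map (MulAut.conj g).toMonoidHom) using Nat.strong_induction_on generalizing g with
  | _ n ih =>
  obtain ⟨W, hW⟩ : ∃ W, W = fix act A := ⟨_, rfl⟩
  obtain ⟨Y, hY⟩ : ∃ Y, Y = img act A g := ⟨_, rfl⟩
  have hYm : ∀ v, v ∈ Y ↔ act g⁻¹ v ∈ W := fun v => by rw [hY, hW]; exact mem_img
  rw [← hW, ← hY]
  have hYW : Nat.card Y = Nat.card W := by rw [hY, hW, card_img]
  have hVq : Nat.card V ≤ Nat.card A * Nat.card W := hW ▸ h.card_le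
  have e := card_sup_mul_inf W Y
  rw [hYW] at e
  have hupper : Nat.card W ≤ Nat.card A * Nat.card ↥(W ⊓ Y) := by
    refine Nat.le_of_mul_le_mul_right ?_ (Nat.card_pos : 0 < Nat.card W)
    calc _ = Nat.card ↥(W ⊔ Y) * Nat.card ↥(W ⊓ Y) := e.symm
      _ ≤ Nat.card A * Nat.card W * Nat.card ↥(W ⊓ Y) :=
        Nat.mul_le_mul_right _ ((Nat.card_le_card_of_injective _ (W ⊔ Y).subtype_injective).trans hVq)
      _ = _ := by ring
  have hfree : ∀ a ∈ A, a ≠ 1 → ∀ x, act g⁻¹ x ∈ W → act a x - x ∈ W ⊓ Y → x ∈ W := by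
    intro a ha ha1 x hx hd
    obtain ⟨g', hg'⟩ : ∃ g', g' = g⁻¹ * a * g := ⟨_, rfl⟩
    have hg'X : g' ∉ X := hg' ▸ h.not_mem hg ha ha1
    obtain ⟨L, hL⟩ : ∃ L, L = A ⊔ A.map (MulAut.conj g).toMonoidHom := ⟨_, rfl⟩
    have hmap : (A ⊔ A.map (MulAut.conj g').toMonoidHom).map (MulAut.conj g).toMonoidHom ≤ L := by
      rw [Subgroup.map_sup, hL]
      refine sup_le le_sup_right ?_
      rintro _ ⟨_, ⟨c, hc, rfl⟩, rfl⟩
      have e1 : g * (g' * c * g'⁻¹) * g⁻¹ = a * (g * c * g⁻¹) * a⁻¹ := by rw [hg']; group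
      show g * (g' * c * g'⁻¹) * g⁻¹ ∈ _
      rw [e1]
      exact mul_mem (mul_mem (mem_sup_left ha) (mem_sup_right ⟨c, hc, rfl⟩)) (inv_mem (mem_sup_left ha))
    obtain ⟨z, hz⟩ : ∃ z, z = act a x - x := ⟨_, rfl⟩
    rw [← hz] at hd
    obtain ⟨hzW, hzY⟩ := AddSubgroup.mem_inf.1 hd
    have hainv : act a⁻¹ x = x - z := by
      have e1 : act a⁻¹ z = z := (hW ▸ hzW : z ∈ fix act A) _ (inv_mem ha)
      conv_rhs => rw [← e1, hz, map_sub, act_inv, sub_sub_cancel]
    have hu1 : act g⁻¹ x ∈ fix act A := hW ▸ hx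
    have hu2 : act g'⁻¹ (act g⁻¹ x) ∈ fix act A := by
      rw [← act_mul, show g'⁻¹ * g⁻¹ = g⁻¹ * a⁻¹ by rw [hg']; group, act_mul, hainv, map_sub, ← hW]
      exact sub_mem hx ((hYm z).1 hzY)
    rcases (Subgroup.card_le_of_le hmap).lt_or_eq with hlt | heq
    · rw [card_map_of_injective (MulAut.conj g).injective, hL, hn] at hlt
      obtain ⟨hc1, -, -, -⟩ := ih _ hlt g' hg'X rfl
      obtain ⟨Zu, hZu⟩ : ∃ Zu, Zu = fix act A ⊓ img act A g' := ⟨_, rfl⟩
      have hsub : ∀ v ∈ W ⊓ Y, act g⁻¹ v ∈ Zu := by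
        intro v hv
        obtain ⟨hvW, hvY⟩ := AddSubgroup.mem_inf.1 hv
        rw [hZu]
        refine AddSubgroup.mem_inf.2 ⟨hW ▸ (hYm v).1 hvY, mem_img.2 ?_⟩
        rw [← act_mul, show g'⁻¹ * g⁻¹ = g⁻¹ * a⁻¹ by rw [hg']; group, act_mul,
          (hW ▸ hvW : v ∈ fix act A) _ (inv_mem ha), ← hW]
        exact (hYm v).1 hvY
      let f : ↥(W ⊓ Y) → Zu := fun v => ⟨act g⁻¹ v, hsub v v.2⟩
      have hf : Function.Injective f := fun v w hvw => Subtype.ext (act_injective act _ (congrArg Subtype.val hvw))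
      have hcard : Nat.card ↥(W ⊓ Y) = Nat.card Zu := by
        refine le_antisymm (Nat.card_le_card_of_injective f hf) ?_
        refine Nat.le_of_mul_le_mul_left ?_ (Nat.card_pos : 0 < Nat.card A)
        rw [hZu, ← hc1, ← hW]
        exact hupper
      obtain ⟨v, hv⟩ := ((Nat.bijective_iff_injective_and_card f).2 ⟨hf, hcard⟩).2
        ⟨act g⁻¹ x, hZu ▸ AddSubgroup.mem_inf.2 ⟨hu1, mem_img.2 hu2⟩⟩
      have hvx : (v : V) = x := act_injective act _ (congrArg Subtype.val hv)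
      exact hvx ▸ (AddSubgroup.mem_inf.1 v.2).1
    · have hLe : (A ⊔ A.map (MulAut.conj g').toMonoidHom).map (MulAut.conj g).toMonoidHom = L :=
        Subgroup.eq_of_le_of_card_ge hmap heq.ge
      rw [hW]
      intro c hc
      obtain ⟨l, hl, hlc⟩ := (hLe.ge (hL ▸ mem_sup_left hc) : c ∈ _)
      have : l ∈ stabV act (act g⁻¹ x) := (sup_le (fun d hd' => hu1 d hd') (fun d hd' => mem_img.2 hu2 d hd') :
        A ⊔ A.map (MulAut.conj g').toMonoidHom ≤ stabV act (act g⁻¹ x)) hl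
      rw [← hlc]
      show act (g * l * g⁻¹) x = x
      rw [act_mul, act_mul, (this : act l _ = _), act_inv']
  -- `C(A) ≠ C(A^g)`
  obtain ⟨x, hxY, hxW⟩ : ∃ x ∈ Y, x ∉ W := by
    by_contra hcon
    push Not at hcon
    have hYeq : Y = W := by
      refine SetLike.coe_injective (Set.eq_of_subset_of_ncard_le hcon ?_ (Set.toFinite _))
      rw [← Nat.card_coe_set_eq, ← Nat.card_coe_set_eq]
      exact hYW.ge
    let S : Subgroup P :=
      { carrier := {k | (∀ w ∈ W, act k w = w) ∧ ∀ v, act k v - v ∈ W}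
        one_mem' := ⟨fun w _ => act_one act w, fun v => by rw [act_one, sub_self]; exact zero_mem _⟩
        mul_mem' := fun {k l} hk hl => ⟨fun w hw => by rw [act_mul, hl.1 w hw, hk.1 w hw], fun v => by
          rw [act_mul, ← sub_add_sub_cancel (act k (act l v)) (act l v) v]
          exact add_mem (hk.2 _) (hl.2 v)⟩
        inv_mem' := fun {k} hk => ⟨fun w hw => by conv_lhs => rw [← hk.1 w hw, act_inv], fun v => by
          have := hk.2 (act k⁻¹ v)
          rw [act_inv'] at this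
          simpa using neg_mem this⟩ }
    have hSp : IsPGroup p S := fun k => ⟨1, Subtype.ext (by
      rw [SubmonoidClass.coe_pow, pow_one, OneMemClass.coe_one]
      refine h.inj (AddMonoidHom.ext fun v => ?_)
      have hstep : ∀ i : ℕ, act ((k : P) ^ i) v = v + i • (act (k : P) v - v) := by
        intro i
        induction i with
        | zero => rw [pow_zero, act_one, zero_smul, add_zero]
        | succ i ihh => rw [pow_succ', act_mul, ihh, map_add, map_nsmul, k.2.1 _ (k.2.2 v), succ_nsmul]; abel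
      refine (hstep p).trans ?_
      rw [h.hpV, add_zero, map_one]; rfl)⟩
    have hAS : A ≤ S := fun a ha => ⟨fun w hw => (hW ▸ hw : w ∈ fix act A) a ha, fun v => hW ▸ h.quad a ha v⟩
    obtain ⟨a, ha, ha1⟩ := h.exists_ne_one
    have hSX : S ≤ X := h.pgroup S hSp fun hb => ha1 (mem_bot.1 (hb ▸ mem_inf.2 ⟨hAS ha, h.AX ha⟩))
    refine h.conj_not_mem hg ha ha1 (hSX ⟨fun w hw => ?_, fun v => ?_⟩)
    · have : act g⁻¹ w ∈ W := (hYm w).1 (hYeq ▸ hw)
      rw [act_mul, act_mul, (hW ▸ this : act g⁻¹ w ∈ fix act A) a ha, act_inv']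
    · refine hYeq ▸ (hYm _).2 ?_
      rw [map_sub, act_mul, act_mul, act_inv]
      exact hW ▸ h.quad a ha _
  have hlow : Nat.card A * Nat.card ↥(W ⊓ Y) ≤ Nat.card W := by
    let f : A → ↥W ⧸ (W ⊓ Y).addSubgroupOf W := fun a => QuotientAddGroup.mk ⟨act a x - x, hW ▸ h.quad a a.2 x⟩
    have hinj : Function.Injective f := fun a b hab => by
      by_contra hne
      have hz : -(act (a : P) x - x) + (act (b : P) x - x) ∈ W ⊓ Y := (QuotientAddGroup.eq.1 hab :)
      rw [neg_sub, sub_add_sub_cancel'] at hz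
      refine hxW (hfree _ (mul_mem (inv_mem a.2) b.2) (fun e' => hne (Subtype.ext (inv_mul_eq_one.1 e'))) x
        ((hYm x).1 hxY) ?_)
      rw [act_mul, show act (a : P)⁻¹ (act (b : P) x) - x = act (a : P)⁻¹ (act (b : P) x - act (a : P) x) by
        rw [map_sub, act_inv], (hW ▸ (AddSubgroup.mem_inf.1 hz).1 : _ ∈ fix act A) _ (inv_mem a.2)]
      exact hz
    have h1 := Nat.card_le_card_of_injective f hinj
    rw [AddSubgroup.card_eq_card_quotient_mul_card_addSubgroup ((W ⊓ Y).addSubgroupOf W),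
      Nat.card_congr (AddSubgroup.addSubgroupOfEquivOfLe (inf_le_left : W ⊓ Y ≤ W)).toEquiv]
    exact Nat.mul_le_mul_right _ h1
  have heqW := le_antisymm hupper hlow
  have hsup : Nat.card V ≤ Nat.card ↥(W ⊔ Y) := by
    refine hVq.trans (Nat.le_of_mul_le_mul_right ?_ (Nat.card_pos : 0 < Nat.card ↥(W ⊓ Y)))
    rw [e]
    exact le_of_eq (by rw [mul_right_comm, ← heqW])
  refine ⟨heqW, le_antisymm hVq ?_, eq_top_of_card _ hsup, hfree⟩
  refine Nat.le_of_mul_le_mul_right ?_ (Nat.card_pos : 0 < Nat.card ↥(W ⊓ Y))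
  calc Nat.card A * Nat.card W * Nat.card ↥(W ⊓ Y) = Nat.card W * Nat.card W := by
        rw [mul_right_comm, ← heqW]
    _ = Nat.card ↥(W ⊔ Y) * Nat.card ↥(W ⊓ Y) := e.symm
    _ ≤ _ := Nat.mul_le_mul_right _ (Nat.card_le_card_of_injective _ (W ⊔ Y).subtype_injective)

theorem Conf.decomp (h : Conf p act X A) {g : P} (hg : g ∉ X) (v : V) :
    ∃ w x, w ∈ fix act A ∧ act g⁻¹ x ∈ fix act A ∧ w + x = v := by
  obtain ⟨w, hw, x, hx, e⟩ := AddSubgroup.mem_sup.1 ((h.pair g hg).2.2.1 ▸ AddSubgroup.mem_top v)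
  exact ⟨w, x, hw, mem_img.1 hx, e⟩

theorem Conf.fix_elem (h : Conf p act X A) {a : P} (ha : a ∈ A) (ha1 : a ≠ 1) {v : V} (hv : act a v = v) :
    v ∈ fix act A := by
  obtain ⟨g, hg⟩ := h.out
  obtain ⟨w, x, hw, hx, rfl⟩ := h.decomp hg v
  rw [map_add, hw a ha, add_right_inj] at hv
  exact add_mem hw ((h.pair g hg).2.2.2 a ha ha1 x hx (by rw [hv, sub_self]; exact zero_mem _))

/-- `v ↦ u v - v`. -/
abbrev mov (act : P →* AddMonoid.End V) (u : P) : AddSubgroup V :=
  AddMonoidHom.range (AddMonoidHom.mk' (fun v => act u v - v) fun v w => by rw [map_add]; abel)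

omit [Finite P] [Finite V] in
theorem mem_mov (u : P) (v : V) : act u v - v ∈ mov act u := ⟨v, rfl⟩

theorem Conf.card_mov (h : Conf p act X A) {a : P} (ha : a ∈ A) (ha1 : a ≠ 1) :
    Nat.card (mov act a) = Nat.card A := by
  obtain ⟨g, hg⟩ := h.out
  let f : V →+ V := AddMonoidHom.mk' (fun v => act a v - v) fun v w => by rw [map_add]; abel
  have hk : f.ker = fix act A := by
    refine AddSubgroup.ext fun v => ?_
    rw [AddMonoidHom.mem_ker]
    exact ⟨fun hv => h.fix_elem ha ha1 (sub_eq_zero.1 hv), fun hv => sub_eq_zero.2 (hv a ha)⟩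
  refine Nat.eq_of_mul_eq_mul_right (Nat.card_pos : 0 < Nat.card (fix act A)) ?_
  rw [← (h.pair g hg).2.1, AddSubgroup.card_eq_card_quotient_mul_card_addSubgroup f.ker,
    Nat.card_congr (QuotientAddGroup.quotientKerEquivRange f).toEquiv, hk]

theorem Conf.mov_inf (h : Conf p act X A) {a : P} (ha : a ∈ A) {g : P} (hg : g ∉ X) {v : V}
    (hv : act g⁻¹ (act a v - v) ∈ fix act A) : act a v - v = 0 := by
  by_cases ha1 : a = 1
  · rw [ha1, act_one, sub_self]
  obtain ⟨w, x, hw, hx, rfl⟩ := h.decomp hg v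
  rw [map_add, hw a ha, add_sub_add_left_eq_sub] at hv ⊢
  exact sub_eq_zero.2 ((h.pair g hg).2.2.2 a ha ha1 x hx
    (AddSubgroup.mem_inf.2 ⟨h.quad a ha x, mem_img.2 hv⟩) a ha)

/-- Every vector outside `C(A)` is fixed by some `A^(a g)`. -/
theorem Conf.cover (h : Conf p act X A) {g : P} (hg : g ∉ X) {v : V} (hv : v ∉ fix act A) :
    ∃ a ∈ A, act (a * g)⁻¹ v ∈ fix act A := by
  obtain ⟨w, x, hw, hx, rfl⟩ := h.decomp hg v
  obtain ⟨hc, -, -, hfree⟩ := h.pair g hg
  have hxW : x ∉ fix act A := fun hh => hv (add_mem hw hh)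
  let Q := ↥(fix act A) ⧸ (fix act A ⊓ img act A g).addSubgroupOf (fix act A)
  let f : A → Q := fun a => QuotientAddGroup.mk ⟨act a x - x, h.quad a a.2 x⟩
  have hinj : Function.Injective f := fun a b hab => by
    by_contra hne
    have hz : -(act (a : P) x - x) + (act (b : P) x - x) ∈ fix act A ⊓ img act A g := (QuotientAddGroup.eq.1 hab :)
    rw [neg_sub, sub_add_sub_cancel'] at hz
    refine hxW (hfree _ (mul_mem (inv_mem a.2) b.2) (fun e' => hne (Subtype.ext (inv_mul_eq_one.1 e'))) x hx ?_)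
    rw [act_mul, show act (a : P)⁻¹ (act (b : P) x) - x = act (a : P)⁻¹ (act (b : P) x - act (a : P) x) by
      rw [map_sub, act_inv], (AddSubgroup.mem_inf.1 hz).1 _ (inv_mem a.2)]
    exact hz
  have hQ : Nat.card Q = Nat.card A := by
    have := AddSubgroup.card_eq_card_quotient_mul_card_addSubgroup ((fix act A ⊓ img act A g).addSubgroupOf (fix act A))
    rw [Nat.card_congr (AddSubgroup.addSubgroupOfEquivOfLe
      (inf_le_left : fix act A ⊓ img act A g ≤ fix act A)).toEquiv, hc] at this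
    exact (Nat.eq_of_mul_eq_mul_right Nat.card_pos this).symm
  obtain ⟨a, ha⟩ := ((Nat.bijective_iff_injective_and_card f).2 ⟨hinj, hQ.symm⟩).2 (QuotientAddGroup.mk ⟨w, hw⟩)
  have hz : -(act (a : P) x - x) + w ∈ fix act A ⊓ img act A g := (QuotientAddGroup.eq.1 ha :)
  obtain ⟨z, hzd⟩ : ∃ z, z = -(act (a : P) x - x) + w := ⟨_, rfl⟩
  rw [← hzd] at hz
  refine ⟨a, a.2, ?_⟩
  rw [show w + x = act (a : P) x + z by rw [hzd]; abel, map_add, _root_.mul_inv_rev, act_mul, act_mul, act_inv,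
    (AddSubgroup.mem_inf.1 hz).1 _ (inv_mem a.2)]
  exact add_mem hx (mem_img.1 (AddSubgroup.mem_inf.1 hz).2)

/-- A hyperplane over the centre of a line contains one of its `|A| + 1` lines. -/
theorem Conf.line (h : Conf p act X A) {g : P} (hg : g ∉ X) {U : AddSubgroup V}
    (hU : Nat.card U * p = Nat.card V) (hZU : fix act A ⊓ img act A g ≤ U) :
    fix act A ≤ U ∨ ∃ a ∈ A, img act A (a * g) ≤ U := by
  classical
  by_contra hcon
  push Not at hcon
  obtain ⟨hc, hVc, -, -⟩ := h.pair g hg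
  obtain ⟨Z, hZ⟩ : ∃ Z, Z = fix act A ⊓ img act A g := ⟨_, rfl⟩
  rw [← hZ] at hc hZU
  let L : Option A → AddSubgroup V := fun o => o.elim (fix act A) (fun a => img act A ((a : P) * g))
  have hLc : ∀ o, Nat.card (L o) = Nat.card (fix act A) := by
    rintro (_ | a)
    · rfl
    · exact card_img _
  have hZL : ∀ o, Z ≤ L o := by
    rintro (_ | a)
    · exact hZ ▸ inf_le_left
    · intro z hz
      rw [hZ] at hz
      refine mem_img.2 ?_
      rw [_root_.mul_inv_rev, act_mul, (AddSubgroup.mem_inf.1 hz).1 _ (inv_mem a.2)]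
      exact mem_img.1 (AddSubgroup.mem_inf.1 hz).2
  have hI : ∀ o, Nat.card ↥(U ⊓ L o) * p ≤ Nat.card A * Nat.card Z := by
    intro o
    refine (card_mul_le h.hpV inf_le_right fun hle => ?_).trans (le_of_eq ((hLc o).trans hc))
    rcases o with _ | a
    · exact hcon.1 (hle.trans inf_le_left)
    · exact hcon.2 a a.2 (hle.trans inf_le_left)
  haveI : Fintype A := Fintype.ofFinite _
  haveI : Fintype V := Fintype.ofFinite _
  let SU : Finset V := Finset.univ.filter fun v => v ∈ U ∧ v ∉ Z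
  let SL : Option A → Finset V := fun o => Finset.univ.filter fun v => v ∈ U ⊓ L o ∧ v ∉ Z
  have hsub : SU ⊆ Finset.univ.biUnion SL := by
    intro v hv
    simp only [SU, Finset.mem_filter, Finset.mem_univ, true_and] at hv
    simp only [SL, Finset.mem_biUnion, Finset.mem_filter, Finset.mem_univ, true_and]
    by_cases hvW : v ∈ fix act A
    · exact ⟨none, AddSubgroup.mem_inf.2 ⟨hv.1, hvW⟩, hv.2⟩
    · obtain ⟨a, ha, hav⟩ := h.cover hg hvW
      exact ⟨some ⟨a, ha⟩, AddSubgroup.mem_inf.2 ⟨hv.1, mem_img.2 hav⟩, hv.2⟩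
  have hcount : ∀ K : AddSubgroup V, Z ≤ K →
      (Finset.univ.filter fun v => v ∈ K ∧ v ∉ Z).card + Nat.card Z = Nat.card K := by
    intro K hK
    rw [Nat.card_eq_fintype_card, Nat.card_eq_fintype_card, Fintype.card_subtype, Fintype.card_subtype,
      ← Finset.card_union_of_disjoint]
    · congr 1
      ext v
      simp only [Finset.mem_union, Finset.mem_filter, Finset.mem_univ, true_and]
      exact ⟨fun hh => hh.elim (·.1) (fun hvz => hK hvz), fun hvK => (em (v ∈ Z)).elim Or.inr (fun hn => Or.inl ⟨hvK, hn⟩)⟩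
    · rw [Finset.disjoint_filter]
      exact fun v _ hv => hv.2
  have h1 := (Finset.card_le_card hsub).trans Finset.card_biUnion_le
  have h2 : ∀ o, ((SL o).card + Nat.card Z) * p ≤ Nat.card A * Nat.card Z := fun o => by
    rw [hcount _ (le_inf hZU (hZL o))]
    exact hI o
  have h3 := Finset.sum_le_sum (s := Finset.univ) fun o (_ : o ∈ Finset.univ) => h2 o
  rw [Finset.sum_const, ← Finset.sum_mul, Finset.sum_add_distrib, Finset.sum_const, smul_eq_mul, smul_eq_mul,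
    Finset.card_univ, Fintype.card_option, ← Nat.card_eq_fintype_card] at h3
  have h4 := hcount U hZU
  rw [hVc, hc] at hU
  have hp2 := (Fact.out : p.Prime).two_le
  have hA0 : 0 < Nat.card A := Nat.card_pos
  have hZ0 : 0 < Nat.card Z := Nat.card_pos
  nlinarith [Nat.mul_le_mul_right p h1, Nat.mul_lt_mul_of_pos_right (Nat.lt_of_lt_of_le Nat.one_lt_two hp2) (Nat.mul_pos hA0 hZ0)]

/-- Hyperplanes invariant under a `p`-element of `X`. -/
theorem Conf.trick (h : Conf p act X A) {u : P} (hu : u ∈ X) (hup : u ^ p = 1) (hu1 : u ≠ 1) {g k : P}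
    (hgk : g⁻¹ * k ∉ X) {U : AddSubgroup V} (hU : Nat.card U * p = Nat.card V) (hmov : mov act u ≤ U)
    (hZU : img act A g ⊓ img act A k ≤ U) :
    (g ∈ X ∧ img act A g ≤ U) ∨ ∃ a ∈ A, g * (a * (g⁻¹ * k)) ∈ X ∧ img act A (g * (a * (g⁻¹ * k))) ≤ U := by
  have key : ∀ m, img act A m ≤ U → m ∈ X := by
    intro m hm
    by_contra hmX
    have hmum : m⁻¹ * u * m ∉ X := fun hc => hmX (inv_mem_iff.1 (h.sep u hu hup hu1 m⁻¹ (by rwa [inv_inv])))
    obtain ⟨-, -, htop, -⟩ := h.pair _ hmum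
    have hall : ∀ v, v ∈ U := by
      intro v
      obtain ⟨w, hw, x, hx, e⟩ := AddSubgroup.mem_sup.1 (htop ▸ AddSubgroup.mem_top (act m⁻¹ v))
      have ev : act m w + act m x = v := by rw [← map_add, e, act_inv']
      have hx' := mem_img.1 hx
      rw [← ev]
      refine add_mem (hm (mem_img.2 (by rw [act_inv]; exact hw))) ?_
      obtain ⟨x', hx'e⟩ : ∃ x', x' = act u⁻¹ (act m x) := ⟨_, rfl⟩
      have hxU : x' ∈ U := hm (mem_img.2 (by
        rw [hx'e, ← act_mul, ← act_mul, show m⁻¹ * u⁻¹ * m = (m⁻¹ * u * m)⁻¹ by group]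
        exact hx'))
      have : act u x' ∈ U := by
        rw [← sub_add_cancel (act u x') x']
        exact add_mem (hmov (mem_mov u x')) hxU
      rwa [hx'e, act_inv'] at this
    have : U = ⊤ := eq_top_iff.2 fun v _ => hall v
    rw [this, AddSubgroup.card_top] at hU
    have := (Fact.out : p.Prime).two_le
    have h0 : 0 < Nat.card V := Nat.card_pos
    nlinarith
  obtain ⟨U', hU'⟩ : ∃ U', U' = U.comap (act g) := ⟨_, rfl⟩
  have hcU : Nat.card U' = Nat.card U := Nat.card_congr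
    { toFun := fun v => ⟨act g v, AddSubgroup.mem_comap.1 (hU' ▸ v.2)⟩
      invFun := fun v => ⟨act g⁻¹ v, hU' ▸ AddSubgroup.mem_comap.2 (by
        show act g (act g⁻¹ (v : V)) ∈ U
        rw [act_inv']; exact v.2)⟩
      left_inv := fun v => Subtype.ext (act_inv act g v)
      right_inv := fun v => Subtype.ext (act_inv' act g v) }
  have hback : ∀ m, img act A m ≤ U' → img act A (g * m) ≤ U := by
    intro m hm v hv
    have h1 : act g⁻¹ v ∈ img act A m := mem_img.2 (by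
      rw [← act_mul, ← _root_.mul_inv_rev]; exact mem_img.1 hv)
    have h2 := hm h1
    rw [hU'] at h2
    change act g (act g⁻¹ v) ∈ U at h2
    rwa [act_inv'] at h2
  rcases h.line hgk (U := U') (by rw [hcU]; exact hU) (fun z hz => by
      rw [hU']
      show act g z ∈ U
      refine hZU (AddSubgroup.mem_inf.2 ⟨mem_img.2 (by rw [act_inv]; exact (AddSubgroup.mem_inf.1 hz).1), mem_img.2 ?_⟩)
      rw [← act_mul, show k⁻¹ * g = (g⁻¹ * k)⁻¹ by group]
      exact mem_img.1 (AddSubgroup.mem_inf.1 hz).2) with hl | ⟨a, ha, hl⟩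
  · have := hback 1 (by rwa [img_one])
    rw [mul_one] at this
    exact Or.inl ⟨key g this, this⟩
  · exact Or.inr ⟨a, ha, key _ (hback _ hl), hback _ hl⟩

theorem Conf.card_pair (h : Conf p act X A) {g k : P} (hgk : g⁻¹ * k ∉ X) :
    Nat.card A * Nat.card ↥(img act A g ⊓ img act A k) = Nat.card (fix act A) := by
  rw [(h.pair _ hgk).1]
  refine congrArg (Nat.card A * ·) (Nat.card_congr
    { toFun := fun v => ⟨act g⁻¹ v, AddSubgroup.mem_inf.2 ⟨mem_img.1 (AddSubgroup.mem_inf.1 v.2).1, mem_img.2 (by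
        rw [← act_mul, show (g⁻¹ * k)⁻¹ * g⁻¹ = k⁻¹ by group]
        exact mem_img.1 (AddSubgroup.mem_inf.1 v.2).2)⟩⟩
      invFun := fun v => ⟨act g v, AddSubgroup.mem_inf.2 ⟨mem_img.2 (by rw [act_inv]; exact (AddSubgroup.mem_inf.1 v.2).1),
        mem_img.2 (by
          rw [← act_mul, show k⁻¹ * g = (g⁻¹ * k)⁻¹ by group]
          exact mem_img.1 (AddSubgroup.mem_inf.1 v.2).2)⟩⟩
      left_inv := fun v => Subtype.ext (act_inv' act g v)
      right_inv := fun v => Subtype.ext (act_inv act g v) })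

theorem Conf.mov_le_of_ne (h : Conf p act X A) {m : P} (hm : m ∈ X) {a : P} (ha : a ∈ A) (ha1 : a ≠ 1) :
    mov act a ≤ img act A m := by
  obtain ⟨g, hg⟩ := h.out
  have hmg : m⁻¹ * g ∉ X := fun hc => hg (by simpa using mul_mem hm hc)
  obtain ⟨S, hS⟩ : ∃ S, S = mov act a ⊔ (img act A m ⊓ img act A g) := ⟨_, rfl⟩
  have hcS : Nat.card S ≤ Nat.card (fix act A) := by
    rw [← h.card_pair hmg, ← h.card_mov ha ha1, hS]
    exact Nat.le_of_mul_le_mul_right (by rw [card_sup_mul_inf, mul_comm]; exact Nat.le_mul_of_pos_left _ (Nat.card_pos : 0 < Nat.card ↥(mov act a ⊓ (img act A m ⊓ img act A g))) |>.trans (le_of_eq (mul_comm _ _)))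
      (Nat.card_pos : 0 < Nat.card ↥(mov act a ⊓ (img act A m ⊓ img act A g)))
  have hle : img act A m ≤ S := by
    intro t ht
    by_contra htS
    obtain ⟨U, hSU, htU, hU⟩ := exists_hyperplane h.hpV htS
    rw [hS] at hSU
    rcases h.trick (h.AX ha) (h.Aexp a ha) ha1 hmg hU (le_sup_left.trans hSU) (le_sup_right.trans hSU) with
      ⟨-, hl⟩ | ⟨b, hb, hc, -⟩
    · exact htU (hl ht)
    · refine hg ?_
      have h1 := mul_mem (inv_mem (mul_mem hm (h.AX hb))) hc
      have h2 := mul_mem hm (by simpa [mul_assoc] using h1 : m⁻¹ * g ∈ X)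
      simpa using h2
  have heq : img act A m = S := SetLike.coe_injective (Set.eq_of_subset_of_ncard_le hle (by
    rw [← Nat.card_coe_set_eq, ← Nat.card_coe_set_eq]
    exact hcS.trans (card_img m).ge) (Set.toFinite _))
  rw [heq, hS]
  exact le_sup_left

theorem Conf.mov_conj (h : Conf p act X A) {m : P} (hm : m ∈ X) {c : P} (hc : c ∈ A) (v : V) :
    act (m * c * m⁻¹) v - v ∈ fix act A := by
  by_cases hc1 : c = 1
  · subst hc1; rw [mul_one, mul_inv_cancel, act_one, sub_self]; exact zero_mem _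
  have := mem_img.1 (h.mov_le_of_ne (inv_mem hm) hc hc1 (mem_mov c (act m⁻¹ v)))
  rwa [inv_inv, map_sub, act_inv', ← act_mul, ← act_mul] at this

theorem Conf.commute_conj (h : Conf p act X A) {m : P} (hm : m ∈ X) {a c : P} (ha : a ∈ A) (hc : c ∈ A) :
    a * (m * c * m⁻¹) = (m * c * m⁻¹) * a := by
  refine h.inj (AddMonoidHom.ext fun v => ?_)
  show act (a * (m * c * m⁻¹)) v = act (m * c * m⁻¹ * a) v
  rw [act_mul, act_mul act _ a]
  have h1 : act a (act (m * c * m⁻¹) v - v) = act (m * c * m⁻¹) v - v := h.mov_conj hm hc v a ha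
  have h2 : act (m * c * m⁻¹) (act a v - v) = act a v - v := by
    by_cases ha1 : a = 1
    · subst ha1; rw [act_one, sub_self, map_zero]
    exact h.mov_le_of_ne hm ha ha1 (mem_mov a v) _ ⟨c, hc, rfl⟩
  rw [map_sub] at h1 h2
  linear_combination (norm := abel) h1 - h2

/-- The product of two commuting elementary abelian conjugates. -/
theorem Conf.exists_join (h : Conf p act X A) {m : P} (hm : m ∈ X) :
    ∃ D : Subgroup P, (∀ a ∈ D, ∀ b ∈ D, a * b = b * a) ∧ (∀ a ∈ D, a ^ p = 1) ∧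
      ∀ d, d ∈ D ↔ ∃ a ∈ A, ∃ c ∈ A, d = a * (m * c * m⁻¹) := by
  have hsw : ∀ a ∈ A, ∀ c ∈ A, ∀ a' ∈ A, ∀ c' ∈ A,
      a * (m * c * m⁻¹) * (a' * (m * c' * m⁻¹)) = a * a' * (m * (c * c') * m⁻¹) := by
    intro a ha c hc a' ha' c' hc'
    rw [mul_assoc a, ← mul_assoc (m * c * m⁻¹) a', ← h.commute_conj hm ha' hc]
    group
  let D : Subgroup P :=
    { carrier := {d | ∃ a ∈ A, ∃ c ∈ A, d = a * (m * c * m⁻¹)}
      one_mem' := ⟨1, one_mem _, 1, one_mem _, by group⟩
      mul_mem' := by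
        rintro _ _ ⟨a, ha, c, hc, rfl⟩ ⟨a', ha', c', hc', rfl⟩
        exact ⟨a * a', mul_mem ha ha', c * c', mul_mem hc hc', hsw a ha c hc a' ha' c' hc'⟩
      inv_mem' := by
        rintro _ ⟨a, ha, c, hc, rfl⟩
        refine ⟨a⁻¹, inv_mem ha, c⁻¹, inv_mem hc, ?_⟩
        rw [h.commute_conj hm (inv_mem ha) (inv_mem hc)]
        group }
  refine ⟨D, ?_, ?_, fun d => Iff.rfl⟩
  · rintro _ ⟨a, ha, c, hc, rfl⟩ _ ⟨a', ha', c', hc', rfl⟩
    rw [hsw a ha c hc a' ha' c' hc', hsw a' ha' c' hc' a ha c hc, h.Aab a ha a' ha', h.Aab c hc c' hc']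
  · rintro _ ⟨a, ha, c, hc, rfl⟩
    rw [(show Commute a (m * c * m⁻¹) from h.commute_conj hm ha hc).mul_pow, h.Aexp a ha, one_mul, conj_pow,
      h.Aexp c hc, mul_one, mul_inv_cancel]

/-- `X` leaves `C(A)` invariant. -/
theorem Conf.stable (h : Conf p act X A) {m : P} (hm : m ∈ X) : img act A m = fix act A := by
  by_contra hne
  obtain ⟨g, hg⟩ := h.out
  obtain ⟨D, hDab, hDexp, hDm⟩ := h.exists_join hm
  obtain ⟨K, hK⟩ : ∃ K, K = fix act A ⊓ img act A m := ⟨_, rfl⟩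
  have hKD : K ≤ fix act D := by
    intro v hv d hd
    rw [hK] at hv
    obtain ⟨a, ha, c, hc, rfl⟩ := (hDm d).1 hd
    have e1 : act (m * c * m⁻¹) v = v := (AddSubgroup.mem_inf.1 hv).2 _ ⟨c, hc, rfl⟩
    rw [act_mul, e1]
    exact (AddSubgroup.mem_inf.1 hv).1 a ha
  have hD2 : Nat.card D = Nat.card A * Nat.card A := by
    rw [← Nat.card_prod]
    refine (Nat.card_congr (Equiv.ofBijective
      (fun q : A × A => (⟨(q.1 : P) * (m * q.2 * m⁻¹), (hDm _).2 ⟨q.1, q.1.2, q.2, q.2.2, rfl⟩⟩ : D)) ⟨?_, ?_⟩)).symm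
    · rintro ⟨a, c⟩ ⟨a', c'⟩ hh
      have e : (a : P) * (m * c * m⁻¹) = a' * (m * c' * m⁻¹) := congrArg Subtype.val hh
      have e2 : ((a' : P)⁻¹ * a) = m * ((c' : P) * (c : P)⁻¹) * m⁻¹ := by
        have := congrArg (fun t => (a' : P)⁻¹ * t * (m * (c : P) * m⁻¹)⁻¹) e
        simp only [mul_assoc, mul_inv_cancel, mul_one] at this
        rw [this]; group
      have haa : (a' : P)⁻¹ * a = 1 := by
        by_contra hh1
        refine hne (SetLike.coe_injective (Set.eq_of_subset_of_ncard_le ?_ (by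
          rw [← Nat.card_coe_set_eq, ← Nat.card_coe_set_eq]; exact (card_img m).ge) (Set.toFinite _)))
        intro v hv
        refine h.fix_elem (mul_mem (inv_mem a'.2) a.2) hh1 ?_
        rw [e2]
        exact hv _ ⟨_, mul_mem c'.2 (inv_mem c.2), rfl⟩
      have hcc : (c' : P) * (c : P)⁻¹ = 1 := by
        rw [haa] at e2
        have := e2.symm
        rwa [mul_inv_eq_one, mul_eq_left] at this
      exact Prod.ext (Subtype.ext (inv_mul_eq_one.1 haa).symm) (Subtype.ext (mul_inv_eq_one.1 hcc).symm)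
    · rintro ⟨d, hd⟩
      obtain ⟨a, ha, c, hc, rfl⟩ := (hDm d).1 hd
      exact ⟨(⟨a, ha⟩, ⟨c, hc⟩), rfl⟩
  have hVc := (h.pair g hg).2.1
  have hKle : Nat.card A * Nat.card K ≤ Nat.card (fix act A) := by
    refine Nat.le_of_mul_le_mul_left ?_ (Nat.card_pos : 0 < Nat.card A)
    calc _ = Nat.card D * Nat.card K := by rw [hD2, mul_assoc]
      _ ≤ Nat.card D * Nat.card (fix act D) :=
        Nat.mul_le_mul_left _ (Nat.card_le_card_of_injective _ (AddSubgroup.inclusion_injective hKD))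
      _ ≤ _ := h.best D hDab hDexp
  obtain ⟨Z0, hZ0⟩ : ∃ Z0, Z0 = K ⊓ img act A g := ⟨_, rfl⟩
  have hK0 : Nat.card K ≤ Nat.card A * Nat.card Z0 := by
    refine Nat.le_of_mul_le_mul_right ?_ (Nat.card_pos : 0 < Nat.card (fix act A))
    calc Nat.card K * Nat.card (fix act A) = Nat.card K * Nat.card (img act A g) := by rw [card_img]
      _ = Nat.card ↥(K ⊔ img act A g) * Nat.card ↥(K ⊓ img act A g) := (card_sup_mul_inf _ _).symm
      _ ≤ Nat.card V * Nat.card ↥(K ⊓ img act A g) :=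
        Nat.mul_le_mul_right _ (Nat.card_le_card_of_injective _ (AddSubgroup.subtype_injective _))
      _ = _ := by rw [hVc, hZ0]; ring
  obtain ⟨c, hc, hc1⟩ := h.exists_ne_one
  obtain ⟨v, hv⟩ : ∃ v, act c v - v ≠ 0 := by
    by_contra hh
    push Not at hh
    refine hc1 (h.inj (AddMonoidHom.ext fun v => ?_))
    rw [map_one]; exact sub_eq_zero.1 (hh v)
  obtain ⟨r, hr⟩ : ∃ r, r = act g (act c v - v) := ⟨_, rfl⟩
  have hrg : act g⁻¹ r ∈ fix act A := by rw [hr, act_inv]; exact h.quad c hc v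
  have hdr : ∀ d ∈ D, act d r - r ∈ K := by
    intro d hd
    obtain ⟨a, ha, b, hb, rfl⟩ := (hDm d).1 hd
    have h1 : act (m * b * m⁻¹) r - r ∈ K := by
      rw [hK]
      refine AddSubgroup.mem_inf.2 ⟨h.mov_conj hm hb r, mem_img.2 ?_⟩
      rw [map_sub, ← act_mul, show m⁻¹ * (m * b * m⁻¹) = b * m⁻¹ by group, act_mul]
      exact h.quad b hb _
    have h2 : act a r - r ∈ K := by
      rw [hK]
      refine AddSubgroup.mem_inf.2 ⟨h.quad a ha r, ?_⟩
      by_cases ha1 : a = 1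
      · subst ha1; rw [act_one, sub_self]; exact zero_mem _
      exact h.mov_le_of_ne hm ha ha1 (mem_mov a r)
    have h3 : act a (act (m * b * m⁻¹) r - r) = act (m * b * m⁻¹) r - r :=
      (hK ▸ h1 : _ ∈ fix act A ⊓ img act A m).1 a ha
    rw [act_mul, show act a (act (m * b * m⁻¹) r) - r = (act (m * b * m⁻¹) r - r) + (act a r - r) by
      rw [map_sub] at h3; linear_combination (norm := abel) h3]
    exact add_mem h1 h2
  let f : D → ↥K ⧸ Z0.addSubgroupOf K := fun d => QuotientAddGroup.mk ⟨act d r - r, hdr d d.2⟩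
  have hnin : ¬ Function.Injective f := by
    intro hinj
    have h1 := Nat.card_le_card_of_injective f hinj
    have h2 := AddSubgroup.card_eq_card_quotient_mul_card_addSubgroup (Z0.addSubgroupOf K)
    rw [Nat.card_congr (AddSubgroup.addSubgroupOfEquivOfLe (hZ0 ▸ inf_le_left : Z0 ≤ K)).toEquiv] at h2
    have h3 : Nat.card D * Nat.card Z0 ≤ Nat.card A * Nat.card Z0 :=
      (Nat.mul_le_mul_right _ h1).trans (h2.symm.le.trans hK0)
    have h4 := Nat.le_of_mul_le_mul_right h3 Nat.card_pos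
    rw [hD2] at h4
    have h5 : 1 < Nat.card A := (Subgroup.one_lt_card_iff_ne_bot A).2 h.ne
    nlinarith
  obtain ⟨d1, d2, hd12, hdne⟩ := Function.not_injective_iff.1 hnin
  have hz : -(act (d1 : P) r - r) + (act (d2 : P) r - r) ∈ Z0 := (QuotientAddGroup.eq.1 hd12 :)
  rw [neg_sub, sub_add_sub_cancel'] at hz
  obtain ⟨u, hu⟩ : ∃ u, u = (d1 : P)⁻¹ * d2 := ⟨_, rfl⟩
  have huD : u ∈ D := hu ▸ mul_mem (inv_mem d1.2) d2.2
  have hu1 : u ≠ 1 := fun e => hdne (Subtype.ext (inv_mul_eq_one.1 (hu ▸ e)))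
  have huX : u ∈ X := by
    obtain ⟨a, ha, b, hb, e⟩ := (hDm u).1 huD
    rw [e]
    exact mul_mem (h.AX ha) (mul_mem (mul_mem hm (h.AX hb)) (inv_mem hm))
  have hur : act u r - r ∈ img act A g := by
    rw [hu, act_mul, show act (d1 : P)⁻¹ (act (d2 : P) r) - r = act (d1 : P)⁻¹ (act (d2 : P) r - act (d1 : P) r) by
      rw [map_sub, act_inv], hKD ((hZ0 ▸ inf_le_left : Z0 ≤ K) hz) _ (inv_mem d1.2)]
    exact (hZ0 ▸ inf_le_right : Z0 ≤ img act A g) hz
  have hur' : act g⁻¹ (act u r) ∈ fix act A := by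
    rw [← sub_add_cancel (act u r) r, map_add]
    exact add_mem (mem_img.1 hur) hrg
  refine hv (h.mov_inf hc (g := g⁻¹ * u⁻¹ * g) (fun hcon => hg (inv_mem_iff.1 ?_)) ?_)
  · refine h.sep u⁻¹ (inv_mem huX) (by rw [inv_pow, hDexp u huD, inv_one]) (inv_ne_one.2 hu1) g⁻¹ ?_
    rwa [inv_inv]
  · rw [show (g⁻¹ * u⁻¹ * g)⁻¹ = g⁻¹ * (u * g) by group, act_mul, act_mul, ← hr]
    exact hur'

/-- `X` normalises `A`. -/
theorem Conf.normalizes (h : Conf p act X A) {m : P} (hm : m ∈ X) {c : P} (hc : c ∈ A) : m * c * m⁻¹ ∈ A := by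
  obtain ⟨D, hDab, hDexp, hDm⟩ := h.exists_join hm
  have hAD : A ≤ D := fun a ha => (hDm a).2 ⟨a, ha, 1, one_mem _, by group⟩
  have hf : fix act A ≤ fix act D := by
    intro v hv d hd
    obtain ⟨a, ha, b, hb, rfl⟩ := (hDm d).1 hd
    have e1 : act (m * b * m⁻¹) v = v := (h.stable hm).ge hv _ ⟨b, hb, rfl⟩
    rw [act_mul, e1]
    exact hv a ha
  have h1 := (Nat.mul_le_mul_left _ (Nat.card_le_card_of_injective _ (AddSubgroup.inclusion_injective hf))).trans
    (h.best D hDab hDexp)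
  rw [eq_of_le_of_card_ge hAD (Nat.le_of_mul_le_mul_right h1 Nat.card_pos)]
  exact (hDm _).2 ⟨1, one_mem _, c, hc, (one_mul _).symm⟩

omit [Finite P] [Finite V] in
theorem img_mul {g m : P} (hm : img act A m = fix act A) : img act A (g * m) = img act A g := by
  refine AddSubgroup.ext fun v => ?_
  rw [mem_img, mem_img, _root_.mul_inv_rev, act_mul, ← mem_img, hm]

/-- All pairs have the same centre. -/
theorem Conf.centre (h : Conf p act X A) {g k : P} (hg : g ∉ X) (hk : k ∉ X) :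
    fix act A ⊓ img act A g ≤ img act A k := by
  by_cases hgk : g⁻¹ * k ∈ X
  · have := img_mul (g := g) (h.stable hgk)
    rw [mul_inv_cancel_left] at this
    rw [this]
    exact inf_le_right
  by_cases hle : img act A g ⊓ img act A k ≤ fix act A
  · have heq : img act A g ⊓ img act A k = fix act A ⊓ img act A g := by
      refine SetLike.coe_injective (Set.eq_of_subset_of_ncard_le (le_inf hle inf_le_left) ?_ (Set.toFinite _))
      rw [← Nat.card_coe_set_eq, ← Nat.card_coe_set_eq]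
      refine Nat.le_of_mul_le_mul_left ?_ (Nat.card_pos : 0 < Nat.card A)
      exact ((h.pair g hg).1.symm.trans (h.card_pair hgk).symm).le
    rw [← heq]
    exact inf_le_right
  exfalso
  obtain ⟨a, ha, ha1⟩ := h.exists_ne_one
  obtain ⟨S, hS⟩ : ∃ S, S = mov act a ⊔ (img act A g ⊓ img act A k) := ⟨_, rfl⟩
  have hcS : Nat.card S ≤ Nat.card (fix act A) := by
    rw [← h.card_pair hgk, ← h.card_mov ha ha1, ← card_sup_mul_inf, hS]
    exact Nat.le_mul_of_pos_right _ Nat.card_pos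
  obtain ⟨t, ht⟩ : ∃ t, t ∉ S := by
    by_contra hh
    push Not at hh
    rw [(eq_top_iff.2 (fun v _ => hh v) : S = ⊤), AddSubgroup.card_top, (h.pair g hg).2.1] at hcS
    have h5 : 1 < Nat.card A := (Subgroup.one_lt_card_iff_ne_bot A).2 h.ne
    have h6 : 0 < Nat.card (fix act A) := Nat.card_pos
    nlinarith
  obtain ⟨U, hSU, -, hU⟩ := exists_hyperplane h.hpV ht
  rw [hS] at hSU
  rcases h.trick (h.AX ha) (h.Aexp a ha) ha1 hgk hU (le_sup_left.trans hSU) (le_sup_right.trans hSU) with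
    ⟨hgX, -⟩ | ⟨b, hb, hc, -⟩
  · exact hg hgX
  · refine hle fun v hv => ?_
    rw [← h.stable hc, mem_img,
      show (g * (b * (g⁻¹ * k)))⁻¹ = (g⁻¹ * k)⁻¹ * b⁻¹ * g⁻¹ by group, act_mul, act_mul,
      mem_img.1 (AddSubgroup.mem_inf.1 hv).1 _ (inv_mem hb), ← act_mul, show (g⁻¹ * k)⁻¹ * g⁻¹ = k⁻¹ by group]
    exact mem_img.1 (AddSubgroup.mem_inf.1 hv).2

theorem Conf.centre_fixed (h : Conf p act X A) {g : P} (hg : g ∉ X) (k : P) :
    fix act A ⊓ img act A g ≤ img act A k := by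
  by_cases hk : k ∈ X
  · rw [h.stable hk]; exact inf_le_left
  · exact h.centre hg hk

theorem Conf.coset (h : Conf p act X A) {g k : P} (hg : g ∉ X) (hk : k ∉ X) :
    ∃ a ∈ A, (a * g)⁻¹ * k ∈ X := by
  obtain ⟨v, hv, hvW⟩ : ∃ v, v ∈ img act A k ∧ v ∉ fix act A := by
    by_contra hh
    push Not at hh
    have := (h.pair k hk).2.2.1
    rw [sup_eq_left.2 hh] at this
    obtain ⟨a, ha, ha1⟩ := h.exists_ne_one
    refine ha1 (h.inj (AddMonoidHom.ext fun v => ?_))
    rw [map_one]; exact this.ge (AddSubgroup.mem_top v) a ha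
  obtain ⟨a, ha, hav⟩ := h.cover hg hvW
  refine ⟨a, ha, by_contra fun hcon => ?_⟩
  have hle : fix act A ⊓ img act A g ≤ img act A (a * g) ⊓ img act A k :=
    le_inf (h.centre_fixed hg _) (h.centre_fixed hg _)
  have heq : fix act A ⊓ img act A g = img act A (a * g) ⊓ img act A k := by
    refine SetLike.coe_injective (Set.eq_of_subset_of_ncard_le hle ?_ (Set.toFinite _))
    rw [← Nat.card_coe_set_eq, ← Nat.card_coe_set_eq]
    refine Nat.le_of_mul_le_mul_left ?_ (Nat.card_pos : 0 < Nat.card A)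
    exact ((h.card_pair hcon).trans (h.pair g hg).1).le
  exact hvW (AddSubgroup.mem_inf.1 (heq.ge (AddSubgroup.mem_inf.2 ⟨mem_img.2 hav, hv⟩))).1

/-- `P` is generated by two conjugates of `A`. -/
theorem Conf.gen_pair (h : Conf p act X A) {g : P} (hg : g ∉ X) :
    A ⊔ A.map (MulAut.conj g).toMonoidHom = ⊤ := by
  obtain ⟨L, hL⟩ : ∃ L, L = A ⊔ A.map (MulAut.conj g).toMonoidHom := ⟨_, rfl⟩
  rw [← hL]
  have hpX : ∀ s ∈ X, (∃ i : ℕ, orderOf s = p ^ i) → s ∈ A := by
    intro s hs ⟨i, hi⟩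
    have hsg : s * g ∉ X := fun hc => hg (by simpa using mul_mem (inv_mem hs) hc)
    obtain ⟨a, ha, hag⟩ := h.coset hg hsg
    obtain ⟨t, ht⟩ : ∃ t, t = a⁻¹ * s := ⟨_, rfl⟩
    have htX : t ∈ X := ht ▸ mul_mem (inv_mem (h.AX ha)) hs
    have hconj : g⁻¹ * t * g ∈ X := by rw [ht]; simpa [mul_assoc] using hag
    have hQ : IsPGroup p ↥(A ⊔ Subgroup.zpowers s) :=
      IsPGroup.to_sup_of_normal_left' (fun b => ⟨1, Subtype.ext (by simpa using h.Aexp b b.2)⟩)
        (IsPGroup.of_card (n := i) (by rw [Nat.card_zpowers, hi]))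
        (zpowers_le.2 (mem_normalizer_iff.2 fun b => ⟨fun hb => h.normalizes hs hb, fun hb => by
          have := h.normalizes (inv_mem hs) hb
          simpa [mul_assoc] using this⟩))
    by_contra hsA
    have ht1 : t ≠ 1 := fun e => hsA (by rw [ht, inv_mul_eq_one] at e; exact e ▸ ha)
    obtain ⟨j, hj⟩ := IsPGroup.iff_orderOf.1 hQ ⟨t, ht ▸ mul_mem (mem_sup_left (inv_mem ha)) (mem_sup_right (mem_zpowers s))⟩
    rw [Subgroup.orderOf_mk] at hj
    rcases j with _ | j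
    · exact ht1 (orderOf_eq_one_iff.1 (by rw [hj, pow_zero]))
    refine hg (inv_mem_iff.1 (h.sep (t ^ p ^ j) (pow_mem htX _) ?_ ?_ g⁻¹ ?_))
    · rw [← pow_mul, ← pow_succ, ← hj, pow_orderOf_eq_one]
    · intro e
      have h1 := orderOf_dvd_of_pow_eq_one e
      rw [hj, Nat.pow_dvd_pow_iff_le_right (Fact.out : p.Prime).one_lt] at h1
      omega
    · rw [inv_inv, show g⁻¹ * t ^ p ^ j * g = (g⁻¹ * t * g) ^ p ^ j by
        rw [show g⁻¹ * t * g = g⁻¹ * t * g⁻¹⁻¹ by rw [inv_inv], conj_pow, inv_inv]]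
      exact pow_mem hconj _
  have hconjL : ∀ k : P, ∀ c ∈ A, k * c * k⁻¹ ∈ L := by
    intro k c hc
    by_cases hk : k ∈ X
    · rw [hL]; exact mem_sup_left (h.normalizes hk hc)
    obtain ⟨a, ha, hax⟩ := h.coset hg hk
    obtain ⟨x, hx⟩ : ∃ x, x = (a * g)⁻¹ * k := ⟨_, rfl⟩
    rw [← hx] at hax
    rw [hL, show k * c * k⁻¹ = a * (g * (x * c * x⁻¹) * g⁻¹) * a⁻¹ by rw [hx]; group]
    exact mul_mem (mul_mem (mem_sup_left ha) (mem_sup_right ⟨_, h.normalizes hax hc, rfl⟩)) (inv_mem (mem_sup_left ha))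
  rw [eq_top_iff, ← h.gen, closure_le]
  rintro s ⟨i, hi⟩
  obtain ⟨a, ha, ha1⟩ := h.exists_ne_one
  obtain ⟨T0, hT0⟩ := (show IsPGroup p A from fun b => ⟨1, Subtype.ext (by simpa using h.Aexp b b.2)⟩).exists_le_sylow
  have hTX : (T0 : Subgroup P) ≤ X :=
    h.pgroup _ T0.2 fun hb => ha1 (mem_bot.1 (hb ▸ mem_inf.2 ⟨hT0 ha, h.AX ha⟩))
  obtain ⟨T1, hT1⟩ := (IsPGroup.of_card (n := i) (by rw [Nat.card_zpowers, hi]) :
    IsPGroup p (Subgroup.zpowers s)).exists_le_sylow
  obtain ⟨k, hk⟩ := MulAction.exists_smul_eq P T0 T1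
  have hsT := hT1 (mem_zpowers s)
  rw [← hk] at hsT
  obtain ⟨t, ht, hts⟩ := hsT
  have hts' : k * t * k⁻¹ = s := hts
  rw [← hts']
  refine hconjL k t (hpX t (hTX ht) ?_)
  obtain ⟨j, hj⟩ := IsPGroup.iff_orderOf.1 T0.2 (⟨t, ht⟩ : (T0 : Subgroup P))
  exact ⟨j, by rwa [Subgroup.orderOf_mk] at hj⟩

theorem Conf.fix_top (h : Conf p act X A) {g : P} (hg : g ∉ X) :
    fix act ⊤ = fix act A ⊓ img act A g :=
  le_antisymm (le_inf (fix_top_le act A) (fix_top_le act _)) fun _ hv =>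
    mem_top_of_gen act (h.gen_pair hg) (AddSubgroup.mem_inf.1 hv).1 (AddSubgroup.mem_inf.1 hv).2

theorem Conf.shears (h : Conf p act X A) {g : P} (hg : g ∉ X) :
    Shears (bact act) A (A.map (MulAut.conj g).toMonoidHom)
      ((fix act A).map (QuotientAddGroup.mk' (fix act ⊤)))
      ((img act A g).map (QuotientAddGroup.mk' (fix act ⊤))) := by
  obtain ⟨hW, hV, htop, hfree⟩ := h.pair g hg
  rw [← h.fix_top hg] at hW hfree
  have hcA : Nat.card ((fix act A).map (QuotientAddGroup.mk' (fix act ⊤))) = Nat.card A :=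
    Nat.eq_of_mul_eq_mul_right Nat.card_pos ((card_map_mk (fix_top_le act A)).trans hW)
  have hcX : Nat.card ((img act A g).map (QuotientAddGroup.mk' (fix act ⊤))) = Nat.card A :=
    Nat.eq_of_mul_eq_mul_right Nat.card_pos ((card_map_mk (fix_top_le act _)).trans ((card_img g).trans hW))
  refine ⟨h.gen_pair hg, ?_, hcA.symm, card_map_of_injective (MulAut.conj g).injective, hcX, ?_, ?_, ?_, ?_, ?_, ?_, ?_, ?_, ?_⟩
  · rw [eq_bot_iff]
    rintro _ ⟨⟨w, hw, rfl⟩, x, hx, hxw⟩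
    have hz : -x + w ∈ fix act ⊤ := QuotientAddGroup.eq.1 hxw
    rw [AddSubgroup.mem_bot]
    refine (QuotientAddGroup.eq_zero_iff w).2 ((h.fix_top hg).ge (AddSubgroup.mem_inf.2 ⟨hw, ?_⟩))
    rw [show w = x + (-x + w) by abel]
    exact add_mem hx (fix_top_le act _ hz)
  · rw [hcA, hcX]
    refine Nat.eq_of_mul_eq_mul_right (Nat.card_pos : 0 < Nat.card (fix act ⊤)) ?_
    rw [← AddSubgroup.card_eq_card_quotient_mul_card_addSubgroup, hV, hW, mul_assoc]
  · intro hb
    rw [hb, AddSubgroup.card_bot] at hcA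
    exact absurd hcA.symm ((Subgroup.one_lt_card_iff_ne_bot A).2 h.ne).ne'
  · rintro a ha _ ⟨w, hw, rfl⟩
    exact congrArg QuotientAddGroup.mk (hw a ha)
  · intro a ha q
    induction q using QuotientAddGroup.induction_on with
    | _ v => exact ⟨_, h.quad a ha v, rfl⟩
  · rintro b hb _ ⟨w, hw, rfl⟩
    exact congrArg QuotientAddGroup.mk (hw b hb)
  · rintro _ ⟨c, hc, rfl⟩ q
    induction q using QuotientAddGroup.induction_on with
    | _ v =>
      refine ⟨_, mem_img.2 ?_, rfl⟩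
      show act g⁻¹ (act (g * c * g⁻¹) v - v) ∈ fix act A
      rw [map_sub, act_mul, act_mul, act_inv]
      exact h.quad c hc _
  · rintro a ha ha1 _ ⟨x, hx, rfl⟩ hax
    have hz : act a x - x ∈ fix act ⊤ :=
      (QuotientAddGroup.eq_zero_iff _).1 (show (QuotientAddGroup.mk (act a x - x) : V ⧸ fix act ⊤) = 0 by
        rw [QuotientAddGroup.mk_sub, ← bact_mk]; exact sub_eq_zero.2 hax)
    exact (QuotientAddGroup.eq_zero_iff x).2 ((h.fix_top hg).ge
      (AddSubgroup.mem_inf.2 ⟨hfree a ha ha1 x (mem_img.1 hx) hz, hx⟩))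
  · rintro _ ⟨c, hc, rfl⟩ hc1 _ ⟨w, hw, rfl⟩ hcw
    have hz : act (g * c * g⁻¹) w - w ∈ fix act ⊤ :=
      (QuotientAddGroup.eq_zero_iff _).1 (show (QuotientAddGroup.mk (act (g * c * g⁻¹) w - w) : V ⧸ fix act ⊤) = 0 by
        rw [QuotientAddGroup.mk_sub, ← bact_mk]; exact sub_eq_zero.2 hcw)
    refine (QuotientAddGroup.eq_zero_iff w).2 ((h.fix_top hg).ge (AddSubgroup.mem_inf.2 ⟨hw, mem_img.2 ?_⟩))
    have hgi : g⁻¹ ∉ X := fun hh => hg (inv_mem_iff.1 hh)
    refine (h.pair g⁻¹ hgi).2.2.2 c hc (fun e => hc1 (by simp [e])) (act g⁻¹ w)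
      (by rw [inv_inv, act_inv']; exact hw) ?_
    have e1 : act g⁻¹ (act (g * c * g⁻¹) w - w) = act c (act g⁻¹ w) - act g⁻¹ w := by
      rw [map_sub, act_mul, act_mul, act_inv]
    rw [← e1, fix_top_act act hz]
    exact AddSubgroup.mem_inf.2 ⟨fix_top_le act A hz, fix_top_le act _ hz⟩
  · rintro _ ⟨c, hc, rfl⟩ hc1
    have hbX : g * c * g⁻¹ ∉ X := h.conj_not_mem hg hc (fun e => hc1 (by simp [e]))
    obtain ⟨a, ha, hax⟩ := h.coset hg hbX
    refine ⟨a, ha, ?_⟩
    rintro _ ⟨x, hx, rfl⟩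
    refine sub_eq_zero.1 ((QuotientAddGroup.eq_zero_iff _).2 ?_)
    show act (g * c * g⁻¹) (act a x - x) - (act a x - x) - x ∈ fix act ⊤
    obtain ⟨b, hb⟩ : ∃ b, b = g * c * g⁻¹ := ⟨_, rfl⟩
    rw [← hb] at hax ⊢
    have hw : act b⁻¹ (act a x) ∈ fix act A := by
      have e1 : img act A ((a * g) * ((a * g)⁻¹ * b)) = img act A (a * g) := img_mul (h.stable hax)
      rw [mul_inv_cancel_left] at e1
      refine mem_img.1 (e1.ge (mem_img.2 ?_))
      rw [_root_.mul_inv_rev, act_mul, act_inv]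
      exact mem_img.1 hx
    obtain ⟨w, hwd⟩ : ∃ w, w = act b⁻¹ (act a x) := ⟨_, rfl⟩
    rw [← hwd] at hw
    have hwx : act b w = act a x := by rw [hwd, act_inv']
    have hfX : ∀ v, act g⁻¹ (act b v - v) ∈ fix act A := fun v => by
      rw [hb, map_sub, act_mul, act_mul, act_inv]
      exact h.quad c hc _
    obtain ⟨f, hf⟩ : ∃ f, f = act a x - x := ⟨_, rfl⟩
    rw [← hf]
    have hdiff : f - w = (act b w - w) - x := by rw [hwx, hf]; abel
    have hz : f - w ∈ fix act ⊤ := (h.fix_top hg).ge (AddSubgroup.mem_inf.2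
      ⟨sub_mem (hf ▸ h.quad a ha x) hw, mem_img.2 (by rw [hdiff, map_sub]; exact sub_mem (hfX w) (mem_img.1 hx))⟩)
    have : act b f - f - x = f - w := by
      rw [show f = w + (f - w) by abel, map_add, fix_top_act act hz, hdiff]
      abel
    rwa [this]

/-- The theorem. -/
theorem Conf.natural (h : Conf p act X A) :
    ∃ (F : Type) (_ : Field F) (_ : Fintype F) (ψ : V →+ (Fin 2 → F))
      (ρ : P →* SpecialLinearGroup (Fin 2) F),
      Fintype.card F = Nat.card A ∧ Function.Bijective ρ ∧ Function.Surjective ψ ∧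
        (∀ v, ψ v = 0 ↔ v ∈ fix act ⊤) ∧
        ∀ g v, ψ (act g v) = (ρ g : Matrix (Fin 2) (Fin 2) F) *ᵥ ψ v := by
  obtain ⟨g, hg⟩ := h.out
  obtain ⟨F, i1, i2, θ, ρ, hc, hsur, hact, -⟩ := exists_coords (h.shears hg)
    (p := p) (fun q => by
      induction q using QuotientAddGroup.induction_on with
      | _ v => exact congrArg QuotientAddGroup.mk (h.hpV v))
  refine ⟨F, i1, i2, θ.symm.toAddMonoidHom.comp (QuotientAddGroup.mk' _), ρ, hc, ⟨?_, hsur⟩,
    θ.symm.surjective.comp (QuotientAddGroup.mk'_surjective _), fun v => ?_, fun k v => ?_⟩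
  · rw [← MonoidHom.ker_eq_bot_iff]
    have hmod : ∀ m ∈ ρ.ker, ∀ v, act m v - v ∈ fix act ⊤ := fun m hm v => by
      rw [← QuotientAddGroup.eq_zero_iff, QuotientAddGroup.mk_sub, sub_eq_zero, ← bact_mk,
        ← θ.apply_symm_apply (QuotientAddGroup.mk v), hact, (MonoidHom.mem_ker.1 hm)]
      exact congrArg θ (one_mulVec _)
    have hexp : ∀ m : ρ.ker, (m : P) ^ p = 1 := fun m => by
      refine h.inj (AddMonoidHom.ext fun v => ?_)
      have hstep : ∀ i : ℕ, act ((m : P) ^ i) v = v + i • (act (m : P) v - v) := by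
        intro i
        induction i with
        | zero => rw [pow_zero, act_one, zero_smul, add_zero]
        | succ i ih =>
          rw [pow_succ', act_mul, ih, map_add, map_nsmul, fix_top_act act (hmod m m.2 v), succ_nsmul]
          abel
      refine (hstep p).trans ?_
      rw [h.hpV, add_zero, map_one]; rfl
    have hpg : IsPGroup p ρ.ker := fun m => ⟨1, Subtype.ext (by simpa using hexp m)⟩
    obtain ⟨a, ha, ha1⟩ := h.exists_ne_one
    have hQ : IsPGroup p ↥(A ⊔ ρ.ker) :=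
      IsPGroup.to_sup_of_normal_right (fun b => ⟨1, Subtype.ext (by simpa using h.Aexp b b.2)⟩) hpg
    have hX := h.pgroup _ hQ fun hb => ha1 (mem_bot.1 (hb ▸ mem_inf.2 ⟨mem_sup_left ha, h.AX ha⟩))
    rw [eq_bot_iff]
    intro n hn
    rw [mem_bot]
    by_contra hn1
    exact hg (h.sep n (hX (mem_sup_right hn)) (hexp ⟨n, hn⟩) hn1 g
      (hX (mem_sup_right ((inferInstance : ρ.ker.Normal).conj_mem n hn g))))
  · show θ.symm (QuotientAddGroup.mk v) = 0 ↔ _
    rw [map_eq_zero_iff _ θ.symm.injective]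
    exact QuotientAddGroup.eq_zero_iff v
  · show θ.symm (QuotientAddGroup.mk (act k v)) = _
    rw [← bact_mk]
    refine θ.injective ?_
    rw [θ.apply_symm_apply, ← hact]
    exact congrArg _ (θ.apply_symm_apply _).symm

end CfsgLib.LocalEven.SEFF
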