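import Cfsg.Prelude.Def_LocalEven
import Cfsg.Agent.Lib.Classical.SL2Sylow
import Cfsg.Agent.Lib.Core.Cores

/-! The group `Qd` over a field. -/

set_option autoImplicit false

namespace CfsgLib.LocalEven.Qd

open Matrix Subgroup
open scoped MatrixGroups LinearAlgebra.Projectivization

variable (F : Type*) [Field F]

/-- The affine subgroup of `SL₃`. -/
def aff : Subgroup SL(3, F) where
  carrier := {M | (M : Matrix (Fin 3) (Fin 3) F) 2 0 = 0 ∧ (M : Matrix (Fin 3) (Fin 3) F) 2 1 = 0 ∧
    (M : Matrix (Fin 3) (Fin 3) F) 2 2 = 1}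
  one_mem' := by simp
  mul_mem' := by
    rintro A B ⟨a0, a1, a2⟩ ⟨b0, b1, b2⟩
    simp [Matrix.mul_apply, Fin.sum_univ_three, a0, a1, a2, b0, b1, b2]
  inv_mem' := by
    rintro A ⟨a0, a1, a2⟩
    have hAB : (A : Matrix (Fin 3) (Fin 3) F) * ((A⁻¹ : SL(3, F)) : Matrix (Fin 3) (Fin 3) F) = 1 := by
      rw [← Matrix.SpecialLinearGroup.coe_mul, mul_inv_cancel, Matrix.SpecialLinearGroup.coe_one]
    show ((A⁻¹ : SL(3, F)) : Matrix (Fin 3) (Fin 3) F) 2 0 = 0 ∧ _ ∧ _
    generalize ((A⁻¹ : SL(3, F)) : Matrix (Fin 3) (Fin 3) F) = B at hAB ⊢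
    have h0 := congrFun (congrFun hAB 2) 0
    have h1 := congrFun (congrFun hAB 2) 1
    have h2 := congrFun (congrFun hAB 2) 2
    simp [Matrix.mul_apply, Fin.sum_univ_three, a0, a1, a2] at h0 h1 h2
    exact ⟨h0, h1, h2⟩

theorem qdOver_eq_aff : Cfsg.qdOver F = aff F :=
  le_antisymm ((closure_le _).mpr fun _ h => h) fun _ h => subset_closure h

variable {F}

theorem row_eq (M : Cfsg.qdOver F) :
    ((M : SL(3, F)) : Matrix (Fin 3) (Fin 3) F) 2 0 = 0 ∧
    ((M : SL(3, F)) : Matrix (Fin 3) (Fin 3) F) 2 1 = 0 ∧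
    ((M : SL(3, F)) : Matrix (Fin 3) (Fin 3) F) 2 2 = 1 := by
  have h := M.2
  simp only [qdOver_eq_aff] at h
  exact h

/-- The matrix of the linear part. -/
def blockMat (M : Cfsg.qdOver F) : Matrix (Fin 2) (Fin 2) F :=
  !![((M : SL(3, F)) : Matrix (Fin 3) (Fin 3) F) 0 0, ((M : SL(3, F)) : Matrix (Fin 3) (Fin 3) F) 0 1;
      ((M : SL(3, F)) : Matrix (Fin 3) (Fin 3) F) 1 0, ((M : SL(3, F)) : Matrix (Fin 3) (Fin 3) F) 1 1]

theorem blockMat_mul (A B : Cfsg.qdOver F) : blockMat (A * B) = blockMat A * blockMat B := by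
  obtain ⟨b0, b1, b2⟩ := row_eq B
  ext i j
  fin_cases i <;> fin_cases j <;>
    simp [blockMat, Matrix.mul_apply, Fin.sum_univ_three, Fin.sum_univ_two, b0, b1, b2]

variable (F) in
/-- The linear part. -/
def block : Cfsg.qdOver F →* SL(2, F) where
  toFun M := ⟨blockMat M, by
    obtain ⟨h0, h1, h2⟩ := row_eq M
    have h := (M : SL(3, F)).2
    rw [Matrix.det_fin_three] at h
    simp only [h0, h1, h2] at h
    rw [blockMat, Matrix.det_fin_two_of]
    linear_combination h⟩
  map_one' := Subtype.ext (by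
    show blockMat 1 = 1
    ext i j; fin_cases i <;> fin_cases j <;> simp [blockMat])
  map_mul' A B := Subtype.ext (blockMat_mul A B)

theorem block_coe (M : Cfsg.qdOver F) : ((block F M : SL(2, F)) : Matrix (Fin 2) (Fin 2) F) = blockMat M := rfl

/-- The translation part. -/
def trans (M : Cfsg.qdOver F) : Fin 2 → F :=
  ![((M : SL(3, F)) : Matrix (Fin 3) (Fin 3) F) 0 2, ((M : SL(3, F)) : Matrix (Fin 3) (Fin 3) F) 1 2]

theorem trans_mul (A B : Cfsg.qdOver F) :
    trans (A * B) = ((block F A : SL(2, F)) : Matrix (Fin 2) (Fin 2) F).mulVec (trans B) + trans A := by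
  obtain ⟨b0, b1, b2⟩ := row_eq B
  ext i
  fin_cases i <;>
    simp [trans, block_coe, blockMat, Matrix.mul_apply, Fin.sum_univ_three, Matrix.mulVec, dotProduct, Fin.sum_univ_two,
      b0, b1, b2] <;> ring

theorem ext_parts {A B : Cfsg.qdOver F} (h₁ : block F A = block F B) (h₂ : trans A = trans B) : A = B := by
  obtain ⟨a0, a1, a2⟩ := row_eq A
  obtain ⟨b0, b1, b2⟩ := row_eq B
  have h00 := congrFun (congrFun (congrArg Subtype.val h₁) 0) 0
  have h01 := congrFun (congrFun (congrArg Subtype.val h₁) 0) 1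
  have h10 := congrFun (congrFun (congrArg Subtype.val h₁) 1) 0
  have h11 := congrFun (congrFun (congrArg Subtype.val h₁) 1) 1
  have h02 := congrFun h₂ 0
  have h12 := congrFun h₂ 1
  simp [block_coe, blockMat] at h00 h01 h10 h11
  simp [trans] at h02 h12
  apply Subtype.ext; apply Subtype.ext
  ext i j
  fin_cases i <;> fin_cases j <;> simp_all

variable (F) in
/-- The element with given linear part and translation. -/
def mkElt (A : SL(2, F)) (v : Fin 2 → F) : Cfsg.qdOver F :=
  ⟨⟨!![(A : Matrix (Fin 2) (Fin 2) F) 0 0, (A : Matrix (Fin 2) (Fin 2) F) 0 1, v 0;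
       (A : Matrix (Fin 2) (Fin 2) F) 1 0, (A : Matrix (Fin 2) (Fin 2) F) 1 1, v 1;
       0, 0, 1], by
    have h := A.2
    rw [Matrix.det_fin_two] at h
    rw [Matrix.det_fin_three]
    simp
    linear_combination h⟩, subset_closure ⟨rfl, rfl, rfl⟩⟩

theorem block_mkElt (A : SL(2, F)) (v : Fin 2 → F) : block F (mkElt F A v) = A := by
  apply Subtype.ext
  ext i j
  fin_cases i <;> fin_cases j <;> rfl

theorem trans_mkElt (A : SL(2, F)) (v : Fin 2 → F) : trans (mkElt F A v) = v := by
  ext i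
  fin_cases i <;> rfl

theorem mem_ker_iff (M : Cfsg.qdOver F) : M ∈ (block F).ker ↔
    ((M : SL(3, F)) : Matrix (Fin 3) (Fin 3) F) 0 0 = 1 ∧ ((M : SL(3, F)) : Matrix (Fin 3) (Fin 3) F) 0 1 = 0 ∧
    ((M : SL(3, F)) : Matrix (Fin 3) (Fin 3) F) 1 0 = 0 ∧ ((M : SL(3, F)) : Matrix (Fin 3) (Fin 3) F) 1 1 = 1 := by
  rw [MonoidHom.mem_ker]
  constructor
  · intro h
    have h00 := congrFun (congrFun (congrArg Subtype.val h) 0) 0
    have h01 := congrFun (congrFun (congrArg Subtype.val h) 0) 1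
    have h10 := congrFun (congrFun (congrArg Subtype.val h) 1) 0
    have h11 := congrFun (congrFun (congrArg Subtype.val h) 1) 1
    simp [block_coe, blockMat] at h00 h01 h10 h11
    exact ⟨h00, h01, h10, h11⟩
  · rintro ⟨h00, h01, h10, h11⟩
    apply Subtype.ext
    ext i j
    fin_cases i <;> fin_cases j <;> simp [block_coe, blockMat, h00, h01, h10, h11]

variable (F) in
/-- The translations form the vector group. -/
noncomputable def kerEquiv : Additive (block F).ker ≃+ (Fin 2 → F) where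
  toFun M := trans ((Additive.toMul M : (block F).ker) : Cfsg.qdOver F)
  invFun v := Additive.ofMul ⟨mkElt F 1 v, MonoidHom.mem_ker.mpr (block_mkElt 1 v)⟩
  left_inv M := by
    apply Additive.toMul.injective
    refine Subtype.ext (ext_parts ?_ ?_)
    · rw [show block F ((Additive.toMul M : (block F).ker) : Cfsg.qdOver F) = 1 from (Additive.toMul M).2]
      exact block_mkElt 1 _
    · exact trans_mkElt 1 _
  right_inv v := trans_mkElt 1 v
  map_add' M N := by
    show trans (((Additive.toMul M : (block F).ker) : Cfsg.qdOver F) * ((Additive.toMul N : (block F).ker) : Cfsg.qdOver F)) = _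
    rw [trans_mul, show block F ((Additive.toMul M : (block F).ker) : Cfsg.qdOver F) = 1 from (Additive.toMul M).2,
      Matrix.SpecialLinearGroup.coe_one, Matrix.one_mulVec, add_comm]

theorem pCore_SL_two_eq_bot [Fintype F] (p : ℕ) [Fact p.Prime] [CharP F p] :
    Cfsg.pCore p SL(2, F) = ⊥ := by
  have key : ∀ x : ℙ F (Fin 2 → F), Cfsg.pCore p SL(2, F) ≤ CfsgLib.Classical.Two.rootGroup x := by
    intro x
    obtain ⟨P, hP⟩ := (CfsgLib.Classical.Two.rootGroup_isPGroup p x).exists_le_sylow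
    have := eq_of_le_of_card_ge hP (by
      rw [CfsgLib.Classical.Two.card_sylow_SL_two p P, CfsgLib.Classical.Two.card_rootGroup, Nat.card_eq_fintype_card])
    exact this ▸ CfsgLib.Core.pCore_le_sylow P
  have hne : CfsgLib.Classical.Two.basePoint F 0 ≠ CfsgLib.Classical.Two.basePoint F 1 := by
    intro h
    obtain ⟨a, ha⟩ := (Projectivization.mk_eq_mk_iff' F _ _ _ _).mp h
    have := congrFun ha 0
    simp at this
  rw [eq_bot_iff, ← CfsgLib.Classical.Two.rootGroup_disjoint hne]
  exact le_inf (key _) (key _)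

theorem pCore_qdOver [Fintype F] (p : ℕ) [Fact p.Prime] [CharP F p] :
    Cfsg.pCore p ↥(Cfsg.qdOver F) = (block F).ker := by
  have hs : Function.Surjective (block F) := fun A => ⟨mkElt F A 0, block_mkElt A 0⟩
  refine le_antisymm ?_ (CfsgLib.Core.le_pCore fun x => ⟨1, ?_⟩)
  · have h := CfsgLib.Core.map_pCore_le (p := p) (block F) hs
    rw [pCore_SL_two_eq_bot p, le_bot_iff, Subgroup.map_eq_bot_iff] at h
    exact h
  · rw [pow_one]
    apply Additive.ofMul.injective
    apply (kerEquiv F).injective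
    rw [ofMul_pow, map_nsmul, ofMul_one, map_zero]
    ext i
    simp [CharP.cast_eq_zero F p]

/-- The complement. -/
def compl (F : Type*) [Field F] : Subgroup ↥(Cfsg.qdOver F) where
  carrier := {M | trans M = 0}
  one_mem' := by ext i; fin_cases i <;> simp [trans]
  mul_mem' := by
    intro A B hA hB
    show trans (A * B) = 0
    rw [trans_mul, show trans B = 0 from hB, show trans A = 0 from hA, Matrix.mulVec_zero, add_zero]
  inv_mem' := by
    intro A hA
    have h := trans_mul A⁻¹ A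
    rw [inv_mul_cancel, show trans A = 0 from hA, Matrix.mulVec_zero, zero_add] at h
    show trans A⁻¹ = 0
    rw [← h]
    ext i; fin_cases i <;> simp [trans]

theorem mem_compl_iff (M : Cfsg.qdOver F) : M ∈ compl F ↔
    ((M : SL(3, F)) : Matrix (Fin 3) (Fin 3) F) 0 2 = 0 ∧ ((M : SL(3, F)) : Matrix (Fin 3) (Fin 3) F) 1 2 = 0 := by
  constructor
  · intro h
    exact ⟨congrFun h 0, congrFun h 1⟩
  · intro h
    show trans M = 0
    ext i; fin_cases i <;> simp [trans, h.1, h.2]

variable (F) in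
/-- The complement is `SL₂`. -/
noncomputable def complEquiv : compl F ≃* SL(2, F) where
  toFun M := block F (M : Cfsg.qdOver F)
  invFun A := ⟨mkElt F A 0, trans_mkElt A 0⟩
  left_inv M := Subtype.ext (ext_parts (block_mkElt _ _) ((trans_mkElt _ _).trans M.2.symm))
  right_inv A := block_mkElt A 0
  map_mul' _ _ := map_mul _ _ _

theorem isNatural : Cfsg.IsNaturalSL2Module F (block F).ker (compl F) := by
  refine ⟨CfsgLib.Core.le_normalizer_of_normal _ _, (complEquiv F).toMonoidHom, kerEquiv F,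
    (complEquiv F).surjective, ?_, fun l v => ?_⟩
  · rw [(MonoidHom.ker_eq_bot_iff _).mpr (complEquiv F).injective, eq_comm, eq_bot_iff]
    intro l hl
    refine mem_bot.mpr (Subtype.ext (ext_parts ?_ (l.2.trans (compl F).one_mem.symm)))
    rw [show (((1 : compl F) : Cfsg.qdOver F)) = 1 from rfl, map_one]
    apply Subtype.ext
    have key : ∀ v : Fin 2 → F,
        ((block F (l : Cfsg.qdOver F) : SL(2, F)) : Matrix (Fin 2) (Fin 2) F).mulVec v = v := by
      intro v
      have h := congrArg trans (mem_centralizer_iff.mp (mem_subgroupOf.mp hl) (mkElt F 1 v)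
        (MonoidHom.mem_ker.mpr (block_mkElt 1 v)))
      rw [trans_mul, trans_mul, show trans (l : Cfsg.qdOver F) = 0 from l.2, trans_mkElt, block_mkElt,
        Matrix.SpecialLinearGroup.coe_one, Matrix.one_mulVec, zero_add, add_zero] at h
      exact h.symm
    ext i j
    have := congrFun (key (Pi.single j 1)) i
    rw [Matrix.mulVec_single_one] at this
    simpa [Matrix.one_apply, Pi.single_apply] using this
  · refine ⟨⟨(l : Cfsg.qdOver F) * (v : Cfsg.qdOver F) * (l : Cfsg.qdOver F)⁻¹, (MonoidHom.normal_ker _).conj_mem _ v.2 _⟩, rfl, ?_⟩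
    show trans ((l : Cfsg.qdOver F) * (v : Cfsg.qdOver F) * (l : Cfsg.qdOver F)⁻¹) = ((block F (l : Cfsg.qdOver F) : SL(2, F)) : Matrix (Fin 2) (Fin 2) F).mulVec (trans (v : Cfsg.qdOver F))
    have hi : trans (l : Cfsg.qdOver F)⁻¹ = 0 := inv_mem l.2
    rw [trans_mul, trans_mul, hi, Matrix.mulVec_zero, zero_add, show trans (l : Cfsg.qdOver F) = 0 from l.2, add_zero]

end CfsgLib.LocalEven.Qd
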