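import Cfsg.Agent.Lib.LocalEven.Qd
import Cfsg.Agent.Lib.LocalEven.Basic
import Cfsg.Agent.Lib.LocalEven.Subnormal

/-! Sylow subgroups of `Qd(p)`: maximal normalizers, no characteristic subgroup is normal. -/

set_option autoImplicit false

namespace CfsgLib.LocalEven.Qd

open Matrix Subgroup
open scoped MatrixGroups LinearAlgebra.Projectivization

variable {p : ℕ} [Fact p.Prime]


theorem block_surjective {F : Type*} [Field F] : Function.Surjective (block F) := fun A =>
  ⟨mkElt F A 0, block_mkElt A 0⟩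

theorem ker_le_sylow (S : Sylow p ↥(Cfsg.qdOver (ZMod p))) : (block (ZMod p)).ker ≤ (S : Subgroup ↥(Cfsg.qdOver (ZMod p))) :=
  pCore_qdOver (F := (ZMod p)) p ▸ CfsgLib.Core.pCore_le_sylow S

theorem exists_point (S : Sylow p ↥(Cfsg.qdOver (ZMod p))) : ∃ x : ℙ (ZMod p) (Fin 2 → (ZMod p)),
    (S : Subgroup ↥(Cfsg.qdOver (ZMod p))).map (block (ZMod p)) = CfsgLib.Classical.Two.rootGroup x ∧
      (S : Subgroup ↥(Cfsg.qdOver (ZMod p))) = (CfsgLib.Classical.Two.rootGroup x).comap (block (ZMod p)) := by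
  obtain ⟨x, hx⟩ := CfsgLib.Classical.Two.exists_point_sylow_SL p (S.mapSurjective block_surjective)
  have h1 : (S : Subgroup ↥(Cfsg.qdOver (ZMod p))).map (block (ZMod p)) = CfsgLib.Classical.Two.rootGroup x := hx
  exact ⟨x, h1, by rw [← h1, comap_map_eq_self (ker_le_sylow S)]⟩

theorem eq_top_of_sylow_le (S : Sylow p ↥(Cfsg.qdOver (ZMod p))) {X : Subgroup ↥(Cfsg.qdOver (ZMod p))} (hS : (S : Subgroup ↥(Cfsg.qdOver (ZMod p))) ≤ X)
    (hX : ¬ X ≤ normalizer ((S : Subgroup ↥(Cfsg.qdOver (ZMod p))) : Set ↥(Cfsg.qdOver (ZMod p)))) : X = ⊤ := by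
  obtain ⟨x, hx, hSx⟩ := exists_point S
  obtain ⟨g, hgX, hg⟩ := SetLike.not_le_iff_exists.mp hX
  have hne : (block (ZMod p) g) • x ≠ x := by
    intro e
    apply hg
    rw [mem_normalizer_conj_iff]
    refine eq_of_le_of_card_ge ?_ (card_map_of_injective (MulAut.conj g).injective).ge
    rintro _ ⟨s, hs, rfl⟩
    rw [hSx, mem_comap]
    have h1 : block (ZMod p) s ∈ CfsgLib.Classical.Two.rootGroup x := by rw [← hx]; exact mem_map_of_mem _ hs
    have h2 := smul_mem_pointwise_smul (block (ZMod p) s) (MulAut.conj (block (ZMod p) g)) _ h1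
    rw [← CfsgLib.Classical.Two.rootGroup_smul, e] at h2
    simpa using h2
  have h1 : CfsgLib.Classical.Two.rootGroup x ≤ X.map (block (ZMod p)) := hx ▸ map_mono hS
  have h2 : CfsgLib.Classical.Two.rootGroup ((block (ZMod p) g) • x) ≤ X.map (block (ZMod p)) := by
    rw [CfsgLib.Classical.Two.rootGroup_smul]
    intro y hy
    rw [mem_pointwise_smul_iff_inv_smul_mem] at hy
    have h3 := mul_mem (mul_mem (mem_map_of_mem (block (ZMod p)) hgX) (h1 hy)) (inv_mem (mem_map_of_mem (block (ZMod p)) hgX))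
    simpa [mul_assoc] using h3
  have h := congrArg (Subgroup.comap (block (ZMod p)))
    (top_le_iff.mp ((CfsgLib.Classical.Two.rootGroup_sup_eq_top hne).ge.trans (sup_le h2 h1)))
  rwa [comap_map_eq_self ((ker_le_sylow S).trans hS), comap_top] at h

theorem normalizer_sylow_ne_top (S : Sylow p ↥(Cfsg.qdOver (ZMod p))) : normalizer ((S : Subgroup ↥(Cfsg.qdOver (ZMod p))) : Set ↥(Cfsg.qdOver (ZMod p))) ≠ ⊤ := by
  intro h
  haveI : (S : Subgroup ↥(Cfsg.qdOver (ZMod p))).Normal := normalizer_eq_top_iff.mp h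
  obtain ⟨x, hx, -⟩ := exists_point S
  have h1 := CfsgLib.Core.le_pCore S.2
  rw [pCore_qdOver (F := (ZMod p)) p] at h1
  rw [(Subgroup.map_eq_bot_iff _).mpr h1] at hx
  have h2 := CfsgLib.Classical.Two.card_rootGroup (F := (ZMod p)) x
  rw [← hx, card_bot, Nat.card_zmod] at h2
  exact (Fact.out : p.Prime).ne_one h2.symm

theorem eq_ker_of_normal {T : Subgroup ↥(Cfsg.qdOver (ZMod p))} [T.Normal] (hle : T ≤ (block (ZMod p)).ker) (hne : T ≠ ⊥) :
    T = (block (ZMod p)).ker := by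
  let W : AddSubgroup (Fin 2 → (ZMod p)) :=
    { carrier := {v | mkElt (ZMod p) 1 v ∈ T}
      zero_mem' := by
        show mkElt (ZMod p) 1 0 ∈ T
        convert one_mem T
        refine ext_parts (by rw [block_mkElt, map_one]) ?_
        rw [trans_mkElt]
        ext i; fin_cases i <;> simp [trans]
      add_mem' := by
        intro a b ha hb
        show mkElt (ZMod p) 1 (a + b) ∈ T
        convert mul_mem (show mkElt (ZMod p) 1 a ∈ T from ha) (show mkElt (ZMod p) 1 b ∈ T from hb) using 1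
        refine ext_parts (by rw [map_mul, block_mkElt, block_mkElt, block_mkElt, mul_one]) ?_
        rw [trans_mul, trans_mkElt, trans_mkElt, trans_mkElt, block_mkElt, Matrix.SpecialLinearGroup.coe_one,
          Matrix.one_mulVec, add_comm]
      neg_mem' := by
        intro a ha
        show mkElt (ZMod p) 1 (-a) ∈ T
        convert inv_mem (show mkElt (ZMod p) 1 a ∈ T from ha) using 1
        refine ext_parts (by rw [map_inv, block_mkElt, block_mkElt, inv_one]) ?_
        have h := trans_mul (mkElt (ZMod p) 1 a)⁻¹ (mkElt (ZMod p) 1 a)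
        rw [inv_mul_cancel, map_inv, block_mkElt, inv_one, Matrix.SpecialLinearGroup.coe_one, Matrix.one_mulVec,
          trans_mkElt] at h
        have h0 : trans (1 : ↥(Cfsg.qdOver (ZMod p))) = 0 := by ext i; fin_cases i <;> simp [trans]
        rw [h0] at h
        rw [trans_mkElt]
        exact (neg_eq_of_add_eq_zero_right h.symm) }
  have hA : ∀ (A : SL(2, (ZMod p))) (v : Fin 2 → (ZMod p)), v ∈ W → (A : Matrix (Fin 2) (Fin 2) (ZMod p)).mulVec v ∈ W := by
    intro A v hv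
    show mkElt (ZMod p) 1 _ ∈ T
    convert (‹T.Normal›).conj_mem _ hv (mkElt (ZMod p) A 0) using 1
    refine ext_parts (by rw [map_mul, map_mul, map_inv, block_mkElt, block_mkElt, block_mkElt, mul_one, mul_inv_cancel]) ?_
    have hi : trans (mkElt (ZMod p) A 0)⁻¹ = 0 := inv_mem (show mkElt (ZMod p) A 0 ∈ compl (ZMod p) from trans_mkElt A 0)
    rw [trans_mul, trans_mul, hi, Matrix.mulVec_zero, zero_add, trans_mkElt, trans_mkElt, trans_mkElt,
      block_mkElt, add_zero]
  have hsm : ∀ (c : (ZMod p)) (v : Fin 2 → (ZMod p)), v ∈ W → c • v ∈ W := by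
    intro c v hv
    have h := AddSubgroup.nsmul_mem W hv c.val
    rwa [← Nat.cast_smul_eq_nsmul (ZMod p), ZMod.natCast_zmod_val] at h
  obtain ⟨t, htT, ht1⟩ : ∃ t ∈ T, t ≠ 1 := by
    by_contra h
    push Not at h
    exact hne (eq_bot_iff.mpr fun t ht => mem_bot.mpr (h t ht))
  have htv : mkElt (ZMod p) 1 (trans t) = t := ext_parts ((block_mkElt _ _).trans (MonoidHom.mem_ker.mp (hle htT)).symm) (trans_mkElt _ _)
  set v := trans t with hv
  have hvW : v ∈ W := by show mkElt (ZMod p) 1 v ∈ T; rw [htv]; exact htT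
  have hv0 : v ≠ 0 := fun e => ht1 (by
    rw [← htv, e]
    refine ext_parts (by rw [block_mkElt, map_one]) ?_
    rw [trans_mkElt]; ext i; fin_cases i <;> simp [trans])
  let U : SL(2, (ZMod p)) := ⟨!![1, 1; 0, 1], by simp [Matrix.det_fin_two_of]⟩
  let L : SL(2, (ZMod p)) := ⟨!![1, 0; 1, 1], by simp [Matrix.det_fin_two_of]⟩
  have he : ![1, 0] ∈ W := by
    by_cases hb : v 1 = 0
    · have ha : v 0 ≠ 0 := fun e => hv0 (by ext i; fin_cases i <;> simp [e, hb])
      have h := hsm (v 0)⁻¹ v hvW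
      convert h using 1
      ext i; fin_cases i <;> simp [hb, ha]
    · have h := hsm (v 1)⁻¹ _ (W.sub_mem (hA U v hvW) hvW)
      convert h using 1
      ext i; fin_cases i <;> simp [U, Matrix.mulVec, dotProduct, Fin.sum_univ_two, Matrix.vecHead, Matrix.vecTail, hb]
  have he' : ![0, 1] ∈ W := by
    convert W.sub_mem (hA L _ he) he using 1
    ext i; fin_cases i <;> simp [L, Matrix.mulVec, dotProduct, Fin.sum_univ_two]
  refine le_antisymm hle fun m hm => ?_
  have hW : trans m ∈ W := by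
    convert W.add_mem (hsm (trans m 0) _ he) (hsm (trans m 1) _ he') using 1
    ext i; fin_cases i <;> simp
  have h : mkElt (ZMod p) 1 (trans m) = m := ext_parts ((block_mkElt _ _).trans (MonoidHom.mem_ker.mp hm).symm) (trans_mkElt _ _)
  exact h ▸ hW

/-- Upper unitriangular in `SL₂`. -/
def uM (a : (ZMod p)) : SL(2, (ZMod p)) := ⟨!![1, a; 0, 1], by simp [Matrix.det_fin_two_of]⟩

/-- The upper unitriangular element. -/
def uelt (a b c : (ZMod p)) : ↥(Cfsg.qdOver (ZMod p)) := mkElt (ZMod p) (uM a) ![b, c]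

theorem block_uelt (a b c : (ZMod p)) : block (ZMod p) (uelt a b c) = uM a := block_mkElt _ _

theorem trans_uelt (a b c : (ZMod p)) : trans (uelt a b c) = ![b, c] := trans_mkElt _ _

theorem uM_coe (a : (ZMod p)) : ((uM a : SL(2, (ZMod p))) : Matrix (Fin 2) (Fin 2) (ZMod p)) = !![1, a; 0, 1] := rfl

theorem uelt_mul (a b c a' b' c' : (ZMod p)) :
    uelt a b c * uelt a' b' c' = uelt (a + a') (b + b' + a * c') (c + c') := by
  refine ext_parts ?_ ?_
  · rw [map_mul, block_uelt, block_uelt, block_uelt]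
    apply Subtype.ext
    show !![1, a; 0, 1] * !![1, a'; 0, 1] = !![1, a + a'; 0, 1]
    ext i j
    fin_cases i <;> fin_cases j <;> simp [Matrix.mul_apply, Fin.sum_univ_two, add_comm]
  · rw [trans_mul, block_uelt, trans_uelt, trans_uelt, trans_uelt]
    show (!![1, a; 0, 1] : Matrix (Fin 2) (Fin 2) (ZMod p)).mulVec ![b', c'] + ![b, c] = _
    ext i; fin_cases i <;> simp [Matrix.mulVec, dotProduct, Fin.sum_univ_two] <;> ring

theorem mem_ker_uelt (a b c : (ZMod p)) : uelt a b c ∈ (block (ZMod p)).ker ↔ a = 0 := by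
  rw [MonoidHom.mem_ker, block_uelt]
  constructor
  · intro h
    simpa [uM_coe] using congrFun (congrFun (congrArg Subtype.val h) 0) 1
  · rintro rfl
    apply Subtype.ext
    ext i j; fin_cases i <;> fin_cases j <;> simp [uM_coe]

theorem ker_not_characteristic (S : Sylow p ↥(Cfsg.qdOver (ZMod p))) :
    ¬ ((block (ZMod p)).ker.subgroupOf (S : Subgroup ↥(Cfsg.qdOver (ZMod p)))).Characteristic := by
  intro hchar
  set x₀ := CfsgLib.Classical.Two.basePoint (ZMod p) 0
  obtain ⟨x, -, hSx⟩ := exists_point S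
  obtain ⟨h, hh⟩ := MulAction.exists_smul_eq SL(2, (ZMod p)) x₀ x
  set U : Subgroup ↥(Cfsg.qdOver (ZMod p)) := (CfsgLib.Classical.Two.rootGroup x₀).comap (block (ZMod p)) with hU
  obtain ⟨g, hg⟩ := block_surjective h
  have hSU : U.map (MulAut.conj g).toMonoidHom = (S : Subgroup ↥(Cfsg.qdOver (ZMod p))) := by
    ext y
    rw [mem_conj, hSx, ← hh, hU, mem_comap, mem_comap, CfsgLib.Classical.Two.rootGroup_smul,
      mem_pointwise_smul_iff_inv_smul_mem, map_mul, map_mul, map_inv, hg]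
    simp [MulAut.inv_def]
  have hmem : ∀ u : ↥(Cfsg.qdOver (ZMod p)), u ∈ U ↔ ∃ a b c, u = uelt a b c := by
    intro u
    rw [hU, mem_comap, ← SetLike.mem_coe, CfsgLib.Classical.Two.rootGroup_basePoint]
    constructor
    · rintro ⟨a, ha⟩
      refine ⟨a, trans u 0, trans u 1, ext_parts ?_ ?_⟩
      · rw [← ha, block_uelt]
        apply Subtype.ext
        rw [SpecialLinearGroup.transvection_coe]
        show _ = !![1, a; 0, 1]
        ext i j; fin_cases i <;> fin_cases j <;> simp [Matrix.transvection]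
      · rw [trans_uelt]
        ext i; fin_cases i <;> rfl
    · rintro ⟨a, b, c, rfl⟩
      refine ⟨a, ?_⟩
      rw [block_uelt]
      apply Subtype.ext
      rw [SpecialLinearGroup.transvection_coe]
      show _ = !![1, a; 0, 1]
      ext i j; fin_cases i <;> fin_cases j <;> simp [Matrix.transvection]
  have hinj : ∀ {a b c a' b' c' : (ZMod p)}, uelt a b c = uelt a' b' c' → a = a' ∧ b = b' ∧ c = c' := by
    intro a b c a' b' c' e
    have e1 := congrArg (block (ZMod p)) e
    have e2 := congrArg trans e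
    rw [block_uelt, block_uelt] at e1
    rw [trans_uelt, trans_uelt] at e2
    exact ⟨by simpa [uM_coe] using congrFun (congrFun (congrArg Subtype.val e1) 0) 1,
      by simpa using congrFun e2 0, by simpa using congrFun e2 1⟩
  choose fa fb fc hf using fun u : U => (hmem u).mp u.2
  let φ : U → U := fun u => ⟨uelt (-fc u) (fa u * fc u - fb u) (-fa u), (hmem _).mpr ⟨_, _, _, rfl⟩⟩
  have hφ : ∀ (u : U) (a b c : (ZMod p)), (u : ↥(Cfsg.qdOver (ZMod p))) = uelt a b c → (φ u : ↥(Cfsg.qdOver (ZMod p))) = uelt (-c) (a * c - b) (-a) := by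
    intro u a b c e
    obtain ⟨rfl, rfl, rfl⟩ := hinj ((hf u).symm.trans e)
    rfl
  have hinv : Function.Involutive φ := fun u => by
    apply Subtype.ext
    rw [hφ (φ u) _ _ _ rfl, hf u]
    congr 1 <;> ring
  have hhom : ∀ u v, φ (u * v) = φ u * φ v := by
    intro u v
    apply Subtype.ext
    rw [hφ (u * v) _ _ _ (by rw [coe_mul, hf u, hf v, uelt_mul]), coe_mul, hφ u _ _ _ (hf u), hφ v _ _ _ (hf v), uelt_mul]
    congr 1 <;> ring
  let σ : U ≃* U := MulEquiv.mk' ⟨φ, φ, hinv, hinv⟩ hhom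
  let e : U ≃* (S : Subgroup ↥(Cfsg.qdOver (ZMod p))) :=
    (U.equivMapOfInjective (MulAut.conj g).toMonoidHom (MulAut.conj g).injective).trans (MulEquiv.subgroupCongr hSU)
  let τ : (S : Subgroup ↥(Cfsg.qdOver (ZMod p))) ≃* (S : Subgroup ↥(Cfsg.qdOver (ZMod p))) := e.symm.trans (σ.trans e)
  have hv : uelt (0 : (ZMod p)) 0 1 ∈ U := (hmem _).mpr ⟨_, _, _, rfl⟩
  have hk : ∀ u : U, ((e u : (S : Subgroup ↥(Cfsg.qdOver (ZMod p)))) : ↥(Cfsg.qdOver (ZMod p))) = g * (u : ↥(Cfsg.qdOver (ZMod p))) * g⁻¹ := fun _ => rfl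
  have h1 : e ⟨_, hv⟩ ∈ (block (ZMod p)).ker.subgroupOf (S : Subgroup ↥(Cfsg.qdOver (ZMod p))) := by
    rw [mem_subgroupOf, hk]
    exact (MonoidHom.normal_ker _).conj_mem _ ((mem_ker_uelt _ _ _).mpr rfl) _
  rw [← characteristic_iff_comap_eq.mp hchar τ, mem_comap, mem_subgroupOf] at h1
  have h2 : ((τ (e ⟨_, hv⟩) : (S : Subgroup ↥(Cfsg.qdOver (ZMod p)))) : ↥(Cfsg.qdOver (ZMod p))) = g * uelt (-1 : (ZMod p)) 0 0 * g⁻¹ := by
    show ((e (σ (e.symm (e ⟨_, hv⟩))) : (S : Subgroup ↥(Cfsg.qdOver (ZMod p)))) : ↥(Cfsg.qdOver (ZMod p))) = _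
    rw [MulEquiv.symm_apply_apply, hk, show ((σ ⟨_, hv⟩ : U) : ↥(Cfsg.qdOver (ZMod p))) = uelt (-1) (0 * 1 - 0) (-0) from hφ ⟨_, hv⟩ 0 0 1 rfl]
    simp
  rw [show τ.toMonoidHom (e ⟨_, hv⟩) = τ (e ⟨_, hv⟩) from rfl, h2] at h1
  have h3 := (MonoidHom.normal_ker (block (ZMod p))).conj_mem _ h1 g⁻¹
  have h4 : uelt (-1 : (ZMod p)) 0 0 ∈ (block (ZMod p)).ker := by simpa [mul_assoc] using h3
  exact one_ne_zero (neg_eq_zero.mp ((mem_ker_uelt _ _ _).mp h4))

theorem normalizer_characteristic_sylow (S : Sylow p ↥(Cfsg.qdOver (ZMod p)))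
    (T : Subgroup ↥(S : Subgroup ↥(Cfsg.qdOver (ZMod p)))) (hT : T ≠ ⊥) (hTc : T.Characteristic) :
    normalizer ((T.map (S : Subgroup ↥(Cfsg.qdOver (ZMod p))).subtype : Subgroup ↥(Cfsg.qdOver (ZMod p))) : Set ↥(Cfsg.qdOver (ZMod p))) =
      normalizer ((S : Subgroup ↥(Cfsg.qdOver (ZMod p))) : Set ↥(Cfsg.qdOver (ZMod p))) ∧
    normalizer ((S : Subgroup ↥(Cfsg.qdOver (ZMod p))) : Set ↥(Cfsg.qdOver (ZMod p))) ≠ ⊤ := by
  haveI := hTc
  set T' := T.map (S : Subgroup ↥(Cfsg.qdOver (ZMod p))).subtype with hT'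
  have hle := normalizer_le_normalizer_characteristic (S : Subgroup ↥(Cfsg.qdOver (ZMod p))) T
  refine ⟨le_antisymm ?_ hle, normalizer_sylow_ne_top S⟩
  by_contra hn
  have htop := eq_top_of_sylow_le S (Subgroup.le_normalizer.trans hle) hn
  haveI : T'.Normal := Subgroup.normalizer_eq_top_iff.mp htop
  have hne : T' ≠ ⊥ := fun h => hT ((Subgroup.map_eq_bot_iff_of_injective _ (Subgroup.subtype_injective _)).mp h)
  have h1 : T' ≤ (block (ZMod p)).ker := by
    rw [← pCore_qdOver p]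
    exact CfsgLib.Core.le_pCore (S.2.to_le (Subgroup.map_subtype_le T))
  have h2 := eq_ker_of_normal h1 hne
  apply ker_not_characteristic S
  rw [← h2, hT', Subgroup.subgroupOf, Subgroup.comap_map_eq_self_of_injective (Subgroup.subtype_injective _)]
  exact hTc

end CfsgLib.LocalEven.Qd
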