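import Cfsg.Agent.Lib.LocalEven.TorusPair
import Cfsg.Agent.Lib.Core.Cores
import Cfsg.Agent.Lib.PLocal.Comm
import Cfsg.Agent.Lib.HallGen.Counting
import Mathlib.GroupTheory.Nilpotent

/-!
# A quadratic subgroup with a unique maximal overgroup over a normal `p`-group

* `exists_plane`: a chief factor with a torus and a transvection on a plane meeting a subgroup
  normalised by the maximal subgroup
-/

set_option autoImplicit false
set_option linter.all false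

open scoped commutatorElement

universe u

namespace CfsgLib.LocalEven.QuadCore

open Subgroup CfsgLib.LocalEven.TorusPair

variable {p : ℕ} [Fact p.Prime] {X : Type u} [Group X]

theorem conj_pow_mul {x q r : X} (h₁ : x * q * x⁻¹ = q * r) (h₂ : x * r * x⁻¹ = r) :
    ∀ i : ℕ, x ^ i * q * (x ^ i)⁻¹ = q * r ^ i
  | 0 => by simp
  | i + 1 => by
    have hri : x * r ^ i * x⁻¹ = r ^ i := by rw [← conj_pow, h₂]
    calc x ^ (i + 1) * q * (x ^ (i + 1))⁻¹ = x * (x ^ i * q * (x ^ i)⁻¹) * x⁻¹ := by rw [pow_succ']; group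
      _ = (x * q * x⁻¹) * (x * r ^ i * x⁻¹) := by rw [conj_pow_mul h₁ h₂ i]; group
      _ = q * r ^ (i + 1) := by rw [hri, h₁, pow_succ']; group

/-- An element fixing `q` modulo `R` and centralising `R` modulo `R'` has its `|R|`-th power fixing
`q` modulo `R'`. -/
theorem pow_card_fix {R R' : Subgroup X} [R'.Normal] {x q : X} (hq : q⁻¹ * (x * q * x⁻¹) ∈ R)
    (hR : ∀ r ∈ R, r⁻¹ * (x * r * x⁻¹) ∈ R') :
    q⁻¹ * (x ^ Nat.card R * q * (x ^ Nat.card R)⁻¹) ∈ R' := by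
  let π := QuotientGroup.mk' R'
  obtain ⟨r, hr⟩ : ∃ r, r = q⁻¹ * (x * q * x⁻¹) := ⟨_, rfl⟩
  have h1 : π x * π q * (π x)⁻¹ = π q * π r := by rw [hr]; simp only [map_mul, map_inv]; group
  have h2 : π x * π r * (π x)⁻¹ = π r := by
    have h3 := (QuotientGroup.eq_one_iff _).2 (hR r (hr ▸ hq))
    have h4 : (π r)⁻¹ * (π x * π r * (π x)⁻¹) = 1 := by
      rw [← map_inv, ← map_inv, ← map_mul, ← map_mul, ← map_mul]; exact h3
    exact (inv_mul_eq_one.1 h4).symm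
  have h5 := conj_pow_mul h1 h2 (Nat.card R)
  have h6 : r ^ Nat.card R = 1 := congrArg Subtype.val (pow_card_eq_one' (x := (⟨r, hr ▸ hq⟩ : R)))
  rw [← map_pow π r, h6, map_one, mul_one] at h5
  refine (QuotientGroup.eq_one_iff _).1 ?_
  show π _ = 1
  simp only [map_mul, map_inv, map_pow]
  rw [h5, inv_mul_cancel]

variable [Finite X]

/-- A chief factor `W` with a quadratic subgroup `A` lying in a unique maximal subgroup. -/
structure FactorHyp (p : ℕ) (W A Mx : Subgroup X) : Prop where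
  minimal : ∀ N : Subgroup X, N.Normal → N ≤ W → N = ⊥ ∨ N = W
  comm : ∀ v ∈ W, ∀ w ∈ W, v * w = w * v
  exp : ∀ w ∈ W, w ^ p = 1
  quad : ⁅⁅W, A⁆, A⁆ = ⊥
  nt : ¬ A ≤ centralizer (W : Set X)
  max : ∀ H : Subgroup X, H ≠ ⊤ → A ≤ H → centralizer (W : Set X) ≤ H → H ≤ Mx
  top : Mx ≠ ⊤
  le : A ≤ Mx
  moved : ∃ g : X, ¬ A.map (MulAut.conj g).toMonoidHom ≤ Mx

theorem exists_rep_lin {M : Type u} [AddCommGroup M] [Module (ZMod p) M] (φ : X → M →+ M)
    (h1 : ∀ m, φ 1 m = m) (hm : ∀ x y m, φ (x * y) m = φ x (φ y m)) :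
    ∃ ρ : X →* Module.End (ZMod p) M, ∀ x m, ρ x m = φ x m :=
  ⟨{ toFun := fun x => (φ x).toZModLinearMap p
     map_one' := LinearMap.ext fun m => h1 m
     map_mul' := fun x y => LinearMap.ext fun m => hm x y m }, fun _ _ => rfl⟩

theorem exists_rep_aux {Wt : Type u} [CommGroup Wt] [Finite Wt] (he : ∀ w : Wt, w ^ p = 1) (φ : X →* MulAut Wt) :
    ∃ (V : Type u) (_ : AddCommGroup V) (_ : Module (ZMod p) V) (_ : Finite V)
      (ρ : X →* Module.End (ZMod p) V) (e : Wt → V), Function.Bijective e ∧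
        (∀ v w : Wt, e (v * w) = e v + e w) ∧ ∀ (x : X) (w : Wt), ρ x (e w) = e (φ x w) := by
  letI : Module (ZMod p) (Additive Wt) := AddCommGroup.zmodModule (n := p) (fun w => by
    show Additive.ofMul (Additive.toMul w ^ p) = 0
    rw [he]; rfl)
  obtain ⟨ρ, hρ⟩ := exists_rep_lin (p := p) (M := Additive Wt) (fun x => MonoidHom.toAdditive (φ x).toMonoidHom)
    (fun m => by show Additive.ofMul (φ 1 (Additive.toMul m)) = m; rw [map_one]; rfl)
    (fun x y m => by show Additive.ofMul (φ (x * y) (Additive.toMul m)) = _; rw [map_mul]; rfl)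
  exact ⟨Additive Wt, inferInstance, inferInstance, Finite.of_equiv _ Additive.ofMul, ρ, Additive.ofMul,
    Additive.ofMul.bijective, fun v w => rfl, fun x w => hρ x _⟩

theorem exists_rep (W : Subgroup X) [W.Normal] (hc : ∀ v ∈ W, ∀ w ∈ W, v * w = w * v)
    (he : ∀ w ∈ W, w ^ p = 1) :
    ∃ (V : Type u) (_ : AddCommGroup V) (_ : Module (ZMod p) V) (_ : Finite V)
      (ρ : X →* Module.End (ZMod p) V) (e : ↥W → V), Function.Bijective e ∧
        (∀ v w : ↥W, e (v * w) = e v + e w) ∧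
        ∀ (x : X) (w w' : ↥W), (w' : X) = x * (w : X) * x⁻¹ → ρ x (e w) = e w' := by
  letI cg : CommGroup ↥W :=
    { (inferInstance : Group ↥W) with mul_comm := fun a b => Subtype.ext (hc a a.2 b b.2) }
  obtain ⟨V, i₁, i₂, i₃, ρ, e, h₁, h₂, h₃⟩ := exists_rep_aux (Wt := ↥W)
    (fun w => Subtype.ext (he w w.2)) (MulAut.conjNormal (H := W))
  refine ⟨V, i₁, i₂, i₃, ρ, e, h₁, h₂, fun x w w' h => ?_⟩
  rw [h₃]
  exact congrArg e (Subtype.ext (by rw [MulAut.conjNormal_apply, h]))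

variable {W A Mx : Subgroup X}

theorem FactorHyp.cent_le (h : FactorHyp p W A Mx) [W.Normal] {S₀ : Subgroup X} (hS : S₀ ≠ ⊥) (hSW : S₀ ≤ W)
    (hSA : S₀ ≤ centralizer (A : Set X)) : centralizer (W : Set X) ≤ Mx := by
  have hne : A ⊔ centralizer (W : Set X) ≠ ⊤ := by
    intro htop
    have hWA : (W ⊓ centralizer (A : Set X)).Normal := by
      rw [← normalizer_eq_top_iff, eq_top_iff, ← htop]
      refine sup_le ?_ (le_normalizer_iff.2 fun c hc w hw => ?_)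
      · refine le_normalizer_iff.2 fun a ha w hw => ?_
        have : a * w * a⁻¹ = w := by
          rw [mem_centralizer_iff.1 hw.2 a ha, mul_inv_cancel_right]
        rw [this]; exact hw
      · have : c * w * c⁻¹ = w := by
          rw [← mem_centralizer_iff.1 hc w hw.1, mul_inv_cancel_right]
        rw [this]; exact hw
    rcases h.minimal _ hWA inf_le_left with h1 | h1
    · exact hS (le_bot_iff.1 (h1 ▸ le_inf hSW hSA))
    · exact h.nt (le_centralizer_iff.1 (inf_eq_left.1 h1))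
  exact le_sup_right.trans (h.max _ hne le_sup_left le_sup_right)

/-- A torus and a transvection on a plane of the factor meeting `S₀`. -/
theorem FactorHyp.torus (h : FactorHyp p W A Mx) [W.Normal] (hp : p ≠ 2) (S₀ : Subgroup X) (hS : S₀ ≠ ⊥)
    (hSW : S₀ ≤ W) (hSA : S₀ ≤ centralizer (A : Set X)) (hSM : Mx ≤ normalizer (S₀ : Set X)) :
    ∃ n ∈ Mx, ∃ a ∈ A, ∃ u : (ZMod p)ˣ, (∀ w, w ∈ zpowers u) ∧ ∃ e₁ ∈ S₀, ∃ e₂ ∈ W, e₁ ≠ 1 ∧
      n * e₁ * n⁻¹ = e₁ ^ (u : ZMod p).val ∧ a * e₁ * a⁻¹ = e₁ ∧ a * e₂ * a⁻¹ = e₂ * e₁ ∧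
      n * e₂ * n⁻¹ = e₂ ^ ((u : ZMod p)⁻¹).val := by
  classical
  obtain ⟨V, _, _, _, ρ, e, he, hadd, hconj⟩ := exists_rep W h.comm h.exp
  have he1 : e 1 = 0 := by have := hadd 1 1; rwa [one_mul, left_eq_add] at this
  have hpow : ∀ (w : ↥W) (c : ℕ), e (w ^ c) = c • e w := fun w c => by
    induction c with
    | zero => simpa using he1
    | succ c ih => rw [pow_succ, hadd, ih, succ_nsmul]
  have hsmul : ∀ (w : ↥W) (c : ZMod p), e (w ^ c.val) = c • e w := fun w c => by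
    rw [hpow, ← Nat.cast_smul_eq_nsmul (ZMod p), ZMod.natCast_zmod_val]
  have hcj : ∀ (x : X) (w : ↥W),
      ρ x (e w) = e ⟨x * (w : X) * x⁻¹, Normal.conj_mem inferInstance _ w.2 x⟩ := fun x w => hconj x w _ rfl
  have hval : ∀ (x : X) (w w' : ↥W), ρ x (e w) = e w' → x * (w : X) * x⁻¹ = (w' : X) := fun x w w' hh =>
    congrArg Subtype.val (he.1 ((hcj x w).symm.trans hh))
  have hker : ρ.ker = centralizer (W : Set X) := by
    ext x
    rw [MonoidHom.mem_ker, mem_centralizer_iff]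
    constructor
    · intro hx w hw
      have h1 := hval x ⟨w, hw⟩ ⟨w, hw⟩ (by rw [hx, Module.End.one_apply])
      exact (mul_inv_eq_iff_eq_mul.1 h1).symm
    · intro hx
      refine LinearMap.ext fun v => ?_
      obtain ⟨w, rfl⟩ := he.2 v
      rw [Module.End.one_apply]
      exact hconj x w w (by rw [← hx _ w.2, mul_inv_cancel_right])
  have hirr : ∀ S : Submodule (ZMod p) V, (∀ x, ∀ w ∈ S, ρ x w ∈ S) → S = ⊥ ∨ S = ⊤ := by
    intro S hS'
    let N : Subgroup ↥W :=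
      { carrier := {w | e w ∈ S}
        one_mem' := by show e 1 ∈ S; rw [he1]; exact S.zero_mem
        mul_mem' := fun {v w} hv hw => by show e (v * w) ∈ S; rw [hadd]; exact S.add_mem hv hw
        inv_mem' := fun {v} hv => by
          show e v⁻¹ ∈ S
          have h0 := hadd v v⁻¹
          rw [mul_inv_cancel, he1] at h0
          rw [eq_neg_of_add_eq_zero_right h0.symm]
          exact S.neg_mem hv }
    have hNn : (N.map W.subtype).Normal := ⟨by
      rintro _ ⟨w, hw, rfl⟩ x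
      refine ⟨⟨x * (w : X) * x⁻¹, Normal.conj_mem inferInstance _ w.2 x⟩, ?_, rfl⟩
      show e _ ∈ S
      rw [← hcj]; exact hS' x _ hw⟩
    rcases h.minimal _ hNn (map_subtype_le _) with h1 | h1
    · left
      refine (Submodule.eq_bot_iff _).2 fun v hv => ?_
      obtain ⟨w, rfl⟩ := he.2 v
      have h2 : (w : X) ∈ N.map W.subtype := ⟨w, hv, rfl⟩
      rw [h1, mem_bot] at h2
      rw [show w = 1 from Subtype.ext h2, he1]
    · right
      refine eq_top_iff.2 fun v _ => ?_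
      obtain ⟨w, rfl⟩ := he.2 v
      obtain ⟨w', hw', hww⟩ := h1.ge w.2
      rwa [← show w' = w from Subtype.ext hww]
  have hquad : ∀ a ∈ A, ∀ a' ∈ A, (ρ a - 1) * (ρ a' - 1) = 0 := by
    intro a ha a' ha'
    refine LinearMap.ext fun v => ?_
    obtain ⟨w, rfl⟩ := he.2 v
    rw [Module.End.mul_apply, LinearMap.zero_apply]
    simp only [LinearMap.sub_apply, Module.End.one_apply]
    rw [sub_eq_zero, map_sub, sub_eq_iff_eq_add, hcj a' w, hcj a w, hcj a _, ← sub_eq_iff_eq_add']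
    obtain ⟨d, hd⟩ : ∃ d : ↥W, (d : X) = a' * (w : X) * a'⁻¹ * (w : X)⁻¹ :=
      ⟨⟨_, W.mul_mem (Normal.conj_mem inferInstance _ w.2 a') (W.inv_mem w.2)⟩, rfl⟩
    have hfix : a * (d : X) * a⁻¹ = (d : X) := by
      have h1 : (d : X) ∈ ⁅W, A⁆ := by
        rw [hd, commutator_comm, ← commutatorElement_def]
        exact commutator_mem_commutator ha' w.2
      have h2 : ⁅(d : X), a⁆ ∈ (⊥ : Subgroup X) := h.quad ▸ commutator_mem_commutator h1 ha
      rw [mem_bot, commutatorElement_eq_one_iff_mul_comm] at h2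
      rw [← h2, mul_inv_cancel_right]
    have e1 : (⟨a * (a' * (w : X) * a'⁻¹) * a⁻¹, Normal.conj_mem inferInstance _
        (Normal.conj_mem inferInstance _ w.2 a') a⟩ : ↥W) =
        d * ⟨a * (w : X) * a⁻¹, Normal.conj_mem inferInstance _ w.2 a⟩ := Subtype.ext (by
      rw [Subgroup.coe_mul]
      conv_rhs => rw [← hfix]
      rw [hd]; group)
    have e2 : (⟨a' * (w : X) * a'⁻¹, Normal.conj_mem inferInstance _ w.2 a'⟩ : ↥W) = d * w :=
      Subtype.ext (by rw [Subgroup.coe_mul, hd]; group)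
    rw [e1, e2, hadd, hadd]
    abel
  have hnt : ∃ a ∈ A, ρ a ≠ 1 := by
    by_contra hc
    push Not at hc
    exact h.nt (hker ▸ fun a ha => MonoidHom.mem_ker.2 (hc a ha))
  let S' : AddSubgroup V :=
    { carrier := {v | ∃ w : ↥W, (w : X) ∈ S₀ ∧ e w = v}
      zero_mem' := ⟨1, S₀.one_mem, he1⟩
      add_mem' := by
        rintro _ _ ⟨v, hv, rfl⟩ ⟨w, hw, rfl⟩
        exact ⟨v * w, S₀.mul_mem hv hw, hadd v w⟩
      neg_mem' := by
        rintro _ ⟨v, hv, rfl⟩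
        refine ⟨v⁻¹, S₀.inv_mem hv, ?_⟩
        have h0 := hadd v v⁻¹
        rw [mul_inv_cancel, he1] at h0
        exact eq_neg_of_add_eq_zero_right h0.symm }
  obtain ⟨Sm, hSm⟩ : ∃ Sm : Submodule (ZMod p) V, ∀ v, v ∈ Sm ↔ ∃ w : ↥W, (w : X) ∈ S₀ ∧ e w = v :=
    ⟨AddSubgroup.toZModSubmodule p S', fun v => Iff.rfl⟩
  obtain ⟨s, hs, hs1⟩ := (bot_or_exists_ne_one S₀).resolve_left hS
  obtain ⟨n, hn, a, ha, u, hu, v₁, hv₁, v₂, hne, r1, r2, r3, r4⟩ :=
    exists_torus_pair hp ρ hirr A Mx hquad hnt (fun H hH hA hk => h.max H hH hA (hker ▸ hk)) h.top h.le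
      (hker ▸ h.cent_le hS hSW hSA) h.moved Sm
      (fun hb => hs1 (by
        have h1 : e ⟨s, hSW hs⟩ ∈ Sm := (hSm _).2 ⟨_, hs, rfl⟩
        rw [hb, Submodule.mem_bot, ← he1] at h1
        exact congrArg Subtype.val (he.1 h1)))
      (fun a ha v hv => by
        obtain ⟨w, hw, rfl⟩ := (hSm v).1 hv
        exact hconj a w w (by rw [mem_centralizer_iff.1 (hSA hw) a ha, mul_inv_cancel_right]))
      (fun m hm v hv => by
        obtain ⟨w, hw, rfl⟩ := (hSm v).1 hv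
        rw [hcj]
        exact (hSm _).2 ⟨_, (mem_normalizer_iff.1 (hSM hm) _).1 hw, rfl⟩)
  obtain ⟨w₁, hw₁, rfl⟩ := (hSm v₁).1 hv₁
  obtain ⟨w₂, rfl⟩ := he.2 v₂
  refine ⟨n, hn, a, ha, u, hu, (w₁ : X), hw₁, (w₂ : X), w₂.2, fun h1 => hne ?_, ?_, ?_, ?_, ?_⟩
  · rw [show w₁ = 1 from Subtype.ext h1, he1]
  · exact hval n w₁ (w₁ ^ (u : ZMod p).val) (by rw [r1, hsmul])
  · exact hval a w₁ w₁ r2
  · exact hval a w₂ (w₂ * w₁) (by rw [r3, hadd])
  · exact hval n w₂ (w₂ ^ ((u : ZMod p)⁻¹).val) (by rw [r4, hsmul])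

/-- Every element of the factor is a product of fixed elements of two conjugates of `A`. -/
theorem FactorHyp.decomp (h : FactorHyp p W A Mx) [W.Normal] {g : X}
    (hg : ¬ A.map (MulAut.conj g).toMonoidHom ≤ Mx) {w : X} (hw : w ∈ W) :
    ∃ y z : X, y ∈ W ∧ z ∈ W ∧ y * z = w ∧ (∀ c ∈ A, c * y = y * c) ∧
      ∀ c ∈ A, g * c * g⁻¹ * z = z * (g * c * g⁻¹) := by
  classical
  obtain ⟨V, _, _, _, ρ, e, he, hadd, hconj⟩ := exists_rep W h.comm h.exp
  have he1 : e 1 = 0 := by have := hadd 1 1; rwa [one_mul, left_eq_add] at this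
  have hcj : ∀ (x : X) (v : ↥W),
      ρ x (e v) = e ⟨x * (v : X) * x⁻¹, Normal.conj_mem inferInstance _ v.2 x⟩ := fun x v => hconj x v _ rfl
  have hval : ∀ (x : X) (v : ↥W), ρ x (e v) = e v → x * (v : X) = (v : X) * x := fun x v hh =>
    mul_inv_eq_iff_eq_mul.1 (congrArg Subtype.val (he.1 ((hcj x v).symm.trans hh)))
  have hker : ρ.ker = centralizer (W : Set X) := by
    ext x
    rw [MonoidHom.mem_ker, mem_centralizer_iff]
    constructor
    · intro hx v hv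
      exact (hval x ⟨v, hv⟩ (by rw [hx, Module.End.one_apply])).symm
    · intro hx
      refine LinearMap.ext fun v => ?_
      obtain ⟨v, rfl⟩ := he.2 v
      rw [Module.End.one_apply]
      exact hconj x v v (by rw [← hx _ v.2, mul_inv_cancel_right])
  have hirr : ∀ S : Submodule (ZMod p) V, (∀ x, ∀ v ∈ S, ρ x v ∈ S) → S = ⊥ ∨ S = ⊤ := by
    intro S hS'
    let N : Subgroup ↥W :=
      { carrier := {v | e v ∈ S}
        one_mem' := by show e 1 ∈ S; rw [he1]; exact S.zero_mem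
        mul_mem' := fun {a b} ha hb => by show e (a * b) ∈ S; rw [hadd]; exact S.add_mem ha hb
        inv_mem' := fun {a} ha => by
          show e a⁻¹ ∈ S
          have h0 := hadd a a⁻¹
          rw [mul_inv_cancel, he1] at h0
          rw [eq_neg_of_add_eq_zero_right h0.symm]
          exact S.neg_mem ha }
    have hNn : (N.map W.subtype).Normal := ⟨by
      rintro _ ⟨v, hv, rfl⟩ x
      refine ⟨⟨x * (v : X) * x⁻¹, Normal.conj_mem inferInstance _ v.2 x⟩, ?_, rfl⟩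
      show e _ ∈ S
      rw [← hcj]; exact hS' x _ hv⟩
    rcases h.minimal _ hNn (map_subtype_le _) with h1 | h1
    · left
      refine (Submodule.eq_bot_iff _).2 fun v hv => ?_
      obtain ⟨v, rfl⟩ := he.2 v
      have h2 : (v : X) ∈ N.map W.subtype := ⟨v, hv, rfl⟩
      rw [h1, mem_bot] at h2
      rw [show v = 1 from Subtype.ext h2, he1]
    · right
      refine eq_top_iff.2 fun v _ => ?_
      obtain ⟨v, rfl⟩ := he.2 v
      obtain ⟨v', hv', hvv⟩ := h1.ge v.2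
      rwa [← show v' = v from Subtype.ext hvv]
  have hquad : ∀ a ∈ A, ∀ a' ∈ A, (ρ a - 1) * (ρ a' - 1) = 0 := by
    intro a ha a' ha'
    refine LinearMap.ext fun v => ?_
    obtain ⟨v, rfl⟩ := he.2 v
    rw [Module.End.mul_apply, LinearMap.zero_apply]
    simp only [LinearMap.sub_apply, Module.End.one_apply]
    rw [sub_eq_zero, map_sub, sub_eq_iff_eq_add, hcj a' v, hcj a v, hcj a _, ← sub_eq_iff_eq_add']
    obtain ⟨d, hd⟩ : ∃ d : ↥W, (d : X) = a' * (v : X) * a'⁻¹ * (v : X)⁻¹ :=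
      ⟨⟨_, W.mul_mem (Normal.conj_mem inferInstance _ v.2 a') (W.inv_mem v.2)⟩, rfl⟩
    have hfix : a * (d : X) * a⁻¹ = (d : X) := by
      have h1 : (d : X) ∈ ⁅W, A⁆ := by
        rw [hd, commutator_comm, ← commutatorElement_def]
        exact commutator_mem_commutator ha' v.2
      have h2 : ⁅(d : X), a⁆ ∈ (⊥ : Subgroup X) := h.quad ▸ commutator_mem_commutator h1 ha
      rw [mem_bot, commutatorElement_eq_one_iff_mul_comm] at h2
      rw [← h2, mul_inv_cancel_right]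
    have e1 : (⟨a * (a' * (v : X) * a'⁻¹) * a⁻¹, Normal.conj_mem inferInstance _
        (Normal.conj_mem inferInstance _ v.2 a') a⟩ : ↥W) =
        d * ⟨a * (v : X) * a⁻¹, Normal.conj_mem inferInstance _ v.2 a⟩ := Subtype.ext (by
      rw [Subgroup.coe_mul]
      conv_rhs => rw [← hfix]
      rw [hd]; group)
    have e2 : (⟨a' * (v : X) * a'⁻¹, Normal.conj_mem inferInstance _ v.2 a'⟩ : ↥W) = d * v :=
      Subtype.ext (by rw [Subgroup.coe_mul, hd]; group)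
    rw [e1, e2, hadd, hadd]
    abel
  have hnt : ∃ a ∈ A, ρ a ≠ 1 := by
    by_contra hc
    push Not at hc
    exact h.nt (hker ▸ fun a ha => MonoidHom.mem_ker.2 (hc a ha))
  obtain ⟨y, z, hyz, hy, hz⟩ := exists_add_fixed ρ hirr A hquad hnt g (fun H hA hk hg' => by
    by_contra hH
    exact hg (hg'.trans (h.max H hH hA (hker ▸ hk)))) (e ⟨w, hw⟩)
  obtain ⟨y, rfl⟩ := he.2 y
  obtain ⟨z, rfl⟩ := he.2 z
  exact ⟨y, z, y.2, z.2, congrArg Subtype.val (he.1 (show e (y * z) = e ⟨w, hw⟩ by rw [hadd, hyz])),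
    fun c hc => hval c y (hy c hc), fun c hc => hval _ z (hz c hc)⟩

/-- The hypotheses of the core. -/
structure Setup (p : ℕ) (V P A Mx X₀ Y : Subgroup X) : Prop where
  vn : V.Normal
  pn : P.Normal
  yn : Y.Normal
  yx : Y ≤ X₀
  xv : X₀ ≤ V
  vp : V ≤ P
  pP : IsPGroup p P
  yc : Y ≤ center X
  vc : ⁅V, V⁆ ≤ Y
  quad : ⁅⁅V, A⁆, A⁆ ≤ Y
  xa : ⁅X₀, A⁆ ≤ Y
  pm : P ≤ Mx
  am : A ≤ Mx
  top : Mx ≠ ⊤
  max : ∀ H : Subgroup X, H ≠ ⊤ → P ≤ H → A ≤ H → H ≤ Mx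
  mn : Mx ≤ normalizer (X₀ : Set X)
  cent : centralizer (X₀ : Set X) ≤ Mx
  aP : IsPGroup p A
  ncore : ∀ N : Subgroup X, N.Normal → IsPGroup p N → ¬ A ≤ N

variable {V P A Mx X₀ Y : Subgroup X}

theorem Setup.moved (s : Setup p V P A Mx X₀ Y) : ∃ g : X, ¬ A.map (MulAut.conj g).toMonoidHom ≤ Mx := by
  by_contra hc
  push Not at hc
  haveI := s.pn
  obtain ⟨N, hN⟩ : ∃ N, N = normalClosure (A : Set X) ⊔ P := ⟨_, rfl⟩
  haveI : N.Normal := hN ▸ inferInstance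
  have hNM : N ≤ Mx := by
    rw [hN]
    refine sup_le ((closure_le _).2 fun y hy => ?_) s.pm
    obtain ⟨a, ha, hay⟩ := Group.mem_conjugatesOfSet_iff.1 hy
    obtain ⟨g, rfl⟩ := isConj_iff.1 hay
    exact hc g ⟨a, ha, rfl⟩
  have hAN : A ≤ N := hN ▸ le_sup_of_le_left (le_normalClosure)
  have hPN : P ≤ N := hN ▸ le_sup_right
  have hAP : IsPGroup p ↥(A ⊔ P : Subgroup X) := by
    exact IsPGroup.to_sup_of_normal_right s.aP s.pP
  obtain ⟨TN, hTN⟩ := (hAP.comap_subtype (K := N)).exists_le_sylow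
  obtain ⟨T, hT⟩ : ∃ T, T = (TN : Subgroup ↥N).map N.subtype := ⟨_, rfl⟩
  have hle : A ⊔ P ≤ T := fun x hx => hT ▸ ⟨⟨x, (sup_le hAN hPN) hx⟩, hTN hx, rfl⟩
  have hfr : normalizer (T : Set X) ⊔ N = ⊤ := hT ▸ Sylow.normalizer_sup_eq_top TN
  by_cases h : normalizer (T : Set X) = ⊤
  · exact s.ncore T (normalizer_eq_top_iff.1 h) (hT ▸ TN.2.map _) (le_sup_left.trans hle)
  · have := s.max _ h (le_sup_right.trans (hle.trans le_normalizer)) (le_sup_left.trans (hle.trans le_normalizer))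
    exact s.top (eq_top_iff.2 (hfr ▸ sup_le this hNM))

/-- No normal subgroup inside `Mx` has a `p`-quotient. -/
theorem Setup.no_pquot (s : Setup p V P A Mx X₀ Y) {K : Subgroup X} [K.Normal] (hK : K ≤ Mx)
    (hq : ∀ x : X, ∃ i : ℕ, x ^ p ^ i ∈ K) : False := by
  have hp' : IsPGroup p (X ⧸ K) := by
    intro q
    obtain ⟨x, rfl⟩ := QuotientGroup.mk'_surjective K q
    obtain ⟨i, hi⟩ := hq x
    exact ⟨i, by rw [← map_pow]; exact (QuotientGroup.eq_one_iff _).2 hi⟩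
  have hMne : Mx.map (QuotientGroup.mk' K) ≠ ⊤ := by
    intro h
    have := congrArg (comap (QuotientGroup.mk' K)) h
    rw [comap_map_eq, QuotientGroup.ker_mk', comap_top, sup_eq_left.2 hK] at this
    exact s.top this
  obtain ⟨C, hC, hMC⟩ := (eq_top_or_exists_le_coatom (Mx.map (QuotientGroup.mk' K))).resolve_left hMne
  haveI := hp'.isNilpotent
  haveI : C.Normal := (Group.normalizerCondition_of_isNilpotent (G := X ⧸ K)).normal_of_coatom C hC
  obtain ⟨g, hg⟩ := s.moved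
  have hne : C.comap (QuotientGroup.mk' K) ≠ ⊤ := fun h => hC.1 (by
    rw [← map_comap_eq_self_of_surjective (QuotientGroup.mk'_surjective K) C, h,
      map_top_of_surjective _ (QuotientGroup.mk'_surjective K)])
  have hMle : Mx ≤ C.comap (QuotientGroup.mk' K) := map_le_iff_le_comap.1 hMC
  have := s.max _ hne (s.pm.trans hMle) (s.am.trans hMle)
  refine hg (fun y hy => this ?_)
  obtain ⟨a, ha, rfl⟩ := hy
  exact Normal.conj_mem inferInstance a (hMle (s.am ha)) g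

/-- A normal subgroup containing `A` and `P` is the whole group. -/
theorem Setup.eq_top (s : Setup p V P A Mx X₀ Y) {K : Subgroup X} [K.Normal] (hP : P ≤ K) (hA : A ≤ K) :
    K = ⊤ := by
  by_contra h
  obtain ⟨g, hg⟩ := s.moved
  refine hg (fun y hy => s.max K h hP hA ?_)
  obtain ⟨a, ha, rfl⟩ := hy
  exact Normal.conj_mem inferInstance a (hA ha) g

theorem Setup.not_normalize (s : Setup p V P A Mx X₀ Y) : normalizer (X₀ : Set X) ≠ ⊤ := by
  intro htop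
  haveI : X₀.Normal := normalizer_eq_top_iff.1 htop
  haveI := s.pn; haveI := s.yn
  obtain ⟨N, hN⟩ : ∃ N, N = (centralizer ((X₀.map (QuotientGroup.mk' Y) : Subgroup (X ⧸ Y)) : Set (X ⧸ Y))).comap
      (QuotientGroup.mk' Y) := ⟨_, rfl⟩
  haveI : (X₀.map (QuotientGroup.mk' Y)).Normal := Normal.map inferInstance _ (QuotientGroup.mk'_surjective Y)
  haveI : N.Normal := hN ▸ Normal.comap inferInstance _
  have hmem : ∀ x, x ∈ N ↔ ∀ q ∈ X₀, q⁻¹ * (x * q * x⁻¹) ∈ Y := by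
    intro x
    rw [hN, mem_comap, mem_centralizer_iff]
    constructor
    · intro h q hq
      refine (QuotientGroup.eq_one_iff _).1 ?_
      show QuotientGroup.mk' Y _ = 1
      simp only [map_mul, map_inv]
      rw [← h _ (mem_map_of_mem _ hq)]
      group
    · rintro h _ ⟨q, hq, rfl⟩
      have h1 : QuotientGroup.mk' Y (q⁻¹ * (x * q * x⁻¹)) = 1 := (QuotientGroup.eq_one_iff _).2 (h q hq)
      simp only [map_mul, map_inv, inv_mul_eq_one] at h1
      exact eq_mul_inv_iff_mul_eq.1 h1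
  have hAN : A ≤ N := by
    rw [hN, ← map_le_iff_le_comap, ← commutator_eq_bot_iff_le_centralizer, ← map_commutator,
      Subgroup.map_eq_bot_iff, QuotientGroup.ker_mk', commutator_comm]
    exact s.xa
  have hNP : N ⊔ P = ⊤ := s.eq_top le_sup_right (le_sup_of_le_left hAN)
  refine s.no_pquot s.cent fun x => ?_
  obtain ⟨i, hi⟩ : ∃ i, x ^ p ^ i ∈ N := by
    obtain ⟨y, hy, z, hz, rfl⟩ := mem_sup_of_normal_left.1 (hNP.ge (mem_top x))
    obtain ⟨i, hi⟩ := s.pP ⟨z, hz⟩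
    refine ⟨i, (QuotientGroup.eq_one_iff _).1 ?_⟩
    show QuotientGroup.mk' N ((y * z) ^ p ^ i) = 1
    rw [map_pow, map_mul, show QuotientGroup.mk' N y = 1 from (QuotientGroup.eq_one_iff _).2 hy, one_mul,
      ← map_pow, show z ^ p ^ i = 1 from congrArg Subtype.val hi, map_one]
  obtain ⟨j, hj⟩ := IsPGroup.iff_card.1 (s.pP.to_le ((s.yx.trans s.xv).trans s.vp))
  refine ⟨i + j, mem_centralizer_iff.2 fun q hq => ?_⟩
  have h1 := pow_card_fix (R' := (⊥ : Subgroup X)) ((hmem _).1 hi q hq) (fun r hr => by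
    rw [mem_bot, inv_mul_eq_one, mem_center_iff.1 (s.yc hr) (x ^ p ^ i), mul_inv_cancel_right])
  rw [hj, mem_bot, inv_mul_eq_one, ← pow_mul, ← pow_add] at h1
  exact (eq_mul_inv_iff_mul_eq.1 h1)

/-- A minimal normal `p`-subgroup inside a normal `p`-group: elementary and centralised by it. -/
theorem min_normal_facts {Z : Type*} [Group Z] [Finite Z] (W P' : Subgroup Z) [hP : P'.Normal]
    (hPp : IsPGroup p P') (hW : W.Normal) (hWP : W ≤ P') (hW1 : W ≠ ⊥)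
    (hmin : ∀ N : Subgroup Z, N.Normal → N ≤ W → N = ⊥ ∨ N = W) (hc : ∀ v ∈ W, ∀ w ∈ W, v * w = w * v) :
    (∀ w ∈ W, w ^ p = 1) ∧ P' ≤ centralizer (W : Set Z) := by
  haveI := hW
  haveI : Nontrivial ↥W := (nontrivial_iff_ne_bot W).2 hW1
  have hWp : IsPGroup p ↥W := hPp.to_le hWP
  constructor
  · let Ω : Subgroup Z :=
      { carrier := {w | w ∈ W ∧ w ^ p = 1}
        one_mem' := ⟨W.one_mem, one_pow _⟩
        mul_mem' := fun {a b} ha hb => ⟨W.mul_mem ha.1 hb.1, by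
          rw [(show Commute a b from hc a ha.1 b hb.1).mul_pow, ha.2, hb.2, one_mul]⟩
        inv_mem' := fun {a} ha => ⟨W.inv_mem ha.1, by rw [inv_pow, ha.2, inv_one]⟩ }
    have hΩn : Ω.Normal := ⟨fun w hw x => ⟨Normal.conj_mem inferInstance w hw.1 x, by
      rw [conj_pow, hw.2, mul_one, mul_inv_cancel]⟩⟩
    rcases hmin Ω hΩn (fun w hw => hw.1) with h | h
    · exfalso
      obtain ⟨w, hw⟩ := exists_prime_orderOf_dvd_card' (G := ↥W) p (by
        obtain ⟨k, hk⟩ := IsPGroup.iff_card.1 hWp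
        rw [hk]
        refine dvd_pow_self p fun h0 => ?_
        rw [h0, pow_zero] at hk
        exact absurd hk (Finite.one_lt_card).ne')
      have h1 : (w : Z) ∈ Ω := ⟨w.2, by rw [← Subgroup.coe_pow, ← hw, pow_orderOf_eq_one, Subgroup.coe_one]⟩
      rw [h, mem_bot] at h1
      rw [show w = 1 from Subtype.ext h1, orderOf_one] at hw
      exact (Fact.out : p.Prime).ne_one hw.symm
    · exact fun w hw => (h.ge hw).2
  · rcases hmin (W ⊓ centralizer (P' : Set Z)) inferInstance inf_le_left with h | h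
    · exfalso
      letI : MulAction ↥P' ↥W := MulAction.compHom ↥W ((MulAut.conjNormal (H := W)).comp P'.subtype)
      obtain ⟨k, hk⟩ := IsPGroup.iff_card.1 hWp
      have hk0 : k ≠ 0 := fun h0 => by
        rw [h0, pow_zero] at hk
        exact absurd hk (Finite.one_lt_card).ne'
      have h1fix : (1 : ↥W) ∈ MulAction.fixedPoints ↥P' ↥W := fun q => by
        show MulAut.conjNormal (q : Z) (1 : ↥W) = 1
        rw [map_one]
      obtain ⟨w, hw, hw1⟩ := hPp.exists_fixed_point_of_prime_dvd_card_of_fixed_point ↥W (hk ▸ dvd_pow_self p hk0) h1fix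
      have hmem : (w : Z) ∈ W ⊓ centralizer (P' : Set Z) := ⟨w.2, mem_centralizer_iff.2 fun y hy => by
        have hq : MulAut.conjNormal y w = w := hw ⟨y, hy⟩
        have hq' := congrArg Subtype.val hq
        rw [MulAut.conjNormal_apply, mul_inv_eq_iff_eq_mul] at hq'
        exact hq'⟩
      rw [h, mem_bot] at hmem
      exact hw1 (Subtype.ext hmem).symm
    · exact le_centralizer_iff.1 (inf_eq_left.1 h)

/-- The factor above `N₁` minimal over it. -/
theorem Setup.factor (s : Setup p V P A Mx X₀ Y) (N₁ N₂ : Subgroup X) [h1 : N₁.Normal] (hn2 : N₂.Normal)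
    (hY : Y ≤ N₁) (h12 : N₁ < N₂) (h2V : N₂ ≤ V)
    (hmax : ∀ N : Subgroup X, N.Normal → N₁ ≤ N → N ≤ N₂ → N = N₁ ∨ N = N₂)
    (hnt : ¬ A ≤ (centralizer ((N₂.map (QuotientGroup.mk' N₁) : Subgroup (X ⧸ N₁)) : Set (X ⧸ N₁))).comap
      (QuotientGroup.mk' N₁)) :
    FactorHyp p (N₂.map (QuotientGroup.mk' N₁)) (A.map (QuotientGroup.mk' N₁)) (Mx.map (QuotientGroup.mk' N₁)) ∧
      P ≤ (centralizer ((N₂.map (QuotientGroup.mk' N₁) : Subgroup (X ⧸ N₁)) : Set (X ⧸ N₁))).comap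
        (QuotientGroup.mk' N₁) := by
  obtain ⟨π, hπ⟩ : ∃ π, π = QuotientGroup.mk' N₁ := ⟨_, rfl⟩
  rw [← hπ] at hnt ⊢
  have hπs : Function.Surjective π := hπ ▸ QuotientGroup.mk'_surjective N₁
  have hker : π.ker = N₁ := hπ ▸ QuotientGroup.ker_mk' N₁
  haveI := s.pn
  haveI : (P.map π).Normal := Normal.map inferInstance _ hπs
  have hN1M : N₁ ≤ Mx := h12.le.trans (h2V.trans (s.vp.trans s.pm))
  have hWn : (N₂.map π).Normal := Normal.map hn2 _ hπs
  have hmin : ∀ N : Subgroup (X ⧸ N₁), N.Normal → N ≤ N₂.map π → N = ⊥ ∨ N = N₂.map π := by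
    intro N hN hle
    have hc2 : N.comap π ≤ N₂ := by
      refine (comap_mono hle).trans ?_
      rw [comap_map_eq, hker, sup_eq_left.2 h12.le]
    have hc1 : N₁ ≤ N.comap π := hker.ge.trans (ker_le_comap π N)
    rcases hmax _ (hN.comap π) hc1 hc2 with h | h
    · left; rw [← map_comap_eq_self_of_surjective hπs N, h, Subgroup.map_eq_bot_iff, hker]
    · right; rw [← map_comap_eq_self_of_surjective hπs N, h]
  have hcomm : ∀ v ∈ N₂.map π, ∀ w ∈ N₂.map π, v * w = w * v := by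
    rintro _ ⟨v, hv, rfl⟩ _ ⟨w, hw, rfl⟩
    rw [← commutatorElement_eq_one_iff_mul_comm, ← map_commutatorElement, ← MonoidHom.mem_ker, hker]
    exact hY (s.vc (commutator_mem_commutator (h2V hv) (h2V hw)))
  obtain ⟨hexp, hPc⟩ := min_normal_facts (N₂.map π) (P.map π) (s.pP.map π) hWn (map_mono (h2V.trans s.vp))
    (fun h => h12.not_ge (by rwa [Subgroup.map_eq_bot_iff, hker] at h)) hmin hcomm
  refine ⟨⟨hmin, hcomm, hexp, ?_, ?_, ?_, ?_, map_mono s.am, ?_⟩, map_le_iff_le_comap.1 hPc⟩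
  · rw [← map_commutator, ← map_commutator, Subgroup.map_eq_bot_iff, hker]
    exact (commutator_mono (commutator_mono h2V le_rfl) le_rfl).trans (s.quad.trans hY)
  · exact fun h => hnt (map_le_iff_le_comap.1 h)
  · intro H hH hA hc
    have hne : H.comap π ≠ ⊤ := fun h => hH (by
      rw [← map_comap_eq_self_of_surjective hπs H, h, map_top_of_surjective _ hπs])
    rw [← map_comap_eq_self_of_surjective hπs H]
    exact map_mono (s.max _ hne (map_le_iff_le_comap.1 (hPc.trans hc)) (map_le_iff_le_comap.1 hA))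
  · intro h
    have := congrArg (comap π) h
    rw [comap_map_eq, hker, comap_top, sup_eq_left.2 hN1M] at this
    exact s.top this
  · obtain ⟨g, hg⟩ := s.moved
    refine ⟨π g, fun h => hg ?_⟩
    rintro _ ⟨a, ha, rfl⟩
    obtain ⟨m, hm, hme⟩ := h ⟨π a, mem_map_of_mem π ha, rfl⟩
    have e : m⁻¹ * (g * a * g⁻¹) ∈ N₁ := by
      rw [← hker, MonoidHom.mem_ker, map_mul, map_inv, inv_mul_eq_one, hme]
      simp
    have := Mx.mul_mem hm (hN1M e)
    rwa [mul_inv_cancel_left] at this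

/-- **The core**: a plane with a torus and a transvection in a chief factor below `V`. -/
theorem Setup.exists_plane (s : Setup p V P A Mx X₀ Y) (hp : p ≠ 2) :
    ∃ N₁ N₂ : Subgroup X, N₁.Normal ∧ N₂.Normal ∧ N₁ ≤ N₂ ∧ N₂ ≤ V ∧ ⁅N₂, N₂⁆ ≤ N₁ ∧ (∀ w ∈ N₂, w ^ p ∈ N₁) ∧
      ∃ n ∈ Mx, ∃ a ∈ A, ∃ u : (ZMod p)ˣ, (∀ w, w ∈ zpowers u) ∧
      ∃ e₁ ∈ X₀, ∃ e₂ ∈ N₂, e₁ ∈ N₂ ∧ e₁ ∉ N₁ ∧
        (e₁ ^ (u : ZMod p).val)⁻¹ * (n * e₁ * n⁻¹) ∈ N₁ ∧ e₁⁻¹ * (a * e₁ * a⁻¹) ∈ N₁ ∧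
        (e₂ * e₁)⁻¹ * (a * e₂ * a⁻¹) ∈ N₁ ∧
        (e₂ ^ ((u : ZMod p)⁻¹).val)⁻¹ * (n * e₂ * n⁻¹) ∈ N₁ := by
  classical
  haveI := s.vn; haveI := s.pn; haveI := s.yn
  -- a smallest normal subgroup meeting `X₀` in a subgroup not normalised
  obtain ⟨N₂, hN₂, hN₂min⟩ := Set.exists_min_image
    {N : Subgroup X | N.Normal ∧ Y ≤ N ∧ N ≤ V ∧ normalizer ((X₀ ⊓ N : Subgroup X) : Set X) ≠ ⊤}
    (fun N => Nat.card N) (Set.toFinite _)
    ⟨V, s.vn, s.yx.trans s.xv, le_rfl, by rw [inf_eq_left.2 s.xv]; exact s.not_normalize⟩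
  obtain ⟨hn2, hY2, h2V, hnn⟩ := hN₂
  have hlt : Y < N₂ := lt_of_le_of_ne hY2 fun h => hnn (by
    rw [← h, inf_eq_right.2 s.yx]; exact normalizer_eq_top_iff.2 s.yn)
  obtain ⟨N₁, hN₁, hN₁max⟩ := Set.exists_max_image
    {N : Subgroup X | N.Normal ∧ Y ≤ N ∧ N < N₂} (fun N => Nat.card N) (Set.toFinite _) ⟨Y, s.yn, le_rfl, hlt⟩
  obtain ⟨hn1, hY1, h12⟩ := hN₁
  haveI := hn1; haveI := hn2
  have hmax : ∀ N : Subgroup X, N.Normal → N₁ ≤ N → N ≤ N₂ → N = N₁ ∨ N = N₂ := by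
    intro N hN h1N hN2
    rcases hN2.lt_or_eq with hl | he
    · exact Or.inl (eq_of_le_of_card_ge h1N (hN₁max N ⟨hN, hY1.trans h1N, hl⟩)).symm
    · exact Or.inr he
  obtain ⟨Z, hZ⟩ : ∃ Z, Z = X₀ ⊓ N₁ := ⟨_, rfl⟩
  have hZn : Z.Normal := by
    rw [← normalizer_eq_top_iff, hZ]
    by_contra h
    exact (Set.Finite.card_lt_card (Set.toFinite _) (SetLike.coe_ssubset_coe.2 h12)).not_ge
      (hN₂min N₁ ⟨hn1, hY1, h12.le.trans h2V, h⟩)
  obtain ⟨B, hB⟩ : ∃ B, B = X₀ ⊓ N₂ := ⟨_, rfl⟩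
  rw [← hB] at hnn
  have hBN₁ : ¬ B ≤ N₁ := fun h => hnn (by
    have : B = Z := le_antisymm (hZ ▸ le_inf (hB ▸ inf_le_left) h) (hZ ▸ hB ▸ inf_le_inf_left _ h12.le)
    rw [this]; exact normalizer_eq_top_iff.2 hZn)
  have hMB : Mx ≤ normalizer (B : Set X) := by
    rw [hB]
    exact (le_inf s.mn le_normalizer_of_normal).trans inf_normalizer_le_normalizer_inf
  have hBM : normalizer (B : Set X) ≤ Mx := s.max _ hnn (s.pm.trans hMB) (s.am.trans hMB)
  obtain ⟨π, hπ⟩ : ∃ π, π = QuotientGroup.mk' N₁ := ⟨_, rfl⟩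
  have hker : π.ker = N₁ := hπ ▸ QuotientGroup.ker_mk' N₁
  have hπs : Function.Surjective π := hπ ▸ QuotientGroup.mk'_surjective N₁
  by_cases hnt : ¬ A ≤ (centralizer ((N₂.map π : Subgroup (X ⧸ N₁)) : Set (X ⧸ N₁))).comap π
  · rw [hπ] at hnt
    obtain ⟨hF, -⟩ := s.factor N₁ N₂ hn2 hY1 h12 h2V hmax hnt
    rw [← hπ] at hF
    haveI : (N₂.map π).Normal := Normal.map hn2 _ hπs
    obtain ⟨_, ⟨n, hn, rfl⟩, _, ⟨a, ha, rfl⟩, u, hu, _, ⟨e₁, he₁, rfl⟩, _, ⟨e₂, he₂, rfl⟩, hne, r1, r2, r3, r4⟩ :=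
      hF.torus hp (B.map π) (fun h => hBN₁ (by rwa [Subgroup.map_eq_bot_iff, hker] at h))
        (map_mono (hB ▸ inf_le_right)) (by
          rw [← commutator_eq_bot_iff_le_centralizer, ← map_commutator, Subgroup.map_eq_bot_iff, hker]
          exact (commutator_mono (hB ▸ inf_le_left) le_rfl).trans (s.xa.trans hY1))
        ((map_mono hMB).trans (le_normalizer_map π))
    rw [hB] at he₁
    refine ⟨N₁, N₂, hn1, hn2, h12.le, h2V, ?_, fun w hw => ?_, n, hn, a, ha, u, hu,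
      e₁, he₁.1, e₂, he₂, he₁.2, fun h => hne ?_, ?_, ?_, ?_, ?_⟩
    · exact (commutator_mono h2V h2V).trans (s.vc.trans hY1)
    · rw [← hker, MonoidHom.mem_ker, map_pow]
      exact hF.exp _ (mem_map_of_mem π hw)
    · rwa [← MonoidHom.mem_ker, hker]
    all_goals
      rw [← hker, MonoidHom.mem_ker]
      simp only [map_mul, map_inv, map_pow, mul_inv_rev, r1, r2, r3, r4]
      group
  -- the top factor is central: contradiction
  exfalso
  push Not at hnt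
  have hXtriv : ∀ x, x ∈ (centralizer ((N₂.map π : Subgroup (X ⧸ N₁)) : Set (X ⧸ N₁))).comap π := by
    haveI : (N₂.map π).Normal := Normal.map hn2 _ hπs
    obtain ⟨-, hPc⟩ := min_normal_facts (p := p) (N₂.map π) (P.map π) (hP := Normal.map s.pn _ hπs) (s.pP.map π)
      (Normal.map hn2 _ hπs) (map_mono (h2V.trans s.vp))
      (fun h => h12.not_ge (by rwa [Subgroup.map_eq_bot_iff, hker] at h))
      (fun N hN hle => by
        have hc2 : N.comap π ≤ N₂ := by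
          refine (comap_mono hle).trans ?_
          rw [comap_map_eq, hker, sup_eq_left.2 h12.le]
        rcases hmax _ (hN.comap π) (hker.ge.trans (ker_le_comap π N)) hc2 with h | h
        · left; rw [← map_comap_eq_self_of_surjective hπs N, h, Subgroup.map_eq_bot_iff, hker]
        · right; rw [← map_comap_eq_self_of_surjective hπs N, h])
      (by
        rintro _ ⟨v, hv, rfl⟩ _ ⟨w, hw, rfl⟩
        rw [← commutatorElement_eq_one_iff_mul_comm, ← map_commutatorElement, ← MonoidHom.mem_ker, hker]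
        exact hY1 (s.vc (commutator_mem_commutator (h2V hv) (h2V hw))))
    intro x
    exact (s.eq_top (map_le_iff_le_comap.1 hPc) hnt).ge (mem_top x)
  have hBtriv : ∀ q ∈ N₂, ∀ x, q⁻¹ * (x * q * x⁻¹) ∈ N₁ := by
    intro q hq x
    rw [← hker, MonoidHom.mem_ker]
    have h1 := mem_centralizer_iff.1 (hXtriv x) _ (mem_map_of_mem π hq)
    simp only [map_mul, map_inv]
    rw [← h1]
    group
  -- a largest normal subgroup below `N₁` modulo which `B` is not normalised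
  obtain ⟨N₃, hN₃, hN₃max⟩ := Set.exists_max_image
    {N : Subgroup X | N.Normal ∧ Z ≤ N ∧ N ≤ N₁ ∧ normalizer ((B ⊔ N : Subgroup X) : Set X) ≠ ⊤}
    (fun N => Nat.card N) (Set.toFinite _)
    ⟨Z, hZn, le_rfl, hZ ▸ inf_le_right, by rwa [sup_eq_left.2 (hZ ▸ hB ▸ inf_le_inf_left _ h12.le : Z ≤ B)]⟩
  obtain ⟨hn3, hZ3, h31, hnn3⟩ := hN₃
  haveI := hn3
  have hstabx : ∀ x, x ∈ normalizer ((B ⊔ N₁ : Subgroup X) : Set X) := by
    refine fun x => (le_normalizer_iff.2 (fun y _ w hw => ?_) : (⊤ : Subgroup X) ≤ _) (mem_top x)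
    rw [show y * w * y⁻¹ = w * (w⁻¹ * (y * w * y⁻¹)) by group]
    refine mul_mem hw (mem_sup_right (hBtriv w ?_ y))
    exact sup_le (hB ▸ inf_le_right) h12.le hw
  have h31lt : N₃ < N₁ := lt_of_le_of_ne h31 fun h => hnn3 (by
    rw [h]; exact eq_top_iff.2 fun x _ => hstabx x)
  obtain ⟨N₄, hN₄, hN₄min⟩ := Set.exists_min_image
    {N : Subgroup X | N.Normal ∧ N₃ < N ∧ N ≤ N₁} (fun N => Nat.card N) (Set.toFinite _) ⟨N₁, hn1, h31lt, le_rfl⟩
  obtain ⟨hn4, h34, h41⟩ := hN₄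
  haveI := hn4
  have hY3 : Y ≤ N₃ := (hZ ▸ le_inf s.yx hY1 : Y ≤ Z).trans hZ3
  have hmax4 : ∀ N : Subgroup X, N.Normal → N₃ ≤ N → N ≤ N₄ → N = N₃ ∨ N = N₄ := by
    intro N hN h3N hN4
    rcases h3N.lt_or_eq with hl | he
    · exact Or.inr (eq_of_le_of_card_ge hN4 (hN₄min N ⟨hN, hl, hN4.trans h41⟩))
    · exact Or.inl he.symm
  have hQn : normalizer ((B ⊔ N₄ : Subgroup X) : Set X) = ⊤ := by
    by_contra h
    exact (Set.Finite.card_lt_card (Set.toFinite _) (SetLike.coe_ssubset_coe.2 h34)).not_ge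
      (hN₃max N₄ ⟨hn4, hZ3.trans h34.le, h41, h⟩)
  obtain ⟨Bs, hBs⟩ : ∃ Bs, Bs = B ⊔ N₃ := ⟨_, rfl⟩
  rw [← hBs] at hnn3
  have hMBs : Mx ≤ normalizer (Bs : Set X) := by
    refine le_trans ?_ (hBs ▸ le_rfl : normalizer ((B ⊔ N₃ : Subgroup X) : Set X) ≤ _)
    refine fun g hg => mem_normalizer_iff_map_conj_eq.2 ?_
    show (B ⊔ N₃).map (MulAut.conj g).toMonoidHom = B ⊔ N₃
    rw [Subgroup.map_sup]
    exact congrArg₂ _ (mem_normalizer_iff_map_conj_eq.1 (hMB hg))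
      (mem_normalizer_iff_map_conj_eq.1 (le_normalizer_of_normal (mem_top g)))
  have hBsM : normalizer (Bs : Set X) ≤ Mx := s.max _ hnn3 (s.pm.trans hMBs) (s.am.trans hMBs)
  have hcap : ∀ w ∈ Bs, w ∈ N₁ → w ∈ N₃ := by
    intro w hw hw1
    rw [hBs] at hw
    obtain ⟨b, hb, c, hc, rfl⟩ := mem_sup_of_normal_right.1 hw
    have hb1 : b ∈ N₁ := by
      have := N₁.mul_mem hw1 (N₁.inv_mem (h31 hc)); rwa [mul_inv_cancel_right] at this
    exact N₃.mul_mem (hZ3 (hZ ▸ ⟨(hB.le hb).1, hb1⟩)) hc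
  have hBmove : ∀ b ∈ B, ∀ x, b⁻¹ * (x * b * x⁻¹) ∈ N₄ := by
    intro b hb x
    have h1 : x * b * x⁻¹ ∈ B ⊔ N₄ := (mem_normalizer_iff.1 (hQn.ge (mem_top x)) b).1 (mem_sup_left hb)
    have h2 : b⁻¹ * (x * b * x⁻¹) ∈ B ⊔ N₄ := mul_mem (inv_mem (mem_sup_left hb)) h1
    obtain ⟨c, hc, d, hd, hcd⟩ := mem_sup_of_normal_right.1 h2
    have hc1 : c ∈ N₁ := by
      have h3 := N₁.mul_mem (hBtriv b ((hB.le hb).2) x) (N₁.inv_mem (h41 hd))
      rwa [← hcd, mul_inv_cancel_right] at h3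
    rw [← hcd]
    exact N₄.mul_mem (h34.le (hZ3 (hZ ▸ ⟨(hB.le hc).1, hc1⟩))) hd
  obtain ⟨σ, hσ⟩ : ∃ σ, σ = QuotientGroup.mk' N₃ := ⟨_, rfl⟩
  have hkσ : σ.ker = N₃ := hσ ▸ QuotientGroup.ker_mk' N₃
  have hσs : Function.Surjective σ := hσ ▸ QuotientGroup.mk'_surjective N₃
  haveI : (N₄.map σ).Normal := Normal.map hn4 _ hσs
  -- `A` moves the lower factor
  have hnt4 : ¬ A ≤ (centralizer ((N₄.map σ : Subgroup (X ⧸ N₃)) : Set (X ⧸ N₃))).comap σ := by
    intro hA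
    obtain ⟨-, hPc⟩ := min_normal_facts (p := p) (N₄.map σ) (P.map σ) (hP := Normal.map s.pn _ hσs) (s.pP.map σ)
      (Normal.map hn4 _ hσs) (map_mono ((h41.trans (h12.le.trans h2V)).trans s.vp))
      (fun h => h34.not_ge (by rwa [Subgroup.map_eq_bot_iff, hkσ] at h))
      (fun N hN hle => by
        have hc2 : N.comap σ ≤ N₄ := by
          refine (comap_mono hle).trans ?_
          rw [comap_map_eq, hkσ, sup_eq_left.2 h34.le]
        rcases hmax4 _ (hN.comap σ) (hkσ.ge.trans (ker_le_comap σ N)) hc2 with h | h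
        · left; rw [← map_comap_eq_self_of_surjective hσs N, h, Subgroup.map_eq_bot_iff, hkσ]
        · right; rw [← map_comap_eq_self_of_surjective hσs N, h])
      (by
        rintro _ ⟨v, hv, rfl⟩ _ ⟨w, hw, rfl⟩
        rw [← commutatorElement_eq_one_iff_mul_comm, ← map_commutatorElement, ← MonoidHom.mem_ker, hkσ]
        exact hY3 (s.vc (commutator_mem_commutator (h2V (h12.le (h41 hv))) (h2V (h12.le (h41 hw))))))
    have hX4 := s.eq_top (map_le_iff_le_comap.1 hPc) hA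
    -- kernel on `(B N₄) / N₃`
    obtain ⟨Q, hQ⟩ : ∃ Q, Q = B ⊔ N₄ := ⟨_, rfl⟩
    haveI : Q.Normal := normalizer_eq_top_iff.1 (hQ ▸ hQn)
    haveI : (Q.map σ).Normal := Normal.map inferInstance _ hσs
    obtain ⟨K, hK⟩ : ∃ K, K = (centralizer ((Q.map σ : Subgroup (X ⧸ N₃)) : Set (X ⧸ N₃))).comap σ := ⟨_, rfl⟩
    haveI : K.Normal := hK ▸ Normal.comap inferInstance _
    have hKM : K ≤ Mx := by
      refine le_trans ?_ hBsM
      refine le_normalizer_iff.2 fun y hy w hw => ?_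
      rw [hK, mem_comap, mem_centralizer_iff] at hy
      have hwQ : w ∈ Q := by rw [hQ]; exact (sup_le_sup_left h34.le B) (hBs ▸ hw)
      have h1 := hy _ (mem_map_of_mem σ hwQ)
      have h2 : y * w * y⁻¹ * w⁻¹ ∈ N₃ := by
        rw [← hkσ, MonoidHom.mem_ker]
        simp only [map_mul, map_inv]
        rw [← h1]
        group
      have h3 := mul_mem (hBs ▸ mem_sup_right h2 : y * w * y⁻¹ * w⁻¹ ∈ Bs) hw
      rwa [inv_mul_cancel_right] at h3
    refine s.no_pquot hKM fun x => ?_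
    obtain ⟨j, hj⟩ := IsPGroup.iff_card.1 (s.pP.to_le ((h41.trans (h12.le.trans h2V)).trans s.vp))
    refine ⟨j, ?_⟩
    rw [hK, mem_comap, mem_centralizer_iff]
    rintro _ ⟨w, hw, rfl⟩
    rw [hQ] at hw
    obtain ⟨b, hb, c, hc, rfl⟩ := mem_sup_of_normal_right.1 hw
    have hR : ∀ r ∈ N₄, r⁻¹ * (x * r * x⁻¹) ∈ N₃ := by
      intro r hr
      rw [← hkσ, MonoidHom.mem_ker]
      simp only [map_mul, map_inv]
      rw [← mem_centralizer_iff.1 (hX4.ge (mem_top x)) _ (mem_map_of_mem σ hr)]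
      group
    have h1 := pow_card_fix (hBmove b hb x) hR
    have h2 := pow_card_fix (q := c) (R := N₄) (h34.le (hR c hc)) hR
    rw [hj, ← hkσ, MonoidHom.mem_ker] at h1 h2
    simp only [map_mul, map_inv, map_pow, inv_mul_eq_one] at h1 h2 ⊢
    rw [eq_mul_inv_iff_mul_eq] at h1 h2
    rw [mul_assoc, h2, ← mul_assoc, h1, mul_assoc]
  rw [hσ] at hnt4
  obtain ⟨hF, hP4⟩ := s.factor N₃ N₄ hn4 hY3 h34 (h41.trans (h12.le.trans h2V)) hmax4 hnt4
  rw [← hσ] at hF hP4 hnt4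
  -- a moved element of `B`
  obtain ⟨b, hb, x, hbx⟩ : ∃ b ∈ B, ∃ x, x * b * x⁻¹ ∉ Bs := by
    by_contra hc
    push Not at hc
    refine hnn3 (eq_top_iff.2 fun y _ => (le_normalizer_iff.2 (fun z _ w hw => ?_) : (⊤ : Subgroup X) ≤ _) (mem_top y))
    rw [hBs] at hw
    obtain ⟨c, hc', d, hd, rfl⟩ := mem_sup_of_normal_right.1 hw
    rw [show z * (c * d) * z⁻¹ = (z * c * z⁻¹) * (z * d * z⁻¹) by group]
    exact mul_mem (hc c hc' z) (hBs ▸ mem_sup_right (Normal.conj_mem inferInstance d hd z))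
  obtain ⟨g, hg⟩ := s.moved
  obtain ⟨wg, hwg⟩ : ∃ wg, wg = b⁻¹ * (g * b * g⁻¹) := ⟨_, rfl⟩
  have hσmove : ¬ (A.map σ).map (MulAut.conj (σ g)).toMonoidHom ≤ Mx.map σ := by
    intro h
    refine hg ?_
    rintro _ ⟨a, ha, rfl⟩
    obtain ⟨m, hm, hme⟩ := h ⟨σ a, mem_map_of_mem σ ha, rfl⟩
    have e : m⁻¹ * (g * a * g⁻¹) ∈ N₃ := by
      rw [← hkσ, MonoidHom.mem_ker, map_mul, map_inv, inv_mul_eq_one, hme]
      simp
    have := Mx.mul_mem hm ((h31.trans (h12.le.trans (h2V.trans (s.vp.trans s.pm)))) e)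
    rwa [mul_inv_cancel_left] at this
  obtain ⟨y, z, hy, hz, hyz, hyA, hzA⟩ := hF.decomp hσmove (w := σ wg) (mem_map_of_mem σ (hwg ▸ hBmove b hb g))
  -- `Mx` fixes `b`
  have hMb : ∀ m ∈ Mx, σ m * σ b * (σ m)⁻¹ = σ b := by
    intro m hm
    have h1 : b⁻¹ * (m * b * m⁻¹) ∈ N₃ := hcap _ (mul_mem (inv_mem (hBs ▸ mem_sup_left hb))
      ((mem_normalizer_iff.1 (hMBs hm) b).1 (hBs ▸ mem_sup_left hb))) (hBtriv b ((hB.le hb).2) m)
    rw [← hkσ, MonoidHom.mem_ker] at h1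
    simp only [map_mul, map_inv, inv_mul_eq_one] at h1
    exact h1.symm
  obtain ⟨St, hSt⟩ : ∃ St, St = (centralizer ({σ b * y} : Set (X ⧸ N₃))).comap σ := ⟨_, rfl⟩
  have hStmem : ∀ m, σ m * σ b * (σ m)⁻¹ = σ b → σ m * y = y * σ m → m ∈ St := by
    intro m h1 h2
    rw [hSt, mem_comap, mem_centralizer_singleton_iff]
    rw [mul_inv_eq_iff_eq_mul] at h1
    rw [← mul_assoc, h1, mul_assoc, h2, mul_assoc]
  have hP' : P ≤ St := fun q hq => hStmem q (hMb q (s.pm hq))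
    (mem_centralizer_iff.1 (hP4 hq) y hy).symm
  have hA' : A ≤ St := fun a ha => hStmem a (hMb a (s.am ha)) (hyA (σ a) (mem_map_of_mem σ ha))
  have hAg : A.map (MulAut.conj g).toMonoidHom ≤ St := by
    rintro _ ⟨a, ha, rfl⟩
    rw [hSt, mem_comap, mem_centralizer_singleton_iff]
    have h1 := hzA (σ a) (mem_map_of_mem σ ha)
    have h2 := hMb a (s.am ha)
    rw [mul_inv_eq_iff_eq_mul] at h2
    have hgy : σ b * y = σ g * σ b * (σ g)⁻¹ * z⁻¹ := by
      rw [eq_mul_inv_iff_mul_eq, mul_assoc, hyz, hwg]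
      simp only [map_mul, map_inv]
      group
    show σ (g * a * g⁻¹) * _ = _ * σ (g * a * g⁻¹)
    rw [hgy, map_mul, map_mul, map_inv]
    have h3 : σ g * σ a * (σ g)⁻¹ * z⁻¹ = z⁻¹ * (σ g * σ a * (σ g)⁻¹) :=
      ((show Commute _ z from h1).inv_right).eq
    calc σ g * σ a * (σ g)⁻¹ * (σ g * σ b * (σ g)⁻¹ * z⁻¹)
        = σ g * (σ a * σ b) * (σ g)⁻¹ * z⁻¹ := by group
      _ = σ g * σ b * (σ g)⁻¹ * (σ g * σ a * (σ g)⁻¹ * z⁻¹) := by rw [h2]; group
      _ = _ := by rw [h3]; group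
  have hSttop : St = ⊤ := by
    by_contra h
    exact hg (hAg.trans (s.max St h hP' hA'))
  have hfixc : ∀ m, σ m * (σ b * y) = σ b * y * σ m := fun m => by
    have := hSttop.ge (mem_top m)
    rwa [hSt, mem_comap, mem_centralizer_singleton_iff] at this
  -- a nontrivial fixed element
  obtain ⟨S, hS⟩ : ∃ S, S = N₄.map σ ⊓ centralizer ((Mx.map σ : Subgroup (X ⧸ N₃)) : Set (X ⧸ N₃)) := ⟨_, rfl⟩
  have hyS : y ∈ S := by
    refine hS ▸ ⟨hy, mem_centralizer_iff.2 ?_⟩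
    rintro _ ⟨m, hm, rfl⟩
    have h1 := hfixc m
    have h2 := hMb m hm
    rw [mul_inv_eq_iff_eq_mul] at h2
    rw [← mul_assoc, h2, mul_assoc, mul_assoc] at h1
    exact mul_left_cancel h1
  have hy1 : y ≠ 1 := by
    intro h
    refine hbx ?_
    have h1 := hfixc x
    rw [h, mul_one] at h1
    have h2 : b⁻¹ * (x * b * x⁻¹) ∈ N₃ := by
      rw [← hkσ, MonoidHom.mem_ker]
      simp only [map_mul, map_inv]
      rw [h1]
      group
    have := mul_mem (hBs ▸ mem_sup_left hb : b ∈ Bs) (hBs ▸ mem_sup_right h2 : b⁻¹ * (x * b * x⁻¹) ∈ Bs)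
    rwa [mul_inv_cancel_left] at this
  have hcentM : centralizer ((Mx.map σ : Subgroup (X ⧸ N₃)) : Set (X ⧸ N₃)) ≤ centralizer (A.map σ : Set (X ⧸ N₃)) :=
    centralizer_le (SetLike.coe_subset_coe.2 (map_mono s.am))
  obtain ⟨n, hn, a, -, u, hu, e₁, he₁, e₂, -, hne, r1, -, -, -⟩ :=
    hF.torus hp S (fun h => hy1 (by rw [h, mem_bot] at hyS; exact hyS)) (hS ▸ inf_le_left)
      (hS ▸ inf_le_right.trans hcentM)
      (le_normalizer_iff.2 fun m hm v hv => by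
        have e : m * v * m⁻¹ = v := by
          rw [mem_centralizer_iff.1 (hS.le hv).2 m hm, mul_inv_cancel_right]
        rwa [e])
  rw [mem_centralizer_iff.1 (hS.le he₁).2 n hn, mul_inv_cancel_right] at r1
  have hexp : e₁ ^ p = 1 := hF.exp _ (hS.le he₁).1
  have hpp : p.Prime := Fact.out
  have hu1 : (u : ZMod p).val = 1 := by
    have hord := orderOf_eq_prime hexp hne
    have h1 : e₁ ^ (u : ZMod p).val = e₁ ^ 1 := by rw [pow_one, ← r1]
    have h2 := pow_eq_pow_iff_modEq.1 h1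
    rw [hord] at h2
    rwa [Nat.ModEq, Nat.mod_eq_of_lt (ZMod.val_lt _), Nat.mod_eq_of_lt hpp.one_lt] at h2
  have hu' : u = 1 := Units.ext (by
    haveI : Fact (1 < p) := ⟨hpp.one_lt⟩
    exact ZMod.val_injective p (by rw [hu1, Units.val_one, ZMod.val_one]))
  have hcard : Nat.card (ZMod p)ˣ = 1 := by
    rw [← orderOf_eq_card_of_forall_mem_zpowers hu, hu', orderOf_one]
  rw [Nat.card_eq_fintype_card, ZMod.card_units] at hcard
  have := hpp.two_le
  omega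

end CfsgLib.LocalEven.QuadCore
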