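import Cfsg.Agent.Lib.Lie.Twisted.G2Torus
import Cfsg.Agent.Lib.LocalEven.QuadSylowTwo

/-!
# Two commuting involutions of the small Ree groups; no `SL(2, 3)` section

* `wordMat_ne_of_chk`: inequality of two evaluated words in characteristic `p`
* `exists_commuting_involutions_Ree`, `not_involves_SLTwo_Ree`
-/

set_option autoImplicit false
set_option linter.all false

namespace CfsgLib.LocalEven.ReeKlein

open CfsgLib.Lie.Chev CfsgLib.Lie.Chev.TwGroups Cfsg.Lie Subgroup
open scoped Matrix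

/-- some column of the two words differs modulo `p` -/
def chkWordNe (D : ChevalleyDatum) (p : ℕ) (w w' : List (ℕ × ℤ)) : Bool :=
  (List.range D.nroots).all (fun r => !Nat.beq (D.neg r) r &&
    (row D r).all (fun e => !Nat.beq e.1 r && !Nat.beq e.1 (D.neg r)) &&
    (entries D r).all fun e => Nat.blt e.2.2.1 (D.rank + D.nroots)) &&
  (w ++ w').all (fun a => Nat.blt a.1 D.nroots) &&
  (List.range (D.rank + D.nroots)).any fun c => (List.range (D.rank + D.nroots)).any fun j =>
    !decide (((runW D p w (unitV D c)).getD j 0 - (runW D p w' (unitV D c)).getD j 0) % (p : ℤ) = 0)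

variable {D : ChevalleyDatum} {K : Type*} [Field K] {p : ℕ}

theorem wordMat_ne_of_chk [CharP K p] {w w' : List (ℕ × ℤ)} (h : chkWordNe D p w w' = true) :
    D.wordMat K (castW K w) ≠ D.wordMat K (castW K w') := by
  simp only [chkWordNe, Bool.and_eq_true, List.all_eq_true, List.any_eq_true, List.mem_range, nat_blt_iff,
    Bool.not_eq_true', decide_eq_false_iff_not, List.mem_append] at h
  obtain ⟨⟨h1, h2⟩, c, hc, j, hj, h3⟩ := h
  have hp : ((p : ℤ) : K) = 0 := by simp
  have key : ∀ u : List (ℕ × ℤ), (∀ a ∈ u, a.1 < D.nroots) → ∀ v : List ℤ,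
      D.wordMat K (castW K u) *ᵥ vecOf D K v = vecOf D K (runW D p u v) := by
    intro u
    induction u with
    | nil => intro _ v; simp [ChevalleyDatum.wordMat, castW, runW]
    | cons a u ih =>
      intro hu v
      have hr := hu a List.mem_cons_self
      obtain ⟨⟨hn, hk⟩, hcl⟩ := h1 a.1 hr
      rw [← Bool.not_eq_true, nat_beq_iff] at hn
      show (D.x K a.1 (a.2 : K) * D.wordMat K (castW K u)) *ᵥ _ = _
      rw [← Matrix.mulVec_mulVec, ih (fun x hx => hu x (List.mem_cons_of_mem _ hx)), runW]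
      refine stepV_spec hp hr hn (fun e he => ?_) hcl a.2 _
      have := hk e he
      rw [← Bool.not_eq_true, nat_beq_iff, ← Bool.not_eq_true, nat_beq_iff] at this
      exact this
  intro heq
  obtain ⟨a, ha⟩ := exists_code D hj
  have e := congrFun (congrArg (· *ᵥ vecOf D K (unitV D c)) heq) a
  simp only [key w (fun x hx => h2 x (Or.inl hx)), key w' (fun x hx => h2 x (Or.inr hx)), vecOf, ha] at e
  exact h3 (Int.emod_eq_zero_of_dvd ((CharP.intCast_eq_zero_iff K p _).1 (by rw [Int.cast_sub, e, sub_self])))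

/-- the product of the reflections of two orthogonal roots, as a word over the prime field -/
def weylWordG2 : List (ℕ × ℤ) := [(8, -1), (10, -1), (3, 1), (1, 1), (8, -1), (10, -1)]

theorem chkKleinG2 :
    (chkWordEq chevG2 3 (weylWordG2 ++ weylWordG2) [] = true ∧
      chkWordEq chevG2 3 (negOneWordG2 ++ negOneWordG2) [] = true ∧
      chkWordEq chevG2 3 (negOneWordG2 ++ weylWordG2) (weylWordG2 ++ negOneWordG2) = true) ∧
    (chkWordNe chevG2 3 weylWordG2 [] = true ∧ chkWordNe chevG2 3 negOneWordG2 [] = true ∧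
      chkWordNe chevG2 3 negOneWordG2 weylWordG2 = true) := by decide +kernel

variable [Fintype K] {m : ℕ} (hK : Fintype.card K = 3 ^ (2 * m + 1))
include hK

theorem negOne_memG2 : wordG certG2 (castW K negOneWordG2) ∈ (twistedG2 K (3 ^ m)).subgroupOf (chevG2.group K) := by
  have h0 : (0 : K) ^ 3 ^ m = 0 := zero_pow (pow_ne_zero _ (by norm_num))
  have hz : ∀ r, xG certG2 K r (0 : K) = 1 := fun r => (chevRel certG2 K).xe_zero r
  have := mul_mem (mul_mem (mul_mem (xU_mem m (0 : K) 0 1) (xV_mem m (0 : K) (-1) 0)) (xU_mem m (-1 : K) 0 0))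
    (xV_mem m (0 : K) (-1) 1)
  simp only [xU, xV, xRee, h0, mul_zero, zero_add, add_zero, one_mul, neg_one_mul, neg_zero, hz, mul_one,
    one_pow, neg_powG2, neg_neg, zero_pow two_ne_zero, neg_sq] at this
  rw [← wordG_eq_of_chk certG2 (p := 3) (by exact_mod_cast three_eq_zero_G2 hK) chkTorusWordG2]
  simp only [torusWordG2, castW, List.map_cons, List.map_nil, wordG_cons, wordG_nil, mul_one, Int.cast_one,
    Int.cast_neg]
  simpa only [mul_assoc] using this

theorem weyl_memG2 : wordG certG2 (castW K weylWordG2) ∈ (twistedG2 K (3 ^ m)).subgroupOf (chevG2.group K) := by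
  have h0 : (0 : K) ^ 3 ^ m = 0 := zero_pow (pow_ne_zero _ (by norm_num))
  have hz : ∀ r, xG certG2 K r (0 : K) = 1 := fun r => (chevRel certG2 K).xe_zero r
  have := mul_mem (mul_mem (xU_mem m (0 : K) (-1) 0) (xV_mem m (0 : K) (-1) 0)) (xU_mem m (0 : K) (-1) 0)
  simp only [xU, xV, xRee, h0, mul_zero, zero_add, add_zero, one_mul, neg_one_mul, neg_zero, hz, mul_one,
    one_pow, neg_powG2, neg_neg, zero_pow two_ne_zero, neg_sq] at this
  simp only [weylWordG2, castW, List.map_cons, List.map_nil, wordG_cons, wordG_nil, mul_one, Int.cast_one,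
    Int.cast_neg]
  simpa only [mul_assoc] using this

theorem exists_commuting_involutions_Ree :
    ∃ a b : ↥(twistedG2 K (3 ^ m)), a * a = 1 ∧ b * b = 1 ∧ Commute a b ∧ a ≠ 1 ∧ b ≠ 1 ∧ a ≠ b := by
  obtain ⟨⟨c1, c2, c3⟩, n1, n2, n3⟩ := chkKleinG2
  haveI := charG2 hK
  have hp : (((3 : ℕ) : ℤ) : K) = 0 := by exact_mod_cast three_eq_zero_G2 hK
  have hmul : ∀ u w : List (ℕ × ℤ),
      chevG2.wordMat K (castW K u) * chevG2.wordMat K (castW K w) = chevG2.wordMat K (castW K (u ++ w)) :=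
    fun u w => by simp [ChevalleyDatum.wordMat, castW]
  let a : ↥(twistedG2 K (3 ^ m)) := ⟨_, mem_subgroupOf.1 (negOne_memG2 hK)⟩
  let b : ↥(twistedG2 K (3 ^ m)) := ⟨_, mem_subgroupOf.1 (weyl_memG2 hK)⟩
  have va : ((a : GL chevG2.Idx K) : Matrix chevG2.Idx chevG2.Idx K) = chevG2.wordMat K (castW K negOneWordG2) :=
    wordG_val certG2 _
  have vb : ((b : GL chevG2.Idx K) : Matrix chevG2.Idx chevG2.Idx K) = chevG2.wordMat K (castW K weylWordG2) :=
    wordG_val certG2 _
  have v1 : chevG2.wordMat K (castW K []) = 1 := by simp [ChevalleyDatum.wordMat, castW]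
  refine ⟨a, b, ?_, ?_, ?_, ?_, ?_, ?_⟩
  · refine Subtype.ext (Units.ext ?_)
    rw [Subgroup.coe_mul, Units.val_mul, va, hmul, wordMat_eq_of_chk hp c2, v1]; rfl
  · refine Subtype.ext (Units.ext ?_)
    rw [Subgroup.coe_mul, Units.val_mul, vb, hmul, wordMat_eq_of_chk hp c1, v1]; rfl
  · refine Subtype.ext (Units.ext ?_)
    rw [Subgroup.coe_mul, Subgroup.coe_mul, Units.val_mul, Units.val_mul, va, vb, hmul, hmul,
      wordMat_eq_of_chk hp c3]
  · intro h; exact wordMat_ne_of_chk n2 (by rw [← va, h, v1]; rfl)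
  · intro h; exact wordMat_ne_of_chk n1 (by rw [← vb, h, v1]; rfl)
  · intro h; exact wordMat_ne_of_chk n3 (by rw [← va, h, vb])

theorem padicValNat_card_Ree :
    ∃ r : ℕ, ¬ 2 ∣ r ∧ Nat.card ↥(twistedG2 K (3 ^ m)) = 2 ^ 3 * r := by
  rw [card_twG2 hK]
  obtain ⟨q, hq⟩ : ∃ q, q = 3 ^ (2 * m + 1) := ⟨_, rfl⟩
  obtain ⟨k, hk⟩ : ∃ k, q = 8 * k + 3 := ⟨q / 8, by
    have : q % 8 = 3 := by rw [hq, pow_succ, pow_mul, Nat.mul_mod, Nat.pow_mod]; norm_num
    omega⟩
  rw [← hq, hk, show 8 * k + 3 - 1 = 8 * k + 2 by omega]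
  refine ⟨(8 * k + 3) ^ 3 * (4 * k + 1) * (2 * (64 * k ^ 3 + 72 * k ^ 2 + 27 * k + 3) + 1), ?_, by ring⟩
  rw [Nat.prime_two.dvd_mul, Nat.prime_two.dvd_mul]
  rintro ((h | h) | h)
  · have := Nat.prime_two.dvd_of_dvd_pow h; omega
  · omega
  · omega

/-- the small Ree groups do not involve `SL(2, 3)` -/
theorem not_involves_SLTwo_Ree :
    ¬ Cfsg.Involves (Matrix.SpecialLinearGroup (Fin 2) (ZMod 3)) ↥(twistedG2 K (3 ^ m)) := by
  intro hinv
  haveI : Fact (Nat.Prime 3) := ⟨Nat.prime_three⟩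
  haveI : Fact (Nat.Prime 2) := ⟨Nat.prime_two⟩
  obtain ⟨Q, hQ, hQc⟩ := Transfer.exists_two_subgroup_SLTwo (p := 3) (by norm_num)
  obtain ⟨a, b, ha, hb, hab, ha1, hb1, hne⟩ := exists_commuting_involutions_Ree hK
  have hE : IsPGroup 2 ↥(closure ({a, b} : Set ↥(twistedG2 K (3 ^ m)))) := by
    rintro ⟨x, hx⟩
    refine ⟨1, Subtype.ext ?_⟩
    show x ^ 2 ^ 1 = 1
    suffices h : x * x = 1 ∧ Commute x a ∧ Commute x b by rw [pow_one, pow_two]; exact h.1
    induction hx using closure_induction with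
    | mem z hz =>
      rcases hz with rfl | rfl
      · exact ⟨ha, Commute.refl _, hab⟩
      · exact ⟨hb, hab.symm, Commute.refl _⟩
    | one => exact ⟨mul_one 1, Commute.one_left _, Commute.one_left _⟩
    | mul u v hu hv ihu ihv =>
      have hc : Commute u v := by
        clear ihv
        induction hv using closure_induction with
        | mem z hz => rcases hz with rfl | rfl; exacts [ihu.2.1, ihu.2.2]
        | one => exact Commute.one_right _
        | mul u v _ _ i1 i2 => exact i1.mul_right i2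
        | inv u _ i => exact i.inv_right
      refine ⟨?_, ihu.2.1.mul_left ihv.2.1, ihu.2.2.mul_left ihv.2.2⟩
      rw [show u * v * (u * v) = u * (v * u) * v by group, ← hc.eq, show u * (u * v) * v = u * u * (v * v) by group,
        ihu.1, ihv.1, one_mul]
    | inv u hu ih => exact ⟨by rw [← mul_inv_rev, ih.1, inv_one], ih.2.1.inv_left, ih.2.2.inv_left⟩
  obtain ⟨T, hT⟩ := hE.exists_le_sylow
  obtain ⟨r, hr, hcard⟩ := padicValNat_card_Ree hK
  have hT8 : Nat.card ↥(T : Subgroup ↥(twistedG2 K (3 ^ m))) = 8 := by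
    rw [T.card_eq_multiplicity, hcard, Nat.factorization_mul (by norm_num) (fun h => hr (by simp [h])),
      Finsupp.add_apply, Nat.Prime.factorization_pow Nat.prime_two, Finsupp.single_eq_same,
      Nat.factorization_eq_zero_of_not_dvd hr]
    norm_num
  exact QuadSylowTwo.not_involves_of_card_eight (p := 3) (by norm_num) hQ hQc hT8
    (a := (⟨a, hT (subset_closure (Or.inl rfl))⟩ : ↥(T : Subgroup _)))
    (b := ⟨b, hT (subset_closure (Or.inr rfl))⟩) (Subtype.ext ha) (Subtype.ext hb)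
    (fun h => ha1 (congrArg Subtype.val h)) (fun h => hb1 (congrArg Subtype.val h))
    (fun h => hne (congrArg Subtype.val h))
    (Fusion.involves_sylow hinv Q hQ T (MonoidHom.id _) Function.injective_id)

end CfsgLib.LocalEven.ReeKlein
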