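import Mathlib
import Cfsg.Agent.S2858
import Cfsg.Agent.Lib.LocalEven.Cores
import Cfsg.Agent.Lib.LocalEven.PpdAction
import Cfsg.Agent.Lib.LocalEven.SThree
import Cfsg.Agent.Lib.LocalEven.SFour
import Cfsg.Agent.Lib.PLocal.Comm

/-!
# Sims' theorem in local form

* `sims_local`
-/

set_option autoImplicit false

universe u

namespace CfsgLib.LocalEven.Sims

open Subgroup

variable {H : Type u} [Group H]

theorem pow_three_dvd {q : ℕ} (hq : q.Prime) (h5 : 5 ≤ q) :
    ∀ j, 0 < j → j < 3 → ¬ q ^ (0 + 1) ∣ 2 ^ j - 1 := by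
  intro j hj hj3 hd
  have hle := Nat.le_of_dvd (by interval_cases j <;> norm_num) hd
  interval_cases j <;> norm_num at hle <;> omega

/-- The data of the local form of Sims' theorem, inside the simple group. -/
structure Data (G S : Subgroup H) (t : H) (q : ℕ) (ψ : G →* DihedralGroup q) : Prop where
  surj : Function.Surjective ψ
  ker : ψ.ker = Cfsg.pCore 2 G
  isp : IsPGroup 2 S
  le : S ≤ G
  coreLe : Cfsg.pCoreOf 2 G ≤ S
  index : S.relIndex G = q
  relCore : (Cfsg.pCoreOf 2 G).relIndex S = 2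
  char : G ⊓ centralizer (Cfsg.pCoreOf 2 G : Set H) ≤ Cfsg.pCoreOf 2 G
  mem : t ∈ normalizer (S : Set H)
  notMem : t ∉ G
  coatom : IsCoatom G

variable {G S : Subgroup H} {t : H} {q : ℕ} {ψ : G →* DihedralGroup q}

/-- A subgroup normalised by `G` and `t` is normal. -/
theorem Data.normal_eq_bot [IsSimpleGroup H] (d : Data G S t q ψ) {X : Subgroup H} (hX : X ≤ G)
    (hG : G ≤ normalizer (X : Set H)) (ht : t ∈ normalizer (X : Set H)) : X = ⊥ := by
  have hN : normalizer (X : Set H) = ⊤ := by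
    rcases lt_or_eq_of_le hG with h | h
    · exact d.coatom.2 _ h
    · exact absurd (h ▸ ht) d.notMem
  rcases IsSimpleGroup.eq_bot_or_eq_top_of_normal X (normalizer_eq_top_iff.mp hN) with h | h
  · exact h
  · exact absurd (top_le_iff.mp (h ▸ hX)) d.coatom.1

theorem Data.maximal [Finite H] (d : Data G S t q ψ) (hq : q.Prime) {K : Subgroup H} (hSK : S ≤ K)
    (hKG : K ≤ G) : K = S ∨ K = G := by
  have h : S.relIndex K * K.relIndex G = q := d.index ▸ relIndex_mul_relIndex _ _ _ hSK hKG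
  rcases (Nat.dvd_prime hq).mp (Dvd.intro _ h) with h1 | h1
  · exact Or.inl (le_antisymm (relIndex_eq_one.mp h1) hSK)
  · rw [h1] at h
    exact Or.inr (le_antisymm hKG (relIndex_eq_one.mp (Nat.eq_of_mul_eq_mul_left hq.pos
      (h.trans (mul_one q).symm))))

theorem Data.inf_conj [Finite H] [IsSimpleGroup H] (d : Data G S t q ψ) (hq : q.Prime) :
    G ⊓ G.map (MulAut.conj t).toMonoidHom = S := by
  have hSt : S ≤ G.map (MulAut.conj t).toMonoidHom := by
    intro x hx
    refine ⟨t⁻¹ * x * t, d.le ?_, by simp [mul_assoc]⟩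
    exact (mem_normalizer_iff''.mp d.mem x).mp hx
  rcases d.maximal hq (le_inf d.le hSt) inf_le_left with h | h
  · exact h
  · exfalso
    have hle : G ≤ G.map (MulAut.conj t).toMonoidHom := inf_eq_left.mp h
    have heq : G = G.map (MulAut.conj t).toMonoidHom := Subgroup.eq_of_le_of_card_ge hle
      (Subgroup.card_map_of_injective (MulAut.conj t).injective).le
    have htN : t ∈ normalizer (G : Set H) := by
      refine mem_normalizer_iff.mpr fun x => ?_
      conv_rhs => rw [heq]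
      rw [mem_map_equiv, MulAut.conj_symm_apply]
      simp [mul_assoc]
    have hG := d.normal_eq_bot le_rfl le_normalizer htN
    have hi := d.index
    rw [hG, relIndex_bot_right] at hi
    exact hq.one_lt.ne hi

theorem Data.conj_sylow [Finite H] (d : Data G S t q ψ) :
    S.map (MulAut.conj t).toMonoidHom = S := by
  ext x
  rw [mem_map_equiv, MulAut.conj_symm_apply]
  exact (mem_normalizer_iff''.mp d.mem x).symm

theorem Data.exists_not_le [Finite H] [IsSimpleGroup H] (d : Data G S t q ψ) :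
    ∃ A : Subgroup H, A ≤ S ∧ Cfsg.IsElementaryAbelian 2 A ∧
      (∀ B : Subgroup H, B ≤ S → Cfsg.IsElementaryAbelian 2 B → Nat.card B ≤ Nat.card A) ∧
      ¬ A ≤ Cfsg.pCoreOf 2 G := by
  classical
  haveI : Fact (Nat.Prime 2) := ⟨Nat.prime_two⟩
  let fam : Set (Subgroup H) := {A | A ≤ S ∧ Cfsg.IsElementaryAbelian 2 A ∧
    ∀ B : Subgroup H, B ≤ S → Cfsg.IsElementaryAbelian 2 B → Nat.card B ≤ Nat.card A}
  by_contra hno
  push Not at hno
  have hfam : ∀ A ∈ fam, A ≤ Cfsg.pCoreOf 2 G := fun A hA => hno A hA.1 hA.2.1 hA.2.2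
  have hmap : ∀ (g : H) (A : Subgroup H), A ∈ fam →
      A.map (MulAut.conj g).toMonoidHom ≤ S → A.map (MulAut.conj g).toMonoidHom ∈ fam := by
    intro g A hA hS
    refine ⟨hS, ⟨?_, ?_⟩, fun B hB hBe => ?_⟩
    · haveI := hA.2.1.1
      exact Subgroup.map_isMulCommutative A _
    · rintro _ ⟨a, ha, rfl⟩
      rw [← map_pow, hA.2.1.2 a ha, map_one]
    · rw [Subgroup.card_map_of_injective (MulAut.conj g).injective]
      exact hA.2.2 B hB hBe
  have hnorm : ∀ g : H, (∀ A ∈ fam, A.map (MulAut.conj g).toMonoidHom ≤ S) →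
      g ∈ normalizer ((sSup fam : Subgroup H) : Set H) := by
    intro g hg
    have hle : (sSup fam).map (MulAut.conj g).toMonoidHom ≤ sSup fam := by
      rw [sSup_eq_iSup, Subgroup.map_iSup]
      refine iSup_le fun A => ?_
      rw [Subgroup.map_iSup]
      exact iSup_le fun hA => le_biSup id (hmap g A hA (hg A hA))
    have heq := Subgroup.eq_of_le_of_card_ge hle
      (Subgroup.card_map_of_injective (MulAut.conj g).injective).ge
    refine mem_normalizer_iff.mpr fun x => ?_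
    conv_rhs => rw [← heq]
    rw [mem_map_equiv, MulAut.conj_symm_apply]
    simp [mul_assoc]
  have hG : G ≤ normalizer ((sSup fam : Subgroup H) : Set H) := by
    intro g hg
    refine hnorm g fun A hA => le_trans (Subgroup.map_mono (hfam A hA)) ?_
    rintro _ ⟨x, ⟨y, hy, rfl⟩, rfl⟩
    refine d.coreLe ⟨⟨g, hg⟩ * y * ⟨g, hg⟩⁻¹, ?_, by simp⟩
    exact (pCore_normal).conj_mem y hy _
  have ht : t ∈ normalizer ((sSup fam : Subgroup H) : Set H) := by
    refine hnorm t fun A hA => (Subgroup.map_mono hA.1).trans d.conj_sylow.le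
  have hbot := d.normal_eq_bot (X := sSup fam) (sSup_le fun A hA => hA.1.trans d.le) hG ht
  -- but the family has a nontrivial member
  have hS2 : 2 ∣ Nat.card S := d.relCore ▸ relIndex_dvd_card _ _
  obtain ⟨a, ha⟩ := exists_prime_orderOf_dvd_card' 2 hS2
  have hB : Cfsg.IsElementaryAbelian 2 (zpowers (a : H)) := by
    refine ⟨inferInstance, fun x hx => ?_⟩
    obtain ⟨i, rfl⟩ := mem_zpowers_iff.mp hx
    rw [← zpow_natCast, ← zpow_mul, mul_comm, zpow_mul, zpow_natCast,
      show (a : H) ^ 2 = 1 by rw [← ha, ← Subgroup.orderOf_coe, pow_orderOf_eq_one], one_zpow]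
  haveI : Nonempty {A : Subgroup H // A ≤ S ∧ Cfsg.IsElementaryAbelian 2 A} :=
    ⟨⟨zpowers (a : H), zpowers_le.mpr a.2, hB⟩⟩
  obtain ⟨⟨A, hAmem⟩, hmax⟩ := Finite.exists_max
    (fun A : {A : Subgroup H // A ≤ S ∧ Cfsg.IsElementaryAbelian 2 A} => Nat.card A.1)
  have hAfam : A ∈ fam := ⟨hAmem.1, hAmem.2, fun B hB hBe => hmax ⟨B, hB, hBe⟩⟩
  have hcard := hAfam.2.2 _ (zpowers_le.mpr a.2) hB
  have hA1 : A = ⊥ := le_bot_iff.mp (hbot ▸ le_sSup hAfam)
  rw [Nat.card_zpowers, Subgroup.orderOf_coe, ha, hA1, Subgroup.card_bot] at hcard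
  omega

/-- The centre of `S` is not centralised by `G`. -/
theorem Data.omega_moved [Finite H] [IsSimpleGroup H] (d : Data G S t q ψ) :
    ¬ G ≤ centralizer ((Cfsg.omegaOne 2 (S ⊓ centralizer (S : Set H))) : Set H) := by
  haveI : Fact (Nat.Prime 2) := ⟨Nat.prime_two⟩
  intro hc
  set X := Cfsg.omegaOne 2 (S ⊓ centralizer (S : Set H))
  have hXS : X ≤ S := (closure_le _).mpr fun x hx => (mem_inf.mp hx.1).1
  have ht : t ∈ normalizer (X : Set H) := by
    refine mem_normalizer_iff.mpr fun x => ?_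
    have key : ∀ g : H, g ∈ normalizer (S : Set H) → ∀ y ∈ X, g * y * g⁻¹ ∈ X := by
      intro g hg y hy
      have hle : X.map (MulAut.conj g).toMonoidHom ≤ X := by
        show (Subgroup.closure _).map _ ≤ _
        rw [MonoidHom.map_closure]
        refine (closure_le _).mpr ?_
        rintro _ ⟨z, ⟨hz, hz2⟩, rfl⟩
        obtain ⟨hzS, hzC⟩ := mem_inf.mp hz
        refine subset_closure ⟨mem_inf.mpr ⟨(mem_normalizer_iff.mp hg z).mp hzS, ?_⟩,
          by rw [← map_pow, hz2, map_one]⟩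
        intro w hw
        have h1 := hzC (g⁻¹ * w * g) ((mem_normalizer_iff''.mp hg w).mp hw)
        show w * (g * z * g⁻¹) = g * z * g⁻¹ * w
        calc w * (g * z * g⁻¹) = g * ((g⁻¹ * w * g) * z) * g⁻¹ := by group
          _ = _ := by rw [h1]; group
      exact hle ⟨y, hy, rfl⟩
    refine ⟨fun hx => key t d.mem x hx, fun hx => ?_⟩
    simpa [mul_assoc] using key t⁻¹ (inv_mem d.mem) _ hx
  have hG : G ≤ normalizer (X : Set H) := fun g hg => mem_normalizer_iff.mpr fun x => by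
    constructor
    · intro hx
      have h1 : x * g = g * x := hc hg x hx
      rw [show g * x * g⁻¹ = x by rw [← h1]; group]; exact hx
    · intro hx
      have h1 : (g * x * g⁻¹) * g = g * (g * x * g⁻¹) := hc hg _ hx
      rw [show g * x * g⁻¹ * g = g * x by group] at h1
      rw [mul_left_cancel h1]; exact hx
  have hbot := d.normal_eq_bot (hXS.trans d.le) hG ht
  haveI : Nontrivial S := by
    rw [← Finite.one_lt_card_iff_nontrivial]
    have := Nat.le_of_dvd Nat.card_pos (d.relCore ▸ relIndex_dvd_card (Cfsg.pCoreOf 2 G) S)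
    omega
  haveI := d.isp.center_nontrivial
  obtain ⟨k, hk⟩ := IsPGroup.iff_card.mp (d.isp.to_subgroup (center S))
  have h2 : 2 ∣ Nat.card (center S) := by
    rw [hk]; refine dvd_pow_self 2 fun h0 => ?_
    rw [h0, pow_zero] at hk
    exact absurd hk (Finite.one_lt_card (α := center S)).ne'
  obtain ⟨z, hz⟩ := exists_prime_orderOf_dvd_card' 2 h2
  have hzX : ((z : S) : H) ∈ X := by
    refine subset_closure ⟨mem_inf.mpr ⟨(z : S).2, fun w hw => ?_⟩, ?_⟩
    · exact congrArg Subtype.val (mem_center_iff.mp z.2 ⟨w, hw⟩)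
    · have h := pow_orderOf_eq_one z
      rw [hz] at h
      exact congrArg (fun a : center S => ((a : S) : H)) h
  rw [hbot, mem_bot] at hzX
  have : z = 1 := Subtype.ext (Subtype.ext hzX)
  rw [this, orderOf_one] at hz
  exact absurd hz (by norm_num)

/-- The quotient has order six. -/
theorem Data.eq_three [Finite H] [IsSimpleGroup H] (d : Data G S t q ψ) (hq : q.Prime) (hq2 : q ≠ 2) :
    q = 3 := by
  classical
  haveI : Fact (Nat.Prime 2) := ⟨Nat.prime_two⟩
  haveI : Fact q.Prime := ⟨hq⟩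
  by_contra h3
  have h5 : 5 ≤ q := by
    have := hq.two_le
    rcases (show q = 4 ∨ 5 ≤ q by omega) with h | h
    · subst h; norm_num at hq
    · exact h
  obtain ⟨O, hO⟩ : ∃ O, O = Cfsg.pCoreOf 2 G := ⟨_, rfl⟩
  have hOS : O ≤ S := hO ▸ d.coreLe
  have hker : ∀ (x : H) (hx : x ∈ G), ψ ⟨x, hx⟩ = 1 ↔ x ∈ O := by
    intro x hx
    rw [← MonoidHom.mem_ker, d.ker, hO]
    exact ⟨fun h => ⟨_, h, rfl⟩, by rintro ⟨y, hy, rfl⟩; exact hy⟩
  -- the normal closure of `Ω₁(Z(S))`
  obtain ⟨gens, hgens⟩ : ∃ gens : Set H, gens = {y | ∃ g ∈ G, ∃ z : H, z ∈ S ∧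
      (∀ s ∈ S, s * z = z * s) ∧ z ^ 2 = 1 ∧ y = g * z * g⁻¹} := ⟨_, rfl⟩
  obtain ⟨Z, hZdef⟩ : ∃ Z, Z = Subgroup.closure gens := ⟨_, rfl⟩
  have hconjO : ∀ g ∈ G, ∀ x ∈ O, g * x * g⁻¹ ∈ O := by
    rw [hO]
    rintro g hg _ ⟨y, hy, rfl⟩
    exact ⟨⟨g, hg⟩ * y * ⟨g, hg⟩⁻¹, pCore_normal.conj_mem y hy _, by simp⟩
  have hgen : ∀ y ∈ gens, y ∈ O ∧ (∀ o ∈ O, o * y = y * o) ∧ y ^ 2 = 1 := by
    rw [hgens]
    rintro _ ⟨g, hg, z, hzS, hzc, hz2, rfl⟩
    have hzO : z ∈ O := hO ▸ d.char (mem_inf.mpr ⟨d.le hzS, fun w hw => hzc w (hOS (hO ▸ hw))⟩)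
    refine ⟨hconjO g hg z hzO, fun o ho => ?_, ?_⟩
    swap
    · calc (g * z * g⁻¹) ^ 2 = g * z ^ 2 * g⁻¹ := by rw [pow_two, pow_two]; group
        _ = 1 := by rw [hz2, mul_one, mul_inv_cancel]
    have h1 := hzc (g⁻¹ * o * g) (hOS (by simpa using hconjO g⁻¹ (inv_mem hg) o ho))
    calc o * (g * z * g⁻¹) = g * ((g⁻¹ * o * g) * z) * g⁻¹ := by group
      _ = _ := by rw [h1]; group
  have hZO : Z ≤ O := hZdef ▸ (closure_le _).mpr fun y hy => (hgen y hy).1
  have hZc : ∀ z ∈ Z, ∀ o ∈ O, o * z = z * o := by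
    intro z hz o ho
    rw [hZdef] at hz
    have : Subgroup.closure gens ≤ centralizer ({o} : Set H) :=
      (closure_le _).mpr fun y hy => mem_centralizer_singleton_iff.mpr ((hgen y hy).2.1 o ho).symm
    exact (mem_centralizer_singleton_iff.mp (this hz)).symm
  have hZ2 : ∀ z ∈ Z, z ^ 2 = 1 := by
    intro z hz
    have hz' : z ∈ Subgroup.closure gens := hZdef ▸ hz
    refine Subgroup.closure_induction (p := fun x _ => x ^ 2 = 1) (fun y hy => (hgen y hy).2.2)
      (one_pow 2) (fun x y hx hy h1 h2 => ?_) (fun x _ h1 => by rw [inv_pow, h1, inv_one]) hz'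
    have hxy : Commute x y := hZc y (hZdef ▸ hy) x (hZO (hZdef ▸ hx))
    rw [hxy.mul_pow, h1, h2, one_mul]
  have hGZ : G ≤ normalizer (Z : Set H) := by
    intro g hg
    have hle : ∀ g ∈ G, Z.map (MulAut.conj g).toMonoidHom ≤ Z := by
      intro g hg
      rw [hZdef, MonoidHom.map_closure, hgens]
      refine (closure_le _).mpr ?_
      rintro _ ⟨_, ⟨g', hg', z, hzS, hzc, hz2, rfl⟩, rfl⟩
      exact subset_closure ⟨g * g', mul_mem hg hg', z, hzS, hzc, hz2, by simp [mul_assoc]⟩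
    refine mem_normalizer_iff.mpr fun x => ⟨fun hx => hle g hg ⟨x, hx, rfl⟩, fun hx => ?_⟩
    simpa [mul_assoc] using hle g⁻¹ (inv_mem hg) ⟨_, hx, rfl⟩
  -- a maximal elementary abelian subgroup outside the core
  obtain ⟨A, hAS, hAe, hAmax, hAO⟩ := d.exists_not_le
  rw [← hO] at hAO
  obtain ⟨a, haA, haO⟩ := Set.not_subset.mp hAO
  have hA2 : Nat.card A ≤ 2 * Nat.card ↥(A ⊓ O) := by
    have h1 : (A ⊓ O).relIndex A ≤ 2 := by
      rw [inf_relIndex_left]
      refine le_trans (relIndex_le_of_le_right hAS ?_) (le_of_eq (hO ▸ d.relCore))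
      exact index_ne_zero_of_finite
    have h2 : Nat.card A = Nat.card ↥(A ⊓ O) * (A ⊓ O).relIndex A := by
      rw [← relIndex_bot_left, ← relIndex_bot_left, relIndex_mul_relIndex _ _ _ bot_le inf_le_left]
    rw [h2, mul_comm 2]
    exact Nat.mul_le_mul_left _ h1
  have hle : A ⊓ O ≤ normalizer (Z : Set H) := inf_le_left.trans ((hAS.trans d.le).trans hGZ)
  have hEe : Cfsg.IsElementaryAbelian 2 (A ⊓ O ⊔ Z) := by
    have hcomm : IsMulCommutative ↥(A ⊓ O ⊔ Z) := by
      rw [sup_eq_closure]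
      refine isMulCommutative_closure fun x hx y hy => ?_
      haveI := hAe.1
      rcases hx with hx | hx <;> rcases hy with hy | hy
      · exact congrArg Subtype.val
          (mul_comm' (⟨x, (mem_inf.mp hx).1⟩ : A) ⟨y, (mem_inf.mp hy).1⟩)
      · exact hZc y hy x (mem_inf.mp hx).2
      · exact (hZc x hx y (mem_inf.mp hy).2).symm
      · exact hZc y hy x (hZO hx)
    refine ⟨hcomm, fun e he => ?_⟩
    rw [sup_eq_closure] at he
    refine Subgroup.closure_induction (p := fun x _ => x ^ 2 = 1) (fun y hy => ?_) (one_pow 2)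
      (fun x y hx hy h1 h2 => ?_) (fun x _ h1 => by rw [inv_pow, h1, inv_one]) he
    · rcases hy with hy | hy
      · exact hAe.2 y (mem_inf.mp hy).1
      · exact hZ2 y hy
    · have hx' : x ∈ A ⊓ O ⊔ Z := by rwa [sup_eq_closure]
      have hy' : y ∈ A ⊓ O ⊔ Z := by rwa [sup_eq_closure]
      haveI := hcomm
      have hxy : Commute x y :=
        congrArg Subtype.val (mul_comm' (⟨x, hx'⟩ : ↥(A ⊓ O ⊔ Z)) ⟨y, hy'⟩)
      rw [hxy.mul_pow, h1, h2, one_mul]
  have hES : A ⊓ O ⊔ Z ≤ S := sup_le (inf_le_left.trans hAS) (hZO.trans hOS)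
  have hcard := CfsgLib.PLocal.card_sup_mul_card_inf (A ⊓ O) Z hle
  have hZA : Nat.card Z ≤ 2 * Nat.card ↥(A ⊓ O ⊓ Z) := by
    have hEle := hAmax _ hES hEe
    have hpos : 0 < Nat.card ↥(A ⊓ O) := Nat.card_pos
    refine Nat.le_of_mul_le_mul_left ?_ hpos
    calc Nat.card ↥(A ⊓ O) * Nat.card Z =
          Nat.card ↥(A ⊓ O ⊔ Z) * Nat.card ↥(A ⊓ O ⊓ Z) := hcard
      _ ≤ (2 * Nat.card ↥(A ⊓ O)) * Nat.card ↥(A ⊓ O ⊓ Z) :=
          Nat.mul_le_mul_right _ (hEle.trans hA2)
      _ = _ := by ring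
  have hidx : Ppd.fixIndex Z a ≤ 2 := by
    have hsub : A ⊓ O ⊓ Z ≤ Z ⊓ centralizer ({a} : Set H) := fun x hx => by
      refine mem_inf.mpr ⟨(mem_inf.mp hx).2, mem_centralizer_singleton_iff.mpr ?_⟩
      haveI := hAe.1
      exact congrArg Subtype.val
        (mul_comm' (⟨x, (mem_inf.mp (mem_inf.mp hx).1).1⟩ : A) ⟨a, haA⟩)
    refine (relIndex_le_of_le_left hsub index_ne_zero_of_finite).trans ?_
    refine Nat.le_of_mul_le_mul_left ?_ (Nat.card_pos (α := ↥(A ⊓ O ⊓ Z)))
    rw [← relIndex_bot_left, relIndex_mul_relIndex _ _ _ bot_le inf_le_right, relIndex_bot_left,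
      relIndex_bot_left, mul_comm]
    exact hZA
  -- a product of two conjugates of order divisible by `q`
  have haG : a ∈ G := d.le (hAS haA)
  obtain ⟨i, hi⟩ : ∃ i, ψ ⟨a, haG⟩ = DihedralGroup.sr i := by
    have hne : ψ ⟨a, haG⟩ ≠ 1 := fun h => haO ((hker a haG).mp h)
    have hsq : ψ ⟨a, haG⟩ * ψ ⟨a, haG⟩ = 1 := by
      rw [← map_mul, show (⟨a, haG⟩ : G) * ⟨a, haG⟩ = 1 from
        Subtype.ext (by simpa [pow_two] using hAe.2 a haA), map_one]
    generalize ψ ⟨a, haG⟩ = x at hne hsq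
    cases x with
    | r i =>
      exfalso
      rw [DihedralGroup.r_mul_r, DihedralGroup.one_def, DihedralGroup.r.injEq, ← two_mul] at hsq
      refine hne (by rw [DihedralGroup.one_def]; congr 1; refine (mul_eq_zero.mp hsq).resolve_left ?_
                     intro h2
                     exact hq2 ((Nat.prime_dvd_prime_iff_eq hq Nat.prime_two).mp
                       ((ZMod.natCast_eq_zero_iff 2 q).mp (by exact_mod_cast h2))))
    | sr i => exact ⟨i, rfl⟩
  obtain ⟨g, hg⟩ := d.surj (DihedralGroup.r 1)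
  obtain ⟨y, hy⟩ : ∃ y : G, y = ⟨a, haG⟩ * (g * ⟨a, haG⟩ * g⁻¹) := ⟨_, rfl⟩
  have hyψ : q ∣ orderOf y := by
    refine dvd_trans (dvd_of_eq ?_) (orderOf_map_dvd ψ y)
    symm
    refine orderOf_eq_prime ?_ ?_
    all_goals rw [hy, map_mul, map_mul, map_mul, map_inv, hi, hg]
    all_goals simp only [DihedralGroup.inv_r, DihedralGroup.r_mul_sr, DihedralGroup.sr_mul_r,
      DihedralGroup.sr_mul_sr]
    · rw [DihedralGroup.r_pow, ZMod.natCast_self, mul_zero, DihedralGroup.one_def]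
    · rw [DihedralGroup.one_def, Ne, DihedralGroup.r.injEq]
      intro h0
      have h2 : ((2 : ℕ) : ZMod q) = 0 := by push_cast; linear_combination -h0
      exact hq2 ((Nat.prime_dvd_prime_iff_eq hq Nat.prime_two).mp
        ((ZMod.natCast_eq_zero_iff 2 q).mp h2))
  obtain ⟨w, hwy, hw⟩ : ∃ w, (∃ k : ℕ, (y : H) ^ k = w) ∧ orderOf w = q ^ (0 + 1) := by
    refine ⟨_, ⟨orderOf y / q, rfl⟩, ?_⟩
    rw [← Subgroup.orderOf_coe] at hyψ ⊢
    rw [orderOf_pow_orderOf_div (orderOf_pos _).ne' hyψ, zero_add, pow_one]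
  obtain ⟨k, hk⟩ := hwy
  have hwG : w ∈ G := hk ▸ pow_mem y.2 k
  have hwZ : w ^ q ^ 0 ∉ centralizer (Z : Set H) := by
    rw [pow_zero, pow_one]
    intro hc
    have hwS : w ∉ S := fun hwS => by
      obtain ⟨j, hj⟩ := d.isp ⟨w, hwS⟩
      have h1 : w ^ 2 ^ j = 1 := congrArg Subtype.val hj
      have h2 := orderOf_dvd_iff_pow_eq_one.mpr h1
      rw [hw, zero_add, pow_one] at h2
      exact hq2 ((Nat.prime_dvd_prime_iff_eq hq Nat.prime_two).mp (hq.dvd_of_dvd_pow h2))
    refine d.omega_moved ?_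
    have hX : Cfsg.omegaOne 2 (S ⊓ centralizer (S : Set H)) ≤ Z := by
      refine (closure_le _).mpr fun z hz => ?_
      rw [hZdef, hgens]
      obtain ⟨hzS, hzC⟩ := mem_inf.mp hz.1
      exact subset_closure ⟨1, one_mem G, z, hzS, fun s hs => hzC s hs, hz.2, by simp⟩
    rcases d.maximal hq (le_sup_left : S ≤ S ⊔ zpowers w) (sup_le d.le (zpowers_le.mpr hwG))
      with h | h
    · exact absurd (h ▸ mem_sup_right (mem_zpowers w)) hwS
    · rw [← h]
      refine sup_le (fun s hs z hz => ?_) (zpowers_le.mpr fun z hz => hc z (hX hz))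
      have hz' : Cfsg.omegaOne 2 (S ⊓ centralizer (S : Set H)) ≤ centralizer ({s} : Set H) :=
        (closure_le _).mpr fun z hz => mem_centralizer_singleton_iff.mpr
          ((mem_inf.mp hz.1).2 s hs).symm
      exact mem_centralizer_singleton_iff.mp (hz' hz)
  have hlow := Ppd.pow_le_fixIndex_of_orderOf (p := 2) (V := Z)
    (d.isp.to_le (hZO.trans hOS)) (hGZ hwG) hq hq2 hw hwZ (pow_three_dvd hq h5)
  rw [pow_zero, pow_one] at hlow
  have hup : Ppd.fixIndex Z w ≤ 4 := by
    rw [← hk]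
    refine (Ppd.fixIndex_pow_le Z _ _).trans ?_
    rw [hy]
    simp only [Subgroup.coe_mul, Subgroup.coe_inv]
    refine (Ppd.fixIndex_mul_le Z _ _).trans ?_
    rw [Ppd.fixIndex_conj (hGZ g.2)]
    exact Nat.mul_le_mul hidx hidx
  omega

end CfsgLib.LocalEven.Sims

namespace CfsgLib.LocalEven.Sims

open Subgroup

variable {H : Type u} [Group H] [Finite H] [IsSimpleGroup H]

omit [IsSimpleGroup H] in
theorem pCore_le_sylow' {p : ℕ} [Fact p.Prime] {X : Type*} [Group X] [Finite X] (P : Sylow p X) :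
    Cfsg.pCore p X ≤ P := by
  obtain ⟨Q, hQ⟩ := (pCore_isPGroup (p := p) (G := X)).exists_le_sylow
  obtain ⟨g, hg⟩ := MulAction.exists_smul_eq X Q P
  intro x hx
  rw [← hg]
  exact ⟨g⁻¹ * x * g, hQ (by simpa using pCore_normal.conj_mem x hx g⁻¹), by simp [mul_assoc]⟩

/-- Sims' theorem in local form. -/
theorem sims_local (G : Subgroup H) (hG : IsCoatom G)
    (hchar : Subgroup.centralizer (Cfsg.pCore 2 ↥G : Set ↥G) ≤ Cfsg.pCore 2 ↥G) (S₀ : Sylow 2 ↥G)
    (hN : ¬ Subgroup.normalizer (((S₀ : Subgroup ↥G).map G.subtype : Subgroup H) : Set H) ≤ G)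
    (q : ℕ) (hq : q.Prime) [(Cfsg.pCore 2 ↥G).Normal]
    (hD : Nonempty (↥G ⧸ Cfsg.pCore 2 ↥G ≃* DihedralGroup q)) :
    Nonempty (↥G ≃* Equiv.Perm (Fin 4)) ∨
      Nonempty (↥G ≃* Equiv.Perm (Fin 4) × Multiplicative (ZMod 2)) := by
  classical
  haveI : Fact (Nat.Prime 2) := ⟨Nat.prime_two⟩
  obtain ⟨φ⟩ := hD
  obtain ⟨t, htN, htG⟩ := SetLike.not_le_iff_exists.mp hN
  have hO := pCore_isPGroup (p := 2) (G := G)
  have hquot : Nat.card (G ⧸ Cfsg.pCore 2 G) = 2 * q := by
    rw [Nat.card_congr φ.toEquiv, DihedralGroup.nat_card]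
  have hcardG : Nat.card G = 2 * q * Nat.card (Cfsg.pCore 2 G) := by
    rw [card_eq_card_quotient_mul_card_subgroup (Cfsg.pCore 2 G), hquot]
  obtain ⟨k, hk⟩ := IsPGroup.iff_card.mp hO
  have hq2 : q ≠ 2 := by
    rintro rfl
    have h2 : IsPGroup 2 G := IsPGroup.of_card (n := k + 2) (by rw [hcardG, hk]; ring)
    have h3 : Cfsg.pCore 2 G = ⊤ := top_le_iff.mp (le_pCore (h2.to_subgroup ⊤))
    rw [h3, Subgroup.card_top] at hcardG
    have := Nat.card_pos (α := G)
    omega
  have hS : Nat.card (S₀ : Subgroup G) = 2 ^ (k + 1) := by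
    rw [show Nat.card (S₀ : Subgroup G) = Nat.card S₀ from rfl, S₀.card_eq_multiplicity, hcardG, hk]
    congr 1
    rw [Nat.factorization_mul (by have := hq.pos; omega) (by positivity),
      Nat.factorization_mul two_ne_zero hq.ne_zero, Finsupp.add_apply, Finsupp.add_apply,
      Nat.Prime.factorization_self Nat.prime_two, Nat.factorization_pow, Finsupp.smul_apply,
      Nat.Prime.factorization_self Nat.prime_two,
      Nat.factorization_eq_zero_of_not_dvd (fun h => hq2
        ((Nat.prime_dvd_prime_iff_eq Nat.prime_two hq).mp h).symm)]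
    simp [add_comm]
  have hindex : (S₀ : Subgroup G).index = q := by
    have h := (S₀ : Subgroup G).card_mul_index
    rw [hS, hcardG, hk, show 2 * q * 2 ^ k = 2 ^ (k + 1) * q by ring] at h
    exact Nat.eq_of_mul_eq_mul_left (by positivity) h
  obtain ⟨S, hSdef⟩ : ∃ S, S = (S₀ : Subgroup G).map G.subtype := ⟨_, rfl⟩
  rw [← hSdef] at htN
  have hle : S ≤ G := hSdef ▸ map_subtype_le _
  have hcore : Cfsg.pCoreOf 2 G ≤ S := hSdef ▸ Subgroup.map_mono (pCore_le_sylow' S₀)
  obtain ⟨ψ, hψ⟩ : ∃ ψ : G →* DihedralGroup q,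
      ψ = φ.toMonoidHom.comp (QuotientGroup.mk' (Cfsg.pCore 2 G)) := ⟨_, rfl⟩
  have d : Data G S t q ψ :=
    { surj := hψ ▸ φ.surjective.comp (QuotientGroup.mk'_surjective _)
      ker := by
        rw [hψ, MonoidHom.ker_comp_of_injective _ _ φ.injective, QuotientGroup.ker_mk']
      isp := hSdef ▸ S₀.isPGroup'.map G.subtype
      le := hle
      coreLe := hcore
      index := by
        rw [hSdef, relIndex, subgroupOf, comap_map_eq_self_of_injective G.subtype_injective]
        exact hindex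
      relCore := by
        have h := relIndex_mul_relIndex (⊥ : Subgroup H) (Cfsg.pCoreOf 2 G) S bot_le hcore
        rw [relIndex_bot_left, relIndex_bot_left, hSdef, Cfsg.pCoreOf,
          card_map_of_injective G.subtype_injective, card_map_of_injective G.subtype_injective,
          hS, hk, pow_succ] at h
        rw [hSdef, Cfsg.pCoreOf]
        exact Nat.eq_of_mul_eq_mul_left (by positivity) h
      char := fun x hx => by
        obtain ⟨hxG, hxC⟩ := mem_inf.mp hx
        exact ⟨⟨x, hxG⟩, hchar fun y hy => Subtype.ext (hxC y ⟨y, hy, rfl⟩), rfl⟩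
      mem := htN
      notMem := htG
      coatom := hG }
  obtain rfl := d.eq_three hq hq2
  -- the amalgam
  obtain ⟨P, hP⟩ : ∃ P, P = G.map (MulAut.conj t).toMonoidHom := ⟨_, rfl⟩
  have hinf : G ⊓ P = S := hP ▸ d.inf_conj hq
  have hS' : S.map (MulAut.conj t).toMonoidHom = S := d.conj_sylow
  have hcoreP : Cfsg.pCoreOf 2 P = (Cfsg.pCoreOf 2 G).map (MulAut.conj t).toMonoidHom := by
    rw [hP, CfsgLib.SThree.pCoreOf_map]
  have hNP : ¬ P ≤ G := fun hle' => by
    have heq : P = G := Subgroup.eq_of_le_of_card_ge hle'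
      (by rw [hP, card_map_of_injective (MulAut.conj t).injective])
    rw [heq, inf_idem] at hinf
    have := d.index
    rw [← hinf, relIndex_self] at this
    omega
  have e₁ : ↥G ⧸ Cfsg.pCore 2 ↥G ≃* Equiv.Perm (Fin 3) :=
    φ.trans (Classical.choice CfsgLib.LocalEven.nonempty_perm_three_dihedral).symm
  let eP : ↥G ≃* ↥P := (G.equivMapOfInjective (MulAut.conj t).toMonoidHom
    (MulAut.conj t).injective).trans (MulEquiv.subgroupCongr hP.symm)
  have hsylow : ∀ X ∈ ({G, P} : Set (Subgroup H)), ∃ R : Sylow 2 ↥X,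
      (R : Subgroup ↥X) = S.subgroupOf X := by
    have base : ∀ X : Subgroup H, S ≤ X → Nat.card X = Nat.card G → ∃ R : Sylow 2 ↥X,
        (R : Subgroup ↥X) = S.subgroupOf X := by
      intro X hX hc
      refine ⟨Sylow.ofCard (S.subgroupOf X) ?_, rfl⟩
      rw [Nat.card_congr (subgroupOfEquivOfLe hX).toEquiv, hc, hSdef,
        card_map_of_injective G.subtype_injective]
      exact (show Nat.card S₀ = _ from S₀.card_eq_multiplicity)
    rintro X (rfl | rfl)
    · exact base _ hle rfl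
    · refine base _ (hinf ▸ inf_le_right) ?_
      rw [hP, card_map_of_injective (MulAut.conj t).injective]
  have h : Nonempty (↥G ≃* Equiv.Perm (Fin 4)) ∧ Nonempty (↥P ≃* Equiv.Perm (Fin 4)) ∨
      Nonempty (↥G ≃* Multiplicative (ZMod 2) × Equiv.Perm (Fin 4)) ∧
        Nonempty (↥P ≃* Multiplicative (ZMod 2) × Equiv.Perm (Fin 4)) := by
    refine Cfsg.Agent.S2858.result G P ?_ S hinf.symm ?_ hsylow ?_ ?_ ?_
    · exact hG.2 _ (lt_of_le_of_ne le_sup_left fun h => hNP (h ▸ le_sup_right))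
    · rintro X (rfl | rfl)
      · exact d.char
      · rw [hcoreP, hP, ← CfsgLib.SThree.centralizer_map,
          ← map_inf _ _ _ (MulAut.conj t).injective]
        exact Subgroup.map_mono d.char
    · intro N hN hle'
      rcases IsSimpleGroup.eq_bot_or_eq_top_of_normal N hN with h | h
      · exact h
      · exact absurd (top_le_iff.mp (h ▸ hle'.trans hle)) hG.1
    · rintro X (rfl | rfl)
      · exact ⟨e₁⟩
      · haveI : (Cfsg.pCore 2 ↥X).Normal := pCore_normal
        refine ⟨(QuotientGroup.congr _ _ eP ?_).symm.trans e₁⟩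
        exact CfsgLib.Core.map_equiv_pCore eP
    · rintro X (rfl | rfl)
      · exact d.omega_moved
      · intro hle'
        refine d.omega_moved fun g hg => ?_
        have hX := hle' (hP ▸ mem_map_of_mem (MulAut.conj t).toMonoidHom hg)
        have key : ∀ z ∈ Cfsg.omegaOne 2 (S ⊓ centralizer (S : Set H)),
            t * z * t⁻¹ ∈ Cfsg.omegaOne 2 (S ⊓ centralizer (S : Set H)) := by
          intro z hz
          have hle'' : (Cfsg.omegaOne 2 (S ⊓ centralizer (S : Set H))).map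
              (MulAut.conj t).toMonoidHom ≤ Cfsg.omegaOne 2 (S ⊓ centralizer (S : Set H)) := by
            unfold Cfsg.omegaOne
            rw [MonoidHom.map_closure]
            refine (closure_le _).mpr ?_
            rintro _ ⟨w, ⟨hw, hw2⟩, rfl⟩
            refine subset_closure ⟨?_, by rw [← map_pow, hw2, map_one]⟩
            have h1 := mem_map_of_mem (MulAut.conj t).toMonoidHom hw
            rwa [map_inf _ _ _ (MulAut.conj t).injective, CfsgLib.SThree.centralizer_map, hS'] at h1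
          exact hle'' ⟨z, hz, rfl⟩
        intro z hz
        have h1 : (t * z * t⁻¹) * (t * g * t⁻¹) = (t * g * t⁻¹) * (t * z * t⁻¹) :=
          hX _ (key z hz)
        calc z * g = t⁻¹ * ((t * z * t⁻¹) * (t * g * t⁻¹)) * t := by group
          _ = g * z := by rw [h1]; group
  rcases h with ⟨h1, -⟩ | ⟨⟨e⟩, -⟩
  · exact Or.inl h1
  · exact Or.inr ⟨e.trans MulEquiv.prodComm⟩

end CfsgLib.LocalEven.Sims
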