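import Cfsg.Prelude.Def_LocalStructure
import Cfsg.Agent.Lib.LocalEven.BasicProperty
import Cfsg.Agent.S2845

/-! Standing hypotheses: a large subgroup and a subgroup with the basic property. -/

namespace CfsgLib.LocalEven

open Subgroup

variable {G : Type*} [Group G] [Finite G] {p : ℕ} [Fact p.Prime]

theorem parabolic_of_large {Q : Subgroup G} (hQp : IsPGroup p Q) (hQ1 : Q ≠ ⊥) (hQ : Cfsg.IsLarge Q) :
    Cfsg.IsOfParabolicCharacteristic p G := (Cfsg.Agent.S2845.result Q hQp hQ1 hQ).2.2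

theorem le_dagger (hpar : Cfsg.IsOfParabolicCharacteristic p G) (S : Sylow p G) {M X : Subgroup G}
    (hSM : (S : Subgroup G) ≤ M) (hM : Cfsg.IsInFrakM p M) (hMX : M ≤ X) (hX : Cfsg.pCore p ↥X ≠ ⊥) :
    X ≤ M ⊔ centralizer (Cfsg.largestPReducedOf p M : Set G) := by
  obtain ⟨Z, hZ, hXZ⟩ := exists_max_charP (mem_charP_of_parabolic hpar S (hSM.trans hMX) hX)
  exact (hM.2.2.1 Z hZ (hMX.trans hXZ)) ▸ hXZ

theorem normalizer_le_dagger (hpar : Cfsg.IsOfParabolicCharacteristic p G) (S : Sylow p G)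
    {M I : Subgroup G} (hSM : (S : Subgroup G) ≤ M) (hM : Cfsg.IsInFrakM p M) (hI : IsPGroup p I)
    (hI1 : I ≠ ⊥) (hn : M ≤ normalizer (I : Set G)) :
    normalizer (I : Set G) ≤ M ⊔ centralizer (Cfsg.largestPReducedOf p M : Set G) :=
  le_dagger hpar S hSM hM hn (pCoreOf_ne_bot le_normalizer hI le_rfl hI1)

theorem dagger_le_normalizer (M : Subgroup G) :
    M ⊔ centralizer (Cfsg.largestPReducedOf p M : Set G) ≤
      normalizer (Cfsg.largestPReducedOf p M : Set G) :=
  sup_le (le_normalizer_largestOf M) (centralizer_le_normalizer _)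

theorem normalizer_largest_frakM (hpar : Cfsg.IsOfParabolicCharacteristic p G) (S : Sylow p G)
    {M : Subgroup G} (hSM : (S : Subgroup G) ≤ M) (hM : Cfsg.IsInFrakM p M) :
    normalizer (Cfsg.largestPReducedOf p M : Set G) =
      M ⊔ centralizer (Cfsg.largestPReducedOf p M : Set G) :=
  le_antisymm (normalizer_le_dagger hpar S hSM hM
    ((CfsgLib.LocalEvenB.isPGroup_pCoreOf M).to_le (largestOf_le_pCoreOf M))
    (largestOf_ne_bot S (sylow_ne_bot_of_mem S hSM hM.1) hSM (hasCharP_of_mem hM.1))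
    (le_normalizer_largestOf M)) (dagger_le_normalizer M)

theorem normalizer_pCoreOf_le (hpar : Cfsg.IsOfParabolicCharacteristic p G) (S : Sylow p G)
    {M : Subgroup G} (hSM : (S : Subgroup G) ≤ M) (hM : Cfsg.IsInFrakM p M) :
    normalizer (Cfsg.pCoreOf p M : Set G) ≤
      M ⊔ centralizer (Cfsg.largestPReducedOf p M : Set G) :=
  normalizer_le_dagger hpar S hSM hM (CfsgLib.LocalEvenB.isPGroup_pCoreOf M)
    (fun e => hM.1.1 ((map_eq_bot_iff_of_injective _ M.subtype_injective).mp e))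
    (CfsgLib.LocalEvenB.le_normalizer_pCoreOf M)

/-- `O_p(M) = C_T(Y_M)`. -/
theorem sylow_inf_centralizer_le (S : Sylow p G) {M : Subgroup G} (hSM : (S : Subgroup G) ≤ M)
    (hM : Cfsg.IsInFrakM p M) :
    (S : Subgroup G) ⊓ centralizer (Cfsg.largestPReducedOf p M : Set G) ≤ Cfsg.pCoreOf p M := by
  set C := centralizer (Cfsg.largestPReducedOf p M : Set G)
  haveI : (C.subgroupOf M).Normal :=
    normal_subgroupOf_of_le_normalizer ((le_normalizer_largestOf M).trans le_normalizer_centralizer)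
  have e : (C.subgroupOf M).map M.subtype = M ⊓ C := by rw [subgroupOf_map_subtype, inf_comm]
  have hcl : Cfsg.IsPClosed p ↥(C.subgroupOf M) :=
    (pClosed_iff_of_mulEquiv (((C.subgroupOf M).equivMapOfInjective M.subtype
      M.subtype_injective).trans (MulEquiv.subgroupCongr e))).mp hM.2.2.2.2.1
  intro x hx
  exact ⟨⟨x, hSM hx.1⟩, (pClosed_normal_iff _).mp hcl (S.subtype hSM)
    ⟨mem_subgroupOf.mpr hx.1, mem_subgroupOf.mpr hx.2⟩, rfl⟩

theorem inf_centralizer_le_pCoreOf (S : Sylow p G) {M : Subgroup G} (hSM : (S : Subgroup G) ≤ M)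
    (hM : Cfsg.IsInFrakM p M) {L : Subgroup G} (hLp : IsPGroup p L) (hOL : Cfsg.pCoreOf p M ≤ L)
    (hLd : L ≤ M ⊔ centralizer (Cfsg.largestPReducedOf p M : Set G)) :
    L ⊓ centralizer (Cfsg.largestPReducedOf p M : Set G) ≤ Cfsg.pCoreOf p M := by
  set C := centralizer (Cfsg.largestPReducedOf p M : Set G)
  set O := Cfsg.pCoreOf p M
  set Md := M ⊔ C
  have hSd : (S : Subgroup G) ≤ Md := hSM.trans le_sup_left
  obtain ⟨P, hP⟩ := (hLp.of_equiv (subgroupOfEquivOfLe hLd).symm :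
    IsPGroup p (L.subgroupOf Md)).exists_le_sylow
  obtain ⟨a, ha⟩ := sylow_conj (S.subtype hSd) P
  have hPa : L ≤ ((S : Subgroup G)).map (MulAut.conj (a : G)).toMonoidHom := by
    intro x hx
    have hx' : (⟨x, hLd hx⟩ : ↥Md) ∈ (S.subtype hSd : Subgroup ↥Md).map (MulAut.conj a).toMonoidHom :=
      ha.ge (hP hx)
    rw [mem_conj] at hx' ⊢
    exact hx'
  have haC : (a : G) ∈ normalizer (C : Set G) :=
    sup_le ((le_normalizer_largestOf M).trans le_normalizer_centralizer) le_normalizer a.2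
  have h1 : L ⊓ C ≤ O.map (MulAut.conj (a : G)).toMonoidHom := by
    refine le_trans ?_ (map_mono (sylow_inf_centralizer_le S hSM hM))
    rw [Subgroup.map_inf _ _ _ (MulAut.conj (a : G)).injective, mem_normalizer_conj_iff.mp haC]
    exact inf_le_inf_right C hPa
  exact (eq_of_le_of_card_ge ((le_inf hOL (pCoreOf_le_centralizer_largest M)).trans h1)
    (card_map_of_injective (MulAut.conj (a : G)).injective).le) ▸ h1

end CfsgLib.LocalEven
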