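import Cfsg.Agent.Lib.PLocal.SLTwo.Generation
import Mathlib.RingTheory.AdjoinRoot
import Mathlib.RingTheory.PrincipalIdealDomain
import Mathlib.FieldTheory.Finite.Basic
import Mathlib.LinearAlgebra.Prod

/-!
# A torus normalising a quadratic subgroup with a unique maximal overgroup

* `exists_torus`: a finite subgroup of `SL(2, K)` with `U 1` and `Lo θ` has an upper triangular
  element with diagonal a generator of the units of the prime field
* `exists_torus_pair`: in an irreducible quadratic module for such a group, a torus element and a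
  transvection on a plane meeting a given invariant subspace
-/

set_option autoImplicit false
set_option linter.all false

namespace CfsgLib.LocalEven.TorusPair

open Subgroup CfsgLib.PLocal.SLTwo Polynomial

variable {p : ℕ} [Fact p.Prime]

section Ring

variable {R : Type*} [CommRing R]

/-- `SL(2, R)` -/
abbrev SR (R : Type*) [CommRing R] := Matrix.SpecialLinearGroup (Fin 2) R

/-- upper unitriangular matrix over a ring -/
def UR (t : R) : SR R := ⟨!![1, t; 0, 1], by simp [Matrix.det_fin_two_of]⟩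

/-- lower unitriangular matrix over a ring -/
def LR (t : R) : SR R := ⟨!![1, 0; t, 1], by simp [Matrix.det_fin_two_of]⟩

@[simp] theorem UR00 (t : R) : (UR t).1 0 0 = 1 := rfl
@[simp] theorem UR01 (t : R) : (UR t).1 0 1 = t := rfl
@[simp] theorem UR10 (t : R) : (UR t).1 1 0 = 0 := rfl
@[simp] theorem UR11 (t : R) : (UR t).1 1 1 = 1 := rfl
@[simp] theorem LR00 (t : R) : (LR t).1 0 0 = 1 := rfl
@[simp] theorem LR01 (t : R) : (LR t).1 0 1 = 0 := rfl
@[simp] theorem LR10 (t : R) : (LR t).1 1 0 = t := rfl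
@[simp] theorem LR11 (t : R) : (LR t).1 1 1 = 1 := rfl

theorem r00 (x y : SR R) : (x * y).1 0 0 = x.1 0 0 * y.1 0 0 + x.1 0 1 * y.1 1 0 := by
  simp [Matrix.mul_apply, Fin.sum_univ_two]
theorem r01 (x y : SR R) : (x * y).1 0 1 = x.1 0 0 * y.1 0 1 + x.1 0 1 * y.1 1 1 := by
  simp [Matrix.mul_apply, Fin.sum_univ_two]
theorem r10 (x y : SR R) : (x * y).1 1 0 = x.1 1 0 * y.1 0 0 + x.1 1 1 * y.1 1 0 := by
  simp [Matrix.mul_apply, Fin.sum_univ_two]
theorem r11 (x y : SR R) : (x * y).1 1 1 = x.1 1 0 * y.1 0 1 + x.1 1 1 * y.1 1 1 := by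
  simp [Matrix.mul_apply, Fin.sum_univ_two]
theorem rdet (x : SR R) : x.1 0 0 * x.1 1 1 - x.1 0 1 * x.1 1 0 = 1 := by
  rw [← Matrix.det_fin_two]; exact x.2

end Ring

theorem exists_torus {K : Type*} [Field K] [CharP K p] (hp : p ≠ 2) (L : Subgroup (S2 K)) [Finite L]
    (hU : U 1 ∈ L) {θ : K} (hθ : θ ≠ 0) (hLo : Lo θ ∈ L) :
    ∃ x ∈ L, x.1 1 0 = 0 ∧ ∃ u : (ZMod p)ˣ, (∀ w, w ∈ zpowers u) ∧
      x.1 0 0 = ZMod.castHom dvd_rfl K (u : ZMod p) := by
  have hpp : p.Prime := Fact.out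
  obtain ⟨P, hP⟩ := exists_std_SLTwo hp L hU hLo (by simp [tr]; norm_num) (by simp [tr]; norm_num) (by
    intro h
    have := congrArg (fun M : S2 K => M.1 0 0) h
    simp only [m00, U00, U01, Lo00, Lo10, Lo01, U10] at this
    exact hθ (by linear_combination this))
  obtain ⟨k, hk⟩ := IsCyclic.exists_generator (α := (ZMod p)ˣ)
  let cst := ZMod.castHom (dvd_refl p) K
  let ψ : S2 (ZMod p) →* L := ((cj P).toMonoidHom.comp (ofZMod p)).codRestrict L hP
  have hψ : Function.Injective ψ := fun a b h =>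
    ofZMod_injective ((cj P).injective (congrArg Subtype.val h))
  have hone : U (1 : K) ≠ 1 := fun h => one_ne_zero (α := K) (by
    have := congrArg (fun M : S2 K => M.1 0 1) h
    simp at this)
  have hordp : (⟨U 1, hU⟩ : L) ^ p = 1 := Subtype.ext (by
    show U (1 : K) ^ p = 1
    rw [U_pow, CharP.cast_eq_zero K p, zero_mul, U_zero])
  obtain ⟨Pw, hPw⟩ := (IsPGroup.of_card (n := 1) (p := p) (G := ↥(zpowers (⟨U 1, hU⟩ : L))) (by
    rw [pow_one, Nat.card_zpowers]
    exact orderOf_eq_prime hordp fun h => hone (congrArg Subtype.val h))).exists_le_sylow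
  have hU1 : (⟨U 1, hU⟩ : L) ∈ (Pw : Subgroup L) := hPw (mem_zpowers _)
  -- the Sylow subgroup is unitriangular
  have hPU : ∀ y ∈ (Pw : Subgroup L), ∃ t, (y : S2 K) = U t := by
    haveI : Nontrivial (Pw : Subgroup L) :=
      ⟨⟨⟨_, hU1⟩, 1, fun h => hone (congrArg (fun z : (Pw : Subgroup L) => ((z : L) : S2 K)) h)⟩⟩
    haveI := Pw.2.center_nontrivial
    obtain ⟨z, hz⟩ := exists_ne (1 : Subgroup.center ↥(Pw : Subgroup L))
    have hsc : ∀ {y : ↥(Pw : Subgroup L)} {t : K}, t ≠ 0 → ((y : L) : S2 K) * U t = U t * ((y : L) : S2 K) →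
        ((y : L) : S2 K) = U (((y : L) : S2 K).1 0 1) := by
      intro y t ht hcm
      have h00 := congrArg (fun M : S2 K => M.1 0 0) hcm
      have h01 := congrArg (fun M : S2 K => M.1 0 1) hcm
      simp only [m00, m01, U00, U01, U10, U11] at h00 h01
      have hc : ((y : L) : S2 K).1 1 0 = 0 :=
        (mul_eq_zero.1 (show t * ((y : L) : S2 K).1 1 0 = 0 by linear_combination (-1 : K) * h00)).resolve_left ht
      have hd : ((y : L) : S2 K).1 0 0 = ((y : L) : S2 K).1 1 1 :=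
        mul_left_cancel₀ ht (by linear_combination h01)
      obtain ⟨j, hj⟩ := Pw.2 y
      have hj' : ((y : L) : S2 K) ^ p ^ j = 1 := congrArg (fun z : (Pw : Subgroup L) => ((z : L) : S2 K)) hj
      have hpow : ∀ n : ℕ, (((y : L) : S2 K) ^ n).1 1 0 = 0 ∧
          (((y : L) : S2 K) ^ n).1 0 0 = ((y : L) : S2 K).1 0 0 ^ n := by
        intro n
        induction n with
        | zero => simp
        | succ n ih => constructor <;> rw [pow_succ] <;> simp [m00, m10, ih.1, ih.2, hc, pow_succ]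
      have h1 := (hpow (p ^ j)).2
      rw [hj', one00] at h1
      have h2 : ((y : L) : S2 K).1 0 0 = 1 := by
        have h3 : (((y : L) : S2 K).1 0 0 - 1) ^ p ^ j = 0 := by
          rw [sub_pow_char_pow, one_pow, ← h1, sub_self]
        exact sub_eq_zero.1 (pow_eq_zero_iff (pow_ne_zero _ hpp.ne_zero) |>.1 h3)
      exact ext2 (by simp [h2]) rfl (by simp [hc]) (by simp [← hd, h2])
    have hzc : ∀ y : ↥(Pw : Subgroup L), ((y : L) : S2 K) * ((z.1 : L) : S2 K) = ((z.1 : L) : S2 K) * ((y : L) : S2 K) :=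
      fun y => congrArg (fun w : ↥(Pw : Subgroup L) => ((w : L) : S2 K)) (Subgroup.mem_center_iff.1 z.2 y)
    have hzU := hsc (y := z.1) (t := 1) one_ne_zero (hzc ⟨_, hU1⟩).symm
    have ht : ((z.1 : L) : S2 K).1 0 1 ≠ 0 := fun h => hz (by
      refine Subtype.ext (Subtype.ext (Subtype.ext ?_))
      rw [hzU, h, U_zero]; rfl)
    intro y hy
    exact ⟨_, hsc (y := ⟨y, hy⟩) ht (by rw [← hzU]; exact hzc ⟨y, hy⟩)⟩
  -- move the standard translation into it
  have hψp : ψ (U 1) ^ p = 1 := by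
    rw [← map_pow, U_pow, ZMod.natCast_self, zero_mul, U_zero, map_one]
  obtain ⟨P1, hP1⟩ := (IsPGroup.of_card (n := 1) (p := p) (G := ↥(zpowers (ψ (U 1)))) (by
    rw [pow_one, Nat.card_zpowers]
    refine orderOf_eq_prime hψp fun h => one_ne_zero (α := ZMod p) ?_
    have h' : U (1 : ZMod p) = 1 := hψ (h.trans (map_one ψ).symm)
    have := congrArg (fun M : S2 (ZMod p) => M.1 0 1) h'
    simpa using this)).exists_le_sylow
  obtain ⟨l, hl⟩ := MulAction.exists_smul_eq L P1 Pw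
  obtain ⟨s, hs⟩ := hPU (l * ψ (U 1) * l⁻¹) (hl ▸ ⟨_, hP1 (mem_zpowers _), rfl⟩)
  have hs0 : s ≠ 0 := by
    intro h
    rw [h, U_zero] at hs
    have h' : ψ (U 1) = 1 := by
      have : l * ψ (U 1) * l⁻¹ = 1 := Subtype.ext hs
      rwa [mul_inv_eq_one, mul_eq_left] at this
    have h'' : U (1 : ZMod p) = 1 := hψ (h'.trans (map_one ψ).symm)
    have := congrArg (fun M : S2 (ZMod p) => M.1 0 1) h''
    simp at this
  obtain ⟨D, d00, d01, d10, d11⟩ : ∃ D : S2 (ZMod p), D.1 0 0 = (k : ZMod p) ∧ D.1 0 1 = 0 ∧ D.1 1 0 = 0 ∧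
      D.1 1 1 = (k : ZMod p)⁻¹ :=
    ⟨⟨!![(k : ZMod p), 0; 0, (k : ZMod p)⁻¹], by
      rw [Matrix.det_fin_two_of, mul_inv_cancel₀ k.ne_zero]; ring⟩, rfl, rfl, rfl, rfl⟩
  have hDU : D * U 1 * D⁻¹ = U (1 : ZMod p) ^ ((k : ZMod p) * k).val := by
    rw [U_pow, mul_one, ZMod.natCast_zmod_val]
    refine ext2 ?_ ?_ ?_ ?_ <;>
      simp [d00, d01, d10, d11, m00, m01, m10, m11, i00, i01, i10, i11, mul_inv_cancel₀ k.ne_zero, inv_mul_cancel₀ k.ne_zero,
        -ZMod.inv_coe_unit]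
  obtain ⟨x, hx⟩ : ∃ x : L, x = l * ψ D * l⁻¹ := ⟨_, rfl⟩
  have hxU : (x : S2 K) * U s * (x : S2 K)⁻¹ = U s ^ ((k : ZMod p) * k).val := by
    rw [← hs, hx]
    have e : (l * ψ D * l⁻¹) * (l * ψ (U 1) * l⁻¹) * (l * ψ D * l⁻¹)⁻¹ =
        l * (ψ D * ψ (U 1) * (ψ D)⁻¹) * l⁻¹ := by group
    have e2 : (l * ψ D * l⁻¹) * (l * ψ (U 1) * l⁻¹) * (l * ψ D * l⁻¹)⁻¹ =
        (l * ψ (U 1) * l⁻¹) ^ ((k : ZMod p) * k).val := by
      rw [e, conj_pow, ← map_pow, ← hDU, map_mul, map_mul, map_inv]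
    exact congrArg Subtype.val e2
  have hc : (x : S2 K).1 1 0 = 0 := by
    have := congrArg (fun M : S2 K => M.1 1 0) hxU
    rw [U_pow] at this
    simp only [m10, m11, i00, i10, U00, U01, U10, U11] at this
    have h2 : (x : S2 K).1 1 0 * (x : S2 K).1 1 0 * s = 0 := by linear_combination (-1 : K) * this
    simpa [hs0] using h2
  have htr : (x : S2 K).1 0 0 + (x : S2 K).1 1 1 = cst k + cst ((k : ZMod p)⁻¹) := by
    have h1 : tr (x : S2 K) = tr (cj P (ofZMod p D)) := by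
      rw [hx]; exact tr_conj _ _
    rw [tr, tr] at h1
    rw [h1, cj_coe]
    have h2 := Matrix.trace_units_conj P (ofZMod (K := K) p D).1
    rw [Matrix.trace_fin_two, Matrix.trace_fin_two] at h2
    rw [h2, ofZMod_entry, ofZMod_entry, d00, d11]
  have hdet := det2 (x : S2 K)
  rw [hc, mul_zero, sub_zero] at hdet
  have hkk : cst k * cst ((k : ZMod p)⁻¹) = 1 := by rw [← map_mul, mul_inv_cancel₀ k.ne_zero, map_one]
  have hroot : ((x : S2 K).1 0 0 - cst k) * ((x : S2 K).1 0 0 - cst ((k : ZMod p)⁻¹)) = 0 := by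
    linear_combination (x : S2 K).1 0 0 * htr + hkk - hdet
  refine ⟨x, x.2, hc, ?_⟩
  rcases mul_eq_zero.1 hroot with h | h
  · exact ⟨k, hk, sub_eq_zero.1 h⟩
  · refine ⟨k⁻¹, fun w => by rw [zpowers_inv]; exact hk w, ?_⟩
    rw [sub_eq_zero.1 h, Units.val_inv_eq_inv_val]

/-- The fixed spaces of two conjugates of a quadratic subgroup span an irreducible module. -/
theorem exists_add_fixed {Γ : Type*} [Group Γ] [Finite Γ] {W : Type*} [AddCommGroup W] [Module (ZMod p) W]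
    [Finite W] (ρ : Γ →* Module.End (ZMod p) W)
    (hirr : ∀ S : Submodule (ZMod p) W, (∀ x, ∀ w ∈ S, ρ x w ∈ S) → S = ⊥ ∨ S = ⊤)
    (A : Subgroup Γ) (hquad : ∀ a ∈ A, ∀ a' ∈ A, (ρ a - 1) * (ρ a' - 1) = 0)
    (hnt : ∃ a ∈ A, ρ a ≠ 1) (g : Γ)
    (hgen : ∀ X' : Subgroup Γ, A ≤ X' → ρ.ker ≤ X' → A.map (MulAut.conj g).toMonoidHom ≤ X' → X' = ⊤)
    (w : W) : ∃ y z : W, y + z = w ∧ (∀ c ∈ A, ρ c y = y) ∧ ∀ c ∈ A, ρ (g * c * g⁻¹) z = z := by
  let WA : Submodule (ZMod p) W := ⨅ c : A, LinearMap.ker (ρ c - 1)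
  have hWA : ∀ {w}, w ∈ WA ↔ ∀ c ∈ A, ρ c w = w := fun {w} => by
    simp [WA, Submodule.mem_iInf, sub_eq_zero]
  let Wg : Submodule (ZMod p) W := WA.map (ρ g)
  have hcan : ∀ w, ρ g (ρ g⁻¹ w) = w := fun w => by rw [← Module.End.mul_apply, ← map_mul]; simp
  have hinjρ : ∀ x : Γ, Function.Injective (ρ x) := fun x u v h => by
    have := congrArg (ρ x⁻¹) h
    rwa [← Module.End.mul_apply, ← Module.End.mul_apply, ← map_mul, inv_mul_cancel, map_one] at this
  have hAim : ∀ c ∈ A, ∀ w, ρ c w - w ∈ WA := fun c hc w => hWA.2 fun c' hc' => by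
    have := LinearMap.congr_fun (hquad c' hc' c hc) w
    simpa [Module.End.mul_apply, sub_eq_zero] using this
  let St : Subgroup Γ :=
    { carrier := {x | (WA ⊔ Wg).map (ρ x) = WA ⊔ Wg}
      one_mem' := by simp [map_one, Module.End.one_eq_id]
      mul_mem' := fun {x y} hx hy => by
        show (WA ⊔ Wg).map (ρ (x * y)) = WA ⊔ Wg
        rw [map_mul, Module.End.mul_eq_comp, Submodule.map_comp, show (WA ⊔ Wg).map (ρ y) = _ from hy]
        exact hx
      inv_mem' := fun {x} hx => by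
        show (WA ⊔ Wg).map (ρ x⁻¹) = WA ⊔ Wg
        conv_lhs => rw [← show (WA ⊔ Wg).map (ρ x) = WA ⊔ Wg from hx]
        rw [← Submodule.map_comp, ← Module.End.mul_eq_comp, ← map_mul, inv_mul_cancel, map_one,
          Module.End.one_eq_id, Submodule.map_id] }
  have hstab : ∀ x : Γ, (∀ w ∈ WA ⊔ Wg, ρ x w ∈ WA ⊔ Wg) → x ∈ St := by
    intro x h
    show (WA ⊔ Wg).map (ρ x) = WA ⊔ Wg
    refine Submodule.eq_of_le_of_finrank_eq (Submodule.map_le_iff_le_comap.2 h) ?_
    exact (Submodule.equivMapOfInjective (ρ x) (hinjρ x) _).finrank_eq.symm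
  have htop : St = ⊤ := by
    refine hgen St (fun c hc => hstab c fun w hw => ?_) (fun x hx => hstab x fun w hw => ?_) ?_
    · rw [show ρ c w = (ρ c w - w) + w by abel]
      exact add_mem (Submodule.mem_sup_left (hAim c hc w)) hw
    · rwa [show ρ x = 1 from hx, Module.End.one_apply]
    · rintro _ ⟨c, hc, rfl⟩
      refine hstab _ fun w hw => ?_
      show ρ (g * c * g⁻¹) w ∈ _
      rw [show ρ (g * c * g⁻¹) w = (ρ (g * c * g⁻¹) w - w) + w by abel]
      refine add_mem (Submodule.mem_sup_right ⟨ρ c (ρ g⁻¹ w) - ρ g⁻¹ w, hAim c hc _, ?_⟩) hw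
      rw [map_sub, hcan, map_mul, map_mul]
      simp [Module.End.mul_apply]
  rcases hirr (WA ⊔ Wg) (fun x v hv =>
      (show (WA ⊔ Wg).map (ρ x) = WA ⊔ Wg from htop.ge (mem_top x)).le ⟨v, hv, rfl⟩) with h | h
  · obtain ⟨c, hc, hc'⟩ := hnt
    refine absurd (LinearMap.ext fun v => ?_) hc'
    have := h.le (Submodule.mem_sup_left (T := Wg) (hAim c hc v))
    simpa [sub_eq_zero] using (Submodule.mem_bot _).1 this
  · obtain ⟨y, hy, z, ⟨z', hz', rfl⟩, hyz⟩ := Submodule.mem_sup.1 (h.ge (Submodule.mem_top (x := w)))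
    refine ⟨y, ρ g z', hyz, hWA.1 hy, fun c hc => ?_⟩
    rw [← Module.End.mul_apply, ← map_mul, inv_mul_cancel_right, map_mul, Module.End.mul_apply,
      hWA.1 hz' c hc]

section Module

variable {Γ : Type*} [Group Γ] [Finite Γ] {W : Type*} [AddCommGroup W] [Module (ZMod p) W] [Finite W]

/-- In an irreducible quadratic module for a group with a unique maximal subgroup over the quadratic
subgroup, every invariant subspace of that maximal subgroup fixed by the quadratic subgroup meets a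
plane with a torus and a transvection. -/
theorem exists_torus_pair (hp : p ≠ 2) (ρ : Γ →* Module.End (ZMod p) W)
    (hirr : ∀ S : Submodule (ZMod p) W, (∀ x, ∀ w ∈ S, ρ x w ∈ S) → S = ⊥ ∨ S = ⊤)
    (A Mx : Subgroup Γ) (hquad : ∀ a ∈ A, ∀ a' ∈ A, (ρ a - 1) * (ρ a' - 1) = 0)
    (hnt : ∃ a ∈ A, ρ a ≠ 1)
    (hmax : ∀ X' : Subgroup Γ, X' ≠ ⊤ → A ≤ X' → ρ.ker ≤ X' → X' ≤ Mx)
    (hMtop : Mx ≠ ⊤) (hAM : A ≤ Mx) (hkM : ρ.ker ≤ Mx)
    (hg : ∃ g : Γ, ¬ A.map (MulAut.conj g).toMonoidHom ≤ Mx)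
    (S₀ : Submodule (ZMod p) W) (hS0 : S₀ ≠ ⊥) (hS0A : ∀ a ∈ A, ∀ s ∈ S₀, ρ a s = s)
    (hS0M : ∀ m ∈ Mx, ∀ s ∈ S₀, ρ m s ∈ S₀) :
    ∃ n ∈ Mx, ∃ a ∈ A, ∃ u : (ZMod p)ˣ, (∀ w, w ∈ zpowers u) ∧ ∃ e₁ ∈ S₀, ∃ e₂ : W, e₁ ≠ 0 ∧
      ρ n e₁ = (u : ZMod p) • e₁ ∧ ρ a e₁ = e₁ ∧ ρ a e₂ = e₂ + e₁ ∧
      ρ n e₂ = ((u : ZMod p)⁻¹) • e₂ := by
  classical
  have hpp : p.Prime := Fact.out
  obtain ⟨g, hg⟩ := hg
  have hcan : ∀ (x : Γ) (w : W), ρ x⁻¹ (ρ x w) = w ∧ ρ x (ρ x⁻¹ w) = w := fun x w => by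
    constructor <;> rw [← Module.End.mul_apply, ← map_mul] <;> simp
  have hinjρ : ∀ x : Γ, Function.Injective (ρ x) := fun x u v h => by
    rw [← (hcan x u).1, h, (hcan x v).1]
  -- stabilizers
  let stabS : Submodule (ZMod p) W → Subgroup Γ := fun S =>
    { carrier := {x | S.map (ρ x) = S}
      one_mem' := by simp [map_one, Module.End.one_eq_id]
      mul_mem' := fun {x y} hx hy => by
        show S.map (ρ (x * y)) = S
        rw [map_mul, Module.End.mul_eq_comp, Submodule.map_comp, show S.map (ρ y) = S from hy,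
          show S.map (ρ x) = S from hx]
      inv_mem' := fun {x} hx => by
        show S.map (ρ x⁻¹) = S
        conv_lhs => rw [← show S.map (ρ x) = S from hx]
        rw [← Submodule.map_comp, ← Module.End.mul_eq_comp, ← map_mul, inv_mul_cancel, map_one,
          Module.End.one_eq_id, Submodule.map_id] }
  have hstab : ∀ (S : Submodule (ZMod p) W) (x : Γ), (∀ w ∈ S, ρ x w ∈ S) → x ∈ stabS S := by
    intro S x h
    show S.map (ρ x) = S
    refine Submodule.eq_of_le_of_finrank_eq (Submodule.map_le_iff_le_comap.2 h) ?_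
    exact (Submodule.equivMapOfInjective (ρ x) (hinjρ x) S).finrank_eq.symm
  have hkfix : ∀ x ∈ ρ.ker, ∀ w, ρ x w = w := fun x hx w => by
    rw [show ρ x = 1 from hx, Module.End.one_apply]
  have hgen : ∀ X' : Subgroup Γ, A ≤ X' → ρ.ker ≤ X' →
      A.map (MulAut.conj g).toMonoidHom ≤ X' → X' = ⊤ := fun X' h1 h2 h3 => by
    by_contra h
    exact hg (h3.trans (hmax X' h h1 h2))
  have hself : normalizer (Mx : Set Γ) ≤ Mx := by
    refine hmax _ (fun h => ?_) (hAM.trans le_normalizer) (hkM.trans le_normalizer)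
    haveI : Mx.Normal := normalizer_eq_top_iff.1 h
    exact hg (by rintro _ ⟨a, ha, rfl⟩; exact Normal.conj_mem inferInstance a (hAM ha) g)
  obtain ⟨a, haA, haM⟩ : ∃ a ∈ A, g⁻¹ * a * g ∉ Mx := by
    by_contra h
    push Not at h
    have hle : A ≤ Mx.map (MulAut.conj g).toMonoidHom := fun a ha => ⟨_, h a ha, by simp [mul_assoc]⟩
    have hk' : ρ.ker ≤ Mx.map (MulAut.conj g).toMonoidHom := fun x hx =>
      ⟨g⁻¹ * x * g, hkM (by
        have := (MonoidHom.normal_ker ρ).conj_mem x hx g⁻¹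
        rwa [inv_inv] at this), by simp [mul_assoc]⟩
    have hne : Mx.map (MulAut.conj g).toMonoidHom ≠ ⊤ := fun h => hMtop
      (map_injective (f := (MulAut.conj g).toMonoidHom) (MulAut.conj g).injective
        (h.trans (Subgroup.map_top_of_surjective _ (MulAut.conj g).surjective).symm))
    have hgN : g ∈ normalizer (Mx : Set Γ) := mem_normalizer_iff_map_conj_eq.2
      (eq_of_le_of_card_ge (hmax _ hne hle hk') (card_map_of_injective (MulAut.conj g).injective).ge)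
    exact hg (by
      rintro _ ⟨a, ha, rfl⟩
      exact Mx.mul_mem (Mx.mul_mem (hself hgN) (hAM ha)) (Mx.inv_mem (hself hgN)))
  -- the fixed spaces
  let WA : Submodule (ZMod p) W := ⨅ c : A, LinearMap.ker (ρ c - 1)
  have hWA : ∀ {w}, w ∈ WA ↔ ∀ c ∈ A, ρ c w = w := fun {w} => by
    simp [WA, Submodule.mem_iInf, sub_eq_zero]
  let Wg : Submodule (ZMod p) W := WA.map (ρ g)
  have hWg : ∀ {w}, w ∈ Wg → ∀ c ∈ A, ρ (g * c * g⁻¹) w = w := by
    rintro _ ⟨w, hw, rfl⟩ c hc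
    rw [← Module.End.mul_apply, ← map_mul, inv_mul_cancel_right, map_mul, Module.End.mul_apply,
      hWA.1 hw c hc]
  have hdis : ∀ w, w ∈ WA → w ∈ Wg → w = 0 := by
    intro w h1 h2
    let St : Subgroup Γ :=
      { carrier := {x | ρ x w = w}
        one_mem' := by simp
        mul_mem' := fun {x y} hx hy => by
          show ρ (x * y) w = w
          rw [map_mul, Module.End.mul_apply, show ρ y w = w from hy, show ρ x w = w from hx]
        inv_mem' := fun {x} hx => by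
          show ρ x⁻¹ w = w
          conv_lhs => rw [← show ρ x w = w from hx]
          exact (hcan x w).1 }
    have htop : St = ⊤ := hgen St (fun c hc => hWA.1 h1 c hc) (fun x hx => hkfix x hx w)
      (by rintro _ ⟨c, hc, rfl⟩; exact hWg h2 c hc)
    rcases hirr (⨅ x : Γ, LinearMap.ker (ρ x - 1)) (fun x v hv => by
      have hv' : ∀ y : Γ, ρ y v = v := fun y => by
        have := Submodule.mem_iInf _ |>.1 hv y
        simpa [sub_eq_zero] using this
      rwa [hv']) with h | h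
    · have hw : w ∈ (⊥ : Submodule (ZMod p) W) := by
        rw [← h, Submodule.mem_iInf]
        intro x
        rw [LinearMap.mem_ker, LinearMap.sub_apply, Module.End.one_apply, sub_eq_zero]
        exact htop.ge (mem_top x)
      exact (Submodule.mem_bot _).1 hw
    · obtain ⟨c, -, hc⟩ := hnt
      refine absurd (LinearMap.ext fun v => ?_) hc
      have := Submodule.mem_iInf _ |>.1 (h.ge (Submodule.mem_top (x := v))) c
      simpa [sub_eq_zero] using this
  have hAim : ∀ c ∈ A, ∀ w, ρ c w - w ∈ WA := fun c hc w => hWA.2 fun c' hc' => by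
    have := LinearMap.congr_fun (hquad c' hc' c hc) w
    simpa [Module.End.mul_apply, sub_eq_zero] using this
  have hgim : ∀ c ∈ A, ∀ w, ρ (g * c * g⁻¹) w - w ∈ Wg := fun c hc w =>
    ⟨ρ c (ρ g⁻¹ w) - ρ g⁻¹ w, hAim c hc _, by
      rw [map_sub, (hcan g w).2, map_mul, map_mul]; simp [Module.End.mul_apply]⟩
  have hWAtop : WA ≠ ⊤ := fun h => by
    obtain ⟨c, hc, hc'⟩ := hnt
    exact hc' (LinearMap.ext fun w => hWA.1 (h.ge (Submodule.mem_top (x := w))) c hc)
  have hsum : WA ⊔ Wg = ⊤ := by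
    refine eq_top_iff.2 fun w _ => ?_
    obtain ⟨y, z, rfl, hy, hz⟩ := exists_add_fixed ρ hirr A hquad hnt g hgen w
    refine add_mem (Submodule.mem_sup_left (hWA.2 hy)) (Submodule.mem_sup_right ⟨ρ g⁻¹ z, hWA.2 fun c hc => ?_, (hcan g z).2⟩)
    conv_rhs => rw [← hz c hc]
    rw [← Module.End.mul_apply, ← Module.End.mul_apply, ← map_mul, ← map_mul]
    simp [mul_assoc]
  -- the element `a` has no further fixed points
  have hafix : ∀ w, ρ a w = w → w ∈ WA := by
    intro w hw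
    obtain ⟨y, hy, z, hz, rfl⟩ := Submodule.mem_sup.1 (hsum.ge (Submodule.mem_top (x := w)))
    have hz' : ρ a z = z := by
      rw [map_add, hWA.1 hy a haA] at hw
      exact add_left_cancel hw
    suffices z = 0 by rw [this, add_zero]; exact hy
    by_contra hz0
    let St : Subgroup Γ :=
      { carrier := {x | ρ (g * x * g⁻¹) z = z}
        one_mem' := by
          show ρ (g * 1 * g⁻¹) z = z
          rw [mul_one, mul_inv_cancel, map_one, Module.End.one_apply]
        mul_mem' := fun {x y} hx hy => by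
          show ρ (g * (x * y) * g⁻¹) z = z
          rw [show g * (x * y) * g⁻¹ = (g * x * g⁻¹) * (g * y * g⁻¹) by group, map_mul, Module.End.mul_apply,
            show ρ (g * y * g⁻¹) z = z from hy, show ρ (g * x * g⁻¹) z = z from hx]
        inv_mem' := fun {x} hx => by
          show ρ (g * x⁻¹ * g⁻¹) z = z
          conv_lhs => rw [← show ρ (g * x * g⁻¹) z = z from hx]
          rw [← Module.End.mul_apply, ← map_mul, show g * x⁻¹ * g⁻¹ * (g * x * g⁻¹) = 1 by group, map_one,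
            Module.End.one_apply] }
    by_cases htop : St = ⊤
    · have : z ∈ WA := hWA.2 fun c hc => by
        have := htop.ge (mem_top (g⁻¹ * c * g))
        have h' : ρ (g * (g⁻¹ * c * g) * g⁻¹) z = z := this
        rwa [show g * (g⁻¹ * c * g) * g⁻¹ = c by group] at h'
      exact hz0 (hdis z this hz)
    · refine haM (hmax St htop (fun c hc => hWg hz c hc) (fun x hx => hkfix _ ?_ z) ?_)
      · exact (MonoidHom.normal_ker ρ).conj_mem x hx g
      · show ρ (g * (g⁻¹ * a * g) * g⁻¹) z = z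
        rwa [show g * (g⁻¹ * a * g) * g⁻¹ = a by group]
  -- the two coordinate maps
  obtain ⟨b, hb⟩ : ∃ b, b = g * a * g⁻¹ := ⟨_, rfl⟩
  let α : ↥Wg →ₗ[ZMod p] ↥WA := ((ρ a - 1).domRestrict Wg).codRestrict WA fun w => by
    simpa using hAim a haA (w : W)
  have hα : Function.Injective α := by
    rw [← LinearMap.ker_eq_bot, Submodule.eq_bot_iff]
    intro w hw
    have h' : ρ a (w : W) = w := by
      have := congrArg Subtype.val (LinearMap.mem_ker.1 hw)
      simpa [α, sub_eq_zero] using this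
    exact Subtype.ext (hdis _ (hafix _ h') w.2)
  let eg : ↥WA ≃ₗ[ZMod p] ↥Wg := Submodule.equivMapOfInjective (ρ g) (hinjρ g) WA
  let αe : ↥Wg ≃ₗ[ZMod p] ↥WA := LinearEquiv.ofBijective α
    ⟨hα, (LinearMap.injective_iff_surjective_of_finrank_eq_finrank eg.finrank_eq.symm).1 hα⟩
  let β : ↥WA →ₗ[ZMod p] ↥Wg := ((ρ b - 1).domRestrict WA).codRestrict Wg fun w => by
    simpa [hb] using hgim a haA (w : W)
  let σ : ↥WA →ₗ[ZMod p] W := Wg.subtype.comp αe.symm.toLinearMap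
  have hσ : ∀ q : WA, ρ a (σ q) = σ q + q := by
    intro q
    have h1 : α (αe.symm q) = q := αe.apply_symm_apply q
    have h2 := congrArg Subtype.val h1
    simp only [α, LinearMap.codRestrict_apply, LinearMap.domRestrict_apply, LinearMap.sub_apply,
      Module.End.one_apply, sub_eq_iff_eq_add] at h2
    show ρ a (Wg.subtype (αe.symm q)) = Wg.subtype (αe.symm q) + q
    rw [Submodule.subtype_apply, h2, add_comm]
  let τ : Module.End (ZMod p) ↥WA := αe.toLinearMap.comp β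
  have hτ : Function.Injective τ := by
    refine αe.injective.comp (LinearMap.ker_eq_bot.1 ((Submodule.eq_bot_iff _).2 fun w hw => ?_))
    have h' : ρ b (w : W) = w := by
      have := congrArg Subtype.val (LinearMap.mem_ker.1 hw)
      simpa [β, sub_eq_zero] using this
    have h3 : ρ a (ρ g⁻¹ (w : W)) = ρ g⁻¹ (w : W) := by
      conv_rhs => rw [← h']
      rw [← Module.End.mul_apply, ← Module.End.mul_apply, ← map_mul, ← map_mul, hb]
      simp [mul_assoc]
    exact Subtype.ext (hdis _ w.2 ⟨_, hafix _ h3, (hcan g _).2⟩)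
  have hβσ : ∀ w : WA, ρ b (w : W) = (w : W) + σ (τ w) := by
    intro w
    show ρ b (w : W) = (w : W) + Wg.subtype (αe.symm (αe (β w)))
    rw [LinearEquiv.symm_apply_apply]
    simp [β]
  let φ : (↥WA × ↥WA) →ₗ[ZMod p] W := WA.subtype.coprod σ
  have hφ : Function.Bijective φ := by
    refine ⟨LinearMap.ker_eq_bot.1 ((Submodule.eq_bot_iff _).2 fun w hw => ?_), fun v => ?_⟩
    · have h' : (w.1 : W) + σ w.2 = 0 := by simpa [φ] using LinearMap.mem_ker.1 hw
      have h1 : σ w.2 = 0 := hdis _ (by rw [eq_neg_of_add_eq_zero_right h']; exact neg_mem w.1.2)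
        (αe.symm w.2).2
      have h2 : w.2 = 0 := αe.symm.injective (by rw [map_zero]; exact Subtype.ext h1)
      rw [h1, add_zero] at h'
      exact Prod.ext (Subtype.ext h') h2
    · obtain ⟨y, hy, z, hz, rfl⟩ := Submodule.mem_sup.1 (hsum.ge (Submodule.mem_top (x := v)))
      exact ⟨(⟨y, hy⟩, αe ⟨z, hz⟩), by simp [φ, σ]⟩
  let Φ := LinearEquiv.ofBijective φ hφ
  have hΦ : ∀ x y : WA, Φ (x, y) = (x : W) + σ y := fun x y => by simp [Φ, φ]
  -- matrices over polynomials in `τ`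
  let ev : (ZMod p)[X] →ₐ[ZMod p] Module.End (ZMod p) ↥WA := Polynomial.aeval τ
  let op : SR (ZMod p)[X] → Module.End (ZMod p) (↥WA × ↥WA) := fun x =>
    LinearMap.prod ((ev (x.1 0 0)).coprod (ev (x.1 0 1))) ((ev (x.1 1 0)).coprod (ev (x.1 1 1)))
  let Ψ : SR (ZMod p)[X] →* Module.End (ZMod p) W :=
    { toFun := fun x => Φ.toLinearMap.comp ((op x).comp Φ.symm.toLinearMap)
      map_one' := LinearMap.ext fun w => by
        simp [op]
      map_mul' := fun x y => LinearMap.ext fun w => by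
        simp [op, r00, r01, r10, r11, Module.End.mul_apply, map_add]
        exact ⟨by abel, by abel⟩ }
  have hΨ : ∀ x q r, Ψ x (Φ (q, r)) =
      Φ (ev (x.1 0 0) q + ev (x.1 0 1) r, ev (x.1 1 0) q + ev (x.1 1 1) r) := fun x q r => by
    simp [Ψ, op]
  have hΨU : Ψ (UR 1) = ρ a := LinearMap.ext fun w => by
    obtain ⟨⟨q, r⟩, rfl⟩ := Φ.surjective w
    rw [hΨ, hΦ, hΦ, map_add (ρ a), hWA.1 q.2 a haA, hσ]
    simp [ev]
    abel
  have hΨL : Ψ (LR X) = ρ b := LinearMap.ext fun w => by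
    obtain ⟨⟨q, r⟩, rfl⟩ := Φ.surjective w
    have hbσ : ρ b (σ r) = σ r := by rw [hb]; exact hWg (αe.symm r).2 a haA
    rw [hΨ, hΦ, hΦ, map_add (ρ b), hβσ, hbσ]
    simp [ev, σ]
    abel
  let Lp : Subgroup (SR (ZMod p)[X]) := closure {UR 1, LR X}
  have hlift : ∀ x ∈ Lp, ∃ γ : Γ, Ψ x = ρ γ := by
    intro x hx
    induction hx using Subgroup.closure_induction with
    | mem y hy =>
      rcases hy with rfl | rfl
      · exact ⟨a, hΨU⟩
      · exact ⟨b, hΨL⟩
    | one => exact ⟨1, by rw [map_one, map_one]⟩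
    | mul y z _ _ hy hz =>
      obtain ⟨γ, hγ⟩ := hy
      obtain ⟨δ, hδ⟩ := hz
      exact ⟨γ * δ, by rw [map_mul, map_mul, hγ, hδ]⟩
    | inv y _ hy =>
      obtain ⟨γ, hγ⟩ := hy
      refine ⟨γ⁻¹, left_inv_eq_right_inv (a := ρ γ) ?_ (by rw [← map_mul, mul_inv_cancel, map_one])⟩
      rw [← hγ, ← map_mul, inv_mul_cancel, map_one]
  -- an irreducible factor of the annihilator of a vector of `S₀`
  have hS0le : ∀ s ∈ S₀, s ∈ WA := fun s hs => hWA.2 fun c hc => hS0A c hc s hs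
  obtain ⟨s₀, hs₀, hs₀0⟩ := Submodule.exists_mem_ne_zero_of_ne_bot hS0
  obtain ⟨v₀, hv₀⟩ : ∃ v : WA, v = ⟨s₀, hS0le s₀ hs₀⟩ := ⟨_, rfl⟩
  have hv0ne : v₀ ≠ 0 := fun h => hs₀0 (by rw [hv₀] at h; exact congrArg Subtype.val h)
  let I : Ideal (ZMod p)[X] :=
    { carrier := {f | ev f v₀ = 0}
      add_mem' := fun {f g'} hf hg' => by simp [Set.mem_setOf_eq] at *; simp [hf, hg']
      zero_mem' := by simp
      smul_mem' := fun c f hf => by simp [Set.mem_setOf_eq] at *; simp [Module.End.mul_apply, hf] }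
  have hImem : ∀ f, f ∈ I ↔ ev f v₀ = 0 := fun f => Iff.rfl
  obtain ⟨fb, hfb⟩ : ∃ fb, fb = Submodule.IsPrincipal.generator I := ⟨_, rfl⟩
  have hdvd : ∀ f, f ∈ I ↔ fb ∣ f := fun f => by
    rw [hfb]; exact Submodule.IsPrincipal.mem_iff_generator_dvd I
  have hfb0 : fb ≠ 0 := by
    intro h
    have h1 : minpoly (ZMod p) τ ∈ I := by rw [hImem]; simp [ev, minpoly.aeval]
    rw [hdvd, h, zero_dvd_iff] at h1
    exact minpoly.ne_zero (Algebra.IsIntegral.isIntegral τ) h1
  have hfbu : ¬ IsUnit fb := fun h => hv0ne (by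
    have h1 := (hdvd 1).2 h.dvd
    rw [hImem] at h1
    simpa using h1)
  obtain ⟨q, hq, hqf⟩ := WfDvdMonoid.exists_irreducible_factor hfbu hfb0
  obtain ⟨hh, hfq⟩ := hqf
  have hhI : ev hh v₀ ≠ 0 := by
    intro h
    have h1 := (hdvd hh).1 ((hImem hh).2 h)
    have hhh : hh ≠ 0 := fun h0 => hfb0 (by rw [hfq, h0, mul_zero])
    rw [hfq] at h1
    exact hq.not_isUnit (isUnit_of_dvd_one ((mul_dvd_mul_iff_right hhh).1 (by rwa [one_mul])))
  have hkill : ∀ f, q ∣ f → ev f (ev hh v₀) = 0 := by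
    rintro _ ⟨f, rfl⟩
    rw [← Module.End.mul_apply, ← map_mul, ← hImem, hdvd, hfq]
    exact ⟨f, by ring⟩
  haveI : Fact (Irreducible q) := ⟨hq⟩
  haveI : Module.Finite (ZMod p) (AdjoinRoot q) := (AdjoinRoot.powerBasis hq.ne_zero).finite
  haveI : Finite (AdjoinRoot q) := Module.finite_of_finite (ZMod p)
  haveI : CharP (AdjoinRoot q) p := charP_of_injective_algebraMap (algebraMap (ZMod p) (AdjoinRoot q)).injective p
  let res : SR (ZMod p)[X] →* S2 (AdjoinRoot q) := Matrix.SpecialLinearGroup.map (AdjoinRoot.mk q)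
  have hres : ∀ (x : SR (ZMod p)[X]) (i j : Fin 2), (res x).1 i j = AdjoinRoot.mk q (x.1 i j) :=
    fun _ _ _ => rfl
  haveI : Finite (S2 (AdjoinRoot q)) := inferInstance
  have hθ : AdjoinRoot.mk q X ≠ 0 := by
    rw [Ne, AdjoinRoot.mk_eq_zero]
    intro h
    have h1 := hkill X h
    simp only [ev, aeval_X] at h1
    exact hhI (hτ (by rw [h1, map_zero]))
  obtain ⟨x₀, hx₀L, hx₀c, u, hu, hx₀u⟩ := exists_torus (p := p) hp (Lp.map res)
    ⟨UR 1, subset_closure (Or.inl rfl), by refine ext2 ?_ ?_ ?_ ?_ <;> simp [hres]⟩ hθ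
    ⟨LR X, subset_closure (Or.inr rfl), by refine ext2 ?_ ?_ ?_ ?_ <;> simp [hres]⟩
  obtain ⟨x₁, hx₁, hx₁₀⟩ := hx₀L
  obtain ⟨γ, hγ⟩ := hlift x₁ hx₁
  obtain ⟨e, m, hm, hord⟩ := Nat.exists_eq_pow_mul_and_not_dvd (orderOf_pos γ).ne' p hpp.ne_one
  obtain ⟨n, hn⟩ : ∃ n, n = γ ^ p ^ e := ⟨_, rfl⟩
  have hnm : n ^ m = 1 := by rw [hn, ← pow_mul, ← hord, pow_orderOf_eq_one]
  obtain ⟨x, hx⟩ : ∃ x, x = x₁ ^ p ^ e := ⟨_, rfl⟩
  have hnx : ρ n = Ψ x := by rw [hn, hx, map_pow, map_pow, hγ]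
  have hpow : ∀ i : ℕ, (x₀ ^ i).1 1 0 = 0 ∧ (x₀ ^ i).1 0 0 = x₀.1 0 0 ^ i := by
    intro i
    induction i with
    | zero => simp
    | succ i ih => constructor <;> rw [pow_succ] <;> simp [m00, m10, ih.1, ih.2, hx₀c, pow_succ]
  have hqc : q ∣ x.1 1 0 := by
    rw [← AdjoinRoot.mk_eq_zero, ← hres, hx, map_pow, hx₁₀]
    exact (hpow _).1
  have hqu : q ∣ x.1 0 0 - C (u : ZMod p) := by
    rw [← AdjoinRoot.mk_eq_zero, map_sub, ← hres, hx, map_pow, hx₁₀, (hpow _).2, hx₀u, ← map_pow,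
      ZMod.pow_card_pow, AdjoinRoot.mk_C, sub_eq_zero]
    exact RingHom.congr_fun (Subsingleton.elim (ZMod.castHom dvd_rfl (AdjoinRoot q)) (AdjoinRoot.of q)) _
  have hcomm : ∀ (f f' : (ZMod p)[X]) (v : WA), ev f (ev f' v) = ev f' (ev f v) := fun f f' v => by
    rw [← Module.End.mul_apply, ← map_mul, mul_comm, map_mul, Module.End.mul_apply]
  have hnval : ∀ v : WA, ρ n (v : W) = Φ (ev (x.1 0 0) v, ev (x.1 1 0) v) := fun v => by
    rw [hnx, show (v : W) = Φ (v, 0) by rw [hΦ, map_zero, add_zero], hΨ]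
    simp
  -- the element lies in the maximal subgroup
  have hnM : n ∈ Mx := by
    let E : Submodule (ZMod p) W := (LinearMap.ker (ev (x.1 1 0))).map WA.subtype
    have hEA : ∀ c ∈ A, c ∈ stabS E := fun c hc => hstab E c (by
      rintro _ ⟨v, hv, rfl⟩
      rw [Submodule.subtype_apply, hWA.1 v.2 c hc]
      exact ⟨v, hv, rfl⟩)
    refine hmax (stabS E) (fun htop => ?_) hEA (fun y hy => hstab E y fun w hw => by rwa [hkfix y hy])
      (hstab E n ?_)
    · rcases hirr E (fun y w hw => (show E.map (ρ y) = E from htop.ge (mem_top y)).le ⟨w, hw, rfl⟩) with h | h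
      · refine hhI (Subtype.ext ?_)
        exact (Submodule.mem_bot _).1 (h.le ⟨_, LinearMap.mem_ker.2 (hkill _ hqc), rfl⟩)
      · refine hWAtop (eq_top_iff.2 fun w _ => ?_)
        obtain ⟨v, -, hvw⟩ := h.ge (Submodule.mem_top (x := w))
        rw [← hvw]; exact v.2
    · rintro _ ⟨v, hv, rfl⟩
      refine ⟨ev (x.1 0 0) v, LinearMap.mem_ker.2 ?_, ?_⟩
      · rw [hcomm, LinearMap.mem_ker.1 hv, map_zero]
      · rw [Submodule.subtype_apply, Submodule.subtype_apply, hnval, LinearMap.mem_ker.1 hv, hΦ, map_zero, add_zero]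
  have hcS : ∀ v : WA, (v : W) ∈ S₀ → ev (x.1 1 0) v = 0 ∧ (ev (x.1 0 0) v : W) ∈ S₀ := by
    intro v hv
    have h1 := hS0M n hnM _ hv
    rw [hnval] at h1
    have h2 : (ev (x.1 1 0) v : WA) = 0 := by
      have h3 := hS0le _ h1
      have h4 : Φ (⟨_, h3⟩, 0) = Φ (ev (x.1 0 0) v, ev (x.1 1 0) v) := by rw [hΦ, map_zero, add_zero]
      exact (congrArg Prod.snd (Φ.injective h4)).symm
    rw [h2, hΦ, map_zero, add_zero] at h1
    exact ⟨h2, h1⟩
  -- an eigenvector in `S₀`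
  let Sw : Submodule (ZMod p) ↥WA := S₀.comap WA.subtype
  obtain ⟨d, hd⟩ : ∃ d, d = x.1 0 0 - C (u : ZMod p) := ⟨_, rfl⟩
  have hdS : ∀ v ∈ Sw, ev d v ∈ Sw := by
    intro v hv
    rw [hd, map_sub, LinearMap.sub_apply]
    refine Submodule.sub_mem _ (hcS v hv).2 ?_
    simpa [ev] using Submodule.smul_mem Sw (u : ZMod p) hv
  obtain ⟨v₁, hv₁S, hv₁0, hv₁d⟩ : ∃ v ∈ Sw, v ≠ 0 ∧ ev d v = 0 := by
    by_contra hcon
    push Not at hcon
    let f : Sw → Sw := fun v => ⟨ev d v, hdS v v.2⟩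
    have hf : Function.Injective f := fun v w h => by
      have h' : ev d ((v : WA) - w) = 0 := by
        rw [map_sub, sub_eq_zero]
        exact congrArg Subtype.val h
      by_contra hne
      exact hcon _ (Sw.sub_mem v.2 w.2) (sub_ne_zero.2 fun e => hne (Subtype.ext e)) h'
    let π : Equiv.Perm Sw := Equiv.ofBijective f (Finite.injective_iff_bijective.1 hf)
    have hiter : ∀ i : ℕ, ∀ v : Sw, (((π ^ i) v : Sw) : WA) = ev (d ^ i) v := by
      intro i
      induction i with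
      | zero => simp
      | succ i ih =>
        intro v
        rw [pow_succ, pow_succ, map_mul, Equiv.Perm.mul_apply, ih, Module.End.mul_apply]
        rfl
    have h1 := hiter (orderOf π) ⟨v₀, by rw [hv₀]; exact hs₀⟩
    rw [pow_orderOf_eq_one, Equiv.Perm.one_apply] at h1
    have h2 : fb ∣ d ^ orderOf π - 1 := by
      rw [← hdvd, hImem, map_sub, LinearMap.sub_apply, ← h1, map_one, Module.End.one_apply, sub_self]
    have h3 : q ∣ d ^ orderOf π := dvd_pow (hd ▸ hqu) (orderOf_pos π).ne'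
    have h4 : q ∣ 1 := by
      have := dvd_sub h3 ((Dvd.intro hh hfq.symm).trans h2)
      rwa [sub_sub_cancel] at this
    exact hq.not_isUnit (isUnit_of_dvd_one h4)
  have hu1 : ev (x.1 0 0) v₁ = (u : ZMod p) • v₁ := by
    rw [hd, map_sub, LinearMap.sub_apply, sub_eq_zero] at hv₁d
    rw [hv₁d]; simp [ev]
  have hc1 : ev (x.1 1 0) v₁ = 0 := (hcS v₁ hv₁S).1
  have hv1 : ev (x.1 1 1) v₁ = (u : ZMod p)⁻¹ • v₁ := by
    have h1 := LinearMap.congr_fun (congrArg ev (rdet x)) v₁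
    simp only [map_sub, map_mul, map_one, LinearMap.sub_apply, Module.End.mul_apply, Module.End.one_apply,
      hc1, map_zero, sub_zero] at h1
    rw [hcomm, hu1, map_smul] at h1
    conv_rhs => rw [← h1, smul_smul, inv_mul_cancel₀ u.ne_zero, one_smul]
  obtain ⟨w, hw⟩ : ∃ w, w = ev (x.1 0 1) v₁ := ⟨_, rfl⟩
  have huw : ρ n (w : W) = (u : ZMod p) • (w : W) := by
    rw [hnval, hΦ, hw, hcomm, hu1, hcomm (x.1 1 0), hc1, map_zero, map_zero, add_zero, map_smul,
      Submodule.coe_smul]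
  have hny : ρ n (σ v₁) = (w : W) + (u : ZMod p)⁻¹ • σ v₁ := by
    rw [hnx, show σ v₁ = Φ (0, v₁) by rw [hΦ, Submodule.coe_zero, zero_add], hΨ, hΦ]
    rw [map_zero, map_zero, zero_add, zero_add, hv1, ← hw, map_smul, hΦ, Submodule.coe_zero, zero_add]
  refine ⟨n, hnM, a, haA, u, hu, (v₁ : W), hv₁S, ?_⟩
  have hn1 : ρ n (v₁ : W) = (u : ZMod p) • (v₁ : W) := by
    rw [hnval, hΦ, hu1, hc1]; simp
  have hv1ne : (v₁ : W) ≠ 0 := fun h => hv₁0 (Subtype.ext h)
  by_cases huu : (u : ZMod p) = (u : ZMod p)⁻¹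
  · have hw0 : (w : W) = 0 := by
      have hsq : (u : ZMod p) * u = 1 := by
        conv_lhs => arg 2; rw [huu]
        exact mul_inv_cancel₀ u.ne_zero
      have h2 : ∀ i : ℕ, ρ (n ^ (2 * i)) (σ v₁) = σ v₁ + ((i : ZMod p) * (2 * u)) • (w : W) := by
        intro i
        induction i with
        | zero => simp
        | succ i ih =>
          rw [Nat.mul_succ, add_comm, pow_add, map_mul, Module.End.mul_apply, ih, pow_two, map_mul,
            Module.End.mul_apply]
          simp only [map_add, map_smul, hny, huw, ← huu, smul_add, smul_smul, hsq, one_smul]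
          push_cast
          match_scalars <;> first | ring1 | linear_combination ((i : ZMod p) * (2 * u)) * hsq | linear_combination (-((i : ZMod p) * (2 * u))) * hsq
      have h3 := h2 m
      rw [mul_comm 2 m, pow_mul, hnm, one_pow, map_one, Module.End.one_apply, left_eq_add] at h3
      refine (smul_eq_zero.1 h3).resolve_left (mul_ne_zero ?_ (mul_ne_zero ?_ u.ne_zero))
      · rw [Ne, ZMod.natCast_eq_zero_iff]; exact hm
      · intro h0
        exact hp ((Nat.prime_dvd_prime_iff_eq hpp Nat.prime_two).1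
          ((ZMod.natCast_eq_zero_iff 2 p).1 (by simpa using h0)))
    refine ⟨σ v₁, hv1ne, hn1, hWA.1 v₁.2 a haA, hσ v₁, ?_⟩
    rw [hny, hw0, zero_add]
  · obtain ⟨μ, hμ⟩ : ∃ μ, μ = ((u : ZMod p)⁻¹ - u)⁻¹ := ⟨_, rfl⟩
    have hμ' : μ * (u : ZMod p) + 1 = (u : ZMod p)⁻¹ * μ := by
      have h1 : μ * ((u : ZMod p)⁻¹ - u) = 1 := by
        rw [hμ]; exact inv_mul_cancel₀ (sub_ne_zero.2 (Ne.symm huu))
      linear_combination (-1 : ZMod p) * h1
    refine ⟨σ v₁ + μ • (w : W), hv1ne, hn1, hWA.1 v₁.2 a haA, ?_, ?_⟩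
    · rw [map_add, hσ, map_smul, hWA.1 w.2 a haA]; abel
    · rw [map_add, map_smul, hny, huw, smul_add, smul_smul, smul_smul, ← hμ', add_smul, one_smul]
      abel

end Module

end CfsgLib.LocalEven.TorusPair
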