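import Mathlib.GroupTheory.Transfer
import Cfsg.Agent.Lib.LocalEven.Basic

/-! A transfer criterion for the existence of a subgroup of index 2. -/

namespace CfsgLib.LocalEven

open scoped Classical in
/-- The sign character of a subgroup of index two. -/
noncomputable def signHom {S : Type*} [Group S] (M : Subgroup S) (h : M.index = 2) : S →* ℤˣ where
  toFun x := if x ∈ M then 1 else -1
  map_one' := by simp
  map_mul' x y := by
    by_cases hx : x ∈ M <;> by_cases hy : y ∈ M <;>
      simp [hx, hy, Subgroup.mul_mem_iff_of_index_two h]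

variable {G : Type*} [Group G] [Finite G]

theorem exists_index_two_of_central_involution (S : Sylow 2 G) (z : G) (hzS : z ∈ (S : Subgroup G))
    (hz2 : z ^ 2 = 1) (hcent : ∀ s ∈ (S : Subgroup G), s * z = z * s)
    (M : Subgroup ↥(S : Subgroup G)) (hM : M.index = 2) (hzM : (⟨z, hzS⟩ : ↥(S : Subgroup G)) ∉ M)
    (hN : ∀ n ∈ Subgroup.normalizer ((S : Subgroup G) : Set G), n * z * n⁻¹ = z) :
    ∃ H : Subgroup G, H.Normal ∧ H.index = 2 ∧ z ∉ H := by
  classical
  let P : Subgroup G := S
  let φ : ↥P →* ℤˣ := signHom M hM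
  let σ : G →* ℤˣ := φ.transfer
  have hφz : φ ⟨z, hzS⟩ = -1 := by simp [φ, signHom, hzM]
  haveI := Fintype.ofFinite (G ⧸ P)
  let f : G ⧸ P → ℤˣ := fun q => if h : q.out⁻¹ * z * q.out ∈ P then φ ⟨_, h⟩ else 1
  let Fix : Type _ := {q : G ⧸ P // z • q = q}
  have hfix : ∀ g : G, z • (g : G ⧸ P) = g ↔ g⁻¹ * z * g ∈ P := by
    intro g
    change ((z * g : G) : G ⧸ P) = g ↔ _
    rw [eq_comm, QuotientGroup.eq, mul_assoc]
  have hout : ∀ q : G ⧸ P, z • q = q → q.out⁻¹ * z * q.out ∈ P := fun q hq => by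
    rw [← hfix, QuotientGroup.out_eq']; exact hq
  have hsz : σ z = ∏ q : Fix, f q.1 := by
    haveI := Fintype.ofFinite (Quotient (MulAction.orbitRel (Subgroup.zpowers z) (G ⧸ P)))
    rw [show σ z = _ from MonoidHom.transfer_eq_prod_quotient_orbitRel_zpowers_quot φ z]
    let O := Quotient (MulAction.orbitRel (Subgroup.zpowers z) (G ⧸ P))
    have hper : ∀ q : O, Function.minimalPeriod (z • ·) q.out = 1 ∨
        Function.minimalPeriod (z • ·) q.out = 2 := by
      intro q
      have hp : Function.IsPeriodicPt (z • ·) 2 q.out := by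
        show z • z • q.out = q.out
        rw [smul_smul, ← pow_two, hz2, one_smul]
      rcases (Nat.dvd_prime Nat.prime_two).mp hp.minimalPeriod_dvd with h | h <;> simp [h]
    have hper1 : ∀ x : G ⧸ P, Function.minimalPeriod (z • ·) x = 1 ↔ z • x = x := fun x =>
      Function.minimalPeriod_eq_one_iff_isFixedPt
    symm
    refine Finset.prod_bij_ne_one (fun q _ _ => (Quotient.mk'' q.1 : O)) (by simp) ?_ ?_ ?_
    · rintro ⟨a, ha⟩ _ _ ⟨b, hb⟩ _ _ hab
      obtain ⟨⟨w, hw⟩, hwab⟩ := (Quotient.eq''.mp hab : a ∈ MulAction.orbit (Subgroup.zpowers z) b)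
      obtain ⟨k, rfl⟩ := Subgroup.mem_zpowers_iff.mp hw
      refine Subtype.ext ?_
      rw [← hwab]
      show z ^ k • b = b
      exact (MulAction.mem_stabilizer_iff.mp (Subgroup.zpow_mem _ (MulAction.mem_stabilizer_iff.mpr hb) k))
    · intro q _ hq
      rcases hper q with h | h
      · have hzq : z • q.out = q.out := (hper1 _).mp h
        refine ⟨⟨q.out, hzq⟩, Finset.mem_univ _, ?_, Quotient.out_eq' q⟩
        simp only [f, dif_pos (hout _ hzq)]
        intro h1
        apply hq
        rw [← h1]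
        congr 1
        apply Subtype.ext
        simp [h]
      · exact absurd (by
          have : (⟨_, QuotientGroup.out_conj_pow_minimalPeriod_mem P z q.out⟩ : ↥P) = 1 := by
            apply Subtype.ext
            simp [h, hz2]
          rw [this, map_one]) hq
    · rintro ⟨a, ha⟩ _ _
      have hq : (Quotient.mk'' a : O).out = a := by
        obtain ⟨⟨w, hw⟩, hwa⟩ := (Quotient.exact' (Quotient.out_eq' (Quotient.mk'' a : O)) :
          (Quotient.mk'' a : O).out ∈ MulAction.orbit (Subgroup.zpowers z) a)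
        obtain ⟨k, rfl⟩ := Subgroup.mem_zpowers_iff.mp hw
        rw [← hwa]
        show z ^ k • a = a
        exact (MulAction.mem_stabilizer_iff.mp (Subgroup.zpow_mem _ (MulAction.mem_stabilizer_iff.mpr ha) k))
      simp only [f, dif_pos (hout _ ha)]
      congr 1
      apply Subtype.ext
      simp [hq, (hper1 a).mpr ha]
  -- the value is constant on the orbits of `P`
  have hf : ∀ (g : G) (h : g⁻¹ * z * g ∈ P), f (g : G ⧸ P) = φ ⟨_, h⟩ := by
    intro g h
    obtain ⟨k, hk⟩ := QuotientGroup.mk_out_eq_mul P g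
    have e : (g : G ⧸ P).out⁻¹ * z * (g : G ⧸ P).out = (k : G)⁻¹ * (g⁻¹ * z * g) * k := by
      rw [hk]; group
    have hm : (g : G ⧸ P).out⁻¹ * z * (g : G ⧸ P).out ∈ P :=
      e ▸ mul_mem (mul_mem (inv_mem k.2) h) k.2
    simp only [f, dif_pos hm]
    have : (⟨_, hm⟩ : ↥P) = k⁻¹ * ⟨_, h⟩ * k := Subtype.ext (by simpa using e)
    rw [this, map_mul, map_mul, map_inv]
    exact inv_mul_cancel_comm _ _
  let F : SubMulAction ↥P (G ⧸ P) :=
    { carrier := {q | z • q = q ∧ f q = -1}
      smul_mem' := by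
        rintro ⟨s, hs⟩ q
        obtain ⟨g, rfl⟩ := QuotientGroup.mk_surjective q
        rintro ⟨h1, h2⟩
        rw [hfix] at h1
        have e : (s * g)⁻¹ * z * (s * g) = g⁻¹ * z * g := by
          calc (s * g)⁻¹ * z * (s * g) = g⁻¹ * (s⁻¹ * (z * s)) * g := by group
            _ = _ := by rw [← hcent s hs]; group
        have h1' : (s * g)⁻¹ * z * (s * g) ∈ P := e ▸ h1
        refine ⟨(hfix _).mpr h1', ?_⟩
        show f ((s * g : G) : G ⧸ P) = -1
        rw [hf _ h1', ← h2, hf _ h1]
        exact congrArg φ (Subtype.ext e) }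
  have hodd : Odd (Nat.card ↥F) := by
    haveI : Fact (Nat.Prime 2) := ⟨Nat.prime_two⟩
    have h1 := S.2.card_modEq_card_fixedPoints ↥F
    have h2 := S.2.card_modEq_card_fixedPoints (G ⧸ P)
    have hGP : Odd (Nat.card (G ⧸ P)) := by
      rw [← Nat.not_even_iff_odd, even_iff_two_dvd]
      exact S.not_dvd_index
    have h3 : Nat.card (MulAction.fixedPoints ↥P ↥F) = Nat.card (MulAction.fixedPoints ↥P (G ⧸ P)) := by
      refine Nat.card_congr
        { toFun := fun x => ⟨x.1.1, fun s => congrArg Subtype.val (x.2 s)⟩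
          invFun := fun x => ⟨⟨x.1, ?_⟩, fun s => Subtype.ext (x.2 s)⟩
          left_inv := fun _ => rfl
          right_inv := fun _ => rfl }
      obtain ⟨q, hq⟩ := x
      obtain ⟨g, rfl⟩ := QuotientGroup.mk_surjective q
      have hgN : g ∈ Subgroup.normalizer (P : Set G) := by
        have hle : P.map (MulAut.conj g⁻¹).toMonoidHom ≤ P := by
          rintro _ ⟨s, hs, rfl⟩
          have := hq ⟨s, hs⟩
          change ((s * g : G) : G ⧸ P) = (g : G ⧸ P) at this
          rw [eq_comm, QuotientGroup.eq] at this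
          simpa [mul_assoc] using this
        have := Subgroup.eq_of_le_of_card_ge hle
          (Nat.card_congr (P.equivMapOfInjective _ (MulAut.conj g⁻¹).injective).toEquiv).le
        exact inv_mem_iff.mp (mem_normalizer_conj_iff.mpr this)
      have e := hN g⁻¹ (inv_mem hgN)
      rw [inv_inv] at e
      have hm : g⁻¹ * z * g ∈ P := e.symm ▸ hzS
      refine ⟨(hfix g).mpr hm, ?_⟩
      rw [hf g hm, ← hφz]
      exact congrArg φ (Subtype.ext e)
    rw [Nat.odd_iff] at hGP ⊢
    rw [Nat.ModEq] at h1 h2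
    rw [h1, h3, ← h2, hGP]
  have hσ : σ z = -1 := by
    rw [hsz]
    have hpm : ∀ q : Fix, f q.1 = if f q.1 = -1 then -1 else 1 := fun q => by
      rcases Int.units_eq_one_or (f q.1) with h | h <;> simp [h]
    rw [Finset.prod_congr rfl fun q _ => hpm q]
    rw [Finset.prod_ite, Finset.prod_const, Finset.prod_const_one, mul_one]
    have : (Finset.univ.filter fun q : Fix => f q.1 = -1).card = Nat.card ↥F := by
      rw [← Fintype.card_subtype, ← Nat.card_eq_fintype_card]
      exact Nat.card_congr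
        { toFun := fun q => ⟨q.1.1, q.1.2, q.2⟩
          invFun := fun q => ⟨⟨q.1, q.2.1⟩, q.2.2⟩
          left_inv := fun _ => rfl
          right_inv := fun _ => rfl }
    rw [this, hodd.neg_one_pow]
  refine ⟨σ.ker, inferInstance, ?_, by rw [MonoidHom.mem_ker, hσ]; decide⟩
  rw [Subgroup.index_ker]
  have : σ.range = ⊤ := by
    rw [eq_top_iff]
    intro u _
    rcases Int.units_eq_one_or u with h | h
    · exact h ▸ one_mem _
    · exact ⟨z, by rw [hσ, h]⟩
  rw [this, Subgroup.card_top]
  simp [Nat.card_eq_fintype_card]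

end CfsgLib.LocalEven
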