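import Cfsg.Agent.Lib.LocalEven.ThompsonMeasure
import Cfsg.Prelude.Def_LocalEven

/-!
# Chains of Sylow intersections for an element central in `N(J(S))`

* `Ctx`: the inductive situation
* `chain`: two Sylow subgroups meeting in a subgroup `T` with `J(T) ≰ O_p(G)` distinguish the same
  conjugate
-/

set_option autoImplicit false

namespace CfsgLib.LocalEven.WClosed

open Subgroup Cfsg CfsgLib.LocalEven.JMeasure

variable {G : Type*} [Group G] {p : ℕ}

/-- The alternative hypotheses. -/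
def Hyp (p : ℕ) (R : Subgroup G) (x : G) : Prop :=
  p ≠ 2 ∨ (∃ z ∈ R ⊓ centralizer (R : Set G), z ^ p = x) ∨ ¬ Involves (Equiv.Perm (Fin 4)) G

/-- The situation, the result being known in proper subgroups. -/
structure Ctx (S : Sylow p G) (x : G) : Prop where
  mem : x ∈ (S : Subgroup G)
  norm : normalizer (thompsonSubgroupAOf (S : Subgroup G) : Set G) ≤ centralizer {x}
  hyp : Hyp p (S : Subgroup G) x
  sub : ∀ W : Subgroup G, W ≠ ⊤ → ∀ R : Subgroup G, R ≤ W → IsPGroup p R →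
    ¬ p ∣ R.relIndex W → ∀ y ∈ R,
    W ⊓ normalizer (thompsonSubgroupAOf R : Set G) ≤ centralizer {y} → Hyp p R y →
    ∀ w ∈ W, w * y * w⁻¹ ∈ R → w * y * w⁻¹ = y

/-- The intersection of all Sylow subgroups. -/
def core (p : ℕ) (G : Type*) [Group G] : Subgroup G := ⨅ P : Sylow p G, (P : Subgroup G)

theorem core_le (P : Sylow p G) : core p G ≤ (P : Subgroup G) := iInf_le _ P

theorem conj_mem_core {g y : G} (hy : y ∈ core p G) : g * y * g⁻¹ ∈ core p G := by
  rw [core, mem_iInf] at hy ⊢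
  intro P
  exact (Transfer.mem_inv_smul_sylow.mp (hy (g⁻¹ • P)) :)

theorem core_normal : (core p G).Normal := ⟨fun _ hy g => conj_mem_core (g := g) hy⟩

variable [Finite G] [Fact p.Prime]

theorem le_core {N : Subgroup G} (hn : N.Normal) (hN : IsPGroup p N) : N ≤ core p G := by
  refine le_iInf fun P => ?_
  have h := hN.to_sup_of_normal_left P.2
  exact le_sup_left.trans (P.is_maximal' h le_sup_right).le

theorem isPGroup_core (P : Sylow p G) : IsPGroup p (core p G) := P.2.to_le (core_le P)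

omit [Finite G] [Fact p.Prime] in
theorem coe_smul (h : G) (P : Sylow p G) :
    ((h • P : Sylow p G) : Subgroup G) = (P : Subgroup G).map (MulAut.conj h).toMonoidHom := rfl

variable (S : Sylow p G) (x : G)

/-- `y` is the conjugate of `x` that belongs to `P`. -/
def Dist (P : Sylow p G) (y : G) : Prop := ∃ h : G, h • S = P ∧ h * x * h⁻¹ = y

variable {S x}

omit [Finite G] [Fact p.Prime] in
theorem dist_smul {P : Sylow p G} {y : G} (h : Dist S x P y) (u : G) :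
    Dist S x (u • P) (u * y * u⁻¹) := by
  obtain ⟨k, hk, rfl⟩ := h
  exact ⟨u * k, by rw [mul_smul, hk], by group⟩

omit [Finite G] [Fact p.Prime] in
theorem dist_self : Dist S x S x := ⟨1, one_smul _ _, by group⟩

theorem exists_dist (P : Sylow p G) : ∃ y, Dist S x P y := by
  obtain ⟨h, hh⟩ := MulAction.exists_smul_eq G S P
  exact ⟨_, h, hh, rfl⟩

variable (c : Ctx S x)
include c

omit [Fact p.Prime] in
theorem self_commutes {s : G} (hs : s ∈ (S : Subgroup G)) : s * x = x * s :=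
  mem_centralizer_singleton_iff.mp (c.norm (normalizer_le _ (le_normalizer hs)))

omit [Fact p.Prime] in
theorem dist_mem {P : Sylow p G} {y : G} (h : Dist S x P y) : y ∈ (P : Subgroup G) := by
  obtain ⟨k, rfl, rfl⟩ := h
  exact ⟨x, c.mem, rfl⟩

omit [Fact p.Prime] in
theorem dist_commutes {P : Sylow p G} {y : G} (h : Dist S x P y) {t : G}
    (ht : t ∈ (P : Subgroup G)) : t * y = y * t := by
  obtain ⟨k, rfl, rfl⟩ := h
  obtain ⟨s, hs, rfl⟩ := ht
  show k * s * k⁻¹ * (k * x * k⁻¹) = k * x * k⁻¹ * (k * s * k⁻¹)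
  calc k * s * k⁻¹ * (k * x * k⁻¹) = k * (s * x) * k⁻¹ := by group
    _ = _ := by rw [self_commutes c hs]; group

omit [Fact p.Prime] in
theorem dist_unique {P : Sylow p G} {y y' : G} (h : Dist S x P y) (h' : Dist S x P y') :
    y = y' := by
  obtain ⟨k, hk, rfl⟩ := h
  obtain ⟨k', hk', rfl⟩ := h'
  have hm : k⁻¹ * k' ∈ normalizer ((S : Subgroup G) : Set G) := by
    refine Sylow.smul_eq_iff_mem_normalizer.mp ?_
    rw [mul_smul, hk', ← hk, inv_smul_smul]
  have := mem_centralizer_singleton_iff.mp (c.norm (normalizer_le _ hm))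
  calc k * x * k⁻¹ = k * (x * (k⁻¹ * k')) * k'⁻¹ := by group
    _ = _ := by rw [← this]; group

omit [Fact p.Prime] in
theorem dist_norm {P : Sylow p G} {y : G} (h : Dist S x P y) :
    normalizer (thompsonSubgroupAOf (P : Subgroup G) : Set G) ≤ centralizer {y} := by
  obtain ⟨k, rfl, rfl⟩ := h
  rw [coe_smul, ← thompson_map_conj, Transfer.normalizer_map_conj]
  rintro _ ⟨n, hn, rfl⟩
  rw [mem_centralizer_singleton_iff]
  show k * n * k⁻¹ * (k * x * k⁻¹) = k * x * k⁻¹ * (k * n * k⁻¹)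
  calc k * n * k⁻¹ * (k * x * k⁻¹) = k * (n * x) * k⁻¹ := by group
    _ = _ := by rw [mem_centralizer_singleton_iff.mp (c.norm hn)]; group

omit [Fact p.Prime] in
/-- The hypothesis passes to `P ∩ N(J(T))` for `T ≤ P`. -/
theorem hyp_inter {P : Sylow p G} {y : G} (h : Dist S x P y) {T R : Subgroup G}
    (hTP : T ≤ (P : Subgroup G)) (hRP : R ≤ (P : Subgroup G))
    (hR : (P : Subgroup G) ⊓ normalizer (thompsonSubgroupAOf T : Set G) ≤ R) : Hyp p R y := by
  rcases c.hyp with hp | ⟨z, hz, hzx⟩ | hf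
  · exact Or.inl hp
  · obtain ⟨k, rfl, rfl⟩ := h
    refine Or.inr (Or.inl ⟨k * z * k⁻¹, ?_, by rw [conj_pow, hzx]⟩)
    have hc : ∀ t ∈ ((k • S : Sylow p G) : Subgroup G), t * (k * z * k⁻¹) = k * z * k⁻¹ * t := by
      rintro _ ⟨s, hs, rfl⟩
      show k * s * k⁻¹ * (k * z * k⁻¹) = k * z * k⁻¹ * (k * s * k⁻¹)
      calc k * s * k⁻¹ * (k * z * k⁻¹) = k * (s * z) * k⁻¹ := by group
        _ = _ := by rw [mem_centralizer_iff.mp (mem_inf.mp hz).2 s hs]; group
    refine mem_inf.mpr ⟨hR (mem_inf.mpr ⟨⟨z, (mem_inf.mp hz).1, rfl⟩,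
      centralizer_le_normalizer _ (mem_centralizer_iff.mpr fun t ht =>
        hc t (hTP (thompson_le T ht)))⟩), mem_centralizer_iff.mpr fun t ht => hc t (hRP ht)⟩
  · exact Or.inr (Or.inr hf)

/-- Sylow subgroups meeting in `T` with `J(T) ≰ O_p(G)` distinguish the same conjugate, if it lies
in both. -/
theorem chain_aux : ∀ (n : ℕ) (P₁ P₂ : Sylow p G) (y₁ y₂ : G), Dist S x P₁ y₁ → Dist S x P₂ y₂ →
    y₁ ∈ (P₂ : Subgroup G) →
    ¬ thompsonSubgroupAOf ((P₁ : Subgroup G) ⊓ P₂) ≤ core p G →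
    (Nat.card G + 1) ^ 3 - mu ((P₁ : Subgroup G) ⊓ P₂) = n → y₁ = y₂ := by
  intro n
  induction n using Nat.strong_induction_on with
  | _ n IH =>
    intro P₁ P₂ y₁ y₂ hd₁ hd₂ hy₁P hJ hn
    by_cases he : P₁ = P₂
    · subst he; exact dist_unique c hd₁ hd₂
    obtain ⟨T, hT⟩ : ∃ T, T = (P₁ : Subgroup G) ⊓ P₂ := ⟨_, rfl⟩
    rw [← hT] at hJ hn
    have hT₁ : T ≤ (P₁ : Subgroup G) := hT ▸ inf_le_left
    have hT₂ : T ≤ (P₂ : Subgroup G) := hT ▸ inf_le_right
    have hQT : core p G ≤ T := hT ▸ le_inf (core_le P₁) (core_le P₂)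
    have hT₁' : T < (P₁ : Subgroup G) := lt_of_le_of_ne hT₁ fun h => he <| Sylow.ext
      (P₁.is_maximal' P₂.2 (h ▸ hT₂)).symm
    have hT₂' : T < (P₂ : Subgroup G) := lt_of_le_of_ne hT₂ fun h => he <| Sylow.ext
      (P₂.is_maximal' P₁.2 (h ▸ hT₁))
    have hy₁T : y₁ ∈ T := hT ▸ mem_inf.mpr ⟨dist_mem c hd₁, hy₁P⟩
    have hy₁J : y₁ ∈ thompsonSubgroupAOf T :=
      mem_of_central hy₁T fun t ht => dist_commutes c hd₁ (hT₁ ht)
    -- the local subgroup
    obtain ⟨W, hW⟩ : ∃ W, W = normalizer (thompsonSubgroupAOf T : Set G) := ⟨_, rfl⟩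
    have hWtop : W ≠ ⊤ := fun h => hJ (le_core (normalizer_eq_top_iff.mp (hW ▸ h))
      (P₁.2.to_le ((thompson_le T).trans hT₁)))
    have hTW : T ≤ W := hW ▸ le_normalizer.trans (normalizer_le T)
    -- a step up
    have step : ∀ U : Subgroup G, mu T < mu U → ¬ thompsonSubgroupAOf U ≤ core p G →
        ∀ (P P' : Sylow p G) (y y' : G), U = (P : Subgroup G) ⊓ P' → Dist S x P y →
          Dist S x P' y' → y ∈ (P' : Subgroup G) → y = y' := by
      intro U hmu hU P P' y y' hU' hd hd' hyP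
      refine IH ((Nat.card G + 1) ^ 3 - mu U) ?_ P P' y y' hd hd' hyP (hU' ▸ hU) (by rw [hU'])
      have := mu_le U
      omega
    -- Sylow subgroups of `W`
    have hsyl : ∀ P : Sylow p G, T < (P : Subgroup G) →
        ∃ (R : Sylow p W) (P' : Sylow p G), (P : Subgroup G) ⊓ W ≤ (R : Subgroup W).map W.subtype ∧
          (R : Subgroup W).map W.subtype ≤ (P' : Subgroup G) ∧
          T < (P : Subgroup G) ⊓ P' ∧ T < (R : Subgroup W).map W.subtype := by
      intro P hP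
      obtain ⟨R, hR⟩ := (P.2.comap_subtype (K := W)).exists_le_sylow
      obtain ⟨P', hP'⟩ := (R.2.map W.subtype).exists_le_sylow
      have h1 : (P : Subgroup G) ⊓ W ≤ (R : Subgroup W).map W.subtype := fun t ht =>
        ⟨⟨t, (mem_inf.mp ht).2⟩, hR (mem_subgroupOf.mpr (mem_inf.mp ht).1), rfl⟩
      have h2 : T < (P : Subgroup G) ⊓ W := lt_of_lt_of_le (Transfer.lt_inf_normalizer P.2 hP)
        (inf_le_inf_left _ (hW ▸ normalizer_le T))
      exact ⟨R, P', h1, hP', h2.trans_le (le_inf inf_le_left (h1.trans hP')), h2.trans_le h1⟩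
    obtain ⟨R₁, P₁', hR₁, hR₁P, hU₁, hTR₁⟩ := hsyl P₁ hT₁'
    obtain ⟨R₂, P₂', hR₂, hR₂P, hU₂, hTR₂⟩ := hsyl P₂ hT₂'
    -- first side
    obtain ⟨z₁, hz₁⟩ := exists_dist (S := S) (x := x) P₁'
    have e₁ : y₁ = z₁ := step _ (mu_lt_of_lt hU₁)
      (not_le_of_le hQT hJ ((thompson_le T).trans hU₁.le)) P₁ P₁' y₁ z₁ rfl hd₁ hz₁
      ((le_inf_iff.mp hU₁.le).2 hy₁T)
    subst e₁
    -- second side
    obtain ⟨z₂, hz₂⟩ := exists_dist (S := S) (x := x) P₂'
    have hy₂W : y₂ ∈ W := hW ▸ centralizer_le_normalizer _ (mem_centralizer_iff.mpr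
      fun t ht => dist_commutes c hd₂ (hT₂ (thompson_le T ht)))
    have e₂ : y₂ = z₂ := step _ (mu_lt_of_lt hU₂)
      (not_le_of_le hQT hJ ((thompson_le T).trans hU₂.le)) P₂ P₂' y₂ z₂ rfl hd₂ hz₂
      (hR₂P (hR₂ (mem_inf.mpr ⟨dist_mem c hd₂, hy₂W⟩)))
    subst e₂
    -- conjugation inside `W`
    obtain ⟨u, hu⟩ := MulAction.exists_smul_eq W R₁ R₂
    have hconjR : ∀ r ∈ (R₁ : Subgroup W).map W.subtype,
        (u : G) * r * (u : G)⁻¹ ∈ (R₂ : Subgroup W).map W.subtype := by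
      rintro _ ⟨r, hr, rfl⟩
      exact ⟨u * r * u⁻¹, by rw [← hu]; exact ⟨r, hr, rfl⟩, rfl⟩
    have hU₃ : T < ((((u : G) • P₁' : Sylow p G)) : Subgroup G) ⊓ P₂' := by
      refine hTR₂.trans_le (le_inf ?_ hR₂P)
      rintro _ ⟨r, hr, rfl⟩
      rw [← hu] at hr
      obtain ⟨r₀, hr₀, rfl⟩ := hr
      exact ⟨(r₀ : G), hR₁P ⟨r₀, hr₀, rfl⟩, rfl⟩
    have e₃ : (u : G) * y₁ * (u : G)⁻¹ = y₂ := step _ (mu_lt_of_lt hU₃)
      (not_le_of_le hQT hJ ((thompson_le T).trans hU₃.le)) ((u : G) • P₁') P₂' _ y₂ rfl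
      (dist_smul hz₁ _) hz₂ (hR₂P (hconjR _ (hTR₁.le hy₁T)))
    -- `y₁` is weakly closed in `R₁`
    obtain ⟨R, hR⟩ : ∃ R, R = (R₁ : Subgroup W).map W.subtype := ⟨_, rfl⟩
    rw [← hR] at hR₁P hTR₁
    have hRW : R ≤ W := hR ▸ map_subtype_le _
    have hRmax : (P₁' : Subgroup G) ⊓ W ≤ R := by
      have h : R.subgroupOf W = (R₁ : Subgroup W) := by
        rw [hR, Subgroup.subgroupOf, comap_map_eq_self_of_injective W.subtype_injective]
      have h2 := R₁.is_maximal' (P₁'.2.comap_subtype (K := W)) (h ▸ comap_mono hR₁P)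
      intro t ht
      rw [hR]
      exact ⟨⟨t, (mem_inf.mp ht).2⟩, h2.le (mem_subgroupOf.mpr (mem_inf.mp ht).1), rfl⟩
    have hRc : ∀ w ∈ W ⊓ normalizer (thompsonSubgroupAOf R : Set G), w ∈ centralizer {y₁} := by
      intro w hw
      by_cases hJR : thompsonSubgroupAOf R = thompsonSubgroupAOf T
      · have hRP : R = (P₁' : Subgroup G) := by
          by_contra hne
          refine (Transfer.lt_inf_normalizer P₁'.2 (lt_of_le_of_ne hR₁P hne)).not_ge ?_
          refine le_trans (inf_le_inf_left _ ?_) hRmax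
          rw [hW, ← hJR]
          exact normalizer_le R
        exact dist_norm c hz₁ (hRP ▸ (mem_inf.mp hw).2)
      · have hwJ := (mem_inf.mp hw).2
        have hJU : thompsonSubgroupAOf R ≤
            (((w • P₁' : Sylow p G)) : Subgroup G) ⊓ P₁' := by
          refine le_inf (fun t ht => ?_) ((thompson_le R).trans hR₁P)
          exact ⟨w⁻¹ * t * w, hR₁P (thompson_le R ((mem_normalizer_iff''.mp hwJ t).mp ht)),
            by show w * (w⁻¹ * t * w) * w⁻¹ = t; group⟩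
        obtain ⟨hmu, hU⟩ := better hQT hJ hTR₁.le hJR hJU
        have hy₁R : y₁ ∈ thompsonSubgroupAOf R :=
          mem_of_central (hTR₁.le hy₁T) fun t ht => dist_commutes c hz₁ (hR₁P ht)
        have e := step _ hmu hU (w • P₁') P₁' (w * y₁ * w⁻¹) y₁ rfl (dist_smul hz₁ w) hz₁
          (hR₁P (thompson_le R ((mem_normalizer_iff.mp hwJ y₁).mp hy₁R)))
        rw [mem_centralizer_singleton_iff]
        calc w * y₁ = w * y₁ * w⁻¹ * w := by group
          _ = y₁ * w := by rw [e]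
    have hidx : ¬ p ∣ R.relIndex W := by
      rw [hR, relIndex, Subgroup.subgroupOf, comap_map_eq_self_of_injective W.subtype_injective]
      exact R₁.not_dvd_index
    have e₄ := c.sub W hWtop R hRW (hR ▸ R₁.2.map _) hidx y₁ (hTR₁.le hy₁T) hRc
      (hyp_inter c hz₁ (hTR₁.le.trans hR₁P) hR₁P (hW ▸ hRmax)) u u.2
      (hTR₁.le (thompson_le T
        ((mem_normalizer_iff.mp (hW.le u.2 :) y₁).mp hy₁J)))
    exact e₄.symm.trans e₃

theorem chain {P₁ P₂ : Sylow p G} {y₁ y₂ : G} (h₁ : Dist S x P₁ y₁) (h₂ : Dist S x P₂ y₂)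
    (hy : y₁ ∈ (P₂ : Subgroup G))
    (hJ : ¬ thompsonSubgroupAOf ((P₁ : Subgroup G) ⊓ P₂) ≤ core p G) : y₁ = y₂ :=
  chain_aux c _ P₁ P₂ y₁ y₂ h₁ h₂ hy hJ rfl

end CfsgLib.LocalEven.WClosed
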