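import Cfsg.Agent.Lib.Transfer.Tate
import Cfsg.Agent.Lib.PGroups.Basic
import Cfsg.Prelude.Def_LocalStructure
import Mathlib.Algebra.Group.ForwardDiff
import Mathlib.Algebra.CharP.Two

/-!
# Wielandt–Yoshida: weakly closed subgroups and control of transfer

* `exists_commutator_not_mem_frattini`: failure of control of transfer by `N(W)` produces an
  iterated commutator in `W₀ ∖ Φ(W₀)`.
-/

set_option autoImplicit false

namespace CfsgLib.LocalEven.Yoshida

open Subgroup MulAction Finset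

/-- The map `y ↦ [y, z] = y⁻¹ z⁻¹ y z`. -/
abbrev commStep {G : Type*} [Group G] (z : G) : G → G := fun y => y⁻¹ * z⁻¹ * y * z

section Diff

variable {p : ℕ} [hp : Fact p.Prime]

theorem choose_pred_cast {i : ℕ} (hi : i < p) :
    (((p - 1).choose i : ℕ) : ZMod p) = (-1) ^ i := by
  induction i with
  | zero => simp
  | succ i ih =>
    have h1 : p.choose (i + 1) = (p - 1).choose i + (p - 1).choose (i + 1) := by
      obtain ⟨q, hq⟩ : ∃ q, p = q + 1 := ⟨p - 1, by have := hp.out.pos; omega⟩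
      subst hq
      simp [Nat.choose_succ_succ]
    have h2 : ((p.choose (i + 1) : ℕ) : ZMod p) = 0 := by
      rw [ZMod.natCast_eq_zero_iff]
      exact hp.out.dvd_choose_self (by omega) hi
    rw [h1, Nat.cast_add, ih (by omega)] at h2
    rw [pow_succ]
    linear_combination h2

/-- In exponent `p`, the `(p-1)`-st forward difference is the sum over a period. -/
theorem fwdDiff_iter_pred {A : Type*} [AddCommGroup A] (hA : ∀ a : A, p • a = 0) (f : ℕ → A) :
    (fwdDiff 1)^[p - 1] f 0 = ∑ i ∈ range p, f i := by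
  have hp1 : p - 1 + 1 = p := Nat.succ_pred_eq_of_pos hp.out.pos
  rw [fwdDiff_iter_eq_sum_shift, hp1]
  refine sum_congr rfl fun i hi => ?_
  rw [smul_eq_mul, mul_one, zero_add]
  rw [mem_range] at hi
  have hd : (p : ℤ) ∣ (-1 : ℤ) ^ (p - 1 - i) * (p - 1).choose i - 1 := by
    rw [← ZMod.intCast_zmod_eq_zero_iff_dvd]
    push_cast
    rw [choose_pred_cast hi, ← pow_add, Nat.sub_add_cancel (by omega), sub_eq_zero]
    rcases hp.out.eq_two_or_odd' with h | h
    · subst h; simp [ZMod.neg_eq_self_mod_two]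
    · exact (Nat.Odd.sub_odd h odd_one).neg_one_pow
  obtain ⟨c, hc⟩ := hd
  rw [show (-1 : ℤ) ^ (p - 1 - i) * (p - 1).choose i = (p : ℤ) * c + 1 by omega, add_smul,
    one_smul, mul_comm, mul_smul, natCast_zsmul, hA, smul_zero, zero_add]

end Diff

section Cocycle

variable {G A : Type*} [Group G] [CommGroup A]

/-- The cocycle of the transfer of `θ` from `N` to `G`. -/
noncomputable def coc (N : Subgroup G) (θ : N →* A) (h : G) (x : G ⧸ N) : A :=
  θ ⟨(h • x).out⁻¹ * h * x.out, by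
    rw [mul_assoc, ← QuotientGroup.eq, QuotientGroup.out_eq', ← smul_eq_mul, ← Quotient.smul_mk,
      QuotientGroup.out_eq']⟩

variable {N : Subgroup G} {θ : N →* A}

theorem coc_mul (h k : G) (x : G ⧸ N) :
    coc N θ (h * k) x = coc N θ h (k • x) * coc N θ k x := by
  rw [coc, coc, coc, ← map_mul]
  congr 1
  refine Subtype.ext ?_
  simp only [Subgroup.coe_mul, mul_smul]
  group

theorem coc_one (x : G ⧸ N) : coc N θ 1 x = 1 := by
  rw [coc, ← map_one θ]
  congr 1
  refine Subtype.ext ?_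
  simp

theorem prod_smul_invariant {B : Finset (G ⧸ N)} {v : G} (hB : ∀ x ∈ B, v • x ∈ B)
    (f : G ⧸ N → A) : ∏ x ∈ B, f (v • x) = ∏ x ∈ B, f x := by
  classical
  have him : B.image (v • ·) = B := by
    refine eq_of_subset_of_card_le (image_subset_iff.mpr hB) ?_
    rw [card_image_of_injective _ (MulAction.injective v)]
  conv_rhs => rw [← him, prod_image fun a _ b _ h => MulAction.injective v h]

theorem transfer_mul {B : Finset (G ⧸ N)} (h : G) {k : G} (hB : ∀ x ∈ B, k • x ∈ B) :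
    ∏ x ∈ B, coc N θ (h * k) x = (∏ x ∈ B, coc N θ h x) * ∏ x ∈ B, coc N θ k x := by
  simp only [coc_mul, prod_mul_distrib]
  rw [prod_smul_invariant hB fun x => coc N θ h x]

/-- The transfer over all cosets kills the commutator subgroup. -/
theorem transfer_eq_one_of_mem_commutator [Fintype (G ⧸ N)] {u : G} (hu : u ∈ commutator G) :
    ∏ x : G ⧸ N, coc N θ u x = 1 := by
  let T : G →* A := MonoidHom.mk' (fun h => ∏ x : G ⧸ N, coc N θ h x)
    fun h k => transfer_mul h fun x _ => mem_univ _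
  have := Abelianization.commutator_subset_ker T hu
  exact this

theorem coc_pow (v : G) (x : G ⧸ N) (l : ℕ) :
    coc N θ (v ^ l) x = ∏ i ∈ range l, coc N θ v (v ^ i • x) := by
  induction l with
  | zero => simp [coc_one]
  | succ l ih => rw [pow_succ', coc_mul, ih, prod_range_succ, mul_comm]

/-- A transfer over an invariant set is trivial once the values of all the cycles are. -/
theorem transfer_eq_one_of_cycles [Finite G] {v : G} :
    ∀ (B : Finset (G ⧸ N)), (∀ x ∈ B, v • x ∈ B) →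
      (∀ x ∈ B, ∀ l : ℕ, v ^ l • x = x → coc N θ (v ^ l) x = 1) →
      ∏ x ∈ B, coc N θ v x = 1 := by
  classical
  intro B
  induction B using Finset.strongInduction with
  | _ B ih =>
    intro hB hcyc
    obtain rfl | ⟨x, hx⟩ := B.eq_empty_or_nonempty
    · simp
    set l := Function.minimalPeriod (v • ·) x with hl
    have hiter : ∀ i, (v • ·)^[i] x = v ^ i • x := fun i => by rw [smul_iterate]
    have hlx : v ^ l • x = x := by rw [← hiter]; exact Function.iterate_minimalPeriod
    have hper : x ∈ Function.periodicPts (v • · : G ⧸ N → G ⧸ N) :=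
      ⟨orderOf v, orderOf_pos v, by
        show (v • ·)^[orderOf v] x = x
        rw [hiter, pow_orderOf_eq_one, one_smul]⟩
    have hlpos : 0 < l := Function.minimalPeriod_pos_of_mem_periodicPts hper
    set C := (range l).image fun i => v ^ i • x with hC
    have hCB : C ⊆ B := by
      rw [hC, image_subset_iff]
      intro i hi
      clear hi
      induction i with
      | zero => simpa using hx
      | succ i ihi => rw [pow_succ', mul_smul]; exact hB _ ihi
    have hinj : Set.InjOn (fun i => v ^ i • x) (range l : Finset ℕ) := by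
      intro i hi j hj e
      rw [mem_coe, mem_range] at hi hj
      simp only [← hiter] at e
      exact Function.iterate_injOn_Iio_minimalPeriod hi hj e
    have hCinv : ∀ y ∈ C, v • y ∈ C := by
      intro y hy
      obtain ⟨i, hi, rfl⟩ := mem_image.mp hy
      rw [mem_range] at hi
      rw [← mul_smul, ← pow_succ']
      rcases eq_or_lt_of_le (Nat.succ_le_iff.mpr hi) with h | h
      · rw [show i + 1 = l from h, hlx]
        exact mem_image.mpr ⟨0, mem_range.mpr hlpos, by simp⟩
      · exact mem_image.mpr ⟨i + 1, mem_range.mpr h, rfl⟩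
    rw [← prod_sdiff hCB, ih (B \ C) ?_ ?_ fun y hy => hcyc y (mem_sdiff.mp hy).1, one_mul,
      hC, prod_image hinj, ← coc_pow]
    · exact hcyc x hx l hlx
    · exact sdiff_ssubset hCB ⟨x, mem_image.mpr ⟨0, mem_range.mpr hlpos, by simp⟩⟩
    · intro y hy
      obtain ⟨hy1, hy2⟩ := mem_sdiff.mp hy
      refine mem_sdiff.mpr ⟨hB y hy1, fun hc => hy2 ?_⟩
      have him : C.image (v • ·) = C := by
        refine eq_of_subset_of_card_le (image_subset_iff.mpr hCinv) ?_
        rw [card_image_of_injective _ (MulAction.injective v)]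
      rw [← him, mem_image] at hc
      obtain ⟨y', hy', e⟩ := hc
      exact MulAction.injective v e ▸ hy'


theorem transfer_conj {G A : Type*} [Group G] [CommGroup A] {N : Subgroup G} {θ : N →* A}
    {B : Finset (G ⧸ N)} (z w : G) (hinv : ∀ y ∈ B, w • y ∈ B) :
    ∏ y ∈ B, coc N θ (z * w * z⁻¹) (z • y) = ∏ y ∈ B, coc N θ w y := by
  have key : ∀ y, coc N θ (z * w * z⁻¹) (z • y) * coc N θ z y =
      coc N θ z (w • y) * coc N θ w y := fun y => by
    rw [← coc_mul, ← coc_mul, inv_mul_cancel_right]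
  have h := prod_congr (s₁ := B) rfl fun y _ => key y
  rw [prod_mul_distrib, prod_mul_distrib, prod_smul_invariant hinv fun y => coc N θ z y,
    mul_comm] at h
  exact mul_left_cancel h

/-- A product over an invariant set splitting into orbits. -/
theorem prod_eq_of_orbits {H X A : Type*} [Group H] [Fintype X] [MulAction H X] [CommMonoid A]
    (f : X → A) (base : X) (hbase : ∀ h : H, h • base = base)
    (horb : ∀ x₀, x₀ ≠ base → ∀ O : Finset X, (∀ x, x ∈ O ↔ x ∈ orbit H x₀) →
      ∏ x ∈ O, f x = 1) : ∏ x, f x = f base := by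
  classical
  suffices ∀ B : Finset X, base ∉ B → (∀ h : H, ∀ x ∈ B, h • x ∈ B) → ∏ x ∈ B, f x = 1 by
    rw [← mul_prod_erase univ f (mem_univ base), this _ (notMem_erase base univ)
      (fun h x hx => mem_erase.mpr ⟨fun e => (mem_erase.mp hx).1
        (MulAction.injective h (e.trans (hbase h).symm)), mem_univ _⟩), mul_one]
  intro B
  induction B using Finset.strongInduction with
  | _ B ih =>
    intro hb hB
    obtain rfl | ⟨x₀, hx₀⟩ := B.eq_empty_or_nonempty
    · simp
    set O := univ.filter fun x => x ∈ orbit H x₀ with hO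
    have hmem : ∀ x, x ∈ O ↔ x ∈ orbit H x₀ := fun x => by simp [hO]
    have hOB : O ⊆ B := fun x hx => by
      obtain ⟨h, rfl⟩ := (hmem x).mp hx
      exact hB h x₀ hx₀
    rw [← prod_sdiff hOB, horb x₀ (fun e => hb (e ▸ hx₀)) O hmem, mul_one]
    refine ih _ (sdiff_ssubset hOB ⟨x₀, (hmem _).mpr (mem_orbit_self _)⟩)
      (fun h => hb (mem_sdiff.mp h).1) fun h x hx => mem_sdiff.mpr ⟨hB h x (mem_sdiff.mp hx).1,
        fun hc => (mem_sdiff.mp hx).2 ((hmem x).mpr ?_)⟩
    obtain ⟨k, hk⟩ := (hmem _).mp hc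
    exact ⟨h⁻¹ * k, by show (h⁻¹ * k) • x₀ = x; rw [mul_smul]; show h⁻¹ • (k • x₀) = x; rw [show k • x₀ = h • x from hk, inv_smul_smul]⟩

/-- An orbit splits along the cosets of a subgroup of prime index containing the stabilizer. -/
theorem prod_orbit_split {H X A : Type*} [Group H] [Fintype X] [MulAction H X] [CommMonoid A]
    {p : ℕ} [hp : Fact p.Prime] (M : Subgroup H) [M.Normal] (hM : M.index = p) (t : H)
    (ht : t ∉ M) (x₀ : X) (hstab : stabilizer H x₀ ≤ M) (B₀ : Finset X)
    (hB₀ : ∀ x, x ∈ B₀ ↔ ∃ m ∈ M, m • x₀ = x) (O : Finset X)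
    (hO : ∀ x, x ∈ O ↔ x ∈ orbit H x₀) (f : X → A) :
    ∏ x ∈ O, f x = ∏ i ∈ range p, ∏ y ∈ B₀, f (t ^ i • y) := by
  have hcard : Nat.card (H ⧸ M) = p := hM
  haveI : Finite (H ⧸ M) := Nat.finite_of_card_ne_zero (by rw [hcard]; exact hp.out.ne_zero)
  have hord : orderOf (t : H ⧸ M) = p := by
    refine orderOf_eq_prime ?_ fun h => ht ((QuotientGroup.eq_one_iff _).mp h)
    rw [← hcard]; exact pow_card_eq_one'
  rw [← prod_product']
  refine (prod_bij (fun q _ => t ^ q.1 • q.2) ?_ ?_ ?_ fun q _ => rfl).symm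
  · rintro ⟨i, y⟩ hq
    obtain ⟨m, hm, hmy⟩ := (hB₀ _).mp (mem_product.mp hq).2
    refine (hO _).mpr ⟨t ^ i * m, ?_⟩
    show (t ^ i * m) • x₀ = t ^ i • y
    rw [mul_smul, show m • x₀ = y from hmy]
  · rintro ⟨i, y⟩ hq ⟨j, y'⟩ hq' e
    obtain ⟨m, hm, rfl⟩ := (hB₀ _).mp (mem_product.mp hq).2
    obtain ⟨m', hm', rfl⟩ := (hB₀ _).mp (mem_product.mp hq').2
    have hi := mem_range.mp (mem_product.mp hq).1
    have hj := mem_range.mp (mem_product.mp hq').1
    have e' : (t ^ i * m) • x₀ = (t ^ j * m') • x₀ := by rw [mul_smul, mul_smul]; exact e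
    have h1 : (t ^ j * m')⁻¹ * (t ^ i * m) ∈ M := hstab (by
      rw [mem_stabilizer_iff, mul_smul, e', inv_smul_smul])
    have h2 : (((t ^ j * m')⁻¹ * (t ^ i * m) : H) : H ⧸ M) = 1 := (QuotientGroup.eq_one_iff _).mpr h1
    simp only [QuotientGroup.mk_mul, QuotientGroup.mk_inv, QuotientGroup.mk_pow,
      (QuotientGroup.eq_one_iff m).mpr hm, (QuotientGroup.eq_one_iff m').mpr hm', mul_one] at h2
    have hij : i = j := by
      have h3 := pow_inj_mod.mp (inv_mul_eq_one.mp h2).symm
      rwa [hord, Nat.mod_eq_of_lt hi, Nat.mod_eq_of_lt hj] at h3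
    subst hij
    rw [smul_left_cancel_iff] at e
    exact Prod.ext rfl e
  · intro x hx
    obtain ⟨h, rfl⟩ := (hO _).mp hx
    have hgen : zpowers (t : H ⧸ M) = ⊤ :=
      zpowers_eq_top_of_prime_card hcard fun hh => ht ((QuotientGroup.eq_one_iff _).mp hh)
    obtain ⟨k, hk⟩ : (h : H ⧸ M) ∈ Submonoid.powers (t : H ⧸ M) :=
      mem_powers_iff_mem_zpowers.mpr (hgen ▸ Subgroup.mem_top _)
    have hk' : (t : H ⧸ M) ^ (k % p) = (h : H ⧸ M) := by
      rw [← hk, ← hord, pow_mod_orderOf]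
    rw [← QuotientGroup.mk_pow, QuotientGroup.eq] at hk'
    refine ⟨(k % p, ((t ^ (k % p))⁻¹ * h) • x₀), mem_product.mpr
      ⟨mem_range.mpr (Nat.mod_lt _ hp.out.pos), (hB₀ _).mpr ⟨_, hk', rfl⟩⟩, ?_⟩
    show t ^ (k % p) • (((t ^ (k % p))⁻¹ * h) • x₀) = h • x₀
    rw [mul_smul, smul_inv_smul]

/-- The product of the conjugates of `a₀` under a homomorphism to exponent `p`. -/
theorem prod_conj_eq {H A : Type*} [Group H] [CommGroup A] {p : ℕ} [hp : Fact p.Prime]
    (hexp : ∀ a : A, a ^ p = 1) (M : Subgroup H) [hMn : M.Normal] (τ : M →* A) (t : H) (a₀ : M) :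
    ∃ b : M, (b : H) = (commStep t)^[p - 1] (a₀ : H) ∧
      ∏ i ∈ range p, τ ⟨(t ^ i)⁻¹ * a₀ * t ^ i, by simpa using hMn.conj_mem _ a₀.2 (t ^ i)⁻¹⟩ =
        τ b := by
  let cj : ℕ → M → M := fun i a =>
    ⟨(t ^ i)⁻¹ * a * t ^ i, by simpa using hMn.conj_mem _ a.2 (t ^ i)⁻¹⟩
  let stp : M → M := fun a => a⁻¹ * cj 1 a
  let F : M → ℕ → Additive A := fun a i => Additive.ofMul (τ (cj i a))
  have hF : ∀ a, fwdDiff 1 (F a) = F (stp a) := by
    intro a
    funext i
    show F a (i + 1) - F a i = F (stp a) i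
    simp only [F, ← ofMul_div]
    congr 1
    rw [div_eq_inv_mul, ← map_inv, ← map_mul]
    congr 1
    refine Subtype.ext ?_
    simp only [stp, cj, Subgroup.coe_mul, Subgroup.coe_inv, pow_one, pow_succ]
    group
  have hFk : ∀ k a, (fwdDiff 1)^[k] (F a) = F (stp^[k] a) := by
    intro k
    induction k with
    | zero => intro a; rfl
    | succ k ihk => intro a; rw [Function.iterate_succ_apply, hF, ihk, ← Function.iterate_succ_apply]
  refine ⟨stp^[p - 1] a₀, ?_, ?_⟩
  · generalize p - 1 = k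
    induction k with
    | zero => rfl
    | succ k ihk =>
      rw [Function.iterate_succ_apply', Function.iterate_succ_apply', ← ihk]
      simp [stp, cj, commStep, mul_assoc]
  · have hsum := fwdDiff_iter_pred (p := p)
      (fun a => Additive.toMul.injective (by rw [toMul_nsmul, toMul_zero, hexp])) (F a₀)
    rw [hFk] at hsum
    apply Additive.ofMul.injective
    rw [ofMul_prod]
    refine hsum.symm.trans ?_
    show Additive.ofMul (τ (cj 0 _)) = _
    congr 2
    exact Subtype.ext (by simp [cj])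

end Cocycle

variable {G : Type*} [Group G] [Finite G] {p : ℕ} [hp : Fact p.Prime]

open scoped Pointwise

theorem sylow_le_normalizer (S : Sylow p G) {W : Subgroup G}
    (hW : Cfsg.IsWeaklyClosed W (S : Subgroup G)) :
    (S : Subgroup G) ≤ normalizer (W : Set G) := fun s hs =>
  mem_normalizer_iff_map_conj_eq.mpr (hW.2 s (by
    rintro _ ⟨w, hw, rfl⟩
    exact mul_mem (mul_mem hs (hW.1 hw)) (inv_mem hs)))

/-- `N(W)` is the only fixed coset of `W`. -/
theorem eq_one_coset_of_fixed (S : Sylow p G) {W : Subgroup G}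
    (hW : Cfsg.IsWeaklyClosed W (S : Subgroup G)) {g : G}
    (h : ∀ w ∈ W, w • (g : G ⧸ normalizer (W : Set G)) = g) :
    g ∈ normalizer (W : Set G) := by
  set N := normalizer (W : Set G) with hN
  have hSN : (S : Subgroup G) ≤ N := sylow_le_normalizer S hW
  set W' := W.map (MulAut.conj g⁻¹).toMonoidHom with hW'
  have hW'N : W' ≤ N := by
    rintro _ ⟨w, hw, rfl⟩
    have h1 : ((w * g : G) : G ⧸ N) = g := h w hw
    rw [QuotientGroup.eq] at h1
    have h2 : (w * g)⁻¹ * g = ((MulAut.conj g⁻¹).toMonoidHom w)⁻¹ := by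
      show _ = (g⁻¹ * w * g⁻¹⁻¹)⁻¹
      group
    rw [h2, inv_mem_iff] at h1
    exact h1
  have hpg : IsPGroup p W' := (S.2.to_le hW.1).map _
  obtain ⟨R, hR⟩ := (hpg.comap_of_injective N.subtype N.subtype_injective).exists_le_sylow
  obtain ⟨n, hn⟩ := MulAction.exists_smul_eq N R (S.subtype hSN)
  have hle : W'.map (MulAut.conj (n : G)).toMonoidHom ≤ (S : Subgroup G) := by
    rintro _ ⟨w, hw, rfl⟩
    have h1 : (⟨w, hW'N hw⟩ : N) ∈ (R : Subgroup N) := hR hw
    have h2 : MulAut.conj n (⟨w, hW'N hw⟩ : N) ∈ ((n • R : Sylow p N) : Subgroup N) := by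
      rw [Sylow.coe_subgroup_smul]; exact Subgroup.smul_mem_pointwise_smul _ _ _ h1
    rw [hn] at h2
    exact h2
  have h3 : ((n : G) * g⁻¹) ∈ N := by
    show ((n : G) * g⁻¹) ∈ normalizer (W : Set G)
    rw [mem_normalizer_iff_map_conj_eq]
    have e : W.map ((MulAut.conj ((n : G) * g⁻¹) : G →* G)) =
        W'.map (MulAut.conj (n : G)).toMonoidHom := by
      rw [hW', Subgroup.map_map]
      congr 1
      ext x
      simp [mul_assoc]
    exact hW.2 _ (e ▸ hle)
  have h4 := N.mul_mem (N.inv_mem n.2) h3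
  rw [inv_mul_cancel_left, inv_mem_iff] at h4
  exact h4

/-- An iterated commutator in `W₀ ∖ Φ(W₀)`. -/
def Witness (p : ℕ) (S W : Subgroup G) : Prop :=
  ∃ x ∈ S, ∃ z ∈ W, ∃ W₀ : Subgroup W, IsCoatom W₀ ∧ z ∉ W₀.map W.subtype ∧
    (W = S → x ∈ W₀.map W.subtype) ∧
    (commStep z)^[p - 1] x ∈ W₀.map W.subtype ∧
    (commStep z)^[p - 1] x ∉ ((frattini W₀).map W₀.subtype).map W.subtype

theorem frattini_le_ker {H A : Type*} [Group H] [Finite H] [CommGroup A] (f : H →* A)
    (hexp : ∀ a : A, a ^ p = 1) : frattini H ≤ f.ker :=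
  PGroups.frattini_le_of_elementary (p := p) (Abelianization.commutator_subset_ker f)
    fun x => by rw [MonoidHom.mem_ker, map_pow]; exact hexp _

/-- The cycle values of smaller elements vanish. -/
theorem coc_eq_one_of_smaller (S : Sylow p G) {N : Subgroup G} (hSN : (S : Subgroup G) ≤ N)
    {A : Type*} [CommGroup A] (θ : N →* A) {d : ℕ}
    (ih : ∀ v (hv : v ∈ (S : Subgroup G)), v ∈ commutator G → orderOf v < d →
      θ ⟨v, hSN hv⟩ = 1)
    (w : G) (x : G ⧸ N) (hwG : w ∈ commutator G) (hwp : IsPGroup p (zpowers w))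
    (hwd : orderOf w < d) (hwx : w • x = x) : coc N θ w x = 1 := by
  set e := x.out with he
  have hm : (w • x).out⁻¹ * w * x.out = e⁻¹ * w * e := by rw [hwx]
  have hmem : e⁻¹ * w * e ∈ N := by
    rw [← hm, mul_assoc, ← QuotientGroup.eq, QuotientGroup.out_eq', ← smul_eq_mul,
      ← Quotient.smul_mk, QuotientGroup.out_eq']
  have hmp : IsPGroup p (zpowers (⟨e⁻¹ * w * e, hmem⟩ : N)) := by
    obtain ⟨k, hk⟩ := hwp.exists_card_eq
    refine IsPGroup.of_card (n := k) ?_
    rw [← hk, Nat.card_zpowers, Nat.card_zpowers, ← Subgroup.orderOf_coe]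
    show orderOf (e⁻¹ * w * e) = _
    conv_lhs => rw [show e⁻¹ * w * e = MulAut.conj e⁻¹ w by simp]
    exact MulEquiv.orderOf_eq (MulAut.conj e⁻¹) w
  obtain ⟨R, hR⟩ := hmp.exists_le_sylow
  obtain ⟨n, hn⟩ := MulAction.exists_smul_eq N R (S.subtype hSN)
  have h2 : MulAut.conj n (⟨e⁻¹ * w * e, hmem⟩ : N) ∈ ((n • R : Sylow p N) : Subgroup N) := by
    rw [Sylow.coe_subgroup_smul]
    exact Subgroup.smul_mem_pointwise_smul _ _ _ (hR (mem_zpowers _))
  rw [hn] at h2
  set w' : G := (n : G) * (e⁻¹ * w * e) * (n : G)⁻¹ with hw'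
  have hw'G : w' ∈ commutator G := by
    refine Subgroup.Normal.conj_mem inferInstance _ ?_ _
    simpa using Subgroup.Normal.conj_mem inferInstance w hwG e⁻¹
  have hord : orderOf w' = orderOf w := by
    conv_lhs => rw [show w' = MulAut.conj ((n : G) * e⁻¹) w by simp [hw', mul_assoc]]
    exact MulEquiv.orderOf_eq (MulAut.conj ((n : G) * e⁻¹)) w
  have h3 := ih w' h2 hw'G (hord ▸ hwd)
  have h4 : (⟨w', hSN h2⟩ : N) = n * ⟨e⁻¹ * w * e, hmem⟩ * n⁻¹ := Subtype.ext rfl
  rw [h4, map_mul, map_mul, map_inv, mul_inv_cancel_comm] at h3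
  have h5 : ∀ h : (w • x).out⁻¹ * w * x.out ∈ N,
      (⟨(w • x).out⁻¹ * w * x.out, h⟩ : N) = ⟨e⁻¹ * w * e, hmem⟩ := fun h => Subtype.ext hm
  rw [coc, h5, h3]

/-- The iterated commutator is killed by exponent `p` homomorphisms. -/
theorem tau_eq_one (S : Sylow p G) {W : Subgroup G}
    (hW : Cfsg.IsWeaklyClosed W (S : Subgroup G)) (hno : ¬ Witness p (S : Subgroup G) W)
    {H' : Subgroup G} (hWH : W ≤ H') (hH'S : H' ≤ (S : Subgroup G)) (M : Subgroup H') [M.Normal]
    (hMi : M.index = p) {t : H'} (htM : t ∉ M) (htW : (t : G) ∈ W) (a₀ b : M)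
    (hb : (b : H') = (commStep t)^[p - 1] (a₀ : H'))
    {A : Type*} [CommGroup A] (hexp : ∀ a : A, a ^ p = 1) (τ : M →* A) : τ b = 1 := by
  set z : G := (t : G)
  set u : G := ((a₀ : H') : G)
  have huS : u ∈ (S : Subgroup G) := hH'S (a₀ : H').2
  have hval : ((b : H') : G) = (commStep z)^[p - 1] u := by
    rw [hb]
    generalize p - 1 = k
    induction k with
    | zero => rfl
    | succ k ihk =>
      rw [Function.iterate_succ_apply', Function.iterate_succ_apply', ← ihk]
      rfl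
  set W₀ : Subgroup W := M.comap (Subgroup.inclusion hWH) with hW₀
  have hzW₀ : z ∉ W₀.map W.subtype := by
    rintro ⟨a, ha, e⟩
    have hta : t = Subgroup.inclusion hWH a := Subtype.ext e.symm
    exact htM (hta ▸ ha)
  have hW₀i : W₀.index = p := by
    have hne : W₀.index ≠ 1 := fun h => by
      rw [index_eq_one] at h
      exact htM ((h ▸ Subgroup.mem_top (⟨z, htW⟩ : W) : (⟨z, htW⟩ : W) ∈ W₀))
    have hd' : W₀.index ∣ p := by
      rw [← hMi, hW₀, Subgroup.index_comap]
      exact relIndex_dvd_index_of_normal M _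
    exact ((Nat.dvd_prime hp.out).mp hd').resolve_left hne
  have hW₀c : IsCoatom W₀ := by
    refine ⟨fun h => ?_, fun X hX => ?_⟩
    · rw [h, index_top] at hW₀i; exact hp.out.ne_one hW₀i.symm
    · rcases (Nat.dvd_prime hp.out).mp (hW₀i ▸ index_dvd_of_le hX.le) with h | h
      · exact index_eq_one.mp h
      · exfalso
        have h2 := relIndex_mul_index hX.le
        rw [h, hW₀i] at h2
        exact hX.not_ge (relIndex_eq_one.mp
          (Nat.eq_of_mul_eq_mul_right hp.out.pos (h2.trans (one_mul p).symm)))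
  have huW : ∀ y, y ∈ (S : Subgroup G) → commStep z y ∈ W := by
    intro y hy
    refine W.mul_mem ?_ htW
    have h5 := (mem_normalizer_iff.mp (sylow_le_normalizer S hW (inv_mem hy)) z⁻¹).mp (inv_mem htW)
    simpa using h5
  have hinW : ∀ k, (commStep z)^[k + 1] u ∈ W := by
    intro k
    induction k with
    | zero => exact huW u huS
    | succ k ihk => rw [Function.iterate_succ_apply']; exact huW _ (hW.1 ihk)
  obtain ⟨q, hq⟩ : ∃ q, p - 1 = q + 1 := ⟨p - 2, by have := hp.out.two_le; omega⟩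
  have hinW' : ((b : H') : G) ∈ W := by rw [hval, hq]; exact hinW q
  have hmem₀ : (⟨_, hinW'⟩ : W) ∈ W₀ := b.2
  have hΦ : (⟨⟨_, hinW'⟩, hmem₀⟩ : W₀) ∈ frattini W₀ := by
    by_contra hΦ
    refine hno ⟨u, huS, z, htW, W₀, hW₀c, hzW₀, fun hWS => ?_, ?_, ?_⟩
    · exact ⟨⟨u, hWS ▸ huS⟩, a₀.2, rfl⟩
    · rw [← hval]; exact ⟨_, hmem₀, rfl⟩
    · rw [← hval]
      rintro ⟨a, ⟨c, hc, rfl⟩, e⟩
      refine hΦ ?_
      have : c = (⟨⟨_, hinW'⟩, hmem₀⟩ : W₀) := Subtype.ext (Subtype.ext e)
      exact this ▸ hc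
  let inc : W₀ →* M := MonoidHom.mk' (fun a => ⟨Subgroup.inclusion hWH a, a.2⟩) fun a b => rfl
  exact frattini_le_ker (τ.comp inc) hexp hΦ

/-- The contribution of a nontrivial orbit vanishes. -/
theorem orbit_eq_one (S : Sylow p G) {W : Subgroup G}
    (hW : Cfsg.IsWeaklyClosed W (S : Subgroup G)) (hno : ¬ Witness p (S : Subgroup G) W)
    {N : Subgroup G} [Fintype (G ⧸ N)] {A : Type*} [CommGroup A] (hexp : ∀ a : A, a ^ p = 1)
    (θ : N →* A) {u : G} (huS : u ∈ (S : Subgroup G)) (huG : u ∈ commutator G) (hu1 : u ≠ 1)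
    (small : ∀ (w : G) (x : G ⧸ N), w ∈ commutator G → IsPGroup p (zpowers w) →
      orderOf w < orderOf u → w • x = x → coc N θ w x = 1)
    {H' : Subgroup G} (hWH : W ≤ H') (hH'S : H' ≤ (S : Subgroup G)) (hH' : H' ≤ W ⊔ zpowers u)
    (huH : u ∈ H') (x₀ : G ⧸ N) (hne : ∃ w ∈ W, w • x₀ ≠ x₀) (O : Finset (G ⧸ N))
    (hO : ∀ x, x ∈ O ↔ x ∈ orbit H' x₀) : ∏ x ∈ O, coc N θ u x = 1 := by
  classical
  have hH'p : IsPGroup p H' := S.2.to_le hH'S
  haveI : Group.IsNilpotent H' := hH'p.isNilpotent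
  set R : Subgroup H' := stabilizer H' x₀ with hR
  have hRne : R ≠ ⊤ := by
    intro hRt
    obtain ⟨w, hw, hwx⟩ := hne
    exact hwx (mem_stabilizer_iff.mp (hRt ▸ Subgroup.mem_top (⟨w, hWH hw⟩ : H') :
      (⟨w, hWH hw⟩ : H') ∈ R))
  obtain ⟨M, hM, hRM⟩ := (eq_top_or_exists_le_coatom R).resolve_left hRne
  haveI hMn : M.Normal := PGroups.normal_of_isCoatom hM
  have hMi : M.index = p := PGroups.index_of_isCoatom hH'p hM
  obtain ⟨t, htM, ht⟩ : ∃ t : H', t ∉ M ∧
      ((t : G) = u ∨ ((t : G) ∈ W ∧ (⟨u, huH⟩ : H') ∈ M)) := by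
    by_cases huM : (⟨u, huH⟩ : H') ∈ M
    · by_contra h
      push Not at h
      refine hM.1 (top_le_iff.mp fun a _ => ?_)
      have hle : H' ≤ M.map H'.subtype := by
        refine hH'.trans (sup_le (fun w hw => ?_) (zpowers_le.mpr ⟨_, huM, rfl⟩))
        by_contra hwM
        exact (h ⟨w, hWH hw⟩ fun hm => hwM ⟨_, hm, rfl⟩).2 hw huM
      obtain ⟨b, hb, hba⟩ := hle a.2
      exact Subtype.ext hba ▸ hb
    · exact ⟨⟨u, huH⟩, huM, Or.inl rfl⟩
  set B₀ : Finset (G ⧸ N) := univ.filter fun x => ∃ m ∈ M, m • x₀ = x with hB₀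
  have hB₀mem : ∀ x, x ∈ B₀ ↔ ∃ m ∈ M, m • x₀ = x := fun x => by simp [hB₀]
  have hB₀inv : ∀ m ∈ M, ∀ x ∈ B₀, (m : G) • x ∈ B₀ := by
    intro m hm x hx
    obtain ⟨m', hm', rfl⟩ := (hB₀mem x).mp hx
    exact (hB₀mem _).mpr ⟨m * m', M.mul_mem hm hm', mul_smul m m' x₀⟩
  rw [prod_orbit_split M hMi t htM x₀ hRM B₀ hB₀mem O hO]
  rcases ht with htu | ⟨htW, huM⟩
  · -- `u ∉ M`
    rw [prod_comm]
    have hsm : ∀ (i : ℕ) (y : G ⧸ N), t ^ i • y = u ^ i • y := fun i y => by
      show ((t ^ i : H') : G) • y = u ^ i • y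
      rw [Subgroup.coe_pow, htu]
    simp only [hsm, ← coc_pow]
    have htpM : t ^ p ∈ M := by
      rw [← QuotientGroup.eq_one_iff, QuotientGroup.mk_pow, ← hMi, Subgroup.index]
      exact pow_card_eq_one'
    have hup : ((t ^ p : H') : G) = u ^ p := by push_cast; rw [htu]
    have hinv : ∀ y ∈ B₀, u ^ p • y ∈ B₀ := fun y hy => hup ▸ hB₀inv _ htpM y hy
    refine transfer_eq_one_of_cycles B₀ hinv fun y _ l hl => small _ y
      (pow_mem (pow_mem huG p) l) ?_ ?_ hl
    · exact S.2.to_le (zpowers_le.mpr (pow_mem (pow_mem huS p) l))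
    · obtain ⟨k, hk⟩ := (S.2.to_le (zpowers_le.mpr huS)).exists_card_eq
      rw [Nat.card_zpowers] at hk
      refine lt_of_le_of_lt (Nat.le_of_dvd (orderOf_pos _) (orderOf_pow_dvd l)) ?_
      rw [orderOf_pow]
      refine Nat.div_lt_self (orderOf_pos u) ?_
      rcases k with _ | k
      · exact absurd (orderOf_eq_one_iff.mp hk) hu1
      · rw [hk, Nat.gcd_eq_right (dvd_pow_self p (by omega))]; exact hp.out.one_lt
  · -- `u ∈ M`
    let τ : M →* A := MonoidHom.mk' (fun m => ∏ y ∈ B₀, coc N θ ((m : H') : G) y)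
      fun a b => by
        rw [Subgroup.coe_mul, Subgroup.coe_mul]
        exact transfer_mul _ fun y hy => hB₀inv b b.2 y hy
    obtain ⟨b, hb, hprod⟩ := prod_conj_eq hexp M τ t ⟨⟨u, huH⟩, huM⟩
    rw [← tau_eq_one S hW hno hWH hH'S M hMi htM htW _ b hb hexp τ, ← hprod]
    refine prod_congr rfl fun i _ => ?_
    set z : G := ((t ^ i : H') : G)
    have hm : (t ^ i)⁻¹ * ⟨u, huH⟩ * t ^ i ∈ M := by
      simpa using hMn.conj_mem _ huM (t ^ i)⁻¹
    have h := transfer_conj (θ := θ) (B := B₀) z (z⁻¹ * u * z) fun y hy => hB₀inv _ hm y hy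
    rw [show z * (z⁻¹ * u * z) * z⁻¹ = u by group] at h
    exact h

theorem theta_eq_one_of_no_witness (S : Sylow p G) {W : Subgroup G}
    (hW : Cfsg.IsWeaklyClosed W (S : Subgroup G)) (hno : ¬ Witness p (S : Subgroup G) W)
    {A : Type*} [CommGroup A] (hexp : ∀ a : A, a ^ p = 1)
    (θ : normalizer (W : Set G) →* A) :
    ∀ u (hu : u ∈ (S : Subgroup G)), u ∈ commutator G →
      θ ⟨u, sylow_le_normalizer S hW hu⟩ = 1 := by
  intro u
  induction hd : orderOf u using Nat.strong_induction_on generalizing u with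
  | _ d ih =>
    intro huS huG
    have hSN : (S : Subgroup G) ≤ normalizer (W : Set G) := sylow_le_normalizer S hW
    by_cases hu1 : u = 1
    · subst hu1; exact map_one θ
    haveI := Fintype.ofFinite (G ⧸ (normalizer (W : Set G)))
    set base : G ⧸ normalizer (W : Set G) := ((1 : G) : G ⧸ (normalizer (W : Set G))) with hbase
    have small : ∀ (w : G) (x : G ⧸ (normalizer (W : Set G))), w ∈ commutator G → IsPGroup p (zpowers w) →
        orderOf w < orderOf u → w • x = x → coc (normalizer (W : Set G)) θ w x = 1 := fun w x h1 h2 h3 h4 =>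
      coc_eq_one_of_smaller S hSN θ (fun v hv hvG hvd => ih _ (hd ▸ hvd) v rfl hv hvG) w x h1 h2 h3 h4
    set H' : Subgroup G := W ⊔ zpowers u with hH'
    have hH'S : H' ≤ (S : Subgroup G) := sup_le hW.1 (zpowers_le.mpr huS)
    have hfixbase : ∀ g ∈ (normalizer (W : Set G)), g • base = base := by
      intro g hg
      rw [hbase, MulAction.Quotient.smul_coe, smul_eq_mul, mul_one, QuotientGroup.eq, mul_one]
      exact (normalizer (W : Set G)).inv_mem hg
    have hall := transfer_eq_one_of_mem_commutator (N := normalizer (W : Set G)) (θ := θ) huG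
    rw [prod_eq_of_orbits (H := H') (fun x => coc (normalizer (W : Set G)) θ u x) base
      (fun h => hfixbase _ (hSN (hH'S h.2))) (fun x₀ hx₀ O hO => ?_)] at hall
    swap
    · refine orbit_eq_one S hW hno hexp θ huS huG hu1 small le_sup_left hH'S le_rfl
        (mem_sup_right (mem_zpowers u)) x₀ ?_ O hO
      by_contra h
      push Not at h
      refine hx₀ ?_
      obtain ⟨g, rfl⟩ := QuotientGroup.mk_surjective x₀
      rw [hbase, QuotientGroup.eq, mul_one]
      exact (normalizer (W : Set G)).inv_mem (eq_one_coset_of_fixed S hW h)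
    set e := base.out with he
    have heN : e ∈ normalizer (W : Set G) := by
      have h1 : ((e : G) : G ⧸ (normalizer (W : Set G))) = ((1 : G) : G ⧸ (normalizer (W : Set G))) := QuotientGroup.out_eq' base
      rw [QuotientGroup.eq, mul_one, inv_mem_iff] at h1
      exact h1
    have hm : (u • base).out⁻¹ * u * base.out = e⁻¹ * u * e := by rw [hfixbase u (hSN huS)]
    have h5 : ∀ h : (u • base).out⁻¹ * u * base.out ∈ (normalizer (W : Set G)),
        (⟨(u • base).out⁻¹ * u * base.out, h⟩ : (normalizer (W : Set G))) =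
          (⟨e, heN⟩ : (normalizer (W : Set G)))⁻¹ * ⟨u, hSN huS⟩ * ⟨e, heN⟩ := fun h => Subtype.ext hm
    rw [coc, h5, map_mul, map_mul, map_inv, mul_comm, mul_inv_cancel_left] at hall
    exact hall

/-- Wielandt–Yoshida. -/
theorem exists_witness (S : Sylow p G) {W : Subgroup G}
    (hW : Cfsg.IsWeaklyClosed W (S : Subgroup G))
    (h : (S : Subgroup G) ⊓ commutator G ≠
      (S : Subgroup G) ⊓ ⁅normalizer (W : Set G), normalizer (W : Set G)⁆) :
    Witness p (S : Subgroup G) W := by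
  by_contra hno
  set N := normalizer (W : Set G) with hN
  have hSN : (S : Subgroup G) ≤ N := sylow_le_normalizer S hW
  refine h (le_antisymm ?_ (inf_le_inf_left _ ?_))
  swap
  · rw [_root_.commutator_def]; exact commutator_mono le_top le_top
  set R : Subgroup (S : Subgroup G) :=
    (Cfsg.pResidual p N).comap (Subgroup.inclusion hSN) with hR
  haveI : R.Normal := Transfer.pResidual_normal.comap _
  have hRle : R ≤ (Cfsg.pResidual p G).subgroupOf (S : Subgroup G) := fun x hx =>
    mem_subgroupOf.mpr (Transfer.map_subtype_pResidual_le N ⟨_, hx, rfl⟩)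
  have key : (Cfsg.pResidual p G).subgroupOf (S : Subgroup G) = R := by
    refine Transfer.inf_pResidual_le_of_focal S R hRle ?_
    intro L hLn hLi hRL x hx
    -- the homomorphism `N → S / L`
    set φ : N →* N ⧸ Cfsg.pResidual p N := QuotientGroup.mk' _ with hφ
    set ψ : (S : Subgroup G) →* N ⧸ Cfsg.pResidual p N := φ.comp (Subgroup.inclusion hSN) with hψdef
    have hψ : Function.Surjective ψ := by
      intro y
      obtain ⟨g, rfl⟩ := QuotientGroup.mk_surjective y
      obtain ⟨a, ha, k, hk, rfl⟩ := Transfer.exists_mul_mem_pResidual (S.subtype hSN) g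
      refine ⟨⟨a, ha⟩, ?_⟩
      show φ a = φ (a * k)
      rw [map_mul, show φ k = 1 from (QuotientGroup.eq_one_iff k).mpr hk, mul_one]
    have hker : ψ.ker ≤ L := fun y hy => hRL
      (show Subgroup.inclusion hSN y ∈ Cfsg.pResidual p N from
        (QuotientGroup.eq_one_iff _).mp (MonoidHom.mem_ker.mp hy))
    have hcardL : Nat.card ((S : Subgroup G) ⧸ L) = p := hLi
    haveI : IsCyclic ((S : Subgroup G) ⧸ L) := isCyclic_of_prime_card (p := p) hcardL
    letI := IsCyclic.commGroup (α := (S : Subgroup G) ⧸ L)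
    set lift : N ⧸ Cfsg.pResidual p N →* (S : Subgroup G) ⧸ L :=
      ψ.liftOfRightInverse _ (Function.rightInverse_surjInv hψ)
        ⟨QuotientGroup.mk' L, by rwa [QuotientGroup.ker_mk']⟩
    have hexp : ∀ a : (S : Subgroup G) ⧸ L, a ^ p = 1 := fun a => by
      have h := pow_card_eq_one' (x := a)
      rwa [hcardL] at h
    have h1 := theta_eq_one_of_no_witness S hW hno hexp (lift.comp φ) x x.2
      (mem_subgroupOf.mp hx)
    rw [← QuotientGroup.eq_one_iff, ← h1]
    show _ = lift (ψ x)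
    rw [MonoidHom.liftOfRightInverse_comp_apply]
    rfl
  rintro g ⟨hgS, hgG⟩
  refine ⟨hgS, ?_⟩
  -- `G' ≤ O^p(G) S'`
  have hG : commutator G ≤ Cfsg.pResidual p G ⊔ ⁅(S : Subgroup G), (S : Subgroup G)⁆ := by
    set π := QuotientGroup.mk' (Cfsg.pResidual p G)
    have hS : (S : Subgroup G).map π = ⊤ := by
      have h1 := congrArg (Subgroup.map π) (Transfer.pResidual_sup_sylow S)
      rwa [Subgroup.map_sup, QuotientGroup.map_mk'_self, bot_sup_eq,
        map_top_of_surjective π (QuotientGroup.mk'_surjective _)] at h1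
    intro a ha
    have h2 : π a ∈ (⁅(S : Subgroup G), (S : Subgroup G)⁆).map π := by
      rw [map_commutator, hS]
      have := Subgroup.mem_map_of_mem π ha
      rwa [_root_.commutator_def, map_commutator,
        map_top_of_surjective π (QuotientGroup.mk'_surjective _)] at this
    obtain ⟨c, hc, hca⟩ := h2
    have h3 : c⁻¹ * a ∈ Cfsg.pResidual p G := QuotientGroup.eq.mp hca
    have := mul_mem (mem_sup_right (S := Cfsg.pResidual p G) hc) (mem_sup_left (T := ⁅(S : Subgroup G), (S : Subgroup G)⁆) h3)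
    rwa [mul_inv_cancel_left] at this
  have hg := hG hgG
  rw [mem_sup_of_normal_left] at hg
  obtain ⟨k, hk, c, hc, rfl⟩ := hg
  have hcS : c ∈ (S : Subgroup G) := Subgroup.commutator_le.mpr (fun a ha b hb => by
    rw [commutatorElement_def]
    exact mul_mem (mul_mem (mul_mem ha hb) (inv_mem ha)) (inv_mem hb)) hc
  have hkS : k ∈ (S : Subgroup G) := (Subgroup.mul_mem_cancel_right _ hcS).mp hgS
  have hkR : (⟨k, hkS⟩ : (S : Subgroup G)) ∈ R := key.le hk
  refine mul_mem ?_ (commutator_mono hSN hSN hc)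
  have h1 : Subgroup.inclusion hSN ⟨k, hkS⟩ ∈ commutator N := by
    have h2 : Subgroup.inclusion hSN ⟨k, hkS⟩ ∈ Cfsg.pResidual p N := hkR
    obtain ⟨m, hm⟩ := S.2 ⟨k, hkS⟩
    have h3 : Cfsg.pResidual p N ≤ ((Abelianization.of (G := N))).ker ⊔ Cfsg.pResidual p N :=
      le_sup_right
    set a := Abelianization.of (Subgroup.inclusion hSN ⟨k, hkS⟩) with ha
    have h4 : a ∈ Cfsg.pResidual p (Abelianization N) :=
      Transfer.map_pResidual_le Abelianization.of ⟨_, h2, rfl⟩
    -- in an abelian group the residual consists of elements of order prime to `p`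
    let Kc : Subgroup (Abelianization N) :=
      { carrier := {b | (orderOf b).Coprime p}
        one_mem' := by simp
        mul_mem' := fun {b c} hb hc => Nat.Coprime.coprime_dvd_left
          (Commute.orderOf_mul_dvd_mul_orderOf (Commute.all b c)) (Nat.Coprime.mul_left hb hc)
        inv_mem' := fun {b} hb => by simpa using hb }
    have h5 : a ∈ Kc := Transfer.pResidual_le_iff.mpr (fun b hb => hb) h4
    have h6 : a ^ p ^ m = 1 := by
      rw [ha, ← map_pow, ← map_pow]
      rw [hm, map_one, map_one]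
    have h7 : a = 1 := orderOf_eq_one_iff.mp
      (Nat.eq_one_of_dvd_coprimes (Nat.Coprime.pow_right m h5) dvd_rfl (orderOf_dvd_of_pow_eq_one h6))
    have h8 : Subgroup.inclusion hSN ⟨k, hkS⟩ ∈ (Abelianization.of (G := N)).ker := h7
    rwa [Abelianization.ker_of] at h8
  rw [← Subgroup.map_subtype_commutator]
  exact ⟨_, h1, rfl⟩

end CfsgLib.LocalEven.Yoshida
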