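import Cfsg.Agent.Lib.LocalEven.ZJFailBase
import Cfsg.Agent.Lib.LocalEven.Subnormal
import Cfsg.Agent.Lib.Components.Char

/-!
# A failing subgroup of largest priority

* `Bad`: a failing subgroup of largest priority
* `Bad.yle`, `Bad.sylow`, `Bad.stable`, `Bad.move`, `Bad.not_normal`
-/

set_option autoImplicit false
set_option linter.all false

open scoped commutatorElement Pointwise

namespace CfsgLib.LocalEven.ZJFail

open Subgroup Cfsg CfsgLib.PLocal CfsgLib.LocalEven.JMeasure CfsgLib.LocalEvenB CfsgLib.Transfer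

variable {G : Type*} [Group G] [Finite G] {p : ℕ} [Fact p.Prime]

/-- A failing subgroup of largest priority. -/
structure Bad (S : Sylow p G) (H Z Y P : Subgroup G) [Y.Normal] : Prop where
  ctx : Ctx S H Z
  hY : Y = Z ⊓ center G
  ps : P ≤ (S : Subgroup G)
  fail : ∃ x ∈ normalizer (P : Set G), ¬ ActsAsMember H P x
  big : ∀ U : Subgroup G, U ≤ (S : Subgroup G) → key (S : Subgroup G) Y P < key (S : Subgroup G) Y U →
    ∀ x ∈ normalizer (U : Set G), ActsAsMember H U x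

variable {S : Sylow p G} {H Z Y P : Subgroup G} [Y.Normal]

theorem Bad.yle (b : Bad S H Z Y P) : Y ≤ P := by
  by_contra h
  obtain ⟨x, hx, hxn⟩ := b.fail
  have hYS : Y ≤ (S : Subgroup G) := b.hY ▸ inf_le_left.trans b.ctx.le_sylow
  have hN : ∀ y ∈ normalizer (P : Set G), y ∈ normalizer ((P ⊔ Y : Subgroup G) : Set G) := fun y hy =>
    normalizer_inf_le_normalizer_sup hy (le_normalizer_of_normal (mem_top y))
  refine hxn ?_
  obtain ⟨r, hr, hr'⟩ := b.big (P ⊔ Y) (sup_le b.ps hYS) (key_lt_of_card (k3_mono le_sup_left)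
    (card_le_of_le (inf_le_inf_left _ hN))
    (Transfer.card_lt_of_lt (left_lt_sup.2 h))) x (hN x hx)
  exact ⟨r, hr, fun u hu => hr' u (mem_sup_left hu)⟩

/-- The Sylow subgroup of the normalizer. -/
theorem Bad.sylow (b : Bad S H Z Y P) :
    ¬ p ∣ ((S : Subgroup G) ⊓ normalizer (P : Set G)).relIndex (normalizer (P : Set G)) := by
  obtain ⟨x, hx, hxn⟩ := b.fail
  obtain ⟨T, hT⟩ : ∃ T, T = (S : Subgroup G) ⊓ normalizer (P : Set G) := ⟨_, rfl⟩
  rw [← hT]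
  intro hd
  have hTL : T ≤ normalizer (P : Set G) := hT ▸ inf_le_right
  have hTp : IsPGroup p T := S.2.to_le (hT ▸ inf_le_left)
  obtain ⟨Q, hQ⟩ := (hTp.comap_subtype (K := normalizer (P : Set G))).exists_le_sylow
  obtain ⟨R, hR⟩ : ∃ R, R = (Q : Subgroup _).map (normalizer (P : Set G)).subtype := ⟨_, rfl⟩
  have hRL : R ≤ normalizer (P : Set G) := hR ▸ map_subtype_le _
  have hTR : T ≤ R := fun t ht => hR ▸ ⟨⟨t, hTL ht⟩, hQ ht, rfl⟩
  have hlt : T < R := lt_of_le_of_ne hTR fun e => by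
    refine Q.not_dvd_index ?_
    have h1 : (Q : Subgroup ↥(normalizer (P : Set G))).index = T.relIndex (normalizer (P : Set G)) := by
      rw [e, hR, relIndex, subgroupOf, comap_map_eq_self_of_injective (normalizer (P : Set G)).subtype_injective]
    rwa [h1]
  obtain ⟨g, hg⟩ := Techniques.exists_conj_le_sylow S (H := R) (hR ▸ Q.2.map _)
  have hPT : P ≤ T := hT ▸ le_inf b.ps le_normalizer
  obtain ⟨h, hh, hagree⟩ : ActsAsMember H T g := by
    refine act_of_path S H T ?_ (hT ▸ inf_le_left) g fun u hu => hg ⟨u, hTR hu, rfl⟩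
    intro I hI g₀ hTI y hy
    by_cases hIS : I = (S : Subgroup G)
    · exact ⟨y, b.ctx.normalizer_sylow_le (hIS ▸ hy), fun u _ => rfl⟩
    refine b.big I hI (key_lt_of_norm ?_ ?_) y hy
    · exact ((k3_mono hPT).trans (k3_conj_le g₀ (hTI.trans hI))).trans (k3_mono hTI)
    · rw [← hT]
      refine lt_of_le_of_lt ?_ (Transfer.card_lt_of_lt (Transfer.lt_inf_normalizer S.2 (lt_of_le_of_ne hI hIS)))
      exact (Subgroup.card_map_of_injective (MulAut.conj g₀).injective).ge.trans (card_le_of_le hTI)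
  obtain ⟨U, hU⟩ : ∃ U, U = P.map (MulAut.conj g).toMonoidHom := ⟨_, rfl⟩
  have hUS : U ≤ (S : Subgroup G) := hU ▸ (map_mono (hPT.trans hTR)).trans hg
  have hkey : key (S : Subgroup G) Y P < key (S : Subgroup G) Y U := by
    refine key_lt_of_norm (hU ▸ k3_conj_le g (hU ▸ hUS)) ?_
    rw [← hT]
    refine lt_of_lt_of_le (Transfer.card_lt_of_lt hlt) ?_
    rw [← Subgroup.card_map_of_injective (f := (MulAut.conj g).toMonoidHom) (K := R) (MulAut.conj g).injective]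
    refine card_le_of_le (le_inf hg ?_)
    rw [hU, normalizer_map_conj]
    exact map_mono hRL
  obtain ⟨r, hr, hr'⟩ := b.big U hUS hkey (g * x * g⁻¹) (by
    rw [hU, normalizer_map_conj]; exact ⟨x, hx, rfl⟩)
  refine hxn ⟨h⁻¹ * r * h, H.mul_mem (H.mul_mem (H.inv_mem hh) hr) hh, fun u hu => ?_⟩
  have hxu : x * u * x⁻¹ ∈ P := conj_mem_of_normalizer hx u hu
  calc h⁻¹ * r * h * u * (h⁻¹ * r * h)⁻¹ = h⁻¹ * (r * (h * u * h⁻¹) * r⁻¹) * h := by group
    _ = h⁻¹ * (r * (g * u * g⁻¹) * r⁻¹) * h := by rw [hagree u (hPT hu)]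
    _ = h⁻¹ * (g * (x * u * x⁻¹) * g⁻¹) * h := by
      rw [hr' _ (hU ▸ mem_map_of_mem _ hu)]; group
    _ = h⁻¹ * (h * (x * u * x⁻¹) * h⁻¹) * h := by rw [hagree _ (hPT hxu)]
    _ = x * u * x⁻¹ := by group

theorem Bad.sylow_le_actSub (b : Bad S H Z Y P) :
    (S : Subgroup G) ⊓ normalizer (P : Set G) ≤ actSub H P :=
  fun t ht => ⟨ht.2, t, b.ctx.sylow_le ht.1, fun _ _ => rfl⟩

theorem Bad.not_le (b : Bad S H Z Y P) : ¬ normalizer (P : Set G) ≤ actSub H P := fun h => by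
  obtain ⟨x, hx, hxn⟩ := b.fail
  exact hxn (h hx).2

theorem Bad.not_J_le (b : Bad S H Z Y P) : ¬ thompsonSubgroupAOf (S : Subgroup G) ≤ P := by
  intro hJ
  refine b.not_le fun x hx => ⟨hx, x, b.ctx.normalizer_J_le ?_, fun _ _ => rfl⟩
  have h1 := Techniques.thompsonAOf_eq_of_le b.ps fun A hA => (le_thompson hA).trans hJ
  rw [← h1]
  exact JMeasure.normalizer_le P hx

/-- A normal subgroup of the normalizer which is a `p`-group modulo the centralizer meets `T` in `P`. -/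
theorem Bad.stable (b : Bad S H Z Y P) {N : Subgroup G} (hN : N ≤ normalizer (P : Set G))
    (hn : normalizer (P : Set G) ≤ normalizer (N : Set G)) (hC : centralizer (P : Set G) ≤ N)
    (hpow : ∀ x ∈ N, ∃ k : ℕ, x ^ p ^ k ∈ centralizer (P : Set G)) :
    (S : Subgroup G) ⊓ normalizer (P : Set G) ⊓ N ≤ P := by
  obtain ⟨T, hT⟩ : ∃ T, T = (S : Subgroup G) ⊓ normalizer (P : Set G) := ⟨_, rfl⟩
  rw [← hT]
  obtain ⟨E, hE⟩ : ∃ E, E = T ⊓ N := ⟨_, rfl⟩
  rw [← hE]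
  by_contra hEP
  have hTS : T ≤ (S : Subgroup G) := hT ▸ inf_le_left
  have hTE : T ≤ normalizer (E : Set G) := by
    rw [hE]
    exact (le_inf le_normalizer ((hT ▸ inf_le_right : T ≤ normalizer (P : Set G)).trans hn)).trans
      inf_normalizer_le_normalizer_inf
  have hi : ¬ p ∣ E.relIndex N := hE ▸ sylow_inf hN hn (hT ▸ b.sylow)
  have hbigE := b.big (P ⊔ E) (sup_le b.ps ((hE ▸ inf_le_left : E ≤ T).trans hTS))
    (key_lt_of_card (k3_mono le_sup_left) (card_le_of_le (fun t ht => ⟨ht.1,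
        normalizer_inf_le_normalizer_sup ht.2 (hTE (hT ▸ ht))⟩))
      (Transfer.card_lt_of_lt (left_lt_sup.2 hEP)))
  have hNle : N ≤ actSub H P := by
    obtain ⟨C, hC'⟩ : ∃ C, C = (centralizer (P : Set G)).subgroupOf N := ⟨_, rfl⟩
    haveI : C.Normal := hC' ▸ (normal_subgroupOf_iff_le_normalizer hC).2
      (hN.trans (normalizer_le_normalizer_centralizer _))
    have hq : IsPGroup p (↥N ⧸ C) := by
      intro q
      obtain ⟨y, rfl⟩ := QuotientGroup.mk_surjective q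
      obtain ⟨k, hk⟩ := hpow y y.2
      refine ⟨k, ?_⟩
      rw [← QuotientGroup.mk_pow, QuotientGroup.eq_one_iff, hC', mem_subgroupOf]
      exact hk
    obtain ⟨j, hj⟩ := IsPGroup.iff_card.1 hq
    have h1 : (actSub H P).relIndex N ∣ (centralizer (P : Set G)).relIndex N :=
      relIndex_dvd_of_le_left N (centralizer_le_actSub H P)
    have h2 : (actSub H P).relIndex N ∣ E.relIndex N :=
      relIndex_dvd_of_le_left N ((hE ▸ inf_le_left : E ≤ T).trans (hT ▸ b.sylow_le_actSub))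
    rw [show (centralizer (P : Set G)).relIndex N = p ^ j by
      rw [relIndex, ← hC', Subgroup.index, hj]] at h1
    obtain ⟨i, -, hi'⟩ := (Nat.dvd_prime_pow Fact.out).1 h1
    rcases Nat.eq_zero_or_pos i with rfl | hpos
    · exact relIndex_eq_one.1 (by simpa using hi')
    · exact absurd ((dvd_pow_self p hpos.ne').trans (hi' ▸ h2)) hi
  refine b.not_le fun l hl => ?_
  obtain ⟨n, hn', hnl⟩ := exists_frattini (hE ▸ inf_le_right) (S.2.to_le ((hE ▸ inf_le_left : E ≤ T).trans hTS))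
    hi (hn hl)
  have hnlP : n⁻¹ * l ∈ normalizer (P : Set G) := mul_mem (inv_mem (hN hn')) hl
  obtain ⟨r, hr, hr'⟩ := hbigE _ (normalizer_inf_le_normalizer_sup hnlP hnl)
  rw [← mul_inv_cancel_left n l]
  exact mul_mem (hNle hn') ⟨hnlP, r, hr, fun u hu => hr' u (mem_sup_left hu)⟩

/-- Elements of the normalizer moving `P` inside a controlled proper subgroup, up to `H`. -/
theorem Bad.move (b : Bad S H Z Y P) {M : Subgroup G} (hM : M ≠ ⊤)
    (hJ : thompsonSubgroupAOf (S : Subgroup G) ≤ M) (hTM : (S : Subgroup G) ⊓ normalizer (P : Set G) ≤ M)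
    {x r : G} (hx : x ∈ normalizer (P : Set G)) (hr : r ∈ H) (hm : r⁻¹ * x ∈ M) :
    ActsAsMember H P x := by
  obtain ⟨m, hmd⟩ : ∃ m, m = r⁻¹ * x := ⟨_, rfl⟩
  rw [← hmd] at hm
  obtain ⟨W, hW⟩ : ∃ W, W = (S : Subgroup G) ⊓ normalizer (P : Set G) ⊔ thompsonSubgroupAOf (S : Subgroup G) :=
    ⟨_, rfl⟩
  have hWM : W ≤ M := hW ▸ sup_le hTM hJ
  have hWS : W ≤ (S : Subgroup G) := hW ▸ sup_le inf_le_left (thompson_le _)
  obtain ⟨Q, hQ⟩ := ((S.2.to_le hWS).comap_subtype (K := M)).exists_le_sylow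
  obtain ⟨R, hR⟩ : ∃ R, R = (Q : Subgroup _).map M.subtype := ⟨_, rfl⟩
  have hWR : W ≤ R := fun w hw => hR ▸ ⟨⟨w, hWM hw⟩, hQ hw, rfl⟩
  have hRM : R ≤ M := hR ▸ map_subtype_le _
  have hRp : IsPGroup p R := hR ▸ Q.2.map _
  have hRi : ¬ p ∣ R.relIndex M := by
    rw [hR, relIndex, subgroupOf, comap_map_eq_self_of_injective M.subtype_injective]
    exact Q.not_dvd_index
  have hJR : thompsonSubgroupAOf (S : Subgroup G) ≤ R := (hW ▸ le_sup_right : _ ≤ W).trans hWR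
  have hPR : P ≤ R := fun u hu => hWR (hW ▸ mem_sup_left ⟨b.ps hu, le_normalizer hu⟩)
  have hRHM : R ≤ H ⊓ M := le_inf (b.ctx.pgroup_le hRp hJR) hRM
  obtain ⟨n, hn, hnR⟩ := exists_conj_le hRp (N := H ⊓ M)
    (fun hd => hRi (hd.trans (by
      rw [← relIndex_mul_relIndex R (H ⊓ M) M hRHM inf_le_right]; exact dvd_mul_right _ _)))
    (S := P.map (MulAut.conj m).toMonoidHom) (by
      rintro _ ⟨u, hu, rfl⟩
      refine ⟨?_, M.mul_mem (M.mul_mem hm (hRM (hPR hu))) (M.inv_mem hm)⟩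
      show m * u * m⁻¹ ∈ H
      rw [hmd, show r⁻¹ * x * u * (r⁻¹ * x)⁻¹ = r⁻¹ * (x * u * x⁻¹) * r by group]
      exact H.mul_mem (H.mul_mem (H.inv_mem hr) (b.ctx.sylow_le (b.ps (conj_mem_of_normalizer hx u hu)))) hr)
    ((S.2.to_le b.ps).map _)
  obtain ⟨s, hs, hs'⟩ := b.ctx.proper M hM R hRp hRM hRi hJR P hPR (n⁻¹ * m) (M.mul_mem (M.inv_mem hn.2) hm)
    fun u hu => by
      have := hnR _ (mem_map_of_mem _ hu)
      convert this using 1
      simp; group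
  refine ⟨r * n * s, H.mul_mem (H.mul_mem hr hn.1) hs.2, fun u hu => ?_⟩
  calc r * n * s * u * (r * n * s)⁻¹ = r * n * (s * u * s⁻¹) * (r * n)⁻¹ := by group
    _ = x * u * x⁻¹ := by rw [hs' u hu, hmd]; group

/-- A subgroup of `Z` normalised by `H`-like elements is not normal. -/
theorem Bad.not_normal (b : Bad S H Z Y P) {X₀ : Subgroup G} (hXZ : X₀ ≤ Z) (hXP : X₀ ≤ P)
    (hXY : ¬ X₀ ≤ Y) : ¬ X₀.Normal := by
  intro hX
  obtain ⟨C₀, hC₀⟩ : ∃ C₀, C₀ = centralizer (X₀ : Set G) := ⟨_, rfl⟩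
  haveI := hX
  haveI hC₀n : C₀.Normal := hC₀ ▸ inferInstance
  have hC₀top : C₀ ≠ ⊤ := fun h => hXY (b.hY ▸ le_inf hXZ (by
    rw [← centralizer_univ, ← coe_top, le_centralizer_iff, ← hC₀, h]))
  obtain ⟨J, hJdef⟩ : ∃ J, J = thompsonSubgroupAOf (S : Subgroup G) := ⟨_, rfl⟩
  have hJC : J ≤ C₀ := hJdef ▸ hC₀ ▸ b.ctx.J_le_centralizer.trans (centralizer_le (SetLike.coe_subset_coe.2 hXZ))
  obtain ⟨L, hL⟩ : ∃ L, L = normalizer (P : Set G) := ⟨_, rfl⟩
  obtain ⟨T, hT⟩ : ∃ T, T = (S : Subgroup G) ⊓ L := ⟨_, rfl⟩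
  have hTi : ¬ p ∣ T.relIndex L := by rw [hT, hL]; exact b.sylow
  have hPT : P ≤ T := hT ▸ hL ▸ le_inf b.ps le_normalizer
  have hTL : T ≤ L := hT ▸ inf_le_right
  have hPC : L ≤ normalizer (C₀ : Set G) := fun y _ => le_normalizer_of_normal (mem_top y)
  obtain ⟨T₀, hT₀⟩ : ∃ T₀, T₀ = T ⊓ (L ⊓ C₀) := ⟨_, rfl⟩
  have hLn : L ≤ normalizer ((L ⊓ C₀ : Subgroup G) : Set G) :=
    (le_inf le_normalizer hPC).trans inf_normalizer_le_normalizer_inf
  have hT₀i : ¬ p ∣ T₀.relIndex (L ⊓ C₀) := hT₀ ▸ sylow_inf inf_le_left hLn hTi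
  by_cases hT₀P : T₀ ≤ P
  · -- `J` would lie in `P`
    obtain ⟨S₀, hS₀⟩ : ∃ S₀, S₀ = (S : Subgroup G) ⊓ C₀ := ⟨_, rfl⟩
    have hPS₀ : P ≤ normalizer (S₀ : Set G) := by
      rw [hS₀]
      exact (le_inf (b.ps.trans le_normalizer) (fun y _ => le_normalizer_of_normal (mem_top y))).trans
        inf_normalizer_le_normalizer_inf
    have hlt : P < P ⊔ S₀ := left_lt_sup.2 fun h => b.not_J_le
      ((le_inf (thompson_le _) (hJdef ▸ hJC) : thompsonSubgroupAOf (S : Subgroup G) ≤ _).trans (hS₀.ge.trans h))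
    obtain ⟨w, hw, hwP⟩ := SetLike.exists_of_lt (Transfer.lt_inf_normalizer
      (S.2.to_le (sup_le b.ps (hS₀ ▸ inf_le_left))) hlt)
    have hw1 : w ∈ ((P ⊔ S₀ : Subgroup G) : Set G) := hw.1
    rw [coe_mul_of_left_le_normalizer_right _ _ hPS₀] at hw1
    obtain ⟨q, hq, e, he, rfl⟩ := Set.mem_mul.1 hw1
    refine hwP (P.mul_mem hq (hT₀P (hT₀ ▸ ?_)))
    rw [hS₀] at he
    have heL : e ∈ L := by
      have := mul_mem (inv_mem (le_normalizer hq : q ∈ normalizer (P : Set G))) hw.2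
      rw [inv_mul_cancel_left] at this
      exact hL ▸ this
    exact ⟨hT ▸ ⟨he.1, heL⟩, heL, he.2⟩
  have hTT₀ : T ≤ normalizer (T₀ : Set G) := by
    rw [hT₀]
    exact (le_inf le_normalizer (hTL.trans hLn)).trans inf_normalizer_le_normalizer_inf
  have hbigT := b.big (P ⊔ T₀) (sup_le b.ps ((hT₀ ▸ inf_le_left : T₀ ≤ T).trans (hT ▸ inf_le_left)))
    (key_lt_of_card (k3_mono le_sup_left) (card_le_of_le (fun t ht => ⟨ht.1,
        normalizer_inf_le_normalizer_sup ht.2 (hTT₀ (hT ▸ hL ▸ ht))⟩))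
      (Transfer.card_lt_of_lt (left_lt_sup.2 hT₀P)))
  refine b.not_le fun l hl => ?_
  obtain ⟨n, hn, hnl⟩ := exists_frattini (hT₀ ▸ inf_le_right)
    (S.2.to_le ((hT₀ ▸ inf_le_left : T₀ ≤ T).trans (hT ▸ inf_le_left))) hT₀i (hLn (hL ▸ hl))
  have hnlP : n⁻¹ * l ∈ normalizer (P : Set G) := mul_mem (inv_mem (hL ▸ hn.1)) hl
  obtain ⟨r, hr, hr'⟩ := hbigT _ (normalizer_inf_le_normalizer_sup hnlP hnl)
  rw [← mul_inv_cancel_left n l]
  refine mul_mem ⟨hL ▸ hn.1, ?_⟩ ⟨hnlP, r, hr, fun u hu => hr' u (mem_sup_left hu)⟩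
  -- an element of the normalizer centralising `X₀`
  obtain ⟨P₀, hP₀⟩ : ∃ P₀, P₀ = P ⊓ C₀ := ⟨_, rfl⟩
  obtain ⟨R, hR⟩ : ∃ R, R = (S : Subgroup G) ⊓ C₀ := ⟨_, rfl⟩
  have hRi : ¬ p ∣ R.relIndex C₀ := by
    rw [hR, inf_relIndex_right]
    exact fun hd => S.not_dvd_index (hd.trans (CfsgLib.HallGen.relIndex_dvd_index_right _ _))
  have hnP₀ : n ∈ normalizer (P₀ : Set G) := by
    rw [hP₀]; exact inf_normalizer_le_normalizer_inf ⟨hL ▸ hn.1, le_normalizer_of_normal (mem_top n)⟩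
  obtain ⟨h, hh, hh'⟩ := b.ctx.proper C₀ hC₀top R (S.2.to_le (hR ▸ inf_le_left)) (hR ▸ inf_le_right) hRi
    (hR ▸ le_inf (thompson_le _) (hJdef ▸ hJC)) P₀ (hP₀ ▸ hR ▸ inf_le_inf_right _ b.ps) n hn.2
    fun u hu => hR ▸ (inf_le_inf_right C₀ b.ps) (hP₀ ▸ conj_mem_of_normalizer hnP₀ u hu)
  obtain ⟨C, hC⟩ : ∃ C, C = C₀ ⊓ centralizer (P₀ : Set G) := ⟨_, rfl⟩
  obtain ⟨d, hd⟩ : ∃ d, d = h⁻¹ * n := ⟨_, rfl⟩
  have hdC : d ∈ C := by
    refine hC ▸ ⟨hd ▸ C₀.mul_mem (C₀.inv_mem hh.1) hn.2, mem_centralizer_iff.2 fun u hu => ?_⟩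
    have h1 : d * u * d⁻¹ = u := by
      rw [hd, show h⁻¹ * n * u * (h⁻¹ * n)⁻¹ = h⁻¹ * (n * u * n⁻¹) * h by group, ← hh' u hu]; group
    exact (mul_inv_eq_iff_eq_mul.1 h1).symm
  have hNP₀C : normalizer (P₀ : Set G) ≤ normalizer (C : Set G) := by
    rw [hC]
    exact (le_inf (fun y _ => le_normalizer_of_normal (mem_top y))
      (normalizer_le_normalizer_centralizer _)).trans inf_normalizer_le_normalizer_inf
  have hPP₀ : P ≤ normalizer (P₀ : Set G) := by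
    rw [hP₀]
    exact (le_inf le_normalizer (fun y _ => le_normalizer_of_normal (mem_top y))).trans
      inf_normalizer_le_normalizer_inf
  obtain ⟨E, hE⟩ : ∃ E, E = P ⊓ C := ⟨_, rfl⟩
  have hEc : ∀ e ∈ E, ∀ y ∈ C, e * y = y * e := by
    intro e he y hy
    rw [hE] at he; rw [hC] at hy he
    exact mem_centralizer_iff.1 hy.2 e (hP₀ ▸ ⟨he.1, he.2.1⟩)
  -- `E` is a Sylow subgroup of `C`
  have hEi : ¬ p ∣ E.relIndex C := by
    intro hdvd
    have hPC' : P ≤ normalizer (C : Set G) := hPP₀.trans hNP₀C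
    obtain ⟨Q, hQ⟩ := ((S.2.to_le b.ps).comap_subtype (K := P ⊔ C)).exists_le_sylow
    obtain ⟨R', hR'⟩ : ∃ R', R' = (Q : Subgroup _).map (P ⊔ C).subtype := ⟨_, rfl⟩
    have hPR' : P ≤ R' := fun u hu => hR' ▸ ⟨⟨u, mem_sup_left hu⟩, hQ hu, rfl⟩
    have hR'i : ¬ p ∣ R'.relIndex (P ⊔ C) := by
      rw [hR', relIndex, subgroupOf, comap_map_eq_self_of_injective (P ⊔ C).subtype_injective]
      exact Q.not_dvd_index
    have hDi := sylow_inf (le_sup_right : C ≤ P ⊔ C) (sup_le hPC' le_normalizer) hR'i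
    by_cases hDP : R' ⊓ C ≤ P
    · exact hDi (hdvd.trans (relIndex_dvd_of_le_left C (hE ▸ le_inf hDP inf_le_right)))
    have hR'p : IsPGroup p R' := hR' ▸ Q.2.map _
    have hPD : P ≤ normalizer ((R' ⊓ C : Subgroup G) : Set G) :=
      (le_inf (hPR'.trans le_normalizer) hPC').trans inf_normalizer_le_normalizer_inf
    obtain ⟨w, hw, hwP⟩ := SetLike.exists_of_lt (Transfer.lt_inf_normalizer
      (hR'p.to_le (sup_le hPR' inf_le_left)) (left_lt_sup.2 hDP))
    have hw1 : w ∈ ((P ⊔ R' ⊓ C : Subgroup G) : Set G) := hw.1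
    rw [coe_mul_of_left_le_normalizer_right _ _ hPD] at hw1
    obtain ⟨q, hq, e, he, rfl⟩ := Set.mem_mul.1 hw1
    refine hwP (P.mul_mem hq ?_)
    have heL : e ∈ normalizer (P : Set G) := by
      have := mul_mem (inv_mem (le_normalizer hq : q ∈ normalizer (P : Set G))) hw.2
      rwa [inv_mul_cancel_left] at this
    obtain ⟨N₀, hN₀⟩ : ∃ N₀, N₀ = normalizer (P : Set G) ⊓ C := ⟨_, rfl⟩
    have hstab : (S : Subgroup G) ⊓ normalizer (P : Set G) ⊓ N₀ ≤ P := by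
      refine b.stable (hN₀ ▸ inf_le_left) ?_ ?_ ?_
      · rw [hN₀]
        refine (le_inf le_normalizer (fun y hy => hNP₀C ?_)).trans inf_normalizer_le_normalizer_inf
        rw [hP₀]; exact inf_normalizer_le_normalizer_inf ⟨hy, le_normalizer_of_normal (mem_top y)⟩
      · rw [hN₀, hC, hC₀]
        exact le_inf (centralizer_le_normalizer _) (le_inf (centralizer_le (SetLike.coe_subset_coe.2 hXP))
          (centralizer_le (SetLike.coe_subset_coe.2 (hP₀ ▸ inf_le_left))))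
      · intro y hy
        rw [hN₀] at hy
        obtain ⟨k, hk⟩ := IsPGroup.iff_card.1 (S.2.to_le ((hP₀ ▸ inf_le_left : P₀ ≤ P).trans b.ps))
        refine ⟨k, mem_centralizer_iff.2 fun u hu => ?_⟩
        have hyC : y ∈ C₀ ∧ y ∈ centralizer (P₀ : Set G) := hC.le hy.2
        have h1 : u⁻¹ * (y * u * y⁻¹) ∈ P₀ := by
          refine hP₀ ▸ ⟨P.mul_mem (P.inv_mem hu) (conj_mem_of_normalizer hy.1 u hu), ?_⟩
          rw [show u⁻¹ * (y * u * y⁻¹) = u⁻¹ * y * u⁻¹⁻¹ * y⁻¹ by group]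
          exact C₀.mul_mem (hC₀n.conj_mem y hyC.1 u⁻¹) (C₀.inv_mem hyC.1)
        have h2 := QuadCore.pow_card_fix (R' := (⊥ : Subgroup G)) h1 fun v hv => by
          rw [mem_bot, ← mem_centralizer_iff.1 hyC.2 v hv]; group
        rw [hk, mem_bot, inv_mul_eq_one, eq_mul_inv_iff_mul_eq] at h2
        exact h2
    have hN₀n : normalizer (P : Set G) ≤ normalizer (N₀ : Set G) := by
      rw [hN₀]
      refine (le_inf le_normalizer (fun y hy => hNP₀C ?_)).trans inf_normalizer_le_normalizer_inf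
      rw [hP₀]; exact inf_normalizer_le_normalizer_inf ⟨hy, le_normalizer_of_normal (mem_top y)⟩
    obtain ⟨g, hg, hgT⟩ := exists_conj_le (T := (S : Subgroup G) ⊓ normalizer (P : Set G) ⊓ N₀)
      (S.2.to_le (inf_le_left.trans inf_le_left)) (sylow_inf (hN₀ ▸ inf_le_left) hN₀n b.sylow)
      (S := zpowers e) (zpowers_le.2 (hN₀ ▸ ⟨heL, he.2⟩)) (hR'p.to_le (zpowers_le.2 he.1))
    have h3 := conj_mem_of_normalizer (hN₀.le hg).1 _ (hstab (hgT e (mem_zpowers e)))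
    rwa [show g * (g⁻¹ * e * g) * g⁻¹ = e by group] at h3
  -- the normal complement
  obtain ⟨O, hO⟩ : ∃ O, O = (pPrimeCore p C).map C.subtype := ⟨_, rfl⟩
  have hOn : normalizer (P₀ : Set G) ≤ normalizer (O : Set G) := by
    haveI := CfsgLib.Components.pPrimeCore_characteristic (G := ↥C) p
    rw [hO]; exact hNP₀C.trans (CfsgLib.LocalEven.normalizer_le_normalizer_characteristic C _)
  have hOc : (Nat.card O).Coprime p := by
    rw [hO, Subgroup.card_map_of_injective C.subtype_injective]; exact CfsgLib.Core.coprime_card_pPrimeCore p _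
  have hCEO : C ≤ E ⊔ O := by
    haveI : (E.subgroupOf C).Normal := ⟨fun x hx g => by
      rw [mem_subgroupOf] at hx ⊢
      simpa [← hEc _ hx _ g.2] using hx⟩
    have hEp : IsPGroup p ↥(E.subgroupOf C) := (S.2.to_le ((hE ▸ inf_le_left : E ≤ P).trans b.ps)).comap_subtype
    have hcop : (Nat.card (E.subgroupOf C)).Coprime (E.subgroupOf C).index := by
      obtain ⟨i, hi⟩ := IsPGroup.iff_card.1 hEp
      rw [hi]
      exact ((Nat.Prime.coprime_iff_not_dvd Fact.out).2 hEi).pow_left i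
    obtain ⟨K, hK⟩ := exists_right_complement'_of_coprime hcop
    haveI : K.Normal := by
      rw [← normalizer_eq_top_iff, eq_top_iff, ← hK.sup_eq_top]
      refine sup_le (le_trans ?_ (centralizer_le_normalizer _)) le_normalizer
      exact fun x hx => mem_centralizer_iff.2 fun t _ => Subtype.ext (hEc _ hx _ t.2).symm
    have hKc : (Nat.card K).Coprime p := by
      rw [← hK.symm.index_eq_card]
      exact ((Nat.Prime.coprime_iff_not_dvd Fact.out).2 hEi).symm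
    intro y hy
    have h1 := congrArg (Subgroup.map C.subtype) hK.sup_eq_top
    rw [Subgroup.map_sup, ← MonoidHom.range_eq_map, range_subtype, subgroupOf_map_subtype] at h1
    rw [← h1] at hy
    exact (sup_le_sup inf_le_left (hO ▸ map_mono (CfsgLib.Core.le_pPrimeCore hKc)) :
      _ ≤ E ⊔ O) hy
  -- absorbing the complement
  obtain ⟨M', hM'⟩ : ∃ M', M' = H ⊓ normalizer (P₀ : Set G) := ⟨_, rfl⟩
  have hPM' : P ≤ M' := hM' ▸ le_inf (b.ps.trans b.ctx.sylow_le) hPP₀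
  have hhM' : h ∈ M' := by
    refine hM' ▸ ⟨hh.2, mem_normalizer_iff_map_conj_eq.2 (eq_of_le_of_card_ge ?_
      (Subgroup.card_map_of_injective (MulAut.conj h).injective).ge)⟩
    rintro _ ⟨u, hu, rfl⟩
    show h * u * h⁻¹ ∈ P₀
    rw [hh' u hu]; exact conj_mem_of_normalizer hnP₀ u hu
  obtain ⟨e, he, o, ho, heo⟩ : ∃ e ∈ E, ∃ o ∈ O, e * o = d := by
    have h1 := hCEO hdC
    rw [← SetLike.mem_coe, coe_mul_of_left_le_normalizer_right _ _
      ((hE ▸ inf_le_left : E ≤ P).trans (hPP₀.trans hOn))] at h1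
    exact Set.mem_mul.1 h1
  obtain ⟨K, hK⟩ : ∃ K, K = M' ⊔ O := ⟨_, rfl⟩
  have hMK : M' ≤ K := hK ▸ le_sup_left
  have hOK : O ≤ K := hK ▸ le_sup_right
  haveI : (O.subgroupOf K).Normal := (normal_subgroupOf_iff_le_normalizer hOK).2
    (hK ▸ sup_le ((hM' ▸ inf_le_right : M' ≤ normalizer (P₀ : Set G)).trans hOn) le_normalizer)
  have hnK : n ∈ K := by
    rw [show n = h * e * o by rw [mul_assoc, heo, hd]; group]
    exact K.mul_mem (hMK (M'.mul_mem hhM' (hPM' ((hE.le he).1)))) (hOK ho)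
  obtain ⟨r', hr₁, hr₂⟩ := absorb_core (p := p) (G := ↥K) (M := M'.subgroupOf K) (O := O.subgroupOf K)
    (by rw [Nat.card_congr (subgroupOfEquivOfLe hOK).toEquiv]; exact hOc)
    (by rw [← subgroupOf_sup hMK hOK, ← hK, subgroupOf_self])
    (U := P.subgroupOf K) ((S.2.to_le b.ps).comap_subtype) (comap_mono hPM') (y := ⟨n, hnK⟩)
    (by
      refine mem_normalizer_iff_map_conj_eq.2 (eq_of_le_of_card_ge ?_
        (Subgroup.card_map_of_injective (MulAut.conj (⟨n, hnK⟩ : ↥K)).injective).ge)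
      rintro _ ⟨u, hu, rfl⟩
      exact conj_mem_of_normalizer (hL.le hn.1) _ hu)
  exact ⟨r', (hM'.le hr₁).1, fun u hu => congrArg Subtype.val (hr₂ ⟨u, hMK (hPM' hu)⟩ hu)⟩

end CfsgLib.LocalEven.ZJFail
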