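import Cfsg.Agent.Lib.LocalEven.ZJFailKey
import Cfsg.Agent.Lib.LocalEven.QuadCore
import Cfsg.Agent.Lib.Transfer.Alperin

/-!
# Tools for a failure of `Z(J(S))` to control fusion

* `act_of_path`: control from the steps of Alperin's theorem
* `actSub`, `sylow_inf`, `exists_frattini`
* `Ctx`: a group all of whose proper subgroups containing `J(S)` are controlled
-/

set_option autoImplicit false
set_option linter.all false

open scoped commutatorElement Pointwise

namespace CfsgLib.LocalEven.ZJFail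

open Subgroup Cfsg CfsgLib.PLocal CfsgLib.LocalEven.JMeasure CfsgLib.LocalEvenB CfsgLib.Transfer

variable {G : Type*} [Group G] [Finite G] {p : ℕ} [Fact p.Prime]

theorem act_of_path (S : Sylow p G) (N U : Subgroup G)
    (hstep : ∀ I : Subgroup G, I ≤ (S : Subgroup G) → ∀ g : G, U.map (MulAut.conj g).toMonoidHom ≤ I →
      ∀ x ∈ normalizer (I : Set G), ActsAsMember N I x)
    (hU : U ≤ (S : Subgroup G)) (y : G) (hy : ∀ u ∈ U, y * u * y⁻¹ ∈ (S : Subgroup G)) :
    ActsAsMember N U y := by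
  have hpath := exists_fusionPath S (A := (U : Set G)) (g := y⁻¹) hU (by
    rintro _ ⟨u, hu, rfl⟩
    show y⁻¹⁻¹ * u * y⁻¹ ∈ _
    rw [inv_inv]; exact hy u hu)
  suffices h : ∀ A g, FusionPath S A g → ∀ g₀ : G, A = (fun u => g₀ * u * g₀⁻¹) '' (U : Set G) →
      ∃ r ∈ N, ∀ u ∈ A, r * u * r⁻¹ = g⁻¹ * u * g by
    obtain ⟨r, hr, hr'⟩ := h _ _ hpath 1 (by simp)
    exact ⟨r, hr, fun u hu => by rw [hr' u hu, inv_inv]⟩
  intro A g hp
  induction hp with
  | one A => exact fun g₀ _ => ⟨1, N.one_mem, fun u _ => by simp⟩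
  | step A Q x g ht hx hA _ ih =>
    intro g₀ hA0
    obtain ⟨r₁, hr₁, hr₁'⟩ := hstep _ inf_le_left g₀ (by
      rintro _ ⟨u, hu, rfl⟩
      exact hA (hA0 ▸ ⟨u, hu, rfl⟩)) x⁻¹ ((Subgroup.normalizer _).inv_mem hx)
    obtain ⟨r₂, hr₂, hr₂'⟩ := ih (x⁻¹ * g₀) (by
      rw [hA0, Set.image_image]
      refine Set.image_congr' fun u => ?_
      group)
    refine ⟨r₂ * r₁, N.mul_mem hr₂ hr₁, fun u hu => ?_⟩
    have h1 := hr₂' (x⁻¹ * u * x) ⟨u, hu, rfl⟩
    have h2 := hr₁' u (hA hu)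
    rw [inv_inv] at h2
    calc r₂ * r₁ * u * (r₂ * r₁)⁻¹ = r₂ * (r₁ * u * r₁⁻¹) * r₂⁻¹ := by group
      _ = g⁻¹ * (x⁻¹ * u * x) * g := by rw [h2, h1]
      _ = (x * g)⁻¹ * u * (x * g) := by group

/-- The elements normalising `P` which act on it as elements of `H`. -/
def actSub (H P : Subgroup G) : Subgroup G where
  carrier := {x | x ∈ normalizer (P : Set G) ∧ ActsAsMember H P x}
  one_mem' := ⟨one_mem _, 1, H.one_mem, fun u _ => rfl⟩
  mul_mem' := fun {a b} ha hb =>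
    ⟨mul_mem ha.1 hb.1, ActsAsMember.trans hb.2 ha.2 (conj_mem_of_normalizer hb.1)⟩
  inv_mem' := fun {a} ha => by
    refine ⟨inv_mem ha.1, ?_⟩
    obtain ⟨r, hr, hr'⟩ := ha.2
    refine ⟨r⁻¹, H.inv_mem hr, fun u hu => ?_⟩
    have h1 := hr' _ (conj_mem_of_normalizer (inv_mem ha.1) u hu)
    calc r⁻¹ * u * r⁻¹⁻¹ = r⁻¹ * (a * (a⁻¹ * u * a⁻¹⁻¹) * a⁻¹) * r := by group
      _ = a⁻¹ * u * a⁻¹⁻¹ := by rw [← h1]; group

theorem centralizer_le_actSub (H P : Subgroup G) : centralizer (P : Set G) ≤ actSub H P := fun x hx =>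
  ⟨centralizer_le_normalizer _ hx, 1, H.one_mem, fun u hu => by
    rw [← mem_centralizer_iff.1 hx u hu, mul_inv_cancel_right]; simp⟩

theorem sylow_inf {N L T : Subgroup G} (hNL : N ≤ L) (hn : L ≤ normalizer (N : Set G))
    (hi : ¬ p ∣ T.relIndex L) : ¬ p ∣ (T ⊓ N).relIndex N := by
  haveI : (N.subgroupOf L).Normal := (normal_subgroupOf_iff_le_normalizer hNL).2 hn
  intro hd
  rw [inf_relIndex_right, ← relIndex_subgroupOf hNL] at hd
  exact hi (hd.trans (CfsgLib.HallGen.relIndex_dvd_index_right _ _))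

theorem exists_frattini {N E : Subgroup G} (hEN : E ≤ N) (hE : IsPGroup p E) (hi : ¬ p ∣ E.relIndex N)
    {l : G} (hl : l ∈ normalizer (N : Set G)) :
    ∃ n ∈ N, n⁻¹ * l ∈ normalizer (E : Set G) := by
  obtain ⟨n, hn, hnE⟩ := exists_conj_le hE hi (S := E.map (MulAut.conj l).toMonoidHom)
    (by rintro _ ⟨e, he, rfl⟩; exact (mem_normalizer_iff.1 hl e).1 (hEN he)) (hE.map _)
  refine ⟨n, hn, mem_normalizer_iff_map_conj_eq.2 (eq_of_le_of_card_ge ?_
    (Subgroup.card_map_of_injective (MulAut.conj (n⁻¹ * l)).injective).ge)⟩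
  rintro _ ⟨e, he, rfl⟩
  have := hnE _ (mem_map_of_mem _ he)
  show n⁻¹ * l * e * (n⁻¹ * l)⁻¹ ∈ E
  convert this using 1
  simp; group

/-- The standing hypothesis of the induction. -/
structure Ctx (S : Sylow p G) (H Z : Subgroup G) : Prop where
  hH : H = normalizer (Z : Set G)
  hZ : Z = centerThompsonAOf (S : Subgroup G)
  proper : ∀ M : Subgroup G, M ≠ ⊤ → ∀ R : Subgroup G, IsPGroup p R → R ≤ M → ¬ p ∣ R.relIndex M →
    thompsonSubgroupAOf (S : Subgroup G) ≤ R → ∀ U : Subgroup G, U ≤ R → ∀ y ∈ M,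
      (∀ u ∈ U, y * u * y⁻¹ ∈ R) → ActsAsMember (M ⊓ H) U y

theorem normalizer_thompson_le (U : Subgroup G) :
    normalizer ((thompsonSubgroupAOf U : Subgroup G) : Set G) ≤
      normalizer ((centerThompsonAOf U : Subgroup G) : Set G) := by
  rw [centerThompsonAOf]
  exact (le_inf le_rfl (normalizer_le_normalizer_centralizer _)).trans inf_normalizer_le_normalizer_inf

theorem thompson_eq_conj (S : Sylow p G) {R : Subgroup G} (hR : IsPGroup p R)
    (hJ : thompsonSubgroupAOf (S : Subgroup G) ≤ R) :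
    ∃ g ∈ normalizer ((thompsonSubgroupAOf (S : Subgroup G) : Subgroup G) : Set G),
      R ≤ (S : Subgroup G).map (MulAut.conj g).toMonoidHom ∧
      thompsonSubgroupAOf R = thompsonSubgroupAOf (S : Subgroup G) := by
  obtain ⟨Q, hQ⟩ := hR.exists_le_sylow
  obtain ⟨g, hg⟩ := MulAction.exists_smul_eq G S Q
  have hQe : (Q : Subgroup G) = (S : Subgroup G).map (MulAut.conj g).toMonoidHom := by
    rw [← hg, Sylow.coe_subgroup_smul]; rfl
  have hcard : abOrd (Q : Subgroup G) ≤ abOrd (S : Subgroup G) := by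
    obtain ⟨B, hB⟩ := exists_maxAb (S : Subgroup G)
    have h := isMaxIn_map (goodPred_abelian 1) (MulAut.conj g) hB
    rw [← hQe] at h
    rw [← card_eq_abOrd h, ← card_eq_abOrd hB, Subgroup.card_map_of_injective (MulAut.conj g).injective]
  have hle : thompsonSubgroupAOf (S : Subgroup G) ≤ thompsonSubgroupAOf (Q : Subgroup G) :=
    thompson_mono_of_eq (hJ.trans hQ) hcard
  rw [hQe, ← thompson_map_conj] at hle
  have he := eq_of_le_of_card_ge hle (Subgroup.card_map_of_injective (MulAut.conj g).injective).le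
  refine ⟨g, mem_normalizer_iff_map_conj_eq.2 he.symm, hQe ▸ hQ, ?_⟩
  have hJQ : thompsonSubgroupAOf (Q : Subgroup G) = thompsonSubgroupAOf (S : Subgroup G) := by
    rw [hQe, ← thompson_map_conj, ← he]
  rw [← hJQ]
  exact Techniques.thompsonAOf_eq_of_le hQ fun A hA => (le_thompson hA).trans (hJQ.le.trans hJ)

variable {S : Sylow p G} {H Z : Subgroup G}

theorem Ctx.sylow_le (c : Ctx S H Z) : (S : Subgroup G) ≤ H := by
  rw [c.hH, c.hZ]; exact le_normalizer.trans (centerThompsonA_normalizer_le _)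

theorem Ctx.le_sylow (c : Ctx S H Z) : Z ≤ (S : Subgroup G) := c.hZ ▸ centerThompsonA_le _

theorem Ctx.normalizer_sylow_le (c : Ctx S H Z) : normalizer ((S : Subgroup G) : Set G) ≤ H := by
  rw [c.hH, c.hZ]; exact centerThompsonA_normalizer_le _

theorem Ctx.normalizer_J_le (c : Ctx S H Z) :
    normalizer ((thompsonSubgroupAOf (S : Subgroup G) : Subgroup G) : Set G) ≤ H := by
  rw [c.hH, c.hZ]; exact normalizer_thompson_le _

theorem Ctx.J_le_centralizer (c : Ctx S H Z) :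
    thompsonSubgroupAOf (S : Subgroup G) ≤ centralizer (Z : Set G) := by
  rw [le_centralizer_iff, c.hZ]; exact inf_le_right

theorem Ctx.pgroup_le (c : Ctx S H Z) {R : Subgroup G} (hR : IsPGroup p R)
    (hJ : thompsonSubgroupAOf (S : Subgroup G) ≤ R) : R ≤ H := by
  obtain ⟨g, hg, hRg, -⟩ := thompson_eq_conj S hR hJ
  refine hRg.trans ?_
  rintro _ ⟨s, hs, rfl⟩
  have hgH := c.normalizer_J_le hg
  exact H.mul_mem (H.mul_mem hgH (c.sylow_le hs)) (H.inv_mem hgH)

theorem Ctx.le_member (c : Ctx S H Z) {A : Subgroup G} (hA : MaxAb (S : Subgroup G) A) : Z ≤ A := by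
  rw [c.hZ, ← zCore_abelian_eq]; exact zCore_le_of_max hA

theorem Ctx.comm (c : Ctx S H Z) {x y : G} (hx : x ∈ Z) (hy : y ∈ Z) : x * y = y * x := by
  rw [c.hZ, ← zCore_abelian_eq] at hx hy; exact zCore_comm (goodPred_abelian 1) _ hx hy

end CfsgLib.LocalEven.ZJFail
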