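import Cfsg.Agent.Lib.LocalEven.ThompsonMeasure
import Cfsg.Agent.Lib.LocalEvenB.ZJLocalFree

/-!
# Priorities of `p`-subgroups for a failure of `Z(J(S))` to control fusion

* `k3`, `key`: the priority of a subgroup
* `k3_le`, `k3_lt_of_member`, `k3_lt_of_abelian`, `k3_conj_le`: comparisons
-/

set_option autoImplicit false
set_option linter.all false

namespace CfsgLib.LocalEven.ZJFail

open Subgroup Cfsg CfsgLib.PLocal CfsgLib.LocalEven.JMeasure

variable {G : Type*} [Group G]

/-- The preimage of the Thompson subgroup of the image modulo `Y`. -/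
def J2 (Y U : Subgroup G) [Y.Normal] : Subgroup G :=
  (thompsonSubgroupAOf (U.map (QuotientGroup.mk' Y))).comap (QuotientGroup.mk' Y)

/-- The subgroup generated by the largest abelian subgroups of `S` contained in `U`. -/
def memGen (S U : Subgroup G) : Subgroup G := sSup {A : Subgroup G | MaxAb S A ∧ A ≤ U}

theorem memGen_le (S U : Subgroup G) : memGen S U ≤ U := sSup_le fun _ h => h.2

theorem le_memGen {S U A : Subgroup G} (hA : MaxAb S A) (hAU : A ≤ U) : A ≤ memGen S U :=
  le_sSup ⟨hA, hAU⟩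

theorem J2_le {Y U : Subgroup G} [Y.Normal] (hY : Y ≤ U) : J2 Y U ≤ U := by
  refine (comap_mono (thompson_le _)).trans ?_
  rw [comap_map_eq, QuotientGroup.ker_mk', sup_eq_left.2 hY]

variable [Finite G]

/-- The main priority. -/
noncomputable def k3 (S Y U : Subgroup G) [Y.Normal] : ℕ :=
  abOrd (U.map (QuotientGroup.mk' Y)) * (Nat.card G + 1) ^ 2 + Nat.card (J2 Y U) * (Nat.card G + 1) +
    Nat.card (memGen S U)

/-- The priority. -/
noncomputable def key (S Y U : Subgroup G) [Y.Normal] : ℕ :=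
  k3 S Y U * (Nat.card G + 1) ^ 2 +
    Nat.card ↥(S ⊓ normalizer (U : Set G)) * (Nat.card G + 1) + Nat.card U

theorem key_lt_of_k3 {S Y U W : Subgroup G} [Y.Normal] (h : k3 S Y U < k3 S Y W) :
    key S Y U < key S Y W := by
  have h1 := card_le_card_group (S ⊓ normalizer (U : Set G))
  have h2 := card_le_card_group U
  unfold key
  nlinarith

theorem key_lt_of_norm {S Y U W : Subgroup G} [Y.Normal] (h : k3 S Y U ≤ k3 S Y W)
    (hn : Nat.card ↥(S ⊓ normalizer (U : Set G)) < Nat.card ↥(S ⊓ normalizer (W : Set G))) :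
    key S Y U < key S Y W := by
  have h2 := card_le_card_group U
  unfold key
  nlinarith

theorem key_lt_of_card {S Y U W : Subgroup G} [Y.Normal] (h : k3 S Y U ≤ k3 S Y W)
    (hn : Nat.card ↥(S ⊓ normalizer (U : Set G)) ≤ Nat.card ↥(S ⊓ normalizer (W : Set G)))
    (hc : Nat.card U < Nat.card W) : key S Y U < key S Y W := by
  unfold key
  nlinarith

theorem J2_mono {Y U W : Subgroup G} [Y.Normal]
    (hJ : thompsonSubgroupAOf (U.map (QuotientGroup.mk' Y)) ≤ W.map (QuotientGroup.mk' Y))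
    (he : abOrd (W.map (QuotientGroup.mk' Y)) ≤ abOrd (U.map (QuotientGroup.mk' Y))) :
    J2 Y U ≤ J2 Y W := comap_mono (thompson_mono_of_eq hJ he)

theorem memGen_mono {S U W : Subgroup G} (hF : ∀ A, MaxAb S A → A ≤ U → A ≤ W) :
    memGen S U ≤ memGen S W := sSup_le fun A hA => le_memGen hA.1 (hF A hA.1 hA.2)

theorem k3_le {S Y U W : Subgroup G} [Y.Normal]
    (hJ : thompsonSubgroupAOf (U.map (QuotientGroup.mk' Y)) ≤ W.map (QuotientGroup.mk' Y))
    (hF : ∀ A, MaxAb S A → A ≤ U → A ≤ W) : k3 S Y U ≤ k3 S Y W := by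
  rcases (abOrd_le_of_thompson_le hJ).lt_or_eq with ha | ha
  · have h1 := card_le_card_group (J2 Y U)
    have h2 := card_le_card_group (memGen S U)
    unfold k3
    nlinarith
  · have h1 := card_le_of_le (J2_mono hJ ha.ge)
    have h2 := card_le_of_le (memGen_mono hF)
    unfold k3
    nlinarith

theorem k3_mono {S Y U W : Subgroup G} [Y.Normal] (h : U ≤ W) : k3 S Y U ≤ k3 S Y W :=
  k3_le ((thompson_le _).trans (map_mono h)) fun _ _ hA => hA.trans h

theorem k3_lt_of_member {S Y U W A : Subgroup G} [Y.Normal] (h : U ≤ W) (hA : MaxAb S A) (hAW : A ≤ W)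
    (hAU : ¬ A ≤ U) : k3 S Y U < k3 S Y W := by
  have hJ : thompsonSubgroupAOf (U.map (QuotientGroup.mk' Y)) ≤ W.map (QuotientGroup.mk' Y) :=
    (thompson_le _).trans (map_mono h)
  have hlt : Nat.card (memGen S U) < Nat.card (memGen S W) := by
    refine Transfer.card_lt_of_lt (lt_of_le_of_ne (memGen_mono fun _ _ hB => hB.trans h) fun e => hAU ?_)
    exact ((le_memGen hA hAW).trans e.ge).trans (memGen_le _ _)
  rcases (abOrd_le_of_thompson_le hJ).lt_or_eq with ha | ha
  · have h1 := card_le_card_group (J2 Y U)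
    have h2 := card_le_card_group (memGen S U)
    unfold k3
    nlinarith
  · have h1 := card_le_of_le (J2_mono hJ ha.ge)
    unfold k3
    nlinarith

theorem k3_lt_of_abelian {S Y U W : Subgroup G} [Y.Normal] (h : U ≤ W) {B : Subgroup (G ⧸ Y)}
    (hB : IsMulCommutative B) (hBW : B ≤ W.map (QuotientGroup.mk' Y))
    (hc : abOrd (U.map (QuotientGroup.mk' Y)) ≤ Nat.card B)
    (hBU : ¬ B ≤ U.map (QuotientGroup.mk' Y)) : k3 S Y U < k3 S Y W := by
  have hJ : thompsonSubgroupAOf (U.map (QuotientGroup.mk' Y)) ≤ W.map (QuotientGroup.mk' Y) :=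
    (thompson_le _).trans (map_mono h)
  rcases (abOrd_le_of_thompson_le hJ).lt_or_eq with ha | ha
  · have h1 := card_le_card_group (J2 Y U)
    have h2 := card_le_card_group (memGen S U)
    unfold k3
    nlinarith
  · have hBm : MaxAb (W.map (QuotientGroup.mk' Y)) B :=
      ⟨hBW, hB, fun C hC hC' => (card_le_abOrd hC hC').trans (ha ▸ hc)⟩
    have h1 : Nat.card (J2 Y U) < Nat.card (J2 Y W) := by
      refine Transfer.card_lt_of_lt (lt_of_le_of_ne (J2_mono hJ ha.ge) fun e => hBU ?_)
      simp only [J2] at e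
      exact (le_thompson hBm).trans ((comap_injective (QuotientGroup.mk'_surjective Y) e).ge.trans (thompson_le _))
    have h2 := card_le_card_group (memGen S U)
    unfold k3
    nlinarith

theorem map_mk_conj {Y : Subgroup G} [Y.Normal] (g : G) (U : Subgroup G) :
    (U.map (MulAut.conj g).toMonoidHom).map (QuotientGroup.mk' Y) =
      (U.map (QuotientGroup.mk' Y)).map (MulAut.conj (QuotientGroup.mk' Y g)).toMonoidHom := by
  rw [map_map, map_map]
  congr 1

theorem k3_conj_le {S Y U : Subgroup G} [Y.Normal] (g : G) (hgS : U.map (MulAut.conj g).toMonoidHom ≤ S) :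
    k3 S Y U ≤ k3 S Y (U.map (MulAut.conj g).toMonoidHom) := by
  have h0 : abOrd (U.map (QuotientGroup.mk' Y)) ≤
      abOrd ((U.map (MulAut.conj g).toMonoidHom).map (QuotientGroup.mk' Y)) := by
    obtain ⟨B, hB⟩ := exists_maxAb (U.map (QuotientGroup.mk' Y))
    have h := (isMaxIn_map (goodPred_abelian 1) (MulAut.conj (QuotientGroup.mk' Y g)) hB)
    rw [← card_eq_abOrd hB, map_mk_conj,
      ← Subgroup.card_map_of_injective (f := (MulAut.conj (QuotientGroup.mk' Y g)).toMonoidHom) (MulAut.conj _).injective]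
    exact card_le_abOrd h.1 h.2.1
  have h1 : Nat.card (J2 Y U) ≤ Nat.card (J2 Y (U.map (MulAut.conj g).toMonoidHom)) := by
    rw [← Subgroup.card_map_of_injective (f := (MulAut.conj g).toMonoidHom) (K := J2 Y U) (MulAut.conj g).injective]
    refine card_le_of_le ?_
    rintro _ ⟨x, hx, rfl⟩
    rw [J2, mem_comap, map_mk_conj, ← thompson_map_conj]
    exact ⟨_, hx, (map_mul _ _ _).trans (by rw [map_mul, map_inv]; rfl) |>.symm⟩
  have h2 : Nat.card (memGen S U) ≤ Nat.card (memGen S (U.map (MulAut.conj g).toMonoidHom)) := by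
    rw [← Subgroup.card_map_of_injective (f := (MulAut.conj g).toMonoidHom) (K := memGen S U) (MulAut.conj g).injective]
    refine card_le_of_le ?_
    rw [map_le_iff_le_comap]
    refine sSup_le fun A hA => map_le_iff_le_comap.1 (le_memGen ?_ (map_mono hA.2))
    refine ⟨(map_mono hA.2).trans hgS, (goodPred_abelian 1).map_aut _ hA.1.2.1, fun B hB hB' => ?_⟩
    rw [Subgroup.card_map_of_injective (MulAut.conj g).injective]
    exact hA.1.2.2 B hB hB'
  unfold k3
  nlinarith

/-- The conclusion: `F(p)` is involved in `H` and a generator of the automorphisms of a subgroup of order `p` of `Z`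
is induced by `H`. -/
def Concl (p : ℕ) [Fact p.Prime] (H Z : Subgroup G) : Prop :=
  Involves ↥(fOver (ZMod p)) ↥H ∧ ∃ h ∈ H, ∃ v ∈ Z, orderOf v = p ∧ ∃ k : (ZMod p)ˣ,
    (∀ w, w ∈ zpowers k) ∧ h * v * h⁻¹ = v ^ (k : ZMod p).val

end CfsgLib.LocalEven.ZJFail
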