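import Cfsg.Agent.Lib.LocalEven.ZJFailKey
import Cfsg.Agent.Lib.LocalEven.QuadCore
import Cfsg.Agent.Lib.LocalEven.FInvolve

/-!
# From a quadratic configuration to `F(p)` inside the normalizer

* `concl_of_plane`
-/

set_option autoImplicit false
set_option linter.all false

namespace CfsgLib.LocalEven.ZJFail

open Subgroup Cfsg CfsgLib.LocalEvenB
open scoped commutatorElement

variable {G : Type*} [Group G] [Finite G] {p : ℕ} [Fact p.Prime]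

theorem mem_normalizer_of_conj {N : Subgroup G} {g : G} (h : ∀ w ∈ N, g * w * g⁻¹ ∈ N) :
    g ∈ normalizer (N : Set G) :=
  mem_normalizer_iff_map_conj_eq.2 (eq_of_le_of_card_ge
    (by rintro _ ⟨w, hw, rfl⟩; exact h w hw)
    (Subgroup.card_map_of_injective (MulAut.conj g).injective).ge)

theorem concl_of_plane (hp : p ≠ 2) {H Z X P V A X₀ Y : Subgroup G} {Mx : Subgroup ↥X}
    (s : QuadCore.Setup p (V.subgroupOf X) (P.subgroupOf X) (A.subgroupOf X) Mx (X₀.subgroupOf X)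
      (Y.subgroupOf X))
    (hPX : P ≤ X) (hVP : V ≤ P) (hX₀V : X₀ ≤ V) (hPH : P ≤ H) (hAH : A ≤ H) (hXZ : X₀ ≤ Z)
    (hXc : ∀ v ∈ X₀, ∀ w ∈ X₀, v * w = w * v) (hXp : IsPGroup p X₀)
    (hact : ∀ x ∈ Mx, ActsAsMember H P (x : G)) : Concl p H Z := by
  obtain ⟨N₁, N₂, hn1, hn2, h12, h2V, hc2, hp2, n, hn, a, ha, u, hu, e₁, he1, e₂, he2, he12, he1N,
    r1, r2, r3, r4⟩ := s.exists_plane hp
  obtain ⟨h, hh, hagree⟩ := hact n hn
  obtain ⟨M₁, hM₁⟩ : ∃ M₁, M₁ = N₁.map X.subtype := ⟨_, rfl⟩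
  obtain ⟨M₂, hM₂⟩ : ∃ M₂, M₂ = N₂.map X.subtype := ⟨_, rfl⟩
  have hm12 : M₁ ≤ M₂ := hM₁ ▸ hM₂ ▸ map_mono h12
  have h2P : ∀ w ∈ N₂, (w : G) ∈ P := fun w hw => hVP (h2V hw)
  have hfix : ∀ w ∈ N₂, h * (w : G) * h⁻¹ = ((n * w * n⁻¹ : ↥X) : G) := fun w hw => by
    rw [hagree _ (h2P w hw)]; rfl
  obtain ⟨D, hD⟩ : ∃ D, D = H ⊓ normalizer (M₁ : Set G) ⊓ normalizer (M₂ : Set G) := ⟨_, rfl⟩
  have hXn : ∀ (N : Subgroup ↥X), N.Normal → ∀ x : ↥X, (x : G) ∈ normalizer ((N.map X.subtype : Subgroup G) : Set G) := by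
    intro N hN x
    refine mem_normalizer_of_conj ?_
    rintro _ ⟨w, hw, rfl⟩
    exact ⟨x * w * x⁻¹, hN.conj_mem w hw x, rfl⟩
  have hDX : ∀ x : ↥X, (x : G) ∈ H → (x : G) ∈ D := fun x hx => by
    rw [hD, hM₁, hM₂]; exact ⟨⟨hx, hXn N₁ hn1 x⟩, hXn N₂ hn2 x⟩
  have hhD : h ∈ D := by
    rw [hD, hM₁, hM₂]
    refine ⟨⟨hh, mem_normalizer_of_conj ?_⟩, mem_normalizer_of_conj ?_⟩
    · rintro _ ⟨w, hw, rfl⟩
      exact ⟨n * w * n⁻¹, hn1.conj_mem w hw n, (hfix w (h12 hw)).symm⟩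
    · rintro _ ⟨w, hw, rfl⟩
      exact ⟨n * w * n⁻¹, hn2.conj_mem w hw n, (hfix w hw).symm⟩
  refine ⟨?_, ?_⟩
  · -- the section
    obtain ⟨R, hR⟩ : ∃ R, R = M₁.subgroupOf D := ⟨_, rfl⟩
    have hDM₁ : D ≤ normalizer (M₁ : Set G) := hD ▸ inf_le_left.trans inf_le_right
    haveI : R.Normal := ⟨fun w hw x => by
      rw [hR, mem_subgroupOf] at hw ⊢
      simpa using (mem_normalizer_iff.1 (hDM₁ x.2) _).1 hw⟩
    have hM₁mem : ∀ w ∈ N₁, ∀ hw : ((w : ↥X) : G) ∈ D, QuotientGroup.mk' R ⟨_, hw⟩ = 1 := by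
      intro w hw hwD
      rw [← MonoidHom.mem_ker, QuotientGroup.ker_mk', hR, mem_subgroupOf, hM₁]
      exact mem_map_of_mem X.subtype hw
    obtain ⟨π, hπ⟩ : ∃ π, π = QuotientGroup.mk' R := ⟨_, rfl⟩
    have hπ1 : ∀ (x : ↥D) (w : ↥X), w ∈ N₁ → (x : G) = (w : G) → π x = 1 := fun x w hw hxw => by
      have hwD : (w : G) ∈ D := hxw ▸ x.2
      rw [hπ, show x = ⟨_, hwD⟩ from Subtype.ext hxw]
      exact hM₁mem w hw hwD
    obtain ⟨b₁, hb₁⟩ : ∃ b : ↥D, (b : G) = e₁ := ⟨⟨_, hDX e₁ (hPH (h2P _ he12))⟩, rfl⟩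
    obtain ⟨b₂, hb₂⟩ : ∃ b : ↥D, (b : G) = e₂ := ⟨⟨_, hDX e₂ (hPH (h2P _ he2))⟩, rfl⟩
    obtain ⟨ba, hba⟩ : ∃ b : ↥D, (b : G) = a := ⟨⟨_, hDX a (hAH ha)⟩, rfl⟩
    obtain ⟨bh, hbh⟩ : ∃ b : ↥D, (b : G) = h := ⟨⟨_, hhD⟩, rfl⟩
    have hF : Involves ↥(fOver (ZMod p)) (↥D ⧸ R) := by
      refine FInv.involves_fOver_of_plane hp u hu (e₁ := π b₁) (e₂ := π b₂) (a := π ba) (h := π bh) ?_ ?_ ?_ ?_ ?_ ?_ ?_ ?_
      · rw [← commutatorElement_eq_one_iff_commute, ← map_commutatorElement]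
        exact hπ1 _ ⁅e₁, e₂⁆ (hc2 (commutator_mem_commutator he12 he2))
          (by simp [commutatorElement_def, hb₁, hb₂])
      · rw [← map_pow]; exact hπ1 _ (e₁ ^ p) (hp2 _ he12) (by simp [hb₁])
      · rw [← map_pow]; exact hπ1 _ (e₂ ^ p) (hp2 _ he2) (by simp [hb₂])
      · intro h0
        rw [hπ, ← MonoidHom.mem_ker, QuotientGroup.ker_mk', hR, mem_subgroupOf, hM₁, hb₁] at h0
        obtain ⟨w, hw, hwe⟩ := h0
        exact he1N ((Subtype.ext hwe : w = e₁) ▸ hw)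
      · rw [← map_inv, ← map_mul, ← map_mul]
        exact (inv_mul_eq_one.1 (by rw [← map_inv, ← map_mul]; exact hπ1 _ _ r2 (by simp [hb₁, hba]))).symm
      · rw [← map_inv, ← map_mul, ← map_mul, ← map_mul]
        exact (inv_mul_eq_one.1 (by rw [← map_inv, ← map_mul]; exact hπ1 _ _ r3 (by simp [hb₁, hb₂, hba]))).symm
      · rw [← map_inv, ← map_mul, ← map_mul, ← map_pow]
        exact (inv_mul_eq_one.1 (by
          rw [← map_inv, ← map_mul]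
          refine hπ1 _ _ r1 ?_
          have hf := hfix e₁ he12
          push_cast at hf ⊢
          rw [hb₁, hbh, hf])).symm
      · rw [← map_inv, ← map_mul, ← map_mul, ← map_pow]
        exact (inv_mul_eq_one.1 (by
          rw [← map_inv, ← map_mul]
          refine hπ1 _ _ r4 ?_
          have hf := hfix e₂ he2
          push_cast at hf ⊢
          rw [hb₂, hbh, hf])).symm
    have hDH : D ≤ H := hD ▸ inf_le_left.trans inf_le_left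
    exact involves_of_hom (inclusion hDH) (inclusion_injective hDH) (QuotientGroup.mk' R)
      (QuotientGroup.mk'_surjective R) hF
  · -- the automorphism of a subgroup of order `p`
    have hX₀X : X₀ ≤ X := hX₀V.trans (hVP.trans hPX)
    have hhX : ∀ x ∈ X₀, h * x * h⁻¹ ∈ X₀ := fun x hx => by
      rw [hagree x (hVP (hX₀V hx))]
      exact (mem_normalizer_iff.1 (s.mn hn) ⟨x, hX₀X hx⟩).1 hx
    obtain ⟨k, hk⟩ : ∃ k, k = (u : ZMod p).val := ⟨_, rfl⟩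
    obtain ⟨v, hv, hv1, hvh⟩ : ∃ v ∈ X₀, v ≠ 1 ∧ h * v * h⁻¹ = v ^ k := by
      by_contra hc
      push Not at hc
      obtain ⟨B, hB⟩ : ∃ B : Set G, B = ↑(M₁ ⊓ X₀) := ⟨_, rfl⟩
      let φ : G → G := fun x => h * x * h⁻¹ * (x ^ k)⁻¹
      have hinj : Set.InjOn φ (X₀ : Set G) := by
        intro x hx y hy hxy
        have hxy' : h * x * h⁻¹ * (x ^ k)⁻¹ = h * y * h⁻¹ * (y ^ k)⁻¹ := hxy
        by_contra hne
        refine hc (y⁻¹ * x) (X₀.mul_mem (X₀.inv_mem hy) hx) (fun h0 => hne (inv_mul_eq_one.1 h0).symm) ?_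
        have hcom : Commute y⁻¹ x := (show Commute y x from hXc y hy x hx).inv_left
        rw [hcom.mul_pow, inv_pow]
        calc h * (y⁻¹ * x) * h⁻¹ = (h * y * h⁻¹)⁻¹ * (h * x * h⁻¹) := by group
          _ = (h * y * h⁻¹)⁻¹ * (h * y * h⁻¹ * (y ^ k)⁻¹ * x ^ k) := by rw [← hxy']; group
          _ = (y ^ k)⁻¹ * x ^ k := by group
      have hmap : Set.MapsTo φ B B := by
        rw [hB]
        rintro x ⟨hx1, hx2⟩
        have hh1 : h * x * h⁻¹ ∈ M₁ := (mem_normalizer_iff.1 ((hD.le hhD).1.2) x).1 hx1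
        exact ⟨M₁.mul_mem hh1 (M₁.inv_mem (M₁.pow_mem hx1 k)),
          X₀.mul_mem (hhX x hx2) (X₀.inv_mem (X₀.pow_mem hx2 k))⟩
      have hφ1 : φ (e₁ : G) ∈ B := by
        rw [hB]
        refine ⟨?_, X₀.mul_mem (hhX _ he1) (X₀.inv_mem (X₀.pow_mem he1 k))⟩
        show h * (e₁ : G) * h⁻¹ * ((e₁ : G) ^ k)⁻¹ ∈ M₁
        rw [hM₁, hfix e₁ he12]
        refine ⟨n * e₁ * n⁻¹ * (e₁ ^ k)⁻¹, ?_, by simp⟩
        have := hn1.conj_mem _ r1 (e₁ ^ k)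
        rw [← hk] at this
        simpa [mul_assoc] using this
      obtain ⟨y, hy, hye⟩ := (((Set.toFinite B).injOn_iff_bijOn_of_mapsTo hmap).1
        (hinj.mono (hB ▸ fun x hx => hx.2))).surjOn hφ1
      refine he1N ?_
      rw [hB] at hy
      have : y = e₁ := hinj hy.2 he1 hye
      obtain ⟨w, hw, hwe⟩ := (hM₁.le hy.1)
      exact (Subtype.ext (hwe.trans this) : w = e₁) ▸ hw
    obtain ⟨j, hj⟩ := hXp ⟨v, hv⟩
    obtain ⟨m, hm⟩ : ∃ m, orderOf v = p ^ (m + 1) := by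
      obtain ⟨i, -, hi⟩ := (Nat.dvd_prime_pow Fact.out).1 (orderOf_dvd_of_pow_eq_one
        (by simpa using congrArg Subtype.val hj : v ^ p ^ j = 1))
      cases i with
      | zero => exact absurd (orderOf_eq_one_iff.1 (by simpa using hi)) hv1
      | succ m => exact ⟨m, hi⟩
    refine ⟨h, hh, v ^ p ^ m, hXZ (X₀.pow_mem hv _), ?_, u, hu, ?_⟩
    · rw [orderOf_pow_of_dvd (pow_ne_zero _ (Fact.out : p.Prime).ne_zero) (hm ▸ pow_dvd_pow p (Nat.le_succ m)), hm,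
        pow_succ, Nat.mul_div_cancel_left _ (pow_pos (Fact.out : p.Prime).pos m)]
    · rw [← conj_pow, hvh, hk, ← pow_mul, ← pow_mul, mul_comm]

end CfsgLib.LocalEven.ZJFail
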