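import Cfsg.Agent.Lib.LocalEven.ZJFailBad
import Cfsg.Agent.Lib.LocalEven.ZJFailPlane
import Cfsg.Agent.Lib.PGroups.Basic

/-!
# A quadratic subgroup for a failing subgroup of largest priority

* `Bad.exists_quadratic`
-/

set_option autoImplicit false
set_option linter.all false

open scoped commutatorElement Pointwise

namespace CfsgLib.LocalEven.ZJFail

open Subgroup Cfsg CfsgLib.PLocal CfsgLib.LocalEven.JMeasure CfsgLib.LocalEvenB CfsgLib.Transfer

variable {G : Type*} [Group G] [Finite G]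

theorem normalizer_le_J2 {Y : Subgroup G} [Y.Normal] (U : Subgroup G) :
    normalizer (U : Set G) ≤ normalizer ((J2 Y U : Subgroup G) : Set G) := by
  intro y hy
  refine mem_normalizer_of_conj fun w hw => ?_
  have h1 := JMeasure.normalizer_le (U.map (QuotientGroup.mk' Y))
    (le_normalizer_map (QuotientGroup.mk' Y) (mem_map_of_mem _ hy))
  rw [J2, mem_comap] at hw ⊢
  rw [map_mul, map_mul, map_inv]
  exact (mem_normalizer_iff.1 h1 _).1 hw

theorem normalizer_le_memGen {S U : Subgroup G} (hUS : U ≤ S) :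
    normalizer (U : Set G) ≤ normalizer ((memGen S U : Subgroup G) : Set G) := by
  intro y hy
  refine mem_normalizer_iff_map_conj_eq.2 (eq_of_le_of_card_ge ?_
    (Subgroup.card_map_of_injective (MulAut.conj y).injective).ge)
  refine map_le_iff_le_comap.2 (sSup_le fun A hA => map_le_iff_le_comap.1 ?_)
  have hle : A.map (MulAut.conj y).toMonoidHom ≤ U := by
    rintro _ ⟨a, ha, rfl⟩
    exact conj_mem_of_normalizer hy a (hA.2 ha)
  refine le_memGen ⟨hle.trans hUS, (goodPred_abelian 1).map_aut _ hA.1.2.1, fun B hB hB' => ?_⟩ hle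
  rw [Subgroup.card_map_of_injective (MulAut.conj y).injective]
  exact hA.1.2.2 B hB hB'

variable {p : ℕ} [Fact p.Prime] {S : Sylow p G} {H Z Y P : Subgroup G} [Y.Normal]

/-- A quadratic subgroup whose conjugates raise the priority. -/
theorem Bad.exists_quadratic (b : Bad S H Z Y P) (hp : p ≠ 2) {X₀ V : Subgroup G}
    (hXZ : X₀ ≤ Z) (hXV : X₀ ≤ V)
    (hVD : V ≤ (centerThompsonAOf (P.map (QuotientGroup.mk' Y))).comap (QuotientGroup.mk' Y))
    (hLV : normalizer (P : Set G) ≤ normalizer (V : Set G))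
    (hTX : (S : Subgroup G) ⊓ normalizer (P : Set G) ≤ normalizer (X₀ : Set G))
    (hM : normalizer (X₀ : Set G) ≠ ⊤)
    (hmem : ∀ A, MaxAb (S : Subgroup G) A → A ≤ P → V ≤ A) :
    ∃ A : Subgroup G, A ≤ (S : Subgroup G) ⊓ normalizer (P : Set G) ∧ ¬ A ≤ P ∧
      ⁅⁅V, A⁆, A⁆ ≤ Y ∧ ⁅X₀, A⁆ ≤ Y ∧
      ∀ U : Subgroup G, U ≤ (S : Subgroup G) → ∀ x ∈ normalizer (P : Set G), P ≤ U →
        A.map (MulAut.conj x).toMonoidHom ≤ U → k3 (S : Subgroup G) Y P < k3 (S : Subgroup G) Y U := by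
  obtain ⟨π, hπ⟩ : ∃ π, π = QuotientGroup.mk' Y := ⟨_, rfl⟩
  have hπs : Function.Surjective π := hπ ▸ QuotientGroup.mk'_surjective Y
  have hker : π.ker = Y := hπ ▸ QuotientGroup.ker_mk' Y
  rw [← hπ] at hVD
  obtain ⟨T, hT⟩ : ∃ T, T = (S : Subgroup G) ⊓ normalizer (P : Set G) := ⟨_, rfl⟩
  have hTS : T ≤ (S : Subgroup G) := hT ▸ inf_le_left
  have hTL : T ≤ normalizer (P : Set G) := hT ▸ inf_le_right
  have hTp : IsPGroup p T := S.2.to_le hTS
  have hPT : P ≤ T := hT ▸ le_inf b.ps le_normalizer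
  rw [← hT]
  have hYZ : Y ≤ Z := b.hY ▸ inf_le_left
  have hYc : Y ≤ center G := b.hY ▸ inf_le_right
  have hconj : ∀ x ∈ normalizer (P : Set G), (P.map π).map (MulAut.conj (π x)).toMonoidHom = P.map π := fun x hx =>
    mem_normalizer_iff_map_conj_eq.1 (le_normalizer_map π (mem_map_of_mem π hx))
  obtain ⟨Rc, hRc⟩ : ∃ Rc, Rc = (centralizer ((X₀.map π : Subgroup (G ⧸ Y)) : Set (G ⧸ Y))).comap π := ⟨_, rfl⟩
  have hXRc : ∀ y ∈ Rc, ∀ v ∈ X₀, ⁅v, y⁆ ∈ Y := by
    intro y hy v hv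
    rw [hRc, mem_comap, mem_centralizer_iff] at hy
    rw [← hker, MonoidHom.mem_ker, map_commutatorElement, commutatorElement_eq_one_iff_mul_comm]
    exact hy _ (mem_map_of_mem π hv)
  have hMemRc : ∀ A, MaxAb (S : Subgroup G) A → A ≤ Rc := by
    intro A hA a ha
    rw [hRc, mem_comap, mem_centralizer_iff]
    rintro _ ⟨v, hv, rfl⟩
    rw [← map_mul, ← map_mul, comm_of_mem hA.2.1 (b.ctx.le_member hA (hXZ hv)) ha]
  have hVle : V ≤ P := by
    refine hVD.trans ((comap_mono (centerThompsonA_le _)).trans ?_)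
    rw [comap_map_eq, hker, sup_eq_left.2 b.yle]
  by_cases hα : ∃ A, MaxAb (S : Subgroup G) A ∧ A ≤ T ∧ ¬ A ≤ P
  · obtain ⟨A₀, hA₀, hA₀T, hA₀P⟩ := hα
    have hiff : ∀ A, MaxAb T A → MaxAb (S : Subgroup G) A := fun A hA =>
      ⟨hA.1.trans hTS, hA.2.1, fun B hB hB' => (hA₀.2.2 B hB hB').trans (hA.2.2 A₀ hA₀T hA₀.2.1)⟩
    have hVV : ∀ A, MaxAb (S : Subgroup G) A → ⁅V, V⁆ ≤ A := by
      intro A hA
      refine le_trans ?_ (hYZ.trans (b.ctx.le_member hA))
      rw [commutator_le]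
      intro v hv w hw
      rw [← hker, MonoidHom.mem_ker, map_commutatorElement, commutatorElement_eq_one_iff_mul_comm]
      exact mem_centralizer_iff.1 (hVD hw).2 _ (hVD hv).1
    obtain ⟨A, hA, hAP, -, hVA⟩ := exists_max_normalized hp (goodPred_abelian (G := G) p) (S := T) (T := T) (B := V)
      hTp (hVle.trans hPT) (hTL.trans hLV) le_rfl le_normalizer (fun A => ¬ A ≤ P)
      (fun A A' _ _ hA' _ hlt hle => hlt.not_ge (le_inf (hmem A' (hiff A' hA') hle) le_rfl))
      ⟨A₀, ⟨hA₀T, hA₀.2.1, fun B hB hB' => hA₀.2.2 B (hB.trans hTS) hB'⟩, hA₀P, hVV A₀ hA₀⟩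
    have hAS : MaxAb (S : Subgroup G) A := hiff A hA
    refine ⟨A, hA.1, hAP, ?_, ?_, ?_⟩
    · refine (commutator_mono (?_ : ⁅V, A⁆ ≤ A) le_rfl).trans ?_
      · rw [commutator_le]
        intro v hv a ha
        rw [commutatorElement_def]
        exact A.mul_mem ((mem_normalizer_iff.1 (hVA hv) a).1 ha) (A.inv_mem ha)
      · rw [commutator_le]
        intro a ha a' ha'
        rw [commutatorElement_eq_one_iff_mul_comm.2 (comm_of_mem hA.2.1 ha ha')]
        exact Y.one_mem
    · rw [commutator_le]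
      exact fun v hv a ha => hXRc a (hMemRc A hAS ha) v hv
    · intro U hUS x hx hPU hAU
      refine k3_lt_of_member hPU ⟨hAU.trans hUS, (goodPred_abelian 1).map_aut _ hAS.2.1, fun B hB hB' => ?_⟩ hAU
        fun hle => hAP fun a ha => ?_
      · rw [Subgroup.card_map_of_injective (MulAut.conj x).injective]
        exact hAS.2.2 B hB hB'
      · exact (mem_normalizer_iff.1 hx a).2 (hle (mem_map_of_mem _ ha))
  push Not at hα
  -- no largest abelian subgroup of `S` in `T` outside `P`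
  obtain ⟨R, hR⟩ : ∃ R, R = T ⊓ Rc := ⟨_, rfl⟩
  have hRT : R ≤ T := hR ▸ inf_le_left
  have hYR : Y ≤ R := by
    refine hR ▸ le_inf (b.yle.trans hPT) fun y hy => ?_
    rw [hRc, mem_comap, show π y = 1 by rw [← MonoidHom.mem_ker, hker]; exact hy]
    exact one_mem _
  have hXD : X₀.map π ≤ centerThompsonAOf (P.map π) := map_le_iff_le_comap.2 (hXV.trans hVD)
  have hJPR : J2 Y P ≤ R := by
    refine hR ▸ le_inf ((J2_le b.yle).trans hPT) fun y hy => ?_
    rw [J2, ← hπ] at hy
    rw [hRc, mem_comap]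
    exact centralizer_le (SetLike.coe_subset_coe.2 hXD) (le_centralizer_iff.1 inf_le_right hy)
  have hJPR' : thompsonSubgroupAOf (P.map π) ≤ R.map π := by
    rw [← map_comap_eq_self_of_surjective hπs (thompsonSubgroupAOf (P.map π))]
    exact map_mono (by rw [hπ]; exact hJPR)
  have haPR : abOrd (P.map π) ≤ abOrd (R.map π) := abOrd_le_of_thompson_le hJPR'
  have hRTn : T ≤ normalizer (R : Set G) := by
    rw [hR]
    refine (le_inf le_normalizer (fun t ht => mem_normalizer_of_conj fun w hw => ?_)).trans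
      inf_normalizer_le_normalizer_inf
    rw [hRc, mem_comap] at hw ⊢
    rw [map_mul, map_mul, map_inv]
    exact (mem_normalizer_iff.1 (normalizer_le_normalizer_centralizer _
      (le_normalizer_map π (mem_map_of_mem π (hTX (hT ▸ ht))))) _).1 hw
  by_cases hβ : thompsonSubgroupAOf (R.map π) ≤ P.map π
  · exfalso
    have ha : abOrd (R.map π) ≤ abOrd (P.map π) := abOrd_le_of_thompson_le hβ
    have hJe : J2 Y R = J2 Y P := by
      rw [J2, J2, ← hπ]
      exact le_antisymm (comap_mono (thompson_mono_of_eq hβ haPR)) (comap_mono (thompson_mono_of_eq hJPR' ha))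
    have hFe : memGen (S : Subgroup G) R = memGen (S : Subgroup G) P :=
      le_antisymm (memGen_mono fun A hA hAR => hα A hA (hAR.trans hRT))
        (memGen_mono fun A hA hAP => hR ▸ le_inf (hAP.trans hPT) (hMemRc A hA))
    obtain ⟨RS, hRS⟩ : ∃ RS, RS = (S : Subgroup G) ⊓ normalizer (X₀ : Set G) ⊓ Rc := ⟨_, rfl⟩
    have hJM : thompsonSubgroupAOf (S : Subgroup G) ≤ normalizer (X₀ : Set G) :=
      b.ctx.J_le_centralizer.trans ((centralizer_le (SetLike.coe_subset_coe.2 hXZ)).trans (centralizer_le_normalizer _))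
    have hlt : R < RS := by
      refine lt_of_le_of_ne (hR ▸ hRS ▸ inf_le_inf_right _ (le_inf hTS (hT.le.trans hTX))) fun e => b.not_J_le ?_
      have hJT : thompsonSubgroupAOf (S : Subgroup G) ≤ T := by
        refine le_trans ?_ hRT
        rw [e, hRS]
        exact le_inf (le_inf (thompson_le _) hJM) (thompson_le_iff.2 hMemRc)
      exact thompson_le_iff.2 fun A hA => hα A hA ((le_thompson hA).trans hJT)
    obtain ⟨y, hy, hyR⟩ := SetLike.exists_of_lt (Transfer.lt_inf_normalizer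
      (S.2.to_le (hRS ▸ inf_le_left.trans inf_le_left)) hlt)
    have hyS : y ∈ (S : Subgroup G) := (hRS.le hy.1).1.1
    have hyT : y ∉ T := fun h => hyR (hR ▸ ⟨h, (hRS.le hy.1).2⟩)
    obtain ⟨K, hK⟩ : ∃ K, K = J2 Y P ⊔ memGen (S : Subgroup G) P := ⟨_, rfl⟩
    have hKP : K ≤ P := hK ▸ sup_le (J2_le b.yle) (memGen_le _ _)
    have hKN : ∀ x ∈ normalizer (P : Set G), x ∈ normalizer (K : Set G) := fun x hx =>
      hK ▸ normalizer_inf_le_normalizer_sup (normalizer_le_J2 P hx) (normalizer_le_memGen b.ps hx)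
    have hyK : y ∈ normalizer (K : Set G) := by
      rw [hK, ← hJe, ← hFe]
      exact normalizer_inf_le_normalizer_sup (normalizer_le_J2 R hy.2)
        (normalizer_le_memGen (hRT.trans hTS) hy.2)
    have hkey : key (S : Subgroup G) Y P < key (S : Subgroup G) Y K := by
      refine key_lt_of_norm (k3_le ?_ fun A hA hAP => (le_memGen hA hAP).trans (hK ▸ le_sup_right)) ?_
      · rw [← map_comap_eq_self_of_surjective (QuotientGroup.mk'_surjective Y) (thompsonSubgroupAOf _)]
        exact map_mono (hK ▸ le_sup_left)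
      · rw [← hT]
        refine lt_of_lt_of_le (Transfer.card_lt_of_lt (left_lt_sup.2 (fun h => hyT (h (mem_zpowers y))))) ?_
        exact card_le_of_le (sup_le (le_inf hTS fun t ht => hKN t (hTL ht))
          (zpowers_le.2 ⟨hyS, hyK⟩))
    obtain ⟨x, hx, hxn⟩ := b.fail
    obtain ⟨r, hr, hr'⟩ := b.big K (hKP.trans b.ps) hkey x (hKN x hx)
    refine hxn (b.move hM hJM hTX hx hr ?_)
    refine centralizer_le_normalizer _ (mem_centralizer_iff.2 fun v hv => ?_)
    have hvK : v ∈ K := by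
      refine hK ▸ mem_sup_left ?_
      rw [J2, mem_comap, ← hπ]
      exact (hXD (mem_map_of_mem π hv)).1
    have h1 : r⁻¹ * x * v * (r⁻¹ * x)⁻¹ = v := by
      rw [show r⁻¹ * x * v * (r⁻¹ * x)⁻¹ = r⁻¹ * (x * v * x⁻¹) * r by group, ← hr' v hvK]; group
    exact (mul_inv_eq_iff_eq_mul.1 h1).symm
  -- a largest abelian subgroup of the quotient of `R`
  have hRp : IsPGroup p ↥(R.map π) := (hTp.to_le hRT).map π
  have hVR : V ≤ R := by
    refine hR ▸ le_inf (hVle.trans hPT) fun v hv => ?_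
    rw [hRc, mem_comap, mem_centralizer_iff]
    rintro _ ⟨w, hw, rfl⟩
    exact mem_centralizer_iff.1 (hVD hv).2 _ (hXD (mem_map_of_mem π hw)).1
  have hVV : ⁅V.map π, V.map π⁆ = ⊥ := by
    rw [commutator_eq_bot_iff_le_centralizer]
    rintro _ ⟨v, hv, rfl⟩
    rw [mem_centralizer_iff]
    rintro _ ⟨w, hw, rfl⟩
    exact mem_centralizer_iff.1 (hVD hv).2 _ (hVD hw).1
  obtain ⟨B₀, hB₀, hB₀P⟩ : ∃ B, MaxAb (R.map π) B ∧ ¬ B ≤ P.map π := by
    by_contra h
    push Not at h
    exact hβ (thompson_le_iff.2 h)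
  obtain ⟨B, hB, hBP, -, hVB⟩ := exists_max_normalized hp (goodPred_abelian (G := G ⧸ Y) p) (S := R.map π)
    (T := R.map π) (B := V.map π) hRp (map_mono hVR)
    ((map_mono ((hRT.trans hTL).trans hLV)).trans (le_normalizer_map π)) le_rfl le_normalizer
    (fun B => ¬ B ≤ P.map π)
    (fun B B' _ _ hB' _ hlt hle => hlt.not_ge (le_inf (by
      rintro _ ⟨v, hv, rfl⟩
      have hB'm : MaxAb (P.map π) B' := maxAb_of_le hB' hle haPR
      refine mem_of_commutes hB'm (map_mono (f := π) hVle ⟨v, hv, rfl⟩) fun a ha => ?_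
      exact mem_centralizer_iff.1 (hVD hv).2 a (le_thompson hB'm ha)) le_rfl))
    ⟨B₀, hB₀, hB₀P, hVV ▸ bot_le⟩
  obtain ⟨A, hA⟩ : ∃ A, A = B.comap π := ⟨_, rfl⟩
  have hAR : A ≤ R := by
    refine hA ▸ (comap_mono hB.1).trans ?_
    rw [comap_map_eq, hker, sup_eq_left.2 hYR]
  have hAB : A.map π = B := hA ▸ map_comap_eq_self_of_surjective hπs B
  refine ⟨A, hAR.trans hRT, fun h => hBP (hAB ▸ map_mono h), ?_, ?_, ?_⟩
  · refine (commutator_mono (?_ : ⁅V, A⁆ ≤ A) le_rfl).trans ?_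
    · rw [commutator_le]
      intro v hv a ha
      rw [hA, mem_comap] at ha ⊢
      rw [map_commutatorElement, commutatorElement_def]
      exact B.mul_mem ((mem_normalizer_iff.1 (hVB (mem_map_of_mem π hv)) _).1 ha) (B.inv_mem ha)
    · rw [commutator_le]
      intro a ha a' ha'
      rw [hA, mem_comap] at ha ha'
      rw [← hker, MonoidHom.mem_ker, map_commutatorElement, commutatorElement_eq_one_iff_mul_comm]
      exact comm_of_mem hB.2.1 ha ha'
  · rw [commutator_le]
    exact fun v hv a ha => hXRc a ((hR.le (hAR ha)).2) v hv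
  · intro U hUS x hx hPU hAU
    refine k3_lt_of_abelian hPU (B := B.map (MulAut.conj (π x)).toMonoidHom)
      ((goodPred_abelian 1).map_aut _ hB.2.1) ?_ ?_ ?_
    · rw [← hAB, hπ, ← map_mk_conj]
      exact map_mono hAU
    · rw [Subgroup.card_map_of_injective (MulAut.conj (π x)).injective, card_eq_abOrd hB, ← hπ]
      exact haPR
    · rw [← hπ, ← hconj x hx, map_le_map_iff_of_injective (MulAut.conj (π x)).injective]
      exact hBP

end CfsgLib.LocalEven.ZJFail
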