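import Cfsg.Agent.Lib.LocalEven.ZJFailQuad

/-!
# Failure of `Z(J(S))` to control strong fusion

* `control_or_concl`: either `N(Z(J(S)))` controls the fusion in `S`, or `F(p)` is involved in it and it induces
  a full automorphism group on a subgroup of order `p` of `Z(J(S))`
* `controlsStrongFusion_or_concl`
-/

set_option autoImplicit false
set_option linter.all false

open scoped commutatorElement Pointwise

universe w

namespace CfsgLib.LocalEven.ZJFail

open Subgroup Cfsg CfsgLib.PLocal CfsgLib.LocalEven.JMeasure CfsgLib.LocalEvenB CfsgLib.Transfer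

variable {p : ℕ} [Fact p.Prime]

theorem Bad.concl {G : Type*} [Group G] [Finite G] {S : Sylow p G} {H Z Y P : Subgroup G} [Y.Normal]
    (b : Bad S H Z Y P) (hp : p ≠ 2) : Concl p H Z := by
  obtain ⟨π, hπ⟩ : ∃ π, π = QuotientGroup.mk' Y := ⟨_, rfl⟩
  have hπs : Function.Surjective π := hπ ▸ QuotientGroup.mk'_surjective Y
  have hker : π.ker = Y := hπ ▸ QuotientGroup.ker_mk' Y
  obtain ⟨L, hL⟩ : ∃ L, L = normalizer (P : Set G) := ⟨_, rfl⟩
  obtain ⟨T, hT⟩ : ∃ T, T = (S : Subgroup G) ⊓ L := ⟨_, rfl⟩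
  have hTL : T ≤ L := hT ▸ inf_le_right
  have hTS : T ≤ (S : Subgroup G) := hT ▸ inf_le_left
  have hTp : IsPGroup p T := S.2.to_le hTS
  have hPT : P ≤ T := hT ▸ le_inf b.ps (hL ▸ le_normalizer)
  have hTact : T ≤ actSub H P := by rw [hT, hL]; exact b.sylow_le_actSub
  have hTi : ¬ p ∣ T.relIndex L := by rw [hT, hL]; exact b.sylow
  have hactL : actSub H P ≤ L := hL ▸ fun x hx => hx.1
  have hYZ : Y ≤ Z := b.hY ▸ inf_le_left
  have hZS := b.ctx.le_sylow
  -- `Z` is not central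
  have hZY : ¬ Z ≤ Y := by
    intro h
    obtain ⟨x, hx, hxn⟩ := b.fail
    refine hxn ⟨x, ?_, fun _ _ => rfl⟩
    rw [b.ctx.hH]
    refine mem_normalizer_of_conj fun z hz => ?_
    rw [mem_center_iff.1 ((b.hY.le (h hz)).2) x, mul_inv_cancel_right]; exact hz
  -- `z` central in the quotient of `S`
  obtain ⟨z, hzZ, hzY, hzc⟩ : ∃ z ∈ Z, z ∉ Y ∧ π z ∈ centralizer (((S : Subgroup G).map π : Subgroup (G ⧸ Y)) : Set (G ⧸ Y)) := by
    obtain ⟨W, hW⟩ : ∃ W, W = (Z.map π).subgroupOf ((S : Subgroup G).map π) := ⟨_, rfl⟩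
    haveI : W.Normal := hW ▸ (normal_subgroupOf_iff_le_normalizer (map_mono hZS)).2
      ((map_mono (b.ctx.sylow_le.trans b.ctx.hH.le)).trans (le_normalizer_map π))
    have hW0 : W ≠ ⊥ := by
      intro h
      rw [hW, subgroupOf_eq_bot, disjoint_of_le_iff_left_eq_bot (map_mono hZS), Subgroup.map_eq_bot_iff, hker] at h
      exact hZY h
    obtain ⟨w, hw, hw1⟩ := (bot_or_exists_ne_one (W ⊓ center _)).resolve_left
      (CfsgLib.PGroups.inf_center_ne_bot (p := p) (S.2.map π) hW0)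
    obtain ⟨z, hz, hzw⟩ := (hW.le hw.1 : (w : G ⧸ Y) ∈ Z.map π)
    refine ⟨z, hz, fun hY' => hw1 (Subtype.ext ?_), ?_⟩
    · rw [show (w : G ⧸ Y) = π z from hzw.symm, MonoidHom.mem_ker.1 (hker.ge hY')]; rfl
    · rw [mem_centralizer_iff, hzw]
      exact fun s hs => congrArg Subtype.val (mem_center_iff.1 hw.2 ⟨s, hs⟩)
  obtain ⟨N₀, hN₀⟩ : ∃ N₀, N₀ = L ⊓ (centralizer ((P.map π : Subgroup (G ⧸ Y)) : Set (G ⧸ Y))).comap π := ⟨_, rfl⟩
  have hzP : z ∈ P := by
    have hzc' : π z ∈ centralizer ((P.map π : Subgroup (G ⧸ Y)) : Set (G ⧸ Y)) :=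
      centralizer_le (SetLike.coe_subset_coe.2 (map_mono b.ps)) hzc
    have hzL : z ∈ L := by
      refine hL ▸ mem_normalizer_of_conj fun u hu => ?_
      have h1 : z * u * z⁻¹ * u⁻¹ ∈ Y := by
        rw [← hker, MonoidHom.mem_ker, map_mul, map_mul, map_mul, map_inv, map_inv,
          ← mem_centralizer_iff.1 hzc' _ (mem_map_of_mem π hu)]
        group
      simpa using P.mul_mem (b.yle h1) hu
    refine b.stable (N := N₀) (hN₀ ▸ hL ▸ inf_le_left) ?_ ?_ ?_ ⟨⟨hZS hzZ, hL ▸ hzL⟩, hN₀ ▸ ⟨hzL, hzc'⟩⟩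
    · rw [hN₀, hL]
      refine (le_inf le_normalizer fun y hy => mem_normalizer_of_conj fun w hw => ?_).trans
        inf_normalizer_le_normalizer_inf
      rw [mem_comap] at hw ⊢
      rw [map_mul, map_mul, map_inv]
      exact (mem_normalizer_iff.1 (normalizer_le_normalizer_centralizer _
        (le_normalizer_map π (mem_map_of_mem π hy))) _).1 hw
    · rw [hN₀, hL]
      refine le_inf (centralizer_le_normalizer _) fun y hy => ?_
      rw [mem_comap, mem_centralizer_iff]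
      rintro _ ⟨u, hu, rfl⟩
      rw [← map_mul, ← map_mul, mem_centralizer_iff.1 hy u hu]
    · intro y hy
      rw [hN₀] at hy
      obtain ⟨k, hk⟩ := IsPGroup.iff_card.1 (S.2.to_le (hYZ.trans hZS))
      refine ⟨k, mem_centralizer_iff.2 fun u hu => ?_⟩
      have h1 : u⁻¹ * (y * u * y⁻¹) ∈ Y := by
        rw [← hker, MonoidHom.mem_ker, map_mul, map_mul, map_mul, map_inv, map_inv,
          ← mem_centralizer_iff.1 hy.2 _ (mem_map_of_mem π hu)]
        group
      have h2 := QuadCore.pow_card_fix (R' := (⊥ : Subgroup G)) h1 fun v hv => by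
        rw [mem_bot, mem_center_iff.1 ((b.hY.le hv).2) y]; group
      rw [hk, mem_bot, inv_mul_eq_one, eq_mul_inv_iff_mul_eq] at h2
      exact h2
  obtain ⟨D, hD⟩ : ∃ D, D = (centerThompsonAOf (P.map π)).comap π := ⟨_, rfl⟩
  have hzc' : ∀ t ∈ P.map π, t * π z = π z * t := fun t ht =>
    mem_centralizer_iff.1 (centralizer_le (SetLike.coe_subset_coe.2 (map_mono b.ps)) hzc) t ht
  have hzD : z ∈ D := by
    rw [hD, mem_comap, centerThompsonAOf]
    exact ⟨mem_of_central (mem_map_of_mem π hzP) hzc',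
      mem_centralizer_iff.2 fun t ht => hzc' t (thompson_le _ ht)⟩
  have hDP : D ≤ P := by
    rw [hD]
    refine (comap_mono (centerThompsonA_le _)).trans ?_
    rw [comap_map_eq, hker, sup_eq_left.2 b.yle]
  have hLD : L ≤ normalizer (D : Set G) := by
    intro y hy
    refine hD ▸ mem_normalizer_of_conj fun w hw => ?_
    rw [mem_comap] at hw ⊢
    rw [map_mul, map_mul, map_inv]
    exact (mem_normalizer_iff.1 (centerThompsonA_normalizer_le _
      (le_normalizer_map π (mem_map_of_mem π (hL.le hy)))) _).1 hw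
  obtain ⟨X₀, hX₀⟩ : ∃ X₀, X₀ = Z ⊓ D := ⟨_, rfl⟩
  have hXZ : X₀ ≤ Z := hX₀ ▸ inf_le_left
  have hXP : X₀ ≤ P := hX₀ ▸ inf_le_right.trans hDP
  have hYX : Y ≤ X₀ := by
    refine hX₀ ▸ le_inf hYZ fun y hy => ?_
    rw [hD, mem_comap, show π y = 1 from MonoidHom.mem_ker.1 (hker.ge hy)]
    exact one_mem _
  have hactX : actSub H P ≤ normalizer (X₀ : Set G) := by
    intro x hx
    obtain ⟨r, hr, hr'⟩ := hx.2
    refine mem_normalizer_of_conj fun v hv => hX₀ ▸ ⟨?_, ?_⟩
    · rw [← hr' v (hXP hv)]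
      exact (mem_normalizer_iff.1 (b.ctx.hH.le hr) v).1 (hXZ hv)
    · exact (mem_normalizer_iff.1 (hLD (hactL hx)) v).1 (hX₀.le hv).2
  obtain ⟨M, hMd⟩ : ∃ M, M = normalizer (X₀ : Set G) := ⟨_, rfl⟩
  have hM : M ≠ ⊤ := hMd ▸ fun h => b.not_normal hXZ hXP (fun h' => hzY (h' (hX₀ ▸ ⟨hzZ, hzD⟩)))
    (normalizer_eq_top_iff.1 h)
  have hTM : T ≤ M := hMd ▸ hTact.trans hactX
  have hLM : L ⊓ M ≤ actSub H P := fun x hx =>
    ⟨hL ▸ hx.1, b.move hM (hMd ▸ b.ctx.J_le_centralizer.trans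
      ((centralizer_le (SetLike.coe_subset_coe.2 hXZ)).trans (centralizer_le_normalizer _)))
      (by rw [← hL, ← hT]; exact hTM) (hL ▸ hx.1) H.one_mem (by simpa using hx.2)⟩
  -- the normal closure of `X₀`
  obtain ⟨V, hV⟩ : ∃ V, V = sInf {N : Subgroup G | X₀ ≤ N ∧ L ≤ normalizer (N : Set G)} := ⟨_, rfl⟩
  have hXV : X₀ ≤ V := hV ▸ le_sInf fun N hN => hN.1
  have hVD : V ≤ D := hV ▸ sInf_le ⟨hX₀ ▸ inf_le_right, hLD⟩
  have hLV : L ≤ normalizer (V : Set G) := by
    refine fun y hy => mem_normalizer_of_conj fun w hw => ?_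
    rw [hV, Subgroup.mem_sInf] at hw ⊢
    exact fun N hN => (mem_normalizer_iff.1 (hN.2 hy) w).1 (hw N hN)
  have hmem : ∀ A, MaxAb (S : Subgroup G) A → A ≤ P → V ≤ A := by
    intro A hA hAP
    have h1 : V ≤ sInf {B : Subgroup G | MaxAb (S : Subgroup G) B ∧ B ≤ P} := by
      refine hV ▸ sInf_le ⟨le_sInf fun B hB => hXZ.trans (b.ctx.le_member hB.1), fun y hy => ?_⟩
      refine mem_normalizer_of_conj fun w hw => ?_
      rw [Subgroup.mem_sInf] at hw ⊢
      intro B hB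
      have hy' : y⁻¹ ∈ normalizer (P : Set G) := inv_mem (hL.le hy)
      have hle : B.map (MulAut.conj y⁻¹).toMonoidHom ≤ P := by
        rintro _ ⟨c, hc, rfl⟩
        exact conj_mem_of_normalizer hy' c (hB.2 hc)
      obtain ⟨c, hc, hcw⟩ := hw _ ⟨⟨hle.trans b.ps, (goodPred_abelian 1).map_aut _ hB.1.2.1, fun C hC hC' => by
        rw [Subgroup.card_map_of_injective (MulAut.conj y⁻¹).injective]; exact hB.1.2.2 C hC hC'⟩, hle⟩
      rw [← hcw]
      show y * (y⁻¹ * c * y⁻¹⁻¹) * y⁻¹ ∈ B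
      rw [show y * (y⁻¹ * c * y⁻¹⁻¹) * y⁻¹ = c by group]
      exact hc
    exact h1.trans (sInf_le ⟨hA, hAP⟩)
  have hVV : ⁅V, V⁆ ≤ Y := by
    rw [commutator_le]
    intro v hv w hw
    have hv' : π v ∈ centerThompsonAOf (P.map π) := hD.le (hVD hv)
    have hw' : π w ∈ centerThompsonAOf (P.map π) := hD.le (hVD hw)
    rw [← hker, MonoidHom.mem_ker, map_commutatorElement, commutatorElement_eq_one_iff_mul_comm]
    exact mem_centralizer_iff.1 hw'.2 _ hv'.1
  obtain ⟨A, hAT, hAP, hquad, hXA, hgrow⟩ := b.exists_quadratic hp hXZ hXV (by rw [← hπ, ← hD]; exact hVD) (hL ▸ hLV)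
    (by rw [← hL, ← hT, ← hMd]; exact hTM) (hMd ▸ hM) hmem
  rw [← hL, ← hT] at hAT
  -- overgroups of `P A` which are `p`-groups
  have hW : ∀ W : Subgroup G, IsPGroup p W → W ≤ actSub H P → P ≤ W → A ≤ W →
      L ⊓ normalizer (W : Set G) ≤ actSub H P := by
    intro W hWp hWl hPW hAW y hy
    obtain ⟨n, hn, hnT⟩ := exists_conj_le hTp (N := actSub H P)
      (fun hd => hTi (hd.trans (by rw [← relIndex_mul_relIndex T _ L hTact hactL]; exact dvd_mul_right _ _)))
      hWl hWp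
    have hn' : n⁻¹ ∈ normalizer (P : Set G) := inv_mem hn.1
    obtain ⟨U, hU⟩ : ∃ U, U = W.map (MulAut.conj n⁻¹).toMonoidHom := ⟨_, rfl⟩
    have hUS : U ≤ (S : Subgroup G) := by
      rw [hU]; rintro _ ⟨u, hu, rfl⟩
      exact hTS (by simpa using hnT u hu)
    have hPU : P ≤ U := by
      intro u hu
      refine hU ▸ ⟨n * u * n⁻¹, hPW (conj_mem_of_normalizer hn.1 u hu), ?_⟩
      show n⁻¹ * (n * u * n⁻¹) * n⁻¹⁻¹ = u
      group
    have hyU : n⁻¹ * y * n ∈ normalizer (U : Set G) := by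
      rw [hU, normalizer_map_conj]
      exact ⟨y, hy.2, by simp⟩
    have hyL : n⁻¹ * y * n ∈ normalizer (P : Set G) := mul_mem (mul_mem hn' (hL ▸ hy.1)) hn.1
    obtain ⟨r, hr, hr'⟩ := b.big U hUS (key_lt_of_k3 (hgrow U hUS n⁻¹ hn' hPU (hU ▸ map_mono hAW))) _ hyU
    have h1 : n⁻¹ * y * n ∈ actSub H P := ⟨hyL, r, hr, fun u hu => hr' u (hPU hu)⟩
    have h2 := mul_mem (mul_mem hn h1) (inv_mem hn)
    rwa [show n * (n⁻¹ * y * n) * n⁻¹ = y by group] at h2
  have hW2 : ∀ W : Subgroup G, IsPGroup p W → W ≤ L → P ≤ W → A ≤ W → W ≤ actSub H P := by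
    intro W hWp hWL hPW hAW
    obtain ⟨W₀, hW₀⟩ : ∃ W₀, W₀ = W ⊓ actSub H P := ⟨_, rfl⟩
    rcases (hW₀ ▸ inf_le_left : W₀ ≤ W).lt_or_eq with hlt | he
    · obtain ⟨w, hw, hw0⟩ := SetLike.exists_of_lt (Transfer.lt_inf_normalizer hWp hlt)
      refine absurd (hW₀ ▸ ⟨hw.1, hW W₀ (hWp.to_le hlt.le) (hW₀ ▸ inf_le_right)
        (hW₀ ▸ le_inf hPW (hPT.trans hTact)) (hW₀ ▸ le_inf hAW (hAT.trans hTact)) ⟨hWL hw.1, hw.2⟩⟩) hw0
    · exact he.ge.trans (hW₀ ▸ inf_le_right)
  -- a smallest overgroup outside the controlled part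
  obtain ⟨X, hX, hXmin⟩ := Set.exists_min_image
    {X : Subgroup G | X ≤ L ∧ P ≤ X ∧ A ≤ X ∧ ¬ X ≤ actSub H P} (fun X => Nat.card X) (Set.toFinite _)
    ⟨L, le_rfl, hPT.trans hTL, hAT.trans hTL, hL ▸ b.not_le⟩
  obtain ⟨hXL, hPX, hAX, hXn⟩ := hX
  have hVP : V ≤ P := hVD.trans hDP
  have hVX : V ≤ X := hVP.trans hPX
  have hmap : ∀ U : Subgroup G, U ≤ X → (U.subgroupOf X).map X.subtype = U := fun U hU => by
    rw [subgroupOf_map_subtype, inf_eq_left.2 hU]
  have s : QuadCore.Setup p (V.subgroupOf X) (P.subgroupOf X) (A.subgroupOf X) ((actSub H P).subgroupOf X)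
      (X₀.subgroupOf X) (Y.subgroupOf X) :=
  { vn := (normal_subgroupOf_iff_le_normalizer hVX).2 (hXL.trans hLV)
    pn := (normal_subgroupOf_iff_le_normalizer hPX).2 (hXL.trans hL.le)
    yn := inferInstance
    yx := comap_mono hYX
    xv := comap_mono hXV
    vp := comap_mono hVP
    pP := (S.2.to_le b.ps).comap_subtype
    yc := fun y hy => mem_center_iff.2 fun x => Subtype.ext (mem_center_iff.1 ((b.hY.le hy).2) x)
    vc := map_le_iff_le_comap.1 (by rw [map_commutator, hmap V hVX]; exact hVV)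
    quad := map_le_iff_le_comap.1 (by rw [map_commutator, map_commutator, hmap V hVX, hmap A hAX]; exact hquad)
    xa := map_le_iff_le_comap.1 (by rw [map_commutator, hmap X₀ (hXV.trans hVX), hmap A hAX]; exact hXA)
    pm := comap_mono (hPT.trans hTact)
    am := comap_mono (hAT.trans hTact)
    top := fun h => hXn (subgroupOf_eq_top.1 h)
    max := by
      intro K hK hPK hAK
      by_contra hKn
      have hlt : K.map X.subtype < X := by
        refine lt_of_le_of_ne (map_subtype_le K) fun e => hK ?_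
        rw [← comap_map_eq_self_of_injective X.subtype_injective K, e]
        exact subgroupOf_self X
      refine (Transfer.card_lt_of_lt hlt).not_ge (hXmin _ ⟨(map_subtype_le K).trans hXL,
        (hmap P hPX).ge.trans (map_mono hPK), (hmap A hAX).ge.trans (map_mono hAK), fun h => hKn ?_⟩)
      exact map_le_iff_le_comap.1 h
    mn := by
      intro y hy
      refine mem_normalizer_of_conj fun v hv => ?_
      exact (mem_normalizer_iff.1 (hactX hy) v).1 hv
    cent := by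
      intro y hy
      refine hLM ⟨hXL y.2, hMd ▸ centralizer_le_normalizer _ (mem_centralizer_iff.2 fun v hv => ?_)⟩
      exact congrArg Subtype.val (mem_centralizer_iff.1 hy ⟨v, hVX (hXV hv)⟩ hv)
    aP := (hTp.to_le hAT).comap_subtype
    ncore := by
      intro N hN hNp hAN
      haveI : (P.subgroupOf X).Normal := (normal_subgroupOf_iff_le_normalizer hPX).2 (hXL.trans hL.le)
      haveI := hN
      obtain ⟨W, hWd⟩ : ∃ W, W = (P.subgroupOf X ⊔ N).map X.subtype := ⟨_, rfl⟩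
      have hPp : IsPGroup p ↥(P.subgroupOf X) := (S.2.to_le b.ps).comap_subtype
      have hWp : IsPGroup p W := hWd ▸ (hPp.to_sup_of_normal_left hNp).map _
      have hPW : P ≤ W := hWd ▸ (hmap P hPX).ge.trans (map_mono le_sup_left)
      have hAW : A ≤ W := hWd ▸ (hmap A hAX).ge.trans (map_mono (hAN.trans le_sup_right))
      have hWL : W ≤ L := hWd ▸ (map_subtype_le _).trans hXL
      refine hXn fun y hy => hW W hWp (hW2 W hWp hWL hPW hAW) hPW hAW ⟨hXL hy, ?_⟩
      refine mem_normalizer_of_conj fun w hw => ?_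
      rw [hWd] at hw ⊢
      obtain ⟨w, hw, rfl⟩ := hw
      exact ⟨⟨y, hy⟩ * w * ⟨y, hy⟩⁻¹, Normal.conj_mem inferInstance w hw _, rfl⟩ }
  exact concl_of_plane hp s hPX hVP hXV (b.ps.trans b.ctx.sylow_le) ((hAT.trans hTS).trans b.ctx.sylow_le) hXZ
    (fun v hv w hw => b.ctx.comm (hXZ hv) (hXZ hw)) (S.2.to_le (hXP.trans b.ps)) fun x hx => hx.2

/-- Either `N(Z(J(S)))` controls fusion in `S` or the conclusion on `F(p)` holds. -/
theorem control_or_concl (hp : p ≠ 2) {G : Type w} [Group G] [Finite G] (S : Sylow p G) :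
    (∀ U : Subgroup G, U ≤ (S : Subgroup G) → ∀ y : G, (∀ u ∈ U, y * u * y⁻¹ ∈ (S : Subgroup G)) →
      ActsAsMember (normalizer ((centerThompsonAOf (S : Subgroup G) : Subgroup G) : Set G)) U y) ∨
    Concl p (normalizer ((centerThompsonAOf (S : Subgroup G) : Subgroup G) : Set G))
      (centerThompsonAOf (S : Subgroup G)) := by
  suffices ∀ (n : ℕ) (G : Type w) [Group G] [Finite G], Nat.card G = n → ∀ S : Sylow p G,
      (∀ U : Subgroup G, U ≤ (S : Subgroup G) → ∀ y : G, (∀ u ∈ U, y * u * y⁻¹ ∈ (S : Subgroup G)) →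
        ActsAsMember (normalizer ((centerThompsonAOf (S : Subgroup G) : Subgroup G) : Set G)) U y) ∨
      Concl p (normalizer ((centerThompsonAOf (S : Subgroup G) : Subgroup G) : Set G))
        (centerThompsonAOf (S : Subgroup G)) from this _ G rfl S
  intro n
  induction n using Nat.strong_induction_on with
  | _ n ihn =>
  intro G _ _ hn S
  obtain ⟨Z, hZ⟩ : ∃ Z, Z = centerThompsonAOf (S : Subgroup G) := ⟨_, rfl⟩
  obtain ⟨H, hH⟩ : ∃ H, H = normalizer (Z : Set G) := ⟨_, rfl⟩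
  rw [← hZ, ← hH]
  by_cases hC : Concl p H Z
  · exact Or.inr hC
  left
  have hctx : Ctx S H Z := by
    refine ⟨hH, hZ, fun M hM R hR hRM hRi hJR U hU y hy hconj => ?_⟩
    obtain ⟨R', hR'⟩ : ∃ R' : Sylow p ↥M, (R' : Subgroup ↥M) = R.subgroupOf M :=
      ⟨(hR.comap_subtype (K := M)).toSylow hRi, rfl⟩
    obtain ⟨-, -, -, hJe⟩ := thompson_eq_conj S hR hJR
    have hZR : (centerThompsonAOf (R' : Subgroup ↥M)).map M.subtype = Z := by
      rw [hR', centerThompsonA_map M.subtype _ (by rw [M.ker_subtype]; exact disjoint_bot_right),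
        subgroupOf_map_subtype, inf_eq_left.2 hRM, hZ, centerThompsonAOf, hJe]
      rfl
    have hNle : ∀ x : ↥M, x ∈ normalizer ((centerThompsonAOf (R' : Subgroup ↥M) : Subgroup ↥M) : Set ↥M) →
        (x : G) ∈ H := by
      intro x hx
      have h1 := le_normalizer_map M.subtype (mem_map_of_mem M.subtype hx)
      rw [hZR, ← hH] at h1
      exact h1
    rcases ihn _ (hn ▸ CfsgLib.Core.card_subgroup_lt M hM) ↥M rfl R' with hctl | ⟨hinv, h, hh, v, hv, hvo, k, hk, hkv⟩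
    · obtain ⟨r, hr, hr'⟩ := hctl (U.subgroupOf M) (hR' ▸ comap_mono hU) ⟨y, hy⟩
        (hR' ▸ fun u hu => hconj _ hu)
      exact ⟨r, ⟨r.2, hNle r hr⟩, fun u hu => congrArg Subtype.val (hr' ⟨u, hRM (hU hu)⟩ hu)⟩
    · refine absurd ⟨?_, (h : G), hNle h hh, (v : G), hZR.le (mem_map_of_mem _ hv), ?_, k, hk, ?_⟩ hC
      · exact involves_of_hom
          ((M.subtype.comp (normalizer ((centerThompsonAOf (R' : Subgroup ↥M) : Subgroup ↥M) : Set ↥M)).subtype).codRestrict
            H fun x => hNle x x.2)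
          (fun a b hab => Subtype.ext (Subtype.ext (by have h1 := congrArg Subtype.val hab; exact h1)))
          (MonoidHom.id _) Function.surjective_id hinv
      · rw [Subgroup.orderOf_coe, hvo]
      · exact congrArg Subtype.val hkv
  suffices hno : ∀ P : Subgroup G, P ≤ (S : Subgroup G) → ∀ x ∈ normalizer (P : Set G), ActsAsMember H P x by
    exact fun U hU y hy => act_of_path S H U (fun I hI _ _ x hx => hno I hI x hx) hU y hy
  obtain ⟨Y, hY⟩ : ∃ Y, Y = Z ⊓ center G := ⟨_, rfl⟩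
  haveI : Y.Normal := ⟨fun y hy g => by
    rw [mem_center_iff.1 ((hY.le hy).2) g, mul_inv_cancel_right]; exact hy⟩
  by_contra hfail
  push Not at hfail
  obtain ⟨P₁, hP₁, x, hx, hxn⟩ := hfail
  obtain ⟨P, ⟨hP, hPf⟩, hmax⟩ := Set.exists_max_image
    {P : Subgroup G | P ≤ (S : Subgroup G) ∧ ∃ x ∈ normalizer (P : Set G), ¬ ActsAsMember H P x}
    (fun P => key (S : Subgroup G) Y P) (Set.toFinite _) ⟨P₁, hP₁, x, hx, hxn⟩
  have b : Bad S H Z Y P := ⟨hctx, hY, hP, hPf, fun U hU hlt y hy => by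
    by_contra h
    exact (hmax U ⟨hU, y, hy, h⟩).not_gt hlt⟩
  exact hC (b.concl hp)

/-- Either `Z(J(S))` controls strong fusion or the conclusion on `F(p)` holds. -/
theorem controlsStrongFusion_or_concl (hp : p ≠ 2) {G : Type w} [Group G] [Finite G] (S : Sylow p G) :
    ControlsStrongFusion p (centerThompsonAOf (S : Subgroup G)) ∨
    Concl p (normalizer ((centerThompsonAOf (S : Subgroup G) : Subgroup G) : Set G))
      (centerThompsonAOf (S : Subgroup G)) := by
  refine (control_or_concl hp S).imp_left fun h => ⟨S, centerThompsonA_le _, fun A hA => ⟨hA, fun g hg => ?_⟩⟩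
  obtain ⟨r, hr, hr'⟩ := h (Subgroup.closure A) (closure_le _ |>.2 hA) g fun u hu => by
    have : Subgroup.closure A ≤ ((S : Subgroup G)).comap (MulAut.conj g).toMonoidHom :=
      closure_le _ |>.2 fun a ha => hg ⟨a, ha, rfl⟩
    exact this hu
  exact ⟨r, hr, fun a ha => (hr' a (subset_closure ha)).symm⟩

end CfsgLib.LocalEven.ZJFail
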